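import Mathlib.GroupTheory.PGroup
import Mathlib.GroupTheory.Sylow
import Mathlib.GroupTheory.Nilpotent
import Mathlib.GroupTheory.GroupAction.ConjAct
import Mathlib.Tactic.Group

set_option autoImplicit false

namespace Cfsg.Agent.Lib.Helper78

open Subgroup

/-- A `q`-subgroup `R` acting by conjugation on an invariant subset `X` of `G` whose size is prime to `q`
fixes a point of `X`. -/
theorem exists_conj_fixed {G : Type*} [Group G] [Finite G] {q : ℕ} [Fact q.Prime] (R : Subgroup G)
    (hR : IsPGroup q R) (X : Set G) (hinv : ∀ r ∈ R, ∀ g ∈ X, r * g * r⁻¹ ∈ X)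
    (hcard : ¬ q ∣ X.ncard) : ∃ g ∈ X, ∀ r ∈ R, r * g * r⁻¹ = g := by
  classical
  let _ : MulAction R G :=
    MulAction.compHom G ((ConjAct.toConjAct (G := G)).toMonoidHom.comp R.subtype)
  have hsmul : ∀ (r : R) (g : G), r • g = (r : G) * g * (r : G)⁻¹ := by
    intro r g
    change ConjAct.toConjAct (r : G) • g = _
    exact ConjAct.toConjAct_smul _ _
  let Xs : SubMulAction R G := ⟨X, fun r a ha => by rw [hsmul]; exact hinv r r.2 a ha⟩
  have hc : ¬ q ∣ Nat.card ↥Xs := hcard
  obtain ⟨⟨g, hgX⟩, hg⟩ := hR.nonempty_fixed_point_of_prime_not_dvd_card ↥Xs hc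
  refine ⟨g, hgX, ?_⟩
  intro r hr
  have := hg ⟨r, hr⟩
  have h2 : (⟨r, hr⟩ : R) • g = g := congrArg Subtype.val this
  rw [hsmul] at h2
  exact h2

/-- Elements of prime-power orders for distinct primes commute inside a finite nilpotent group. -/
theorem commute_of_nilpotent_of_prime_pow {N : Type*} [Group N] [Finite N] [Group.IsNilpotent N]
    {p r : ℕ} [Fact p.Prime] [Fact r.Prime] (hne : p ≠ r) {a b : N} {k l : ℕ}
    (ha : orderOf a = p ^ k) (hb : orderOf b = r ^ l) : Commute a b := by
  have hpa : IsPGroup p (Subgroup.zpowers a) := by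
    apply IsPGroup.of_card (n := k)
    rw [Nat.card_zpowers, ha]
  have hrb : IsPGroup r (Subgroup.zpowers b) := by
    apply IsPGroup.of_card (n := l)
    rw [Nat.card_zpowers, hb]
  obtain ⟨P, hP⟩ := hpa.exists_le_sylow
  obtain ⟨Q, hQ⟩ := hrb.exists_le_sylow
  have hPn : (P : Subgroup N).Normal := inferInstance
  have hQn : (Q : Subgroup N).Normal := inferInstance
  exact Subgroup.commute_of_normal_of_disjoint _ _ hPn hQn
    (IsPGroup.disjoint_of_ne p r hne _ _ P.isPGroup' Q.isPGroup') a b
    (hP (Subgroup.mem_zpowers a)) (hQ (Subgroup.mem_zpowers b))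

theorem commute_of_mem_nilpotent {G : Type*} [Group G] [Finite G] (F : Subgroup G)
    (hF : Group.IsNilpotent F) {p r : ℕ} [Fact p.Prime] [Fact r.Prime] (hne : p ≠ r) {a b : G}
    (haF : a ∈ F) (hbF : b ∈ F) {k l : ℕ} (ha : orderOf a = p ^ k) (hb : orderOf b = r ^ l) :
    a * b = b * a := by
  have h := commute_of_nilpotent_of_prime_pow (N := F) hne (a := ⟨a, haF⟩) (b := ⟨b, hbF⟩)
    (k := k) (l := l) (by rw [Subgroup.orderOf_mk]; exact ha) (by rw [Subgroup.orderOf_mk]; exact hb)
  exact congrArg Subtype.val h.eq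

theorem isNilpotent_of_le {G : Type*} [Group G] {H K : Subgroup G} (h : H ≤ K)
    (hK : Group.IsNilpotent K) : Group.IsNilpotent H := by
  have : Group.IsNilpotent (H.subgroupOf K) := inferInstance
  exact Group.nilpotent_of_mulEquiv (Subgroup.subgroupOfEquivOfLe h)

theorem isNilpotent_map {G G' : Type*} [Group G] [Group G'] (f : G →* G') (E : Subgroup G)
    (hE : Group.IsNilpotent E) : Group.IsNilpotent (E.map f) :=
  Group.nilpotent_of_surjective (f.subgroupMap E) (f.subgroupMap_surjective E)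

end Cfsg.Agent.Lib.Helper78
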