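import Cfsg.Agent.Lib.Helper78.CNBasics
import Cfsg.Prelude.Def_LieExceptional
import Mathlib.Data.Nat.Factorization.Basic

set_option autoImplicit false

namespace Cfsg.Agent.Lib.Helper78

open Subgroup

/-- the fibre of `G → G ⧸ A` over the image of `d` has `|A|` elements -/
theorem fiber_ncard {G : Type*} [Group G] [Finite G] (A : Subgroup G) [A.Normal] (d : G) :
    ({g' : G | (QuotientGroup.mk' A) g' = (QuotientGroup.mk' A) d} : Set G).ncard = Nat.card A := by
  have h : ({g' : G | (QuotientGroup.mk' A) g' = (QuotientGroup.mk' A) d} : Set G) =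
      (fun a => d * a) '' (A : Set G) := by
    ext g'
    simp only [Set.mem_ofPred_eq, Set.mem_image, SetLike.mem_coe, QuotientGroup.mk'_apply]
    rw [eq_comm, QuotientGroup.eq]
    constructor
    · intro h; exact ⟨d⁻¹ * g', h, by group⟩
    · rintro ⟨a, ha, rfl⟩
      have : d⁻¹ * (d * a) = a := by group
      rw [this]; exact ha
  rw [h, Set.ncard_image_of_injective _ (mul_right_injective d)]
  rfl

/-- non-identity elements of a nontrivial `p`-subgroup: their number is prime to `p` -/
theorem not_dvd_ncard_ne_one {G : Type*} [Group G] [Finite G] {p : ℕ} [hp : Fact p.Prime]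
    (A : Subgroup G) (hAp : IsPGroup p A) (hA : A ≠ ⊥) :
    ¬ p ∣ ({a : G | a ∈ A ∧ a ≠ 1} : Set G).ncard := by
  obtain ⟨k, hk⟩ := IsPGroup.iff_card.mp hAp
  have hk0 : k ≠ 0 := by
    rintro rfl
    rw [pow_zero] at hk
    exact hA (Subgroup.card_eq_one.mp hk)
  have h1 : ({a : G | a ∈ A ∧ a ≠ 1} : Set G) = (A : Set G) \ {1} := by
    ext a; simp
  have h2 : ((A : Set G) \ {1}).ncard = Nat.card A - 1 := by
    rw [Set.ncard_sdiff_singleton_of_mem (show (1 : G) ∈ (A : Set G) from A.one_mem)]
    rfl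
  rw [h1, h2, hk]
  intro hd
  have h3 : p ∣ p ^ k := dvd_pow_self p hk0
  have hpos : 1 ≤ p ^ k := Nat.one_le_pow _ _ hp.out.pos
  have h4 : p ∣ p ^ k - (p ^ k - 1) := Nat.dvd_sub h3 hd
  have h5 : p ^ k - (p ^ k - 1) = 1 := by omega
  rw [h5] at h4
  exact hp.out.one_lt.ne' (Nat.dvd_one.mp h4)

/-- **Key lemma**: the quotient of a CN-group by an abelian normal `p`-subgroup is a CN-group. -/
theorem cn_quotient_of_abelian_pgroup {G : Type*} [Group G] [Finite G] (hCN : Cfsg.IsCNGroup G)
    (A : Subgroup G) [A.Normal] {p : ℕ} [hp : Fact p.Prime] (hAp : IsPGroup p A)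
    (hAab : ∀ a ∈ A, ∀ b ∈ A, a * b = b * a) : Cfsg.IsCNGroup (G ⧸ A) := by
  classical
  intro xb hxb
  obtain ⟨g, rfl⟩ := QuotientGroup.mk_surjective xb
  set π := QuotientGroup.mk' A with hπ
  have hπ1 : ∀ z : G, π z = 1 ↔ z ∈ A := fun z => QuotientGroup.eq_one_iff z
  have hord1 : orderOf (π g) ≠ 1 := by rw [Ne, orderOf_eq_one_iff]; exact hxb
  obtain ⟨q, hq, hqd⟩ := Nat.exists_prime_and_dvd hord1
  have hqf : Fact q.Prime := ⟨hq⟩
  obtain ⟨a, m, hm, hn⟩ := Nat.exists_eq_pow_mul_and_not_dvd (orderOf_pos g).ne' q hq.one_lt.ne'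
  have hm0 : m ≠ 0 := by rintro rfl; exact hm (dvd_zero q)
  set x := g ^ m with hx
  have hxord : orderOf x = q ^ a := by
    have hdvd : m ∣ orderOf g := ⟨q ^ a, by rw [hn]; ring⟩
    rw [hx, orderOf_pow_of_dvd hm0 hdvd, hn, Nat.mul_div_cancel _ (Nat.pos_of_ne_zero hm0)]
  have hxA : x ∉ A := by
    intro h
    have h1 : (π g) ^ m = 1 := by rw [← map_pow]; exact (hπ1 _).mpr h
    have h2 : orderOf (π g) ∣ m := orderOf_dvd_of_pow_eq_one h1
    exact hm (hqd.trans h2)
  have hx1 : x ≠ 1 := fun h => hxA (h ▸ A.one_mem)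
  have hle : Subgroup.centralizer ({π g} : Set (G ⧸ A)) ≤
      Subgroup.centralizer ({π x} : Set (G ⧸ A)) := by
    intro d hd
    rw [Subgroup.mem_centralizer_singleton_iff] at hd ⊢
    rw [hx, map_pow]
    exact (Commute.pow_right (show Commute d (π g) from hd) m).eq
  suffices h : ∃ E : Subgroup G, Group.IsNilpotent E ∧
      Subgroup.centralizer ({π x} : Set (G ⧸ A)) ≤ E.map π by
    obtain ⟨E, hE, hEle⟩ := h
    exact isNilpotent_of_le (hle.trans hEle) (isNilpotent_map π E hE)
  -- general invariance of fibres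
  have hinvfib : ∀ (R : Subgroup G) (d : G), (∀ z ∈ R, π z * π d = π d * π z) →
      ∀ z ∈ R, ∀ g' ∈ ({g' : G | π g' = π d} : Set G), z * g' * z⁻¹ ∈ ({g' : G | π g' = π d} : Set G) := by
    intro R d hR z hz g' hg'
    simp only [Set.mem_ofPred_eq] at hg' ⊢
    rw [map_mul, map_mul, map_inv, hg', hR z hz, mul_inv_cancel_right]
  by_cases hqA : q ∣ Nat.card A
  · -- q = p and A is nontrivial
    obtain ⟨k, hk⟩ := IsPGroup.iff_card.mp hAp
    have hqp : q = p := by
      rw [hk] at hqA
      exact (Nat.prime_dvd_prime_iff_eq hq hp.out).mp (hq.dvd_of_dvd_pow hqA)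
    subst hqp
    have hAbot : A ≠ ⊥ := by
      intro h
      rw [h, Subgroup.card_bot] at hqA
      exact hq.one_lt.ne' (Nat.dvd_one.mp hqA)
    set D : Subgroup G := (Subgroup.centralizer ({π x} : Set (G ⧸ A))).comap π with hD
    have hDmem : ∀ d : G, d ∈ D ↔ π d * π x = π x * π d := by
      intro d
      rw [hD, Subgroup.mem_comap, Subgroup.mem_centralizer_singleton_iff]
    -- P₀ = A ⟨x⟩ is a p-group
    have hxp : IsPGroup q (Subgroup.zpowers x) := by
      apply IsPGroup.of_card (n := a)
      rw [Nat.card_zpowers, hxord]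
    have hP₀ : IsPGroup q (Subgroup.zpowers x ⊔ A : Subgroup G) :=
      IsPGroup.to_sup_of_normal_right hxp hAp
    -- (ii) r-elements of D centralize A
    have hii : ∀ (r : ℕ) [Fact r.Prime], r ≠ q → ∀ u ∈ D, ∀ l : ℕ, orderOf u = r ^ l →
        ∀ b ∈ A, b * u = u * b := by
      intro r hrf hrq u huD l hul
      have hru : IsPGroup r (Subgroup.zpowers u) := by
        apply IsPGroup.of_card (n := l)
        rw [Nat.card_zpowers, hul]
      have hzD : ∀ z ∈ Subgroup.zpowers u, π z * π x = π x * π z := by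
        intro z hz
        exact (hDmem z).mp ((Subgroup.zpowers_le.mpr huD) hz)
      have hcard : ¬ r ∣ ({g' : G | π g' = π x} : Set G).ncard := by
        rw [fiber_ncard A x, hk]
        intro hd
        exact hrq ((Nat.prime_dvd_prime_iff_eq hrf.out hq).mp (hrf.out.dvd_of_dvd_pow hd))
      obtain ⟨x', hx'fib, hx'fix⟩ := exists_conj_fixed (Subgroup.zpowers u) hru _
        (hinvfib (Subgroup.zpowers u) x hzD) hcard
      simp only [Set.mem_ofPred_eq] at hx'fib
      have hux' : u * x' * u⁻¹ = x' := hx'fix u (Subgroup.mem_zpowers u)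
      have hx'A : x' ∉ A := by
        intro h
        apply hxA
        rw [← hπ1, ← hx'fib, hπ1]; exact h
      have hx'1 : x' ≠ 1 := fun h => hx'A (h ▸ A.one_mem)
      have hx'P₀ : x' ∈ (Subgroup.zpowers x ⊔ A : Subgroup G) := by
        have h1 : x⁻¹ * x' ∈ A := by
          rw [← hπ1, map_mul, map_inv, hx'fib, inv_mul_cancel]
        have : x' = x * (x⁻¹ * x') := by group
        rw [this]
        exact Subgroup.mul_mem_sup (Subgroup.mem_zpowers x) h1
      obtain ⟨j, hj⟩ := (IsPGroup.iff_orderOf.mp hP₀) ⟨x', hx'P₀⟩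
      rw [Subgroup.orderOf_mk] at hj
      have hx'p : IsPGroup q (Subgroup.zpowers x') := by
        apply IsPGroup.of_card (n := j)
        rw [Nat.card_zpowers, hj]
      -- y ∈ A fixed by x'
      obtain ⟨y, ⟨hyA, hy1⟩, hyfix⟩ := exists_conj_fixed (Subgroup.zpowers x') hx'p
        ({b : G | b ∈ A ∧ b ≠ 1} : Set G)
        (by
          rintro z - b ⟨hbA, hb1⟩
          refine ⟨‹A.Normal›.conj_mem b hbA z, ?_⟩
          intro h
          apply hb1
          calc b = z⁻¹ * (z * b * z⁻¹) * z := by group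
            _ = 1 := by rw [h]; group)
        (not_dvd_ncard_ne_one A hAp hAbot)
      have hx'y : x' * y * x'⁻¹ = y := hyfix x' (Subgroup.mem_zpowers x')
      obtain ⟨i, hi⟩ := (IsPGroup.iff_orderOf.mp hAp) ⟨y, hyA⟩
      rw [Subgroup.orderOf_mk] at hi
      -- u and y commute, inside C(x')
      have huy : y * u = u * y := by
        apply commute_of_mem_nilpotent (Subgroup.centralizer ({x'} : Set G)) (hCN x' hx'1)
          (Ne.symm hrq) (k := i) (l := l) _ _ hi hul
        · rw [Subgroup.mem_centralizer_singleton_iff]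
          calc y * x' = (x' * y * x'⁻¹) * x' := by rw [hx'y]
            _ = x' * y := by group
        · rw [Subgroup.mem_centralizer_singleton_iff]
          calc u * x' = (u * x' * u⁻¹) * u := by group
            _ = x' * u := by rw [hux']
      -- inside C(y)
      intro b hbA
      obtain ⟨i', hi'⟩ := (IsPGroup.iff_orderOf.mp hAp) ⟨b, hbA⟩
      rw [Subgroup.orderOf_mk] at hi'
      apply commute_of_mem_nilpotent (Subgroup.centralizer ({y} : Set G)) (hCN y hy1)
        (Ne.symm hrq) (k := i') (l := l) _ _ hi' hul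
      · rw [Subgroup.mem_centralizer_singleton_iff]
        exact hAab b hbA y hyA
      · rw [Subgroup.mem_centralizer_singleton_iff]
        exact huy.symm
    -- (iii) Sylow p-subgroup of D
    let T' : Sylow q D := default
    set T : Subgroup G := (T' : Subgroup D).map D.subtype with hT
    have hTD : T ≤ D := Subgroup.map_subtype_le _
    have hTp : IsPGroup q T := T'.isPGroup'.map _
    have hrelidx : ∀ (s : ℕ) [Fact s.Prime] (S' : Sylow s D),
        ¬ s ∣ ((S' : Subgroup D).map D.subtype).relIndex D := by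
      intro s _ S'
      have : ((S' : Subgroup D).map D.subtype).subgroupOf D = (S' : Subgroup D) :=
        Subgroup.comap_map_eq_self_of_injective D.subtype_injective _
      rw [Subgroup.relIndex, this]
      exact S'.not_dvd_index
    obtain ⟨y₂, ⟨hy₂A, hy₂1⟩, hy₂fix⟩ := exists_conj_fixed T hTp
      ({b : G | b ∈ A ∧ b ≠ 1} : Set G)
      (by
        rintro z - b ⟨hbA, hb1⟩
        refine ⟨‹A.Normal›.conj_mem b hbA z, ?_⟩
        intro h
        apply hb1
        calc b = z⁻¹ * (z * b * z⁻¹) * z := by group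
          _ = 1 := by rw [h]; group)
      (not_dvd_ncard_ne_one A hAp hAbot)
    set E := Subgroup.centralizer ({y₂} : Set G) with hE
    have hDE : D ≤ E := by
      by_contra hnot
      have hne : (D ⊓ E).relIndex D ≠ 1 := by
        intro h
        rw [Subgroup.relIndex_eq_one] at h
        exact hnot (h.trans inf_le_right)
      obtain ⟨s, hs, hsd⟩ := Nat.exists_prime_and_dvd hne
      have hsf : Fact s.Prime := ⟨hs⟩
      by_cases hsq : s = q
      · subst hsq
        have hTle : T ≤ D ⊓ E := by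
          refine le_inf hTD ?_
          intro t ht
          rw [hE, Subgroup.mem_centralizer_singleton_iff]
          calc t * y₂ = (t * y₂ * t⁻¹) * t := by group
            _ = y₂ * t := by rw [hy₂fix t ht]
        exact hrelidx s T' (hsd.trans (Subgroup.relIndex_dvd_of_le_left D hTle))
      · let S' : Sylow s D := default
        have hSle : (S' : Subgroup D).map D.subtype ≤ D ⊓ E := by
          rintro w ⟨w', hw', rfl⟩
          refine ⟨w'.2, ?_⟩
          obtain ⟨l, hl⟩ := (IsPGroup.iff_orderOf.mp S'.isPGroup') ⟨w', hw'⟩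
          rw [Subgroup.orderOf_mk, ← Subgroup.orderOf_coe] at hl
          change (w' : G) ∈ Subgroup.centralizer ({y₂} : Set G)
          rw [Subgroup.mem_centralizer_singleton_iff]
          exact (hii s hsq (w' : G) w'.2 l hl y₂ hy₂A).symm
        exact hrelidx s S' (hsd.trans (Subgroup.relIndex_dvd_of_le_left D hSle))
    refine ⟨E, hCN y₂ hy₂1, ?_⟩
    intro db hdb
    obtain ⟨d, rfl⟩ := QuotientGroup.mk_surjective db
    have hdD : d ∈ D := by rw [hD, Subgroup.mem_comap]; exact hdb
    exact ⟨d, hDE hdD, rfl⟩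
  · -- q does not divide |A|
    refine ⟨Subgroup.centralizer ({x} : Set G), hCN x hx1, ?_⟩
    intro db hdb
    obtain ⟨d, rfl⟩ := QuotientGroup.mk_surjective db
    have hdx : π d * π x = π x * π d := Subgroup.mem_centralizer_singleton_iff.mp hdb
    have hxp : IsPGroup q (Subgroup.zpowers x) := by
      apply IsPGroup.of_card (n := a)
      rw [Nat.card_zpowers, hxord]
    have hzd : ∀ z ∈ Subgroup.zpowers x, π z * π d = π d * π z := by
      intro z hz
      obtain ⟨j, rfl⟩ := hz
      rw [map_zpow]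
      exact ((Commute.zpow_left (show Commute (π x) (π d) from hdx.symm) j)).eq
    have hcard : ¬ q ∣ ({g' : G | π g' = π d} : Set G).ncard := by
      rw [fiber_ncard A d]; exact hqA
    obtain ⟨d', hd'fib, hd'fix⟩ := exists_conj_fixed (Subgroup.zpowers x) hxp _
      (hinvfib (Subgroup.zpowers x) d hzd) hcard
    simp only [Set.mem_ofPred_eq] at hd'fib
    refine ⟨d', ?_, hd'fib⟩
    rw [SetLike.mem_coe, Subgroup.mem_centralizer_singleton_iff]
    have := hd'fix x (Subgroup.mem_zpowers x)
    calc d' * x = (x * d' * x⁻¹) * x := by rw [this]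
      _ = x * d' := by group

end Cfsg.Agent.Lib.Helper78
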