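import Mathlib
import Cfsg.Prelude.Def_LieExceptional
import Cfsg.Prelude.Def_Solvable
import Cfsg.Agent.Lib.Helper78.CNBasics
import Cfsg.Agent.Lib.Helper78.CNQuot
import Cfsg.Agent.Lib.Helper33.SylowSub
import Cfsg.Agent.Lib.Helper22.Fitting

set_option autoImplicit false
set_option linter.style.haveILetI false

/-! CN-groups: subgroups, the fixed-point dichotomy for `p'`-elements on `p`-subgroups, and the
normal-Sylow criterion. -/

namespace Cfsg.Agent.Lib.Helper78

open Cfsg

/-- Subgroups of CN-groups are CN-groups. -/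
theorem isCN_subgroup {G : Type*} [Group G] (hCN : Cfsg.IsCNGroup G) (K : Subgroup G) :
    Cfsg.IsCNGroup K := by
  intro k hk
  have hk' : (k : G) ≠ 1 := fun h => hk (Subtype.ext h)
  have hn := hCN (k : G) hk'
  let f : Subgroup.centralizer ({k} : Set K) →* Subgroup.centralizer ({(k : G)} : Set G) :=
    { toFun := fun x => ⟨((x : K) : G), by
        have hx := x.2
        rw [Subgroup.mem_centralizer_singleton_iff] at hx ⊢
        have := congrArg (Subtype.val) hx
        simpa using this⟩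
      map_one' := rfl
      map_mul' := fun _ _ => rfl }
  have hinj : Function.Injective f := by
    intro a b hab
    have h0 := congrArg Subtype.val hab
    have : ((a : K) : G) = ((b : K) : G) := h0
    exact Subtype.ext (Subtype.ext this)
  haveI := hn
  apply Subgroup.isNilpotent_of_ker_le_center f
  rw [(MonoidHom.ker_eq_bot_iff f).mpr hinj]
  exact bot_le

/-- Elements of a `p`-subgroup have prime power order. -/
theorem exists_orderOf_eq_of_mem_pgroup {G : Type*} [Group G] {q : ℕ} [hq : Fact q.Prime]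
    {Q : Subgroup G} (hQ : IsPGroup q Q) {t : G} (ht : t ∈ Q) : ∃ k, orderOf t = q ^ k := by
  obtain ⟨k, hk⟩ := hQ ⟨t, ht⟩
  have hk' : t ^ q ^ k = 1 := by simpa using congrArg Subtype.val hk
  obtain ⟨j, _, hj⟩ := (Nat.dvd_prime_pow hq.out).mp (orderOf_dvd_of_pow_eq_one hk')
  exact ⟨j, hj⟩

/-- In a finite CN-group, an element `y` of `r`-power order commuting with a nonidentity element of
a `q`-subgroup `Q` (`q ≠ r`) centralizes `Q`. -/
theorem cn_centralizes {G : Type*} [Group G] [Finite G] (hCN : Cfsg.IsCNGroup G) {q r : ℕ}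
    [Fact q.Prime] [Fact r.Prime] (hqr : q ≠ r) (Q : Subgroup G) (hQ : IsPGroup q Q) {y : G} {l : ℕ}
    (hy : orderOf y = r ^ l) {x : G} (hxQ : x ∈ Q) (hx1 : x ≠ 1) (hxy : x * y = y * x) :
    ∀ t ∈ Q, t * y = y * t := by
  classical
  set Q₀ := Q ⊓ Subgroup.centralizer ({y} : Set G) with hQ₀
  by_contra hcon
  push Not at hcon
  obtain ⟨t₀, ht₀Q, ht₀⟩ := hcon
  have hlt : Q₀ < Q := by
    refine lt_of_le_of_ne inf_le_left ?_
    intro h
    have : t₀ ∈ Q₀ := by rw [h]; exact ht₀Q
    have h2 : t₀ ∈ Subgroup.centralizer ({y} : Set G) := this.2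
    rw [Subgroup.mem_centralizer_singleton_iff] at h2
    exact ht₀ h2
  have hgrow := Cfsg.Agent.Lib.Helper33.normalizer_growth hQ hlt
  set Q₁ := Q ⊓ Subgroup.normalizer (Q₀ : Set G) with hQ₁
  have hxQ₀ : x ∈ Q₀ := by
    refine Subgroup.mem_inf.mpr ⟨hxQ, ?_⟩
    rw [Subgroup.mem_centralizer_singleton_iff]
    exact hxy
  have hQ₀ne : Q₀ ≠ ⊥ := by
    intro h
    rw [h, Subgroup.mem_bot] at hxQ₀
    exact hx1 hxQ₀
  have hQ₀p : IsPGroup q Q₀ := hQ.to_le inf_le_left
  have hQ₁p : IsPGroup q Q₁ := hQ.to_le inf_le_left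
  obtain ⟨u, hu, hufix⟩ := exists_conj_fixed Q₁ hQ₁p {a : G | a ∈ Q₀ ∧ a ≠ 1}
    (by
      intro s hs g hg
      have hsn : s ∈ Subgroup.normalizer (Q₀ : Set G) := hs.2
      refine ⟨(Subgroup.mem_normalizer_iff.mp hsn g).mp hg.1, ?_⟩
      intro h
      apply hg.2
      have : g = s⁻¹ * (s * g * s⁻¹) * s := by group
      rw [this, h]; group)
    (not_dvd_ncard_ne_one Q₀ hQ₀p hQ₀ne)
  have hnil := hCN u hu.2
  have huy : y ∈ Subgroup.centralizer ({u} : Set G) := by
    rw [Subgroup.mem_centralizer_singleton_iff]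
    have h2 : u ∈ Subgroup.centralizer ({y} : Set G) := hu.1.2
    rw [Subgroup.mem_centralizer_singleton_iff] at h2
    exact h2.symm
  have hle : Q₁ ≤ Q₀ := by
    intro t ht
    refine Subgroup.mem_inf.mpr ⟨ht.1, ?_⟩
    rw [Subgroup.mem_centralizer_singleton_iff]
    obtain ⟨k, hk⟩ := exists_orderOf_eq_of_mem_pgroup hQ ht.1
    have htu : t ∈ Subgroup.centralizer ({u} : Set G) := by
      rw [Subgroup.mem_centralizer_singleton_iff]
      have := hufix t ht
      calc t * u = (t * u * t⁻¹) * t := by group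
        _ = u * t := by rw [this]
    exact commute_of_mem_nilpotent _ hnil hqr htu huy hk hy
  exact absurd (lt_of_lt_of_le hgrow hle) (lt_irrefl _)

/-- A `p`-element of a normal nilpotent subgroup lies in `O_p(G)`. -/
theorem mem_pCore_of_mem_normal_nilpotent {G : Type*} [Group G] [Finite G] {N : Subgroup G}
    (hN : N.Normal) (hn : Group.IsNilpotent N) {p : ℕ} [hp : Fact p.Prime] {x : G} (hx : x ∈ N)
    {k : ℕ} (hk : x ^ p ^ k = 1) : x ∈ Cfsg.pCore p G := by
  apply Cfsg.Agent.Lib.Helper22.mem_pCore_of_mem_sup _ hk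
  have h1 := Cfsg.Agent.Lib.Helper22.normal_nilpotent_le_iSup_pCore hN hn hx
  have h2 : (⨆ q : Nat.Primes, Cfsg.pCore (q : ℕ) G) ≤ Cfsg.pCore p G ⊔ Cfsg.pPrimeCore p G := by
    apply iSup_le
    intro q
    by_cases hq : (q : ℕ) = p
    · have : Cfsg.pCore (q : ℕ) G = Cfsg.pCore p G := by rw [hq]
      rw [this]; exact le_sup_left
    · haveI : Fact (q : ℕ).Prime := ⟨q.2⟩
      exact (Cfsg.Agent.Lib.Helper22.pCore_le_pPrimeCore hq).trans le_sup_right
  exact h2 h1

/-- In a finite CN-group, if a nonidentity element `x` of `O_q(G)` commutes with a nonidentity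
`r`-element `e` (`r ≠ q`), then the Sylow `r`-subgroups of `G` are normal. -/
theorem cn_sylow_normal_of_commute {G : Type*} [Group G] [Finite G] (hCN : Cfsg.IsCNGroup G)
    {q r : ℕ} [Fact q.Prime] [hr : Fact r.Prime] (hqr : q ≠ r) {x e : G}
    (hx : x ∈ Cfsg.pCore q G) (hx1 : x ≠ 1) {l : ℕ} (he : orderOf e = r ^ l) (he1 : e ≠ 1)
    (hxe : x * e = e * x) (T : Sylow r G) : (T : Subgroup G).Normal := by
  classical
  set Q := Cfsg.pCore q G with hQdef
  haveI hQn : Q.Normal := Cfsg.Agent.Lib.Helper22.pCore_normal' q G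
  have hQp : IsPGroup q Q := Cfsg.Agent.Lib.Helper22.pCore_isPGroup' q G
  set R := Cfsg.pCore r G with hRdef
  haveI hRn : R.Normal := Cfsg.Agent.Lib.Helper22.pCore_normal' r G
  have hRp : IsPGroup r R := Cfsg.Agent.Lib.Helper22.pCore_isPGroup' r G
  -- e centralizes Q
  have heQ : ∀ t ∈ Q, t * e = e * t := cn_centralizes hCN hqr Q hQp he hx hx1 hxe
  -- C = C_G(Q) is normal and nilpotent
  set C := Subgroup.centralizer (Q : Set G) with hC
  haveI hCn : C.Normal := Subgroup.normal_centralizer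
  have hCle : C ≤ Subgroup.centralizer ({x} : Set G) :=
    Subgroup.centralizer_le (by
      intro z hz
      rw [Set.mem_singleton_iff] at hz
      rw [hz]; exact hx)
  have hCnil : Group.IsNilpotent C := isNilpotent_of_le hCle (hCN x hx1)
  have heC : e ∈ C := by
    rw [hC, Subgroup.mem_centralizer_iff]
    intro t ht
    exact heQ t ht
  have heR : e ∈ R := mem_pCore_of_mem_normal_nilpotent hCn hCnil heC
    (by rw [← he]; exact pow_orderOf_eq_one e)
  have hRne : R ≠ ⊥ := by
    intro h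
    rw [h, Subgroup.mem_bot] at heR
    exact he1 heR
  -- w in R, nonidentity, centralized by T
  obtain ⟨w, hw, hwfix⟩ := exists_conj_fixed (T : Subgroup G) T.2 {a : G | a ∈ R ∧ a ≠ 1}
    (by
      intro s _ g hg
      refine ⟨hRn.conj_mem g hg.1 s, ?_⟩
      intro h
      apply hg.2
      have : g = s⁻¹ * (s * g * s⁻¹) * s := by group
      rw [this, h]; group)
    (not_dvd_ncard_ne_one R hRp hRne)
  have hnil := hCN w hw.2
  -- Q and R commute elementwise
  have hdisj : Disjoint Q R := IsPGroup.disjoint_of_ne q r hqr _ _ hQp hRp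
  have hQw : ∀ u ∈ Q, u ∈ Subgroup.centralizer ({w} : Set G) := by
    intro u hu
    rw [Subgroup.mem_centralizer_singleton_iff]
    exact (Subgroup.commute_of_normal_of_disjoint Q R hQn hRn hdisj u w hu hw.1).eq
  have hTw : ∀ t ∈ (T : Subgroup G), t ∈ Subgroup.centralizer ({w} : Set G) := by
    intro t ht
    rw [Subgroup.mem_centralizer_singleton_iff]
    have := hwfix t ht
    calc t * w = (t * w * t⁻¹) * t := by group
      _ = w * t := by rw [this]
  -- T centralizes Q
  have hTC : (T : Subgroup G) ≤ C := by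
    intro t ht
    rw [hC, Subgroup.mem_centralizer_iff]
    intro u hu
    obtain ⟨k, hk⟩ := exists_orderOf_eq_of_mem_pgroup hQp hu
    obtain ⟨j, hj⟩ := exists_orderOf_eq_of_mem_pgroup T.2 ht
    exact commute_of_mem_nilpotent _ hnil hqr (hQw u hu) (hTw t ht) hk hj
  -- hence T ≤ R
  have hTR : (T : Subgroup G) ≤ R := by
    intro t ht
    obtain ⟨j, hj⟩ := exists_orderOf_eq_of_mem_pgroup T.2 ht
    exact mem_pCore_of_mem_normal_nilpotent hCn hCnil (hTC ht)
      (by rw [← hj]; exact pow_orderOf_eq_one t)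
  have hEq : R = (T : Subgroup G) := T.is_maximal' hRp hTR
  rw [← hEq]
  exact hRn

end Cfsg.Agent.Lib.Helper78
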