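import Mathlib
import Cfsg.Agent.Lib.Helper78.CNFrob
import Cfsg.Agent.Lib.Helper96.Schmidt
import Cfsg.Agent.Lib.Helper96.FrobeniusAction

set_option autoImplicit false
set_option linter.style.haveILetI false

/-! A subgroup of a CN-group acting fixed-point-freely (and coprimely) on a nontrivial normal
abelian subgroup is nilpotent. -/

namespace Cfsg.Agent.Lib.Helper78

open Cfsg
open scoped Pointwise

theorem mul_comm_of_isCyclic {C : Type*} [Group C] [IsCyclic C] (a b : C) : a * b = b * a := by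
  letI := IsCyclic.commGroup (α := C)
  exact mul_comm a b

/-- existence of a minimal non-nilpotent subgroup -/
theorem exists_min_nonnilpotent {G : Type*} [Group G] [Finite G] (E : Subgroup G)
    (hE : ¬ Group.IsNilpotent E) :
    ∃ E₀ : Subgroup G, E₀ ≤ E ∧ ¬ Group.IsNilpotent E₀ ∧
      ∀ K : Subgroup G, K < E₀ → Group.IsNilpotent K := by
  classical
  have hwf : WellFounded ((· < ·) : Subgroup G → Subgroup G → Prop) := wellFounded_lt
  let S : Set (Subgroup G) := {K | K ≤ E ∧ ¬ Group.IsNilpotent K}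
  have hS : S.Nonempty := ⟨E, le_refl _, hE⟩
  obtain ⟨E₀, hE₀S, hE₀min⟩ := hwf.has_min S hS
  refine ⟨E₀, hE₀S.1, hE₀S.2, ?_⟩
  intro K hK
  by_contra hKn
  exact hE₀min K ⟨hK.le.trans hE₀S.1, hKn⟩ hK

theorem nilpotent_of_fpf {G : Type*} [Group G] [Finite G] (hCN : Cfsg.IsCNGroup G)
    (A E : Subgroup G) [hAn : A.Normal] (hAc : ∀ a ∈ A, ∀ b ∈ A, a * b = b * a) (hA1 : A ≠ ⊥)
    (hcop : (Nat.card A).Coprime (Nat.card E))
    (hfpf : ∀ e ∈ E, e ≠ 1 → ∀ a ∈ A, e * a = a * e → a = 1) : Group.IsNilpotent E := by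
  classical
  by_contra hEn
  obtain ⟨E₀, hE₀E, hE₀n, hE₀min⟩ := exists_min_nonnilpotent E hEn
  have hFCN : Cfsg.IsCNGroup E₀ := isCN_subgroup hCN E₀
  have hmin : ∀ K : Subgroup E₀, K ≠ ⊤ → Group.IsNilpotent K := by
    intro K hK
    have hlt : K.map E₀.subtype < E₀ := by
      refine lt_of_le_of_ne (Subgroup.map_subtype_le K) ?_
      intro h
      apply hK
      rw [eq_top_iff]
      intro z _
      have hz : (z : G) ∈ K.map E₀.subtype := by rw [h]; exact z.2
      obtain ⟨z', hz', hzz⟩ := Subgroup.mem_map.mp hz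
      have : z' = z := Subtype.ext hzz
      rw [← this]; exact hz'
    haveI := hE₀min _ hlt
    exact Group.nilpotent_of_mulEquiv
      (K.equivMapOfInjective E₀.subtype E₀.subtype_injective).symm
  obtain ⟨p, q, hp, hq, hpq, P₁, Q₁, hcyc, hQn, hsup, hPnn, hncomm⟩ :=
    Cfsg.Agent.Lib.Helper96.schmidt_structure hE₀n hmin
  -- trivial center
  have hZ : ∀ z : E₀, (∀ g : E₀, g * z = z * g) → z = 1 := by
    intro z hz
    by_contra hz1
    have hn := hFCN z hz1
    have htop : Subgroup.centralizer ({z} : Set E₀) = ⊤ := by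
      rw [eq_top_iff]
      intro g _
      rw [Subgroup.mem_centralizer_singleton_iff]
      exact hz g
    rw [htop] at hn
    exact hE₀n (Group.isNilpotent_top.mp hn)
  -- free action of P₁ on Q₁
  have hfree : ∀ y ∈ (P₁ : Subgroup E₀), y ≠ 1 → ∀ u ∈ (Q₁ : Subgroup E₀), u * y = y * u →
      u = 1 := by
    intro y hy hy1 u hu huy
    by_contra hu1
    obtain ⟨k, hk⟩ := exists_orderOf_eq_of_mem_pgroup P₁.2 hy
    have hcent := cn_centralizes hFCN hpq.symm (Q₁ : Subgroup E₀) Q₁.2 hk hu hu1 huy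
    have hyP : ∀ t ∈ (P₁ : Subgroup E₀), t * y = y * t := by
      intro t ht
      have := mul_comm_of_isCyclic (C := P₁) ⟨t, ht⟩ ⟨y, hy⟩
      exact congrArg Subtype.val this
    have hle : (P₁ : Subgroup E₀) ⊔ Q₁ ≤ Subgroup.centralizer ({y} : Set E₀) :=
      sup_le (fun t ht => by rw [Subgroup.mem_centralizer_singleton_iff]; exact hyP t ht)
        (fun t ht => by rw [Subgroup.mem_centralizer_singleton_iff]; exact hcent t ht)
    rw [hsup] at hle
    apply hy1
    apply hZ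
    intro g
    have := hle (Subgroup.mem_top g)
    rwa [Subgroup.mem_centralizer_singleton_iff] at this
  have hdisj : (P₁ : Subgroup E₀) ⊓ Q₁ = ⊥ :=
    disjoint_iff.mp (IsPGroup.disjoint_of_ne p q hpq _ _ P₁.2 Q₁.2)
  have hP1 : (P₁ : Subgroup E₀) ≠ ⊥ := by
    intro h
    apply hncomm
    intro x hx y _
    rw [h, Subgroup.mem_bot] at hx
    rw [hx]; exact Commute.one_left y
  have hQ1 : (Q₁ : Subgroup E₀) ≠ ⊥ := by
    intro h
    apply hncomm
    intro x _ y hy
    rw [h, Subgroup.mem_bot] at hy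
    rw [hy]; exact Commute.one_right x
  have hPtop : (P₁ : Subgroup E₀) ≠ ⊤ := by
    intro h
    apply hPnn
    rw [h]; infer_instance
  have hFC : Cfsg.IsFrobeniusComplement (P₁ : Subgroup E₀) := by
    refine ⟨hP1, hPtop, ?_⟩
    intro g hg
    rw [eq_bot_iff]
    intro w hw
    rw [Subgroup.mem_bot]
    obtain ⟨hw1, hw2⟩ := hw
    have hw2' : w ∈ MulAut.conj g • (P₁ : Subgroup E₀) := hw2
    rw [Cfsg.Agent.Lib.Helper35.mem_conj_smul] at hw2'
    have hgtop : g ∈ (P₁ : Subgroup E₀) ⊔ Q₁ := by rw [hsup]; trivial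
    obtain ⟨a, ha, b, hb, rfl⟩ := Subgroup.mem_sup_of_normal_right.mp hgtop
    have hb1 : b ≠ 1 := by
      rintro rfl
      apply hg
      simpa using ha
    set w₁ := a⁻¹ * w * a with hw₁
    have hw₁P : w₁ ∈ (P₁ : Subgroup E₀) := mul_mem (mul_mem (inv_mem ha) hw1) ha
    have h3 : b⁻¹ * w₁ * b ∈ (P₁ : Subgroup E₀) := by
      have : (a * b)⁻¹ * w * (a * b) = b⁻¹ * w₁ * b := by rw [hw₁]; group
      rw [← this]; exact hw2'
    have h4 : w₁⁻¹ * (b⁻¹ * w₁ * b) ∈ (P₁ : Subgroup E₀) ⊓ Q₁ := by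
      refine Subgroup.mem_inf.mpr ⟨mul_mem (inv_mem hw₁P) h3, ?_⟩
      have : w₁⁻¹ * (b⁻¹ * w₁ * b) = (w₁⁻¹ * b⁻¹ * w₁⁻¹⁻¹) * b := by group
      rw [this]
      exact mul_mem (hQn.conj_mem _ (inv_mem hb) _) hb
    rw [hdisj, Subgroup.mem_bot] at h4
    have h5 : b * w₁ = w₁ * b := by
      have h6 : b⁻¹ * w₁ * b = w₁ := by
        have := congrArg (fun z => w₁ * z) h4
        simpa using this
      calc b * w₁ = b * (b⁻¹ * w₁ * b) := by rw [h6]
        _ = w₁ * b := by group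
    by_contra hw_ne
    have hw₁ne : w₁ ≠ 1 := by
      intro h
      apply hw_ne
      have : w = a * w₁ * a⁻¹ := by rw [hw₁]; group
      rw [this, h]; group
    exact hb1 (hfree w₁ hw₁P hw₁ne b hb h5)
  -- kernel
  have hcompl : Subgroup.IsComplement' (P₁ : Subgroup E₀) (Q₁ : Subgroup E₀) := by
    apply Subgroup.isComplement'_of_disjoint_and_mul_eq_univ (disjoint_iff.mpr hdisj)
    rw [← Subgroup.mul_normal, hsup]
    rfl
  have hker : ((Q₁ : Subgroup E₀) : Set E₀) = Cfsg.frobeniusKernel (P₁ : Subgroup E₀) := by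
    have hsub : ((Q₁ : Subgroup E₀) : Set E₀) ⊆ Cfsg.frobeniusKernel (P₁ : Subgroup E₀) := by
      intro u hu
      by_cases hu1 : u = 1
      · exact Or.inl hu1
      · right
        intro g hg
        rw [Cfsg.Agent.Lib.Helper35.mem_conj_smul] at hg
        have hmem : g⁻¹ * u * g ∈ (P₁ : Subgroup E₀) ⊓ Q₁ := Subgroup.mem_inf.mpr ⟨hg, by
          have := hQn.conj_mem u hu g⁻¹
          simpa using this⟩
        rw [hdisj, Subgroup.mem_bot] at hmem
        apply hu1
        have h : u = g * (g⁻¹ * u * g) * g⁻¹ := by group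
        rw [h, hmem]; group
    apply Set.eq_of_subset_of_ncard_le hsub _ (Set.toFinite _)
    rw [← Nat.card_coe_set_eq, Cfsg.Agent.Lib.Helper35.card_frobeniusKernel hFC,
      ← Nat.card_coe_set_eq]
    have := hcompl.symm.index_eq_card
    rw [this]
    exact le_refl _
  -- the action on A
  letI : CommGroup A :=
    { (inferInstance : Group A) with mul_comm := fun a b => Subtype.ext (hAc a a.2 b b.2) }
  haveI : Fintype E₀ := Fintype.ofFinite _
  let c : E₀ →* MulAut A := (MulAut.conjNormal (H := A)).comp E₀.subtype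
  have hc : ∀ (f : E₀) (a : A), ((c f a : A) : G) = (f : G) * a * (f : G)⁻¹ :=
    fun f a => MulAut.conjNormal_apply (f : G) a
  have hcop' : (Nat.card A).Coprime (Nat.card (Q₁ : Subgroup E₀)) := by
    apply Nat.Coprime.coprime_dvd_right _ hcop
    exact (Subgroup.card_subgroup_dvd_card _).trans (Subgroup.card_dvd_of_le hE₀E)
  have hfix : ∀ a : A, (∀ n ∈ (Q₁ : Subgroup E₀), c n a = a) → a = 1 := by
    intro a ha
    obtain ⟨⟨n, hn⟩, hn1⟩ := (Subgroup.ne_bot_iff_exists_ne_one).mp hQ1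
    have h1 := ha n hn
    have h2 := hc n a
    rw [h1] at h2
    have h3 : (n : G) * a = a * n := by
      calc (n : G) * a = ((n : G) * a * (n : G)⁻¹) * n := by group
        _ = a * n := by rw [← h2]
    have hn1' : (n : G) ≠ 1 := by
      intro h
      apply hn1
      exact Subtype.ext (Subtype.ext h)
    exact Subtype.ext (hfpf (n : G) (hE₀E n.2) hn1' a a.2 h3)
  have hAne : ∃ a : A, a ≠ 1 := (Subgroup.ne_bot_iff_exists_ne_one).mp hA1
  obtain ⟨a, ha1, hafix⟩ := Cfsg.Agent.Lib.Helper96.exists_fixed_of_frobenius c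
    (P₁ : Subgroup E₀) (Q₁ : Subgroup E₀) hFC hker hcop' hfix hAne
  obtain ⟨⟨n, hn⟩, hn1⟩ := (Subgroup.ne_bot_iff_exists_ne_one).mp hP1
  have h1 := hafix n hn
  have h2 := hc n a
  rw [h1] at h2
  have h3 : (n : G) * a = a * n := by
    calc (n : G) * a = ((n : G) * a * (n : G)⁻¹) * n := by group
      _ = a * n := by rw [← h2]
  have hn1' : (n : G) ≠ 1 := by
    intro h
    apply hn1
    exact Subtype.ext (Subtype.ext h)
  exact ha1 (Subtype.ext (hfpf (n : G) (hE₀E n.2) hn1' a a.2 h3))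

end Cfsg.Agent.Lib.Helper78
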