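import Mathlib
import Cfsg.Agent.Lib.Helper78.CNFrob2
import Cfsg.Agent.Lib.Helper96.Schmidt3
import Cfsg.Agent.Lib.Helper55.Cores

set_option autoImplicit false
set_option linter.style.haveILetI false

/-! General lemmas for the solvable CN-group trichotomy. -/

namespace Cfsg.Agent.Lib.Helper78

open Cfsg

/-- A subgroup `L` all of whose elements of prime power order lie in `K` is contained in `K`. -/
theorem le_of_prime_power_mem {G : Type*} [Group G] [Finite G] (L K : Subgroup G)
    (h : ∀ x ∈ L, ∀ (r k : ℕ), r.Prime → orderOf x = r ^ k → x ∈ K) : L ≤ K := by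
  have htop : K.subgroupOf L = ⊤ := by
    apply Cfsg.Agent.Lib.Helper96.eq_top_of_forall_sylow_le
    intro r hr
    obtain ⟨R⟩ : Nonempty (Sylow r L) := inferInstance
    refine ⟨R, ?_⟩
    intro t ht
    rw [Subgroup.mem_subgroupOf]
    obtain ⟨k, hk⟩ := exists_orderOf_eq_of_mem_pgroup R.2 ht
    apply h (t : G) t.2 r k hr.out
    rw [Subgroup.orderOf_coe]
    exact hk
  exact Subgroup.subgroupOf_eq_top.mp htop

/-- A finite nilpotent group all of whose Sylow subgroups are cyclic is commutative. -/
theorem comm_of_nilpotent_of_sylow_cyclic {X : Type*} [Group X] [Finite X]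
    (hn : Group.IsNilpotent X)
    (hc : ∀ (r : ℕ) [Fact r.Prime] (R : Sylow r X), IsCyclic R) : ∀ a b : X, a * b = b * a := by
  have h3 : ∀ (p : ℕ) (_ : Fact p.Prime) (P : Sylow p X), (P : Subgroup X).Normal :=
    ((Group.isNilpotent_of_finite_tfae (G := X)).out 0 3).mp hn
  have hnorm : ∀ {p : ℕ} [Fact p.Prime] (P : Sylow p X), (P : Subgroup X).Normal := by
    intro p hp P
    exact h3 p hp P
  let e := Sylow.directProductOfNormal hnorm
  intro a b
  have h : e.symm a * e.symm b = e.symm b * e.symm a := by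
    funext p
    funext P
    haveI : Fact (p : ℕ).Prime := ⟨Nat.prime_of_mem_primeFactors p.2⟩
    haveI := hc p P
    exact mul_comm_of_isCyclic (C := P) _ _
  have h2 := congrArg e h
  simpa using h2

/-- A finite nilpotent group all of whose Sylow subgroups are cyclic is cyclic. -/
theorem isCyclic_of_nilpotent_of_sylow_cyclic {X : Type*} [Group X] [Finite X]
    (hn : Group.IsNilpotent X)
    (hc : ∀ (r : ℕ) [Fact r.Prime] (R : Sylow r X), IsCyclic R) : IsCyclic X := by
  classical
  letI : CommGroup X :=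
    { (inferInstance : Group X) with mul_comm := comm_of_nilpotent_of_sylow_cyclic hn hc }
  apply IsCyclic.of_exponent_eq_card
  apply Nat.dvd_antisymm (Group.exponent_dvd_nat_card (G := X))
  have hexp : Monoid.exponent X ≠ 0 := Monoid.exponent_ne_zero_of_finite
  rw [← Nat.factorization_le_iff_dvd Nat.card_pos.ne' hexp]
  intro r
  by_cases hr : r.Prime
  · haveI : Fact r.Prime := ⟨hr⟩
    obtain ⟨R⟩ : Nonempty (Sylow r X) := inferInstance
    haveI := hc r R
    obtain ⟨g, hg⟩ := IsCyclic.exists_generator (α := R)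
    have hord : orderOf g = Nat.card R := orderOf_eq_card_of_forall_mem_zpowers hg
    have h1 : orderOf (g : X) ∣ Monoid.exponent X := Monoid.order_dvd_exponent _
    rw [Subgroup.orderOf_coe, hord, R.card_eq_multiplicity] at h1
    exact (hr.pow_dvd_iff_le_factorization hexp).mp h1
  · rw [Nat.factorization_eq_zero_of_not_prime _ hr]
    exact Nat.zero_le _

/-- The "centre" of a nontrivial normal `p`-subgroup: a nontrivial normal abelian subgroup. -/
theorem center_of_normal_pgroup {G : Type*} [Group G] [Finite G] {p : ℕ} [Fact p.Prime]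
    (U : Subgroup G) [hUn : U.Normal] (hU : IsPGroup p U) (hU1 : U ≠ ⊥) :
    (U ⊓ Subgroup.centralizer (U : Set G)).Normal ∧
      (∀ a ∈ U ⊓ Subgroup.centralizer (U : Set G), ∀ b ∈ U ⊓ Subgroup.centralizer (U : Set G),
        a * b = b * a) ∧ U ⊓ Subgroup.centralizer (U : Set G) ≠ ⊥ := by
  refine ⟨inferInstance, ?_, ?_⟩
  · intro a ha b hb
    have h1 : a ∈ Subgroup.centralizer (U : Set G) := ha.2
    rw [Subgroup.mem_centralizer_iff] at h1
    exact (h1 b hb.1).symm
  · obtain ⟨z, hz, hzfix⟩ := exists_conj_fixed U hU {a : G | a ∈ U ∧ a ≠ 1}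
      (by
        intro s _ g hg
        refine ⟨hUn.conj_mem g hg.1 s, ?_⟩
        intro h
        apply hg.2
        have : g = s⁻¹ * (s * g * s⁻¹) * s := by group
        rw [this, h]; group)
      (not_dvd_ncard_ne_one U hU hU1)
    intro h
    have hzA : z ∈ U ⊓ Subgroup.centralizer (U : Set G) := by
      refine Subgroup.mem_inf.mpr ⟨hz.1, ?_⟩
      rw [Subgroup.mem_centralizer_iff]
      intro t ht
      have := hzfix t ht
      calc t * z = (t * z * t⁻¹) * t := by group
        _ = z * t := by rw [this]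
    rw [h, Subgroup.mem_bot] at hzA
    exact hz.2 hzA

/-- Lifting a subgroup of `G ⧸ U` of order prime to `|U|` to a subgroup of `G` meeting `U`
trivially. -/
theorem exists_lift_of_coprime {G : Type*} [Group G] [Finite G] (U : Subgroup G) [U.Normal]
    (J : Subgroup (G ⧸ U)) (hcop : (Nat.card U).Coprime (Nat.card J)) :
    ∃ (J' : Subgroup (J.comap (QuotientGroup.mk' U))),
      Subgroup.IsComplement' (U.subgroupOf (J.comap (QuotientGroup.mk' U))) J' ∧
      (J'.map (J.comap (QuotientGroup.mk' U)).subtype) ⊓ U = ⊥ ∧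
      (J'.map (J.comap (QuotientGroup.mk' U)).subtype).map (QuotientGroup.mk' U) = J ∧
      Nat.card J' = Nat.card J := by
  classical
  set L := J.comap (QuotientGroup.mk' U) with hL
  have hUL : U ≤ L := Cfsg.Agent.Lib.Helper55.le_comap_mk' U J
  have hcardL : Nat.card L = Nat.card U * Nat.card J := Cfsg.Agent.Lib.Helper55.card_comap_mk' U J
  haveI : (U.subgroupOf L).Normal := inferInstance
  have hcardU' : Nat.card (U.subgroupOf L) = Nat.card U :=
    Nat.card_congr (Subgroup.subgroupOfEquivOfLe hUL).toEquiv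
  have hidx : (U.subgroupOf L).index = Nat.card J := by
    have h1 := (U.subgroupOf L).card_mul_index
    rw [hcardU', hcardL] at h1
    exact Nat.eq_of_mul_eq_mul_left Nat.card_pos h1
  obtain ⟨J', hJ'⟩ := Subgroup.exists_right_complement'_of_coprime
    (N := U.subgroupOf L) (by rw [hcardU', hidx]; exact hcop)
  refine ⟨J', hJ', ?_, ?_, ?_⟩
  · rw [eq_bot_iff]
    intro x hx
    obtain ⟨hx1, hx2⟩ := Subgroup.mem_inf.mp hx
    obtain ⟨y, hy, rfl⟩ := Subgroup.mem_map.mp hx1
    have hy2 : y ∈ U.subgroupOf L := Subgroup.mem_subgroupOf.mpr hx2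
    have : y ∈ U.subgroupOf L ⊓ J' := Subgroup.mem_inf.mpr ⟨hy2, hy⟩
    rw [hJ'.disjoint.eq_bot, Subgroup.mem_bot] at this
    rw [this]
    simp
  · have hsup : (J'.map L.subtype) ⊔ U = L := by
      have h1 := hJ'.sup_eq_top
      have h2 := congrArg (Subgroup.map L.subtype) h1
      rw [Subgroup.map_sup, Subgroup.subgroupOf_map_subtype, inf_eq_left.mpr hUL,
        ← MonoidHom.range_eq_map, Subgroup.range_subtype] at h2
      rw [sup_comm]; exact h2
    have h3 : (J'.map L.subtype ⊔ U).map (QuotientGroup.mk' U) =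
        (J'.map L.subtype).map (QuotientGroup.mk' U) := by
      rw [Subgroup.map_sup]
      have : U.map (QuotientGroup.mk' U) = ⊥ := by
        rw [Subgroup.map_eq_bot_iff, QuotientGroup.ker_mk']
      rw [this, sup_bot_eq]
    rw [← h3, hsup, hL, Subgroup.map_comap_eq_self_of_surjective (QuotientGroup.mk'_surjective U)]
  · rw [← hidx]
    exact hJ'.symm.index_eq_card.symm

end Cfsg.Agent.Lib.Helper78
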