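import Mathlib
import Cfsg.Agent.Lib.Helper78.CNSolv1

set_option autoImplicit false
set_option linter.style.haveILetI false

/-! Structure of a nilpotent group whose Sylow subgroups are cyclic or generalized quaternion. -/

namespace Cfsg.Agent.Lib.Helper78

open Cfsg

theorem prime_eq_two_of_quaternion {X : Type*} [Group X] [Finite X] {q : ℕ} [hq : Fact q.Prime]
    (hX : IsPGroup q X) {n : ℕ} (e : X ≃* QuaternionGroup (2 ^ n)) : q = 2 := by
  haveI : NeZero (2 ^ n) := ⟨pow_ne_zero _ (by norm_num)⟩
  have h1 : Nat.card X = 4 * 2 ^ n := by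
    rw [Nat.card_congr e.toEquiv, Nat.card_eq_fintype_card, QuaternionGroup.card]
  obtain ⟨k, hk⟩ := IsPGroup.iff_card.mp hX
  have h2 : 2 ∣ q ^ k := by
    rw [← hk, h1]
    exact Dvd.dvd.mul_right (by norm_num) _
  have h3 : 2 ∣ q := Nat.Prime.dvd_of_dvd_pow Nat.prime_two h2
  exact ((Nat.prime_dvd_prime_iff_eq Nat.prime_two hq.out).mp h3).symm

/-- A subgroup of odd order of a nilpotent group whose Sylow subgroups are cyclic or generalized
quaternion is cyclic. -/
theorem isCyclic_of_odd_of_sylow {X : Type*} [Group X] [Finite X] (hn : Group.IsNilpotent X)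
    (hS : ∀ (q : ℕ) [Fact q.Prime] (P : Sylow q X),
      IsCyclic P ∨ ∃ n : ℕ, Nonempty (P ≃* QuaternionGroup (2 ^ n)))
    (C : Subgroup X) (hodd : Odd (Nat.card C)) : IsCyclic C := by
  haveI := hn
  apply isCyclic_of_nilpotent_of_sylow_cyclic (X := C) inferInstance
  intro r hr R
  set R' : Subgroup X := (R : Subgroup C).map C.subtype with hR'
  have hR'p : IsPGroup r R' := R.2.map _
  obtain ⟨P, hP⟩ := hR'p.exists_le_sylow
  have e1 : (R : Subgroup C) ≃* R' :=
    (R : Subgroup C).equivMapOfInjective C.subtype C.subtype_injective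
  rcases hS r P with hc | ⟨n, ⟨e⟩⟩
  · haveI := hc
    have h1 : IsCyclic (R'.subgroupOf (P : Subgroup X)) := inferInstance
    have e2 : R'.subgroupOf (P : Subgroup X) ≃* R' := Subgroup.subgroupOfEquivOfLe hP
    haveI : IsCyclic R' := isCyclic_of_surjective e2.toMonoidHom e2.surjective
    exact isCyclic_of_surjective e1.symm.toMonoidHom e1.symm.surjective
  · have hr2 : r = 2 := prime_eq_two_of_quaternion P.2 e
    obtain ⟨k, hk⟩ := IsPGroup.iff_card.mp R.2
    have hd : Nat.card (R : Subgroup C) ∣ Nat.card C := Subgroup.card_subgroup_dvd_card _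
    rw [hk, hr2] at hd
    have hk0 : k = 0 := by
      by_contra hk0
      have : 2 ∣ Nat.card C := (dvd_pow_self 2 hk0).trans hd
      exact (Nat.not_even_iff_odd.mpr hodd) (even_iff_two_dvd.mpr this)
    rw [hk0, pow_zero] at hk
    haveI : Subsingleton (R : Subgroup C) := (Nat.card_eq_one_iff_unique.mp hk).1
    infer_instance

theorem structure_of_nilpotent_cyclic_or_quaternion {G : Type*} [Group G] [Finite G]
    (E : Subgroup G) (hEn : Group.IsNilpotent E)
    (hS : ∀ (q : ℕ) [Fact q.Prime] (P : Sylow q E),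
      IsCyclic P ∨ ∃ n : ℕ, Nonempty (P ≃* QuaternionGroup (2 ^ n))) :
    IsCyclic E ∨ ∃ C Q : Subgroup G, C ⊔ Q = E ∧ (∀ a ∈ C, ∀ b ∈ Q, a * b = b * a) ∧ IsCyclic C ∧
      Odd (Nat.card C) ∧ ∃ n : ℕ, Nonempty (↥Q ≃* QuaternionGroup (2 ^ n)) := by
  classical
  by_cases hall : ∀ (q : ℕ) [Fact q.Prime] (P : Sylow q E), IsCyclic P
  · left
    exact isCyclic_of_nilpotent_of_sylow_cyclic hEn hall
  · right
    push Not at hall
    obtain ⟨q₀, hq₀, P₀, hP₀⟩ := hall
    obtain ⟨n, ⟨e⟩⟩ := (hS q₀ P₀).resolve_left hP₀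
    have hq2 : q₀ = 2 := prime_eq_two_of_quaternion P₀.2 e
    subst hq2
    have h3 : ∀ (p : ℕ) (_ : Fact p.Prime) (P : Sylow p E), (P : Subgroup E).Normal :=
      ((Group.isNilpotent_of_finite_tfae (G := E)).out 0 3).mp hEn
    haveI hP₀n : (P₀ : Subgroup E).Normal := h3 2 hq₀ P₀
    obtain ⟨C', hC'⟩ := Subgroup.exists_right_complement'_of_coprime
      (N := (P₀ : Subgroup E)) P₀.card_coprime_index
    have hcardC' : (P₀ : Subgroup E).index = Nat.card C' := hC'.symm.index_eq_card
    have hoddC' : Odd (Nat.card C') := by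
      rw [← hcardC']
      exact Nat.odd_iff.mpr (Nat.two_dvd_ne_zero.mp P₀.not_dvd_index)
    set C : Subgroup G := C'.map E.subtype with hC
    set Q : Subgroup G := (P₀ : Subgroup E).map E.subtype with hQ
    have eC : C' ≃* C := C'.equivMapOfInjective E.subtype E.subtype_injective
    have eQ : (P₀ : Subgroup E) ≃* Q :=
      (P₀ : Subgroup E).equivMapOfInjective E.subtype E.subtype_injective
    have hCE : C ≤ E := Subgroup.map_subtype_le _
    have hQE : Q ≤ E := Subgroup.map_subtype_le _
    have hcardC : Nat.card C = Nat.card C' := (Nat.card_congr eC.toEquiv).symm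
    have hQp : IsPGroup 2 Q := P₀.2.map _
    refine ⟨C, Q, ?_, ?_, ?_, ?_, n, ⟨eQ.symm.trans e⟩⟩
    · have h1 := hC'.symm.sup_eq_top
      have h2 := congrArg (Subgroup.map E.subtype) h1
      rw [Subgroup.map_sup, ← MonoidHom.range_eq_map, Subgroup.range_subtype] at h2
      exact h2
    · have hle : C ≤ Subgroup.centralizer (Q : Set G) := by
        apply le_of_prime_power_mem
        intro x hx r k hr hxo
        rw [Subgroup.mem_centralizer_iff]
        intro b hb
        by_cases hr2 : r = 2
        · have hd : orderOf x ∣ Nat.card C := Subgroup.orderOf_dvd_natCard C hx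
          rw [hxo, hr2] at hd
          have hk0 : k = 0 := by
            by_contra hk0
            have : 2 ∣ Nat.card C := (dvd_pow_self 2 hk0).trans hd
            rw [hcardC] at this
            exact (Nat.not_even_iff_odd.mpr hoddC') (even_iff_two_dvd.mpr this)
          rw [hk0, pow_zero, orderOf_eq_one_iff] at hxo
          rw [hxo]; simp
        · haveI : Fact r.Prime := ⟨hr⟩
          obtain ⟨l, hl⟩ := exists_orderOf_eq_of_mem_pgroup hQp hb
          exact commute_of_mem_nilpotent E hEn (Ne.symm hr2) (hQE hb) (hCE hx) hl hxo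
      intro a ha b hb
      have := hle ha
      rw [Subgroup.mem_centralizer_iff] at this
      exact (this b hb).symm
    · haveI : IsCyclic C' := isCyclic_of_odd_of_sylow hEn hS C' hoddC'
      exact isCyclic_of_surjective eC.toMonoidHom eC.surjective
    · rw [hcardC]; exact hoddC'

end Cfsg.Agent.Lib.Helper78
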