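import Mathlib
import Cfsg.Agent.S0040
import Cfsg.Agent.S0041
import Cfsg.Agent.S0042
import Cfsg.Agent.Lib.Helper96.FrobeniusThm
import Cfsg.Agent.Lib.Helper96.FrobeniusConj
import Cfsg.Agent.Lib.Helper35.FrobeniusHall
import Cfsg.Agent.Lib.Helper48.Misc

set_option autoImplicit false
set_option linter.style.haveILetI false
set_option linter.unusedSectionVars false

/-! Basic package for a Frobenius group `X` with complement `C` and kernel given as a subgroup `N`
(`(N : Set X) = frobeniusKernel C`). -/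

namespace Cfsg.Agent.Lib.Helper78.TwoFrob

open Cfsg
open scoped Pointwise

variable {X : Type*} [Group X] [Finite X] {C N : Subgroup X}

theorem kernel_normal_compl (hC : Cfsg.IsFrobeniusComplement C)
    (hN : (N : Set X) = Cfsg.frobeniusKernel C) : N.Normal ∧ Subgroup.IsComplement' N C := by
  obtain ⟨N', hN', hn, hc⟩ := Cfsg.Agent.Lib.Helper96.frobenius_kernel_subgroup C hC
  have : N' = N := SetLike.coe_injective (hN'.trans hN.symm)
  subst this
  exact ⟨hn, hc⟩

theorem kernel_nilpotent (hC : Cfsg.IsFrobeniusComplement C)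
    (hN : (N : Set X) = Cfsg.frobeniusKernel C) : Group.IsNilpotent N := by
  obtain ⟨N', hN', -, hnil⟩ := Cfsg.Agent.S0042.result C hC
  have : N' = N := SetLike.coe_injective (hN'.trans hN.symm)
  subst this
  exact hnil

theorem kernel_coprime (hC : Cfsg.IsFrobeniusComplement C)
    (hN : (N : Set X) = Cfsg.frobeniusKernel C) : (Nat.card N).Coprime (Nat.card C) := by
  have h1 := Cfsg.Agent.Lib.Helper96.coprime_index_card hC
  have h2 := (kernel_normal_compl hC hN).2.index_eq_card
  rwa [h2] at h1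

theorem kernel_ne_bot (hC : Cfsg.IsFrobeniusComplement C)
    (hN : (N : Set X) = Cfsg.frobeniusKernel C) : N ≠ ⊥ := by
  intro h
  have h1 := Cfsg.Agent.Lib.Helper35.two_le_index_of_frobenius hC
  have h2 := (kernel_normal_compl hC hN).2.index_eq_card
  rw [h, Subgroup.card_bot] at h2
  omega

/-- nonidentity complement elements have no nontrivial fixed points in the kernel -/
theorem fpf (hC : Cfsg.IsFrobeniusComplement C)
    (hN : (N : Set X) = Cfsg.frobeniusKernel C) {c n : X} (hc : c ∈ C) (hc1 : c ≠ 1) (hn : n ∈ N)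
    (hcomm : c * n = n * c) : n = 1 := by
  have hc' : c ∈ MulAut.conj (1 : X) • C := by
    rw [map_one, one_smul]; exact hc
  have hn' : n ∈ Cfsg.frobeniusKernel C := by rw [← hN]; exact hn
  exact Cfsg.Agent.Lib.Helper96.eq_one_of_commute_of_mem_conj hC hc1 hc' hn' hcomm.symm

/-- the centralizer of a nonidentity kernel element lies in the kernel -/
theorem cent_le_kernel (hC : Cfsg.IsFrobeniusComplement C)
    (hN : (N : Set X) = Cfsg.frobeniusKernel C) {n x : X} (hn : n ∈ N) (hn1 : n ≠ 1)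
    (hcomm : x * n = n * x) : x ∈ N := by
  by_contra hx
  have hx' : x ∉ Cfsg.frobeniusKernel C := by rw [← hN]; exact hx
  unfold Cfsg.frobeniusKernel at hx'
  rw [Set.mem_ofPred_eq] at hx'
  push Not at hx'
  obtain ⟨hx1, g, hg⟩ := hx'
  have hn' : n ∈ Cfsg.frobeniusKernel C := by rw [← hN]; exact hn
  exact hn1 (Cfsg.Agent.Lib.Helper96.eq_one_of_commute_of_mem_conj hC hx1 hg hn' hcomm.symm)

/-- a Frobenius complement has at most one involution -/
theorem involution_unique (hC : Cfsg.IsFrobeniusComplement C)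
    (hN : (N : Set X) = Cfsg.frobeniusKernel C) {s t : X} (hs : s ∈ C) (ht : t ∈ C)
    (hs1 : s ≠ 1) (ht1 : t ≠ 1) (hs2 : s * s = 1) (ht2 : t * t = 1) : s = t := by
  haveI := (kernel_normal_compl hC hN).1
  have hsi := Cfsg.Agent.Lib.Helper48.inverts_of_fixedPointFree (K := N) hs2
    (fun k hk h => fpf hC hN hs hs1 hk h.symm)
  have hti := Cfsg.Agent.Lib.Helper48.inverts_of_fixedPointFree (K := N) ht2
    (fun k hk h => fpf hC hN ht ht1 hk h.symm)
  obtain ⟨⟨k, hk⟩, hk1'⟩ := (Subgroup.ne_bot_iff_exists_ne_one).mp (kernel_ne_bot hC hN)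
  have hk1 : k ≠ 1 := fun h => hk1' (Subtype.ext h)
  by_contra hst
  have hst1 : s * t ≠ 1 := by
    intro h
    apply hst
    have : s = t⁻¹ := eq_inv_of_mul_eq_one_left h
    rw [this]
    exact inv_eq_of_mul_eq_one_left ht2
  have h1 := hsi k hk
  have h2 := hti k hk
  have hkinv : k⁻¹ ∈ N := N.inv_mem hk
  have h3 := hsi k⁻¹ hkinv
  have hcomm : (s * t) * k = k * (s * t) := by
    have e1 : t * k = k⁻¹ * t := by
      calc t * k = (t * k * t⁻¹) * t := by group
        _ = k⁻¹ * t := by rw [h2]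
    have e2 : s * k⁻¹ = k * s := by
      calc s * k⁻¹ = (s * k⁻¹ * s⁻¹) * s := by group
        _ = k * s := by rw [h3, inv_inv]
    calc (s * t) * k = s * (t * k) := by group
      _ = s * (k⁻¹ * t) := by rw [e1]
      _ = (s * k⁻¹) * t := by group
      _ = (k * s) * t := by rw [e2]
      _ = k * (s * t) := by group
  exact hk1 (fpf hC hN (C.mul_mem hs ht) hst1 hk hcomm)

/-- the fixed-point-free hypothesis in the form used by S0039/S0040 -/
theorem fpf_inf (hC : Cfsg.IsFrobeniusComplement C)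
    (hN : (N : Set X) = Cfsg.frobeniusKernel C) :
    ∀ h ∈ C, h ≠ 1 → N ⊓ Subgroup.centralizer {h} = ⊥ := by
  intro h hh hh1
  rw [eq_bot_iff]
  intro n hn
  obtain ⟨hn1, hn2⟩ := Subgroup.mem_inf.mp hn
  rw [Subgroup.mem_centralizer_singleton_iff] at hn2
  rw [Subgroup.mem_bot]
  exact fpf hC hN hh hh1 hn1 hn2.symm

theorem sylow_cyclic_or_quaternion (hC : Cfsg.IsFrobeniusComplement C)
    (hN : (N : Set X) = Cfsg.frobeniusKernel C) (p : ℕ) [Fact p.Prime] (P : Sylow p C) :
    IsCyclic P ∨ ∃ n : ℕ, Nonempty (P ≃* QuaternionGroup (2 ^ n)) := by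
  haveI := (kernel_normal_compl hC hN).1
  exact Cfsg.Agent.S0040.result N C (kernel_normal_compl hC hN).2 (kernel_ne_bot hC hN)
    (fpf_inf hC hN) p P

end Cfsg.Agent.Lib.Helper78.TwoFrob
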