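import Mathlib
import Cfsg.Agent.Lib.Helper78.TwoFrob1
import Cfsg.Agent.Lib.Helper78.CNSolv2

set_option autoImplicit false
set_option linter.style.haveILetI false
set_option linter.unusedSectionVars false

/-! The middle factor of a 2-Frobenius group: a group which is both a Frobenius complement and
(isomorphic to) a Frobenius kernel is cyclic of odd order, and the upper complement is cyclic. -/

namespace Cfsg.Agent.Lib.Helper78.TwoFrob

open Cfsg
open scoped Pointwise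

variable {X₁ X₂ : Type*} [Group X₁] [Finite X₁] [Group X₂] [Finite X₂]
  {C₁ N₁ : Subgroup X₁} {C₂ N₂ : Subgroup X₂}

theorem middle_odd (hC₁ : Cfsg.IsFrobeniusComplement C₁)
    (hN₁ : (N₁ : Set X₁) = Cfsg.frobeniusKernel C₁)
    (hC₂ : Cfsg.IsFrobeniusComplement C₂)
    (hN₂ : (N₂ : Set X₂) = Cfsg.frobeniusKernel C₂)
    (φ : C₁ →* X₂) (hφ : Function.Injective φ) (hr : φ.range = N₂) : Odd (Nat.card C₁) := by
  by_contra hodd
  rw [Nat.not_odd_iff_even, even_iff_two_dvd] at hodd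
  haveI : Fact (Nat.Prime 2) := ⟨Nat.prime_two⟩
  obtain ⟨s, hs⟩ := exists_prime_orderOf_dvd_card' (G := C₁) 2 hodd
  have hs1 : s ≠ 1 := by
    intro h; rw [h, orderOf_one] at hs; omega
  have hs2 : s * s = 1 := by
    rw [← pow_two, ← hs]; exact pow_orderOf_eq_one s
  haveI hN₂n : N₂.Normal := (kernel_normal_compl hC₂ hN₂).1
  have hz : φ s ∈ N₂ := by rw [← hr]; exact ⟨s, rfl⟩
  have hz1 : φ s ≠ 1 := by
    intro h; apply hs1; apply hφ; rw [h, map_one]
  obtain ⟨⟨c, hc⟩, hc1'⟩ := (Subgroup.ne_bot_iff_exists_ne_one).mp hC₂.1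
  have hc1 : c ≠ 1 := fun h => hc1' (Subtype.ext h)
  have hw : c * φ s * c⁻¹ ∈ N₂ := hN₂n.conj_mem _ hz c
  rw [← hr] at hw
  obtain ⟨s', hs'⟩ := hw
  have hs'2 : s' * s' = 1 := by
    apply hφ
    rw [map_mul, hs', map_one]
    have : φ s * φ s = 1 := by rw [← map_mul, hs2, map_one]
    calc c * φ s * c⁻¹ * (c * φ s * c⁻¹) = c * (φ s * φ s) * c⁻¹ := by group
      _ = 1 := by rw [this]; group
  have hs'1 : s' ≠ 1 := by
    intro h
    rw [h, map_one] at hs'
    apply hz1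
    have : φ s = c⁻¹ * (c * φ s * c⁻¹) * c := by group
    rw [this, ← hs']; group
  have heq : (s' : X₁) = (s : X₁) :=
    involution_unique hC₁ hN₁ s'.2 s.2 (fun h => hs'1 (Subtype.ext h))
      (fun h => hs1 (Subtype.ext h))
      (by have := congrArg (Subtype.val) hs'2; simpa using this)
      (by have := congrArg (Subtype.val) hs2; simpa using this)
  have heq' : s' = s := Subtype.ext heq
  rw [heq'] at hs'
  have hcomm : c * φ s = φ s * c := by
    calc c * φ s = (c * φ s * c⁻¹) * c := by group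
      _ = φ s * c := by rw [← hs']
  exact hz1 (fpf hC₂ hN₂ hc hc1 hz hcomm)

theorem middle_nilpotent
    (hC₂ : Cfsg.IsFrobeniusComplement C₂)
    (hN₂ : (N₂ : Set X₂) = Cfsg.frobeniusKernel C₂)
    (φ : C₁ →* X₂) (hφ : Function.Injective φ) (hr : φ.range = N₂) : Group.IsNilpotent C₁ := by
  haveI : Group.IsNilpotent N₂ := kernel_nilpotent hC₂ hN₂
  have hmem : ∀ x : C₁, φ x ∈ N₂ := fun x => by rw [← hr]; exact ⟨x, rfl⟩
  apply Subgroup.isNilpotent_of_ker_le_center (φ.codRestrict N₂ hmem)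
  intro x hx
  rw [MonoidHom.mem_ker] at hx
  have h1 : φ x = 1 := by
    have := congrArg Subtype.val hx
    simpa using this
  have : x = 1 := hφ (by rw [h1, map_one])
  rw [this]
  exact Subgroup.one_mem _

theorem middle_cyclic (hC₁ : Cfsg.IsFrobeniusComplement C₁)
    (hN₁ : (N₁ : Set X₁) = Cfsg.frobeniusKernel C₁)
    (hC₂ : Cfsg.IsFrobeniusComplement C₂)
    (hN₂ : (N₂ : Set X₂) = Cfsg.frobeniusKernel C₂)
    (φ : C₁ →* X₂) (hφ : Function.Injective φ) (hr : φ.range = N₂) : IsCyclic C₁ := by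
  have hnil := middle_nilpotent hC₂ hN₂ φ hφ hr
  have hodd := middle_odd hC₁ hN₁ hC₂ hN₂ φ hφ hr
  have h := Cfsg.Agent.Lib.Helper78.isCyclic_of_odd_of_sylow (X := C₁) hnil
    (fun q _ P => sylow_cyclic_or_quaternion hC₁ hN₁ q P) (⊤ : Subgroup C₁)
    (by rw [Subgroup.card_top]; exact hodd)
  haveI := h
  exact isCyclic_of_surjective (Subgroup.topEquiv (G := C₁)).toMonoidHom
    (Subgroup.topEquiv (G := C₁)).surjective

/-- the complement of a Frobenius group with cyclic kernel is cyclic -/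
theorem compl_cyclic (hC₂ : Cfsg.IsFrobeniusComplement C₂)
    (hN₂ : (N₂ : Set X₂) = Cfsg.frobeniusKernel C₂) (hcyc : IsCyclic N₂) : IsCyclic C₂ := by
  haveI hN₂n : N₂.Normal := (kernel_normal_compl hC₂ hN₂).1
  obtain ⟨g, hg⟩ := IsCyclic.exists_generator (α := N₂)
  have hg1 : g ≠ 1 := by
    intro h
    apply kernel_ne_bot hC₂ hN₂
    rw [eq_bot_iff]
    intro x hx
    have := hg ⟨x, hx⟩
    rw [h, Subgroup.zpowers_one_eq_bot, Subgroup.mem_bot] at this
    rw [Subgroup.mem_bot]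
    exact congrArg Subtype.val this
  -- automorphisms of N₂ commute
  have hcommAut : ∀ α β : MulAut N₂, α * β = β * α := by
    intro α β
    obtain ⟨i, hi⟩ := Subgroup.mem_zpowers_iff.mp (hg (α g))
    obtain ⟨j, hj⟩ := Subgroup.mem_zpowers_iff.mp (hg (β g))
    have e1 : α (β g) = β (α g) := by
      rw [← hj, map_zpow, ← hi, map_zpow, ← hj, ← zpow_mul, ← zpow_mul, mul_comm]
    ext x
    obtain ⟨k, hk⟩ := Subgroup.mem_zpowers_iff.mp (hg x)
    rw [← hk]
    simp only [MulAut.mul_apply, map_zpow, e1]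
  have hab : ∀ a ∈ C₂, ∀ b ∈ C₂, a * b = b * a := by
    intro a ha b hb
    have h1 := hcommAut (MulAut.conjNormal (H := N₂) a) (MulAut.conjNormal (H := N₂) b)
    rw [← map_mul, ← map_mul] at h1
    have h2 := congrArg (fun f : MulAut N₂ => ((f g : N₂) : X₂)) h1
    simp only [MulAut.conjNormal_apply] at h2
    -- h2 : a * b * g * (a*b)⁻¹ = b * a * g * (b*a)⁻¹
    have hw : (b * a)⁻¹ * (a * b) ∈ C₂ := C₂.mul_mem (C₂.inv_mem (C₂.mul_mem hb ha)) (C₂.mul_mem ha hb)
    have hcomm : ((b * a)⁻¹ * (a * b)) * (g : X₂) = (g : X₂) * ((b * a)⁻¹ * (a * b)) := by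
      calc ((b * a)⁻¹ * (a * b)) * (g : X₂)
          = (b * a)⁻¹ * ((a * b) * (g : X₂) * (a * b)⁻¹) * (a * b) := by group
        _ = (b * a)⁻¹ * ((b * a) * (g : X₂) * (b * a)⁻¹) * (a * b) := by rw [h2]
        _ = (g : X₂) * ((b * a)⁻¹ * (a * b)) := by group
    by_contra hne
    have hw1 : (b * a)⁻¹ * (a * b) ≠ 1 := by
      intro h
      apply hne
      have : a * b = (b * a) * ((b * a)⁻¹ * (a * b)) := by group
      rw [this, h, mul_one]
    exact hg1 (Subtype.ext (fpf hC₂ hN₂ hw hw1 g.2 hcomm))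
  haveI : IsMulCommutative N₂ := IsCyclic.isMulCommutative
  haveI : IsMulCommutative C₂ := ⟨⟨fun a b => Subtype.ext (hab a a.2 b b.2)⟩⟩
  apply Cfsg.Agent.S0041.result C₂ N₂ (kernel_ne_bot hC₂ hN₂) _ (fpf_inf hC₂ hN₂) (Or.inl inferInstance)
  intro x _
  rw [Subgroup.mem_normalizer_iff]
  intro n
  exact ⟨fun hn => hN₂n.conj_mem n hn x, fun hn => by
    have := hN₂n.conj_mem _ hn x⁻¹
    simpa [mul_assoc] using this⟩

/-- an element whose order is divisible by `d` has a power of order `d` -/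
theorem exists_orderOf_eq_of_dvd {Y : Type*} [Group Y] {g : Y} {d : ℕ} (hd : d ∣ orderOf g)
    (h0 : orderOf g ≠ 0) : ∃ k : ℕ, orderOf (g ^ k) = d := by
  refine ⟨orderOf g / d, ?_⟩
  have hd0 : d ≠ 0 := by
    rintro rfl
    exact h0 (Nat.eq_zero_of_zero_dvd hd)
  have h1 : orderOf g / d ≠ 0 := by
    intro h
    rw [Nat.div_eq_zero_iff] at h
    rcases h with h | h
    · exact hd0 h
    · exact absurd (Nat.le_of_dvd (Nat.pos_of_ne_zero h0) hd) (not_le.mpr h)
  rw [orderOf_pow_of_dvd h1 (Nat.div_dvd_of_dvd hd), Nat.div_div_self hd h0]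

end Cfsg.Agent.Lib.Helper78.TwoFrob
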