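import Mathlib
import Cfsg.Agent.Lib.Helper78.TwoFrob2
import Cfsg.Agent.Lib.Helper78.CNBasics
import Cfsg.Agent.Lib.Helper78.CNSolv1
import Cfsg.Agent.Lib.Helper96.FrobeniusAction
import Cfsg.Agent.Lib.Helper96.Schmidt3

set_option autoImplicit false
set_option linter.style.haveILetI false
set_option linter.unusedSectionVars false

/-! Elements of mixed order `p * q` in an extension of a nilpotent group `H` by a Frobenius group
`G ⧸ H` whose kernel acts without fixed points on `H`. -/

namespace Cfsg.Agent.Lib.Helper78.TwoFrob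

open Cfsg
open scoped Pointwise

/-- In a finite nilpotent group whose order is divisible by `p` there is a central element of
order `p`. -/
theorem exists_central_orderOf_eq {Y : Type*} [Group Y] [Finite Y] [Group.IsNilpotent Y]
    {p : ℕ} [hp : Fact p.Prime] (hpY : p ∣ Nat.card Y) :
    ∃ z : Y, orderOf z = p ∧ ∀ y : Y, y * z = z * y := by
  obtain ⟨P⟩ : Nonempty (Sylow p Y) := inferInstance
  have hPn : (P : Subgroup Y).Normal := inferInstance
  have hPcard : Nat.card P = p ^ (Nat.card Y).factorization p := P.card_eq_multiplicity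
  have hfac : 1 ≤ (Nat.card Y).factorization p :=
    (hp.out.dvd_iff_one_le_factorization Nat.card_pos.ne').mp hpY
  haveI : Nontrivial P := by
    rw [← Finite.one_lt_card_iff_nontrivial, hPcard]
    exact Nat.one_lt_pow (by omega) hp.out.one_lt
  haveI hcn : Nontrivial (Subgroup.center P) := IsPGroup.center_nontrivial P.isPGroup'
  have hcp : IsPGroup p (Subgroup.center P) := P.isPGroup'.to_subgroup _
  have hdvd : p ∣ Nat.card (Subgroup.center P) := by
    obtain ⟨m, hm⟩ := IsPGroup.iff_card.mp hcp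
    have h1 : 1 < Nat.card (Subgroup.center P) := Finite.one_lt_card_iff_nontrivial.mpr hcn
    rw [hm] at h1 ⊢
    have hm0 : m ≠ 0 := by
      rintro rfl
      simp at h1
    exact dvd_pow_self p hm0
  obtain ⟨z₀, hz₀⟩ := exists_prime_orderOf_dvd_card' p hdvd
  have hzord : orderOf (((z₀ : P) : Y)) = p := by
    rw [Subgroup.orderOf_coe, Subgroup.orderOf_coe, hz₀]
  refine ⟨((z₀ : P) : Y), hzord, ?_⟩
  have hle : (⊤ : Subgroup Y) ≤ Subgroup.centralizer {((z₀ : P) : Y)} := by
    apply Cfsg.Agent.Lib.Helper78.le_of_prime_power_mem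
    intro x _ r k hr hx
    rw [Subgroup.mem_centralizer_singleton_iff]
    by_cases hrp : r = p
    · subst hrp
      have hxpow : x ^ r ^ k = 1 := by rw [← hx]; exact pow_orderOf_eq_one x
      have hxP : x ∈ (P : Subgroup Y) :=
        Cfsg.Agent.Lib.Helper96.mem_of_pow_eq_one_of_normal_sylow P hPn hxpow
      have := Subgroup.mem_center_iff.mp z₀.2 ⟨x, hxP⟩
      exact congrArg Subtype.val this
    · haveI : Fact r.Prime := ⟨hr⟩
      exact (Cfsg.Agent.Lib.Helper78.commute_of_nilpotent_of_prime_pow (N := Y) hrp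
        (k := k) (l := 1) hx (by rw [hzord, pow_one])).eq
  intro y
  have := hle (Subgroup.mem_top y)
  rwa [Subgroup.mem_centralizer_singleton_iff] at this

/-- the subgroup of central elements of `H` of order dividing `p` -/
def omegaCenter {G : Type*} [Group G] (H : Subgroup G) (p : ℕ) : Subgroup G where
  carrier := {x | x ∈ H ∧ (∀ h ∈ H, h * x = x * h) ∧ x ^ p = 1}
  one_mem' := ⟨H.one_mem, fun h _ => by group, one_pow p⟩
  mul_mem' := by
    rintro x y ⟨hx, hxc, hxp⟩ ⟨hy, hyc, hyp⟩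
    refine ⟨H.mul_mem hx hy, ?_, ?_⟩
    · intro h hh
      calc h * (x * y) = (h * x) * y := by group
        _ = (x * h) * y := by rw [hxc h hh]
        _ = x * (h * y) := by group
        _ = x * (y * h) := by rw [hyc h hh]
        _ = x * y * h := by group
    · have hcomm : Commute x y := (hxc y hy).symm
      rw [hcomm.mul_pow, hxp, hyp, one_mul]
  inv_mem' := by
    rintro x ⟨hx, hxc, hxp⟩
    refine ⟨H.inv_mem hx, ?_, ?_⟩
    · intro h hh
      have := hxc h hh
      calc h * x⁻¹ = x⁻¹ * (x * h) * x⁻¹ := by group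
        _ = x⁻¹ * (h * x) * x⁻¹ := by rw [this]
        _ = x⁻¹ * h := by group
    · rw [inv_pow, hxp, inv_one]

theorem mem_omegaCenter {G : Type*} [Group G] {H : Subgroup G} {p : ℕ} {x : G} :
    x ∈ omegaCenter H p ↔ x ∈ H ∧ (∀ h ∈ H, h * x = x * h) ∧ x ^ p = 1 := Iff.rfl

instance omegaCenter_normal {G : Type*} [Group G] (H : Subgroup G) [hH : H.Normal] (p : ℕ) :
    (omegaCenter H p).Normal := by
  constructor
  intro x hx g
  obtain ⟨hxH, hxc, hxp⟩ := hx
  refine ⟨hH.conj_mem x hxH g, ?_, ?_⟩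
  · intro h hh
    have h1 : g⁻¹ * h * g ∈ H := by
      have := hH.conj_mem h hh g⁻¹
      simpa using this
    have h2 := hxc _ h1
    calc h * (g * x * g⁻¹) = g * ((g⁻¹ * h * g) * x) * g⁻¹ := by group
      _ = g * (x * (g⁻¹ * h * g)) * g⁻¹ := by rw [h2]
      _ = g * x * g⁻¹ * h := by group
  · rw [conj_pow, hxp]; group

theorem omegaCenter_le {G : Type*} [Group G] (H : Subgroup G) (p : ℕ) : omegaCenter H p ≤ H :=
  fun _ hx => hx.1

theorem exists_orderOf_mul {G : Type*} [Group G] [Finite G] (H : Subgroup G) [hHn : H.Normal]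
    (hHnil : Group.IsNilpotent H) {C₂ N₂ : Subgroup (G ⧸ H)}
    (hC₂ : Cfsg.IsFrobeniusComplement C₂) (hN₂ : (N₂ : Set (G ⧸ H)) = Cfsg.frobeniusKernel C₂)
    (hcop : (Nat.card H).Coprime (Nat.card N₂))
    (hfix : ∀ a ∈ H, (∀ k : G, (QuotientGroup.mk' H k) ∈ N₂ → k * a = a * k) → a = 1)
    {p q : ℕ} (hp : p.Prime) (hq : q.Prime) (hpq : p ≠ q) (hpH : p ∣ Nat.card H)
    (hqC : q ∣ Nat.card C₂) : ∃ g : G, orderOf g = p * q := by
  classical
  haveI : Fact p.Prime := ⟨hp⟩
  haveI : Fact q.Prime := ⟨hq⟩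
  haveI := hHnil
  obtain ⟨z, hz, hzc⟩ := exists_central_orderOf_eq (Y := H) hpH
  set A : Subgroup G := omegaCenter H p with hA
  have hzA : (z : G) ∈ A := by
    refine ⟨z.2, ?_, ?_⟩
    · intro h hh
      exact congrArg Subtype.val (hzc ⟨h, hh⟩)
    · have : z ^ p = 1 := by rw [← hz]; exact pow_orderOf_eq_one z
      have := congrArg Subtype.val this
      simpa using this
  have hz1 : (z : G) ≠ 1 := by
    intro h
    have : z = 1 := Subtype.ext h
    rw [this, orderOf_one] at hz
    exact hp.one_lt.ne hz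
  letI : CommGroup A :=
    { (inferInstance : Group A) with
      mul_comm := fun a b => Subtype.ext (a.2.2.1 b b.2.1).symm }
  haveI : Fintype (G ⧸ H) := Fintype.ofFinite _
  have hker : H ≤ (MulAut.conjNormal (H := A)).ker := by
    intro h hh
    rw [MonoidHom.mem_ker]
    ext a
    rw [MulAut.conjNormal_apply, MulAut.one_apply]
    have := a.2.2.1 h hh
    calc h * (a : G) * h⁻¹ = ((a : G) * h) * h⁻¹ := by rw [this]
      _ = a := by group
  let c : (G ⧸ H) →* MulAut A := QuotientGroup.lift H (MulAut.conjNormal (H := A)) hker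
  have hc : ∀ (g : G) (a : A), ((c (QuotientGroup.mk' H g) a : A) : G) = g * a * g⁻¹ := by
    intro g a
    change (((QuotientGroup.lift H (MulAut.conjNormal (H := A)) hker) (g : G ⧸ H)) a : G) = _
    rw [QuotientGroup.lift_mk, MulAut.conjNormal_apply]
  have hcop' : (Nat.card A).Coprime (Nat.card N₂) :=
    Nat.Coprime.coprime_dvd_left (Subgroup.card_dvd_of_le (omegaCenter_le H p)) hcop
  have hfix' : ∀ a : A, (∀ n ∈ N₂, c n a = a) → a = 1 := by
    intro a ha
    apply Subtype.ext
    apply hfix a a.2.1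
    intro k hk
    have h1 := ha _ hk
    have h2 := hc k a
    rw [h1] at h2
    calc k * (a : G) = (k * a * k⁻¹) * k := by group
      _ = a * k := by rw [← h2]
  have hAne : ∃ a : A, a ≠ 1 := ⟨⟨z, hzA⟩, fun h => hz1 (congrArg Subtype.val h)⟩
  obtain ⟨a, ha1, hafix⟩ := Cfsg.Agent.Lib.Helper96.exists_fixed_of_frobenius c C₂ N₂ hC₂ hN₂
    hcop' hfix' hAne
  have haord : orderOf (a : G) = p := by
    apply orderOf_eq_prime a.2.2.2
    intro h
    exact ha1 (Subtype.ext h)
  obtain ⟨y, hy⟩ := exists_prime_orderOf_dvd_card' (G := C₂) q hqC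
  obtain ⟨g₀, hg₀⟩ := QuotientGroup.mk'_surjective H (y : G ⧸ H)
  have hcomm₀ : g₀ * (a : G) = a * g₀ := by
    have h1 := hafix _ y.2
    rw [← hg₀] at h1
    have h2 := hc g₀ a
    rw [h1] at h2
    calc g₀ * (a : G) = (g₀ * a * g₀⁻¹) * g₀ := by group
      _ = a * g₀ := by rw [← h2]
  have hdvd : q ∣ orderOf g₀ := by
    have h1 := orderOf_map_dvd (QuotientGroup.mk' H) g₀
    rw [hg₀, Subgroup.orderOf_coe, hy] at h1
    exact h1
  obtain ⟨k, hk⟩ := exists_orderOf_eq_of_dvd hdvd (orderOf_pos g₀).ne'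
  refine ⟨(a : G) * g₀ ^ k, ?_⟩
  have hcomm : Commute (a : G) (g₀ ^ k) := (Commute.pow_left hcomm₀ k).symm
  rw [hcomm.orderOf_mul_eq_mul_orderOf_of_coprime (by
    rw [haord, hk]; exact (Nat.coprime_primes hp hq).mpr hpq), haord, hk]

end Cfsg.Agent.Lib.Helper78.TwoFrob
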