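import Mathlib
import Cfsg.Agent.Lib.Helper78.TwoFrob3
import Cfsg.Agent.Lib.Helper19.FpfPrime

set_option autoImplicit false
set_option linter.style.haveILetI false
set_option linter.unusedSectionVars false

/-! Tools for the Gruenberg–Kegel theorem for solvable groups. -/

namespace Cfsg.Agent.Lib.Helper78.TwoFrob

open Cfsg
open scoped Pointwise

/-- no mixed edges, transported to a quotient -/
theorem no_edge {G Q : Type*} [Group G] [Finite G] [Group Q] (f : G →* Q)
    (hf : Function.Surjective f) {σ : Set ℕ}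
    (hno : ∀ a b : ℕ, a.Prime → b.Prime → a ∈ σ → b ∉ σ → ¬ ∃ g : G, orderOf g = a * b)
    {x y : Q} (hxy : x * y = y * x) (hx1 : x ≠ 1) (hy1 : y ≠ 1)
    (hx : ∀ p : ℕ, p.Prime → p ∣ orderOf x → p ∈ σ)
    (hy : ∀ p : ℕ, p.Prime → p ∣ orderOf y → p ∉ σ) : False := by
  haveI : Finite Q := Finite.of_surjective f hf
  have hox : orderOf x ≠ 1 := by rwa [Ne, orderOf_eq_one_iff]
  have hoy : orderOf y ≠ 1 := by rwa [Ne, orderOf_eq_one_iff]
  obtain ⟨a, ha, hax⟩ := Nat.exists_prime_and_dvd hox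
  obtain ⟨b, hb, hby⟩ := Nat.exists_prime_and_dvd hoy
  have haσ := hx a ha hax
  have hbσ := hy b hb hby
  obtain ⟨k, hk⟩ := exists_orderOf_eq_of_dvd hax (orderOf_pos x).ne'
  obtain ⟨l, hl⟩ := exists_orderOf_eq_of_dvd hby (orderOf_pos y).ne'
  have hab : a ≠ b := by
    rintro rfl
    exact hbσ haσ
  have hcomm : Commute (x ^ k) (y ^ l) := Commute.pow_pow hxy k l
  have hord : orderOf (x ^ k * y ^ l) = a * b := by
    rw [hcomm.orderOf_mul_eq_mul_orderOf_of_coprime (by
      rw [hk, hl]; exact (Nat.coprime_primes ha hb).mpr hab), hk, hl]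
  obtain ⟨z, hz⟩ := hf (x ^ k * y ^ l)
  have hdvd : a * b ∣ orderOf z := by
    have := orderOf_map_dvd f z
    rwa [hz, hord] at this
  obtain ⟨m, hm⟩ := exists_orderOf_eq_of_dvd hdvd (orderOf_pos z).ne'
  exact hno a b ha hb haσ hbσ ⟨z ^ m, hm⟩

/-- a normal `σ`-subgroup is nilpotent as soon as some element of prime order outside `σ`
exists (Thompson). -/
theorem nilpotent_of_normal_sigma {G : Type*} [Group G] [Finite G] {σ : Set ℕ}
    (hno : ∀ a b : ℕ, a.Prime → b.Prime → a ∈ σ → b ∉ σ → ¬ ∃ g : G, orderOf g = a * b)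
    (S : Subgroup G) [hSn : S.Normal] (hS : ∀ p : ℕ, p.Prime → p ∣ Nat.card S → p ∈ σ)
    {y : G} {b : ℕ} (hb : b.Prime) (hbσ : b ∉ σ) (hy : orderOf y = b) : Group.IsNilpotent S := by
  let φ : S ≃* S := MulAut.conjNormal y
  have hφ : ∀ n : S, ((φ n : S) : G) = y * n * y⁻¹ := fun n => MulAut.conjNormal_apply y n
  have hy1 : y ≠ 1 := by
    intro h; rw [h, orderOf_one] at hy; exact hb.one_lt.ne hy
  have hiter : ∀ (k : ℕ) (n : S), (((⇑φ)^[k] n : S) : G) = y ^ k * n * (y ^ k)⁻¹ := by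
    intro k
    induction k with
    | zero => intro n; simp
    | succ k ih =>
      intro n
      rw [Function.iterate_succ_apply', hφ, ih, pow_succ']
      group
  apply Cfsg.Agent.Lib.Helper19.thompson_fpf hb φ
  constructor
  · intro n hn
    by_contra hn1
    have h1 : y * (n : G) * y⁻¹ = n := by
      rw [← hφ, hn]
    have hcomm : (n : G) * y = y * n := by
      calc (n : G) * y = (y * (n : G) * y⁻¹) * y := by rw [h1]
        _ = y * n := by group
    refine no_edge (MonoidHom.id G) (fun x => ⟨x, rfl⟩) hno hcomm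
      (fun h => hn1 (Subtype.ext h)) hy1 ?_ ?_
    · intro p hp hpd
      apply hS p hp
      have : orderOf (n : G) ∣ Nat.card S := by
        rw [Subgroup.orderOf_coe]; exact orderOf_dvd_natCard n
      exact hpd.trans this
    · intro p hp hpd
      rw [hy] at hpd
      rw [(Nat.prime_dvd_prime_iff_eq hp hb).mp hpd]
      exact hbσ
  · intro n
    apply Subtype.ext
    rw [hiter, ← hy, pow_orderOf_eq_one]
    group

/-- commutators act trivially on a cyclic normal subgroup -/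
theorem commutator_centralizes_cyclic {X : Type*} [Group X] (N : Subgroup X) [hN : N.Normal]
    [hcyc : IsCyclic N] (a b : X) {n : X} (hn : n ∈ N) :
    (a * b * a⁻¹ * b⁻¹) * n = n * (a * b * a⁻¹ * b⁻¹) := by
  obtain ⟨g, hg⟩ := IsCyclic.exists_generator (α := N)
  have hcommAut : ∀ α β : MulAut N, α * β = β * α := by
    intro α β
    obtain ⟨i, hi⟩ := Subgroup.mem_zpowers_iff.mp (hg (α g))
    obtain ⟨j, hj⟩ := Subgroup.mem_zpowers_iff.mp (hg (β g))
    have e1 : α (β g) = β (α g) := by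
      rw [← hj, map_zpow, ← hi, map_zpow, ← hj, ← zpow_mul, ← zpow_mul, mul_comm]
    ext x
    obtain ⟨k, hk⟩ := Subgroup.mem_zpowers_iff.mp (hg x)
    rw [← hk]
    simp only [MulAut.mul_apply, map_zpow, e1]
  have h1 := hcommAut (MulAut.conjNormal (H := N) a) (MulAut.conjNormal (H := N) b)
  rw [← map_mul, ← map_mul] at h1
  have h2 := congrArg (fun f : MulAut N => ((f ⟨(b * a)⁻¹ * n * (b * a), by
    have := hN.conj_mem n hn (b * a)⁻¹
    simpa using this⟩ : N) : X)) h1
  simp only [MulAut.conjNormal_apply] at h2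
  -- h2 : a*b * ((b a)⁻¹ n (b a)) * (a b)⁻¹ = b a * ((b a)⁻¹ n (b a)) * (b a)⁻¹
  have h3 : (a * b) * ((b * a)⁻¹ * n * (b * a)) * (a * b)⁻¹ = n := by
    rw [h2]; group
  calc (a * b * a⁻¹ * b⁻¹) * n
      = ((a * b) * ((b * a)⁻¹ * n * (b * a)) * (a * b)⁻¹) * (a * b * a⁻¹ * b⁻¹) := by group
    _ = n * (a * b * a⁻¹ * b⁻¹) := by rw [h3]

variable {X₁ X₂ : Type*} [Group X₁] [Finite X₁] [Group X₂] [Finite X₂]
  {C₁ N₁ : Subgroup X₁}

/-- variant of `middle_odd`: only one fixed-point-free element is needed -/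
theorem middle_odd' (hC₁ : Cfsg.IsFrobeniusComplement C₁)
    (hN₁ : (N₁ : Set X₁) = Cfsg.frobeniusKernel C₁)
    (N₂ : Subgroup X₂) [hN₂n : N₂.Normal] (c : X₂) (hc : ∀ n ∈ N₂, c * n = n * c → n = 1)
    (φ : C₁ →* X₂) (hφ : Function.Injective φ) (hr : φ.range = N₂) : Odd (Nat.card C₁) := by
  by_contra hodd
  rw [Nat.not_odd_iff_even, even_iff_two_dvd] at hodd
  haveI : Fact (Nat.Prime 2) := ⟨Nat.prime_two⟩
  obtain ⟨s, hs⟩ := exists_prime_orderOf_dvd_card' (G := C₁) 2 hodd
  have hs1 : s ≠ 1 := by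
    intro h; rw [h, orderOf_one] at hs; omega
  have hs2 : s * s = 1 := by
    rw [← pow_two, ← hs]; exact pow_orderOf_eq_one s
  have hz : φ s ∈ N₂ := by rw [← hr]; exact ⟨s, rfl⟩
  have hz1 : φ s ≠ 1 := by
    intro h; apply hs1; apply hφ; rw [h, map_one]
  have hw : c * φ s * c⁻¹ ∈ N₂ := hN₂n.conj_mem _ hz c
  rw [← hr] at hw
  obtain ⟨s', hs'⟩ := hw
  have hs'2 : s' * s' = 1 := by
    apply hφ
    rw [map_mul, hs', map_one]
    have : φ s * φ s = 1 := by rw [← map_mul, hs2, map_one]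
    calc c * φ s * c⁻¹ * (c * φ s * c⁻¹) = c * (φ s * φ s) * c⁻¹ := by group
      _ = 1 := by rw [this]; group
  have hs'1 : s' ≠ 1 := by
    intro h
    rw [h, map_one] at hs'
    apply hz1
    have : φ s = c⁻¹ * (c * φ s * c⁻¹) * c := by group
    rw [this, ← hs']; group
  have heq : (s' : X₁) = (s : X₁) :=
    involution_unique hC₁ hN₁ s'.2 s.2 (fun h => hs'1 (Subtype.ext h))
      (fun h => hs1 (Subtype.ext h))
      (by have := congrArg (Subtype.val) hs'2; simpa using this)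
      (by have := congrArg (Subtype.val) hs2; simpa using this)
  have heq' : s' = s := Subtype.ext heq
  rw [heq'] at hs'
  have hcomm : c * φ s = φ s * c := by
    calc c * φ s = (c * φ s * c⁻¹) * c := by group
      _ = φ s * c := by rw [← hs']
  exact hz1 (hc _ hz hcomm)

theorem middle_cyclic' (hC₁ : Cfsg.IsFrobeniusComplement C₁)
    (hN₁ : (N₁ : Set X₁) = Cfsg.frobeniusKernel C₁)
    (N₂ : Subgroup X₂) [hN₂n : N₂.Normal] (hnil : Group.IsNilpotent N₂)
    (c : X₂) (hc : ∀ n ∈ N₂, c * n = n * c → n = 1)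
    (φ : C₁ →* X₂) (hφ : Function.Injective φ) (hr : φ.range = N₂) : IsCyclic C₁ := by
  have hnil₁ : Group.IsNilpotent C₁ := by
    haveI := hnil
    have hmem : ∀ x : C₁, φ x ∈ N₂ := fun x => by rw [← hr]; exact ⟨x, rfl⟩
    apply Subgroup.isNilpotent_of_ker_le_center (φ.codRestrict N₂ hmem)
    intro x hx
    rw [MonoidHom.mem_ker] at hx
    have h1 : φ x = 1 := by
      have := congrArg Subtype.val hx
      simpa using this
    have : x = 1 := hφ (by rw [h1, map_one])
    rw [this]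
    exact Subgroup.one_mem _
  have hodd := middle_odd' hC₁ hN₁ N₂ c hc φ hφ hr
  have h := Cfsg.Agent.Lib.Helper78.isCyclic_of_odd_of_sylow (X := C₁) hnil₁
    (fun q _ P => sylow_cyclic_or_quaternion hC₁ hN₁ q P) (⊤ : Subgroup C₁)
    (by rw [Subgroup.card_top]; exact hodd)
  haveI := h
  exact isCyclic_of_surjective (Subgroup.topEquiv (G := C₁)).toMonoidHom
    (Subgroup.topEquiv (G := C₁)).surjective

end Cfsg.Agent.Lib.Helper78.TwoFrob
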