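import Mathlib
import Cfsg.Agent.Lib.Helper3.TIFN
import Cfsg.Agent.Lib.Helper3.TIInd
import Cfsg.Agent.Lib.Helper3.Brauer
import Cfsg.Agent.Lib.Helper75.Twist

set_option autoImplicit false
set_option linter.style.haveILetI false
set_option linter.unusedSectionVars false

/-!
Local character theory of a T.I. subgroup `K` with Frobenius normalizer `N` in the presence of
coherence (`Helper3.CohCtx`): the class function `phi = (1_K)^N - χ₀` and its induction `rho`.
-/

namespace Cfsg.Agent.Lib.Helper78.CNChar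

open Cfsg Cfsg.Agent.Lib.Helper3
open scoped ComplexConjugate

section loc

variable {G : Type*} [Group G] [Fintype G] (K : Subgroup G)
  [Fintype ↥(Subgroup.normalizer (K : Set G))]

/-- The permutation character of `N = N_G(K)` on the cosets of `K`. -/
noncomputable def perm : ↥(Subgroup.normalizer (K : Set G)) → ℂ :=
  indFun (K.subgroupOf (Subgroup.normalizer (K : Set G))) (fun _ => (1 : ℂ))

/-- `(1_K)^N - χ`. -/
noncomputable def phi (χ : ↥(Subgroup.normalizer (K : Set G)) → ℂ) :
    ↥(Subgroup.normalizer (K : Set G)) → ℂ := perm K - χ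

/-- `((1_K)^N - χ)^G`. -/
noncomputable def rho (χ : ↥(Subgroup.normalizer (K : Set G)) → ℂ) : G → ℂ :=
  indFun (Subgroup.normalizer (K : Set G)) (phi K χ)

open Classical in
theorem perm_apply (x : ↥(Subgroup.normalizer (K : Set G))) :
    perm K x = if (x : G) ∈ K then
      ((K.subgroupOf (Subgroup.normalizer (K : Set G))).index : ℂ) else 0 := by
  haveI : (K.subgroupOf (Subgroup.normalizer (K : Set G))).Normal := Subgroup.normal_in_normalizer
  unfold perm
  rw [Cfsg.Agent.Lib.Helper75.indFun_const_one_apply]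
  simp only [Subgroup.mem_subgroupOf]

theorem perm_isCharacter : IsCharacter ↥(Subgroup.normalizer (K : Set G)) (perm K) :=
  isCharacter_indFun _ IsCharacter.one

theorem perm_of_mem {x : ↥(Subgroup.normalizer (K : Set G))} (hx : (x : G) ∈ K) :
    perm K x = ((K.subgroupOf (Subgroup.normalizer (K : Set G))).index : ℂ) := by
  classical
  rw [perm_apply, if_pos hx]

theorem perm_of_not_mem {x : ↥(Subgroup.normalizer (K : Set G))} (hx : (x : G) ∉ K) :
    perm K x = 0 := by
  classical
  rw [perm_apply, if_neg hx]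

/-- `⟨(1_K)^N, Z⟩ = ⟨1_K, Z|_K⟩`. -/
theorem classInner_perm_left [Fintype ↥(K.subgroupOf (Subgroup.normalizer (K : Set G)))]
    (Z : ↥(Subgroup.normalizer (K : Set G)) → ℂ)
    (hZ : IsClassFunction ↥(Subgroup.normalizer (K : Set G)) Z) :
    classInner (perm K) Z =
      (Nat.card ↥(K.subgroupOf (Subgroup.normalizer (K : Set G))) : ℂ)⁻¹ *
        ∑ k : ↥(K.subgroupOf (Subgroup.normalizer (K : Set G))), conj (Z k) := by
  unfold perm
  rw [Cfsg.Agent.Lib.Helper25.frobenius_reciprocity _ _ _ hZ]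
  unfold classInner
  congr 1
  apply Finset.sum_congr rfl
  intro k _
  rw [one_mul]

theorem classInner_perm_one :
    classInner (perm K) (fun _ : ↥(Subgroup.normalizer (K : Set G)) => (1 : ℂ)) = 1 := by
  haveI : Fintype ↥(K.subgroupOf (Subgroup.normalizer (K : Set G))) := Fintype.ofFinite _
  rw [classInner_perm_left K _ (fun _ _ => rfl)]
  simp only [map_one, Finset.sum_const, Finset.card_univ, nsmul_eq_mul, mul_one,
    Nat.card_eq_fintype_card]
  have : (Fintype.card ↥(K.subgroupOf (Subgroup.normalizer (K : Set G))) : ℂ) ≠ 0 := by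
    exact_mod_cast Fintype.card_ne_zero
  exact inv_mul_cancel₀ this

theorem classInner_perm_perm :
    classInner (perm K) (perm K) =
      ((K.subgroupOf (Subgroup.normalizer (K : Set G))).index : ℂ) := by
  haveI : Fintype ↥(K.subgroupOf (Subgroup.normalizer (K : Set G))) := Fintype.ofFinite _
  rw [classInner_perm_left K _ (IsCharacter.isClassFunction (perm_isCharacter K))]
  have h1 : ∀ k : ↥(K.subgroupOf (Subgroup.normalizer (K : Set G))),
      conj (perm K k) = ((K.subgroupOf (Subgroup.normalizer (K : Set G))).index : ℂ) := by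
    intro k
    rw [perm_of_mem K (Subgroup.mem_subgroupOf.mp k.2), Complex.conj_natCast]
  rw [Finset.sum_congr rfl (fun k _ => h1 k)]
  simp only [Finset.sum_const, Finset.card_univ, nsmul_eq_mul, Nat.card_eq_fintype_card]
  have : (Fintype.card ↥(K.subgroupOf (Subgroup.normalizer (K : Set G))) : ℂ) ≠ 0 := by
    exact_mod_cast Fintype.card_ne_zero
  field_simp

end loc

section ctx

variable {G : Type*} [Group G] [Fintype G] {K : Subgroup G}
  [Fintype ↥(Subgroup.normalizer (K : Set G))]
  {S : Set (↥(Subgroup.normalizer (K : Set G)) → ℂ)}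
  {star : (↥(Subgroup.normalizer (K : Set G)) → ℂ) → (G → ℂ)}

theorem classInner_perm_mem (c : CohCtx K S star)
    {χ : ↥(Subgroup.normalizer (K : Set G)) → ℂ} (hχ : χ ∈ S) :
    classInner (perm K) χ = 0 := by
  haveI : Fintype ↥(K.subgroupOf (Subgroup.normalizer (K : Set G))) := Fintype.ofFinite _
  haveI : (K.subgroupOf (Subgroup.normalizer (K : Set G))).Normal := Subgroup.normal_in_normalizer
  rw [classInner_perm_left K _ (IsCharacter.isClassFunction (IsIrrCharacter.isCharacter (c.irr hχ))),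
    ← map_sum, sum_eq_zero_of_relevant _ (c.irr hχ) (c.rel hχ), map_zero, mul_zero]

theorem classInner_mem_perm (c : CohCtx K S star)
    {χ : ↥(Subgroup.normalizer (K : Set G)) → ℂ} (hχ : χ ∈ S) :
    classInner χ (perm K) = 0 := by
  rw [classInner_conj_symm, classInner_perm_mem c hχ, map_zero]

theorem mem_ne_one (c : CohCtx K S star)
    {χ : ↥(Subgroup.normalizer (K : Set G)) → ℂ} (hχ : χ ∈ S) : χ ≠ (fun _ => (1 : ℂ)) := by
  intro h
  obtain ⟨k, _, hk⟩ := c.rel hχ
  apply hk
  rw [h]

theorem classInner_mem_one (c : CohCtx K S star)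
    {χ : ↥(Subgroup.normalizer (K : Set G)) → ℂ} (hχ : χ ∈ S) :
    classInner χ (fun _ : ↥(Subgroup.normalizer (K : Set G)) => (1 : ℂ)) = 0 := by
  rw [classInner_irr (c.irr hχ) isIrrCharacter_const_one, if_neg (mem_ne_one c hχ)]

theorem phi_vanish (c : CohCtx K S star)
    {χ : ↥(Subgroup.normalizer (K : Set G)) → ℂ} (hχ : χ ∈ S)
    (x : ↥(Subgroup.normalizer (K : Set G))) (hx : (x : G) ∉ K) : phi K χ x = 0 := by
  unfold phi
  rw [Pi.sub_apply, perm_of_not_mem K hx, c.vanish hχ x hx, sub_zero]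

theorem phi_one (_c : CohCtx K S star)
    {χ : ↥(Subgroup.normalizer (K : Set G)) → ℂ} (_hχ : χ ∈ S)
    (hdeg : χ 1 = ((K.subgroupOf (Subgroup.normalizer (K : Set G))).index : ℂ)) :
    phi K χ 1 = 0 := by
  unfold phi
  rw [Pi.sub_apply, perm_of_mem K (by simpa using K.one_mem), hdeg, sub_self]

theorem phi_genChar (c : CohCtx K S star)
    {χ : ↥(Subgroup.normalizer (K : Set G)) → ℂ} (hχ : χ ∈ S) :
    IsGeneralizedCharacter ↥(Subgroup.normalizer (K : Set G)) (phi K χ) :=
  ⟨perm K, χ, perm_isCharacter K, IsIrrCharacter.isCharacter (c.irr hχ), rfl⟩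

theorem phi_isClassFunction (c : CohCtx K S star)
    {χ : ↥(Subgroup.normalizer (K : Set G)) → ℂ} (hχ : χ ∈ S) :
    IsClassFunction ↥(Subgroup.normalizer (K : Set G)) (phi K χ) :=
  Cfsg.Agent.Lib.Helper25.IsGeneralizedCharacter.isClassFunction (phi_genChar c hχ)

theorem classInner_phi_one (c : CohCtx K S star)
    {χ : ↥(Subgroup.normalizer (K : Set G)) → ℂ} (hχ : χ ∈ S) :
    classInner (phi K χ) (fun _ : ↥(Subgroup.normalizer (K : Set G)) => (1 : ℂ)) = 1 := by
  unfold phi
  rw [classInner_sub_left, classInner_perm_one, classInner_mem_one c hχ, sub_zero]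

/-- A function on `N` that is constant `= C` on `K ∖ {1}` has inner product `C` with `phi`. -/
theorem classInner_const_phi (c : CohCtx K S star)
    {χ : ↥(Subgroup.normalizer (K : Set G)) → ℂ} (hχ : χ ∈ S)
    (hdeg : χ 1 = ((K.subgroupOf (Subgroup.normalizer (K : Set G))).index : ℂ))
    (Z : ↥(Subgroup.normalizer (K : Set G)) → ℂ) (C : ℂ)
    (hZ : ∀ x : ↥(Subgroup.normalizer (K : Set G)), (x : G) ∈ K → x ≠ 1 → Z x = C) :
    classInner Z (phi K χ) = C := by
  have h1 : classInner Z (phi K χ) =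
      C * conj (classInner (phi K χ) (fun _ : ↥(Subgroup.normalizer (K : Set G)) => (1 : ℂ))) := by
    unfold classInner
    have e1 : ∀ x : ↥(Subgroup.normalizer (K : Set G)),
        Z x * conj (phi K χ x) = C * conj (phi K χ x) := by
      intro x
      by_cases hx : (x : G) ∈ K
      · by_cases hx1 : x = 1
        · rw [hx1, phi_one c hχ hdeg]; simp
        · rw [hZ x hx hx1]
      · rw [phi_vanish c hχ x hx]; simp
    rw [Finset.sum_congr rfl (fun x _ => e1 x), ← Finset.mul_sum]
    simp only [map_one, mul_one, map_mul, map_inv₀, Complex.conj_natCast, map_sum]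
    ring
  rw [h1, classInner_phi_one c hχ, map_one, mul_one]

theorem classInner_phi_phi (c : CohCtx K S star)
    {χ : ↥(Subgroup.normalizer (K : Set G)) → ℂ} (hχ : χ ∈ S) :
    classInner (phi K χ) (phi K χ) =
      ((K.subgroupOf (Subgroup.normalizer (K : Set G))).index : ℂ) + 1 := by
  unfold phi
  rw [classInner_sub_left, classInner_sub_right, classInner_sub_right, classInner_perm_perm,
    classInner_perm_mem c hχ, classInner_mem_perm c hχ, classInner_irr (c.irr hχ) (c.irr hχ),
    if_pos rfl]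
  ring

theorem classInner_mem_phi (c : CohCtx K S star)
    {χ χ₀ : ↥(Subgroup.normalizer (K : Set G)) → ℂ} (hχ : χ ∈ S) (hχ₀ : χ₀ ∈ S) :
    classInner χ (phi K χ₀) = -(if χ = χ₀ then 1 else 0) := by
  unfold phi
  rw [classInner_sub_right, classInner_mem_perm c hχ, classInner_irr (c.irr hχ) (c.irr hχ₀)]
  ring

/-! ### The induced class function `rho` -/

theorem rho_genChar (c : CohCtx K S star)
    {χ : ↥(Subgroup.normalizer (K : Set G)) → ℂ} (hχ : χ ∈ S) :
    IsGeneralizedCharacter G (rho K χ) :=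
  IsGeneralizedCharacter.indFun _ (phi_genChar c hχ)

theorem rho_isClassFunction (χ : ↥(Subgroup.normalizer (K : Set G)) → ℂ) :
    IsClassFunction G (rho K χ) :=
  Cfsg.Agent.Lib.Helper25.indFun_isClassFunction _ _

theorem classInner_rho_right (χ : ↥(Subgroup.normalizer (K : Set G)) → ℂ)
    (Y : G → ℂ) (hY : IsClassFunction G Y) :
    classInner Y (rho K χ) =
      classInner (fun x : ↥(Subgroup.normalizer (K : Set G)) => Y x) (phi K χ) :=
  Cfsg.Agent.Lib.Helper25.frobenius_reciprocity' _ _ _ hY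

theorem rho_restrict (c : CohCtx K S star)
    {χ : ↥(Subgroup.normalizer (K : Set G)) → ℂ} (hχ : χ ∈ S)
    (hdeg : χ 1 = ((K.subgroupOf (Subgroup.normalizer (K : Set G))).index : ℂ))
    (x : ↥(Subgroup.normalizer (K : Set G))) : rho K χ x = phi K χ x :=
  (Cfsg.Agent.S0850.result K c.hTI c.hlt c.hC).2 _ (phi_isClassFunction c hχ)
    (phi_vanish c hχ) (phi_one c hχ hdeg) x

theorem classInner_rho_rho (c : CohCtx K S star)
    {χ : ↥(Subgroup.normalizer (K : Set G)) → ℂ} (hχ : χ ∈ S)
    (hdeg : χ 1 = ((K.subgroupOf (Subgroup.normalizer (K : Set G))).index : ℂ)) :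
    classInner (rho K χ) (rho K χ) =
      ((K.subgroupOf (Subgroup.normalizer (K : Set G))).index : ℂ) + 1 := by
  rw [classInner_rho_right χ _ (rho_isClassFunction χ)]
  have : (fun x : ↥(Subgroup.normalizer (K : Set G)) => rho K χ x) = phi K χ :=
    funext (rho_restrict c hχ hdeg)
  rw [this, classInner_phi_phi c hχ]

/-- A class function of `G` that is constant `= C` on `K ∖ {1}` has inner product `C` with `rho`. -/
theorem classInner_const_rho (c : CohCtx K S star)
    {χ : ↥(Subgroup.normalizer (K : Set G)) → ℂ} (hχ : χ ∈ S)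
    (hdeg : χ 1 = ((K.subgroupOf (Subgroup.normalizer (K : Set G))).index : ℂ))
    (Y : G → ℂ) (hY : IsClassFunction G Y) (C : ℂ)
    (hC : ∀ k ∈ K, k ≠ 1 → Y k = C) :
    classInner Y (rho K χ) = C := by
  rw [classInner_rho_right χ Y hY]
  apply classInner_const_phi c hχ hdeg
  intro x hx hx1
  exact hC (x : G) hx (fun h => hx1 (Subtype.ext h))

theorem classInner_one_rho (c : CohCtx K S star)
    {χ : ↥(Subgroup.normalizer (K : Set G)) → ℂ} (hχ : χ ∈ S)
    (hdeg : χ 1 = ((K.subgroupOf (Subgroup.normalizer (K : Set G))).index : ℂ)) :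
    classInner (fun _ : G => (1 : ℂ)) (rho K χ) = 1 :=
  classInner_const_rho c hχ hdeg _ (fun _ _ => rfl) 1 (fun _ _ _ => rfl)

/-- The inner product of `star χ` with `rho χ₀`. -/
theorem classInner_star_rho (c : CohCtx K S star) (m : ℤ)
    (hm : ∀ χ ∈ S, ∀ k : ↥(Subgroup.normalizer (K : Set G)), (k : G) ∈ K → k ≠ 1 →
      star χ k - χ k = (m : ℂ) * χ 1 /
        ((K.subgroupOf (Subgroup.normalizer (K : Set G))).index : ℂ))
    {χ χ₀ : ↥(Subgroup.normalizer (K : Set G)) → ℂ} (hχ : χ ∈ S) (hχ₀ : χ₀ ∈ S)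
    (hdeg : χ₀ 1 = ((K.subgroupOf (Subgroup.normalizer (K : Set G))).index : ℂ)) :
    classInner (star χ) (rho K χ₀) =
      (m : ℂ) * χ 1 / ((K.subgroupOf (Subgroup.normalizer (K : Set G))).index : ℂ)
        - (if χ = χ₀ then 1 else 0) := by
  rw [classInner_rho_right χ₀ _ (c.star_isClassFunction hχ)]
  have hsplit : (fun x : ↥(Subgroup.normalizer (K : Set G)) => star χ x) =
      ((fun x : ↥(Subgroup.normalizer (K : Set G)) => star χ x) - χ) + χ := by
    funext x; simp
  rw [hsplit, classInner_add_left, classInner_mem_phi c hχ hχ₀,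
    classInner_const_phi c hχ₀ hdeg _ _ (fun x hx hx1 => by
      simpa using hm χ hχ x hx hx1)]
  ring

end ctx

end Cfsg.Agent.Lib.Helper78.CNChar
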