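import Mathlib
import Cfsg.Agent.Lib.Helper78.CNChar1

set_option autoImplicit false
set_option linter.style.haveILetI false
set_option linter.unusedSectionVars false

/-!
A family of T.I. subgroups with Frobenius normalizers whose conjugates cover `G ∖ {1}`:
partition of unity by induced indicator functions and the resulting formula for sums over `G`.
-/

namespace Cfsg.Agent.Lib.Helper78.CNChar

open Cfsg Cfsg.Agent.Lib.Helper3
open scoped ComplexConjugate

section single

variable {G : Type*} [Group G] [Fintype G] (K : Subgroup G)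
  [Fintype ↥(Subgroup.normalizer (K : Set G))]

open Classical in
/-- The indicator function of `K ∖ {1}` on `N_G(K)`. -/
noncomputable def delta : ↥(Subgroup.normalizer (K : Set G)) → ℂ :=
  fun x => if (x : G) ∈ K ∧ x ≠ 1 then 1 else 0

/-- The set of nonidentity elements of `G` conjugate to an element of `K`. -/
def conjSet : Set G := {g | g ≠ 1 ∧ ∃ y : G, y * g * y⁻¹ ∈ K}

theorem delta_of_mem {x : ↥(Subgroup.normalizer (K : Set G))} (hx : (x : G) ∈ K) (hx1 : x ≠ 1) :
    delta K x = 1 := by
  classical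
  unfold delta
  rw [if_pos ⟨hx, hx1⟩]

theorem delta_of_not_mem {x : ↥(Subgroup.normalizer (K : Set G))} (hx : (x : G) ∉ K) :
    delta K x = 0 := by
  classical
  unfold delta
  rw [if_neg (fun h => hx h.1)]

theorem delta_one : delta K 1 = 0 := by
  classical
  unfold delta
  rw [if_neg (fun h => h.2 rfl)]

theorem delta_isClassFunction : IsClassFunction ↥(Subgroup.normalizer (K : Set G)) (delta K) := by
  classical
  intro x h
  have h1 : ((h * x * h⁻¹ : ↥(Subgroup.normalizer (K : Set G))) : G) ∈ K ↔ (x : G) ∈ K := by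
    have := (Subgroup.mem_normalizer_iff.mp h.2) (x : G)
    rw [this]
    simp
  have h2 : h * x * h⁻¹ ≠ 1 ↔ x ≠ 1 := by
    constructor
    · intro hne hx; apply hne; rw [hx]; group
    · intro hne hx; apply hne
      have : x = h⁻¹ * (h * x * h⁻¹) * h := by group
      rw [this, hx]; group
  unfold delta
  simp only [h1, h2]

/-- The function induced from `delta` is the indicator function of `conjSet`. -/
theorem indDelta_apply
    (hTI : ∀ g : G, g ∉ Subgroup.normalizer (K : Set G) → ∀ k ∈ K, g * k * g⁻¹ ∈ K → k = 1)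
    (hlt : K < Subgroup.normalizer (K : Set G))
    (hC : ∀ k ∈ K, k ≠ 1 → Subgroup.centralizer ({k} : Set G) ≤ K) (g : G) :
    indFun (Subgroup.normalizer (K : Set G)) (delta K) g =
      (open Classical in if g ∈ conjSet K then 1 else 0) := by
  classical
  by_cases hg : g ∈ conjSet K
  · rw [if_pos hg]
    obtain ⟨hg1, y, hy⟩ := hg
    have hcl := Cfsg.Agent.Lib.Helper25.indFun_isClassFunction
      (Subgroup.normalizer (K : Set G)) (delta K)
    rw [← hcl g y]
    have hyN : y * g * y⁻¹ ∈ Subgroup.normalizer (K : Set G) := Subgroup.le_normalizer hy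
    have h1 := (Cfsg.Agent.S0850.result K hTI hlt hC).2 (delta K) (delta_isClassFunction K)
      (fun x hx => delta_of_not_mem K hx) (delta_one K) ⟨y * g * y⁻¹, hyN⟩
    rw [h1]
    apply delta_of_mem K hy
    intro h
    apply hg1
    have h2 : y * g * y⁻¹ = 1 := congrArg Subtype.val h
    have : g = y⁻¹ * (y * g * y⁻¹) * y := by group
    rw [this, h2]; group
  · rw [if_neg hg]
    apply indFun_eq_zero_of_forall_not_mem _ {k | k ∈ K ∧ k ≠ 1}
    · intro x hx
      by_cases hxK : (x : G) ∈ K
      · have : x = 1 := by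
          by_contra hx1
          exact hx ⟨hxK, fun h => hx1 (Subtype.ext h)⟩
        rw [this, delta_one]
      · exact delta_of_not_mem K hxK
    · intro y hy
      apply hg
      refine ⟨?_, y⁻¹, by simpa using hy.1⟩
      intro h1
      apply hy.2
      rw [h1]; group

/-- Sums against the induced indicator function. -/
theorem sum_indDelta_mul (F : G → ℂ) (hF : IsClassFunction G F) :
    ∑ g : G, indFun (Subgroup.normalizer (K : Set G)) (delta K) g * F g =
      (Nat.card G : ℂ) * (Nat.card ↥(Subgroup.normalizer (K : Set G)) : ℂ)⁻¹ *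
        ∑ x : ↥(Subgroup.normalizer (K : Set G)), delta K x * F x := by
  have hF' : IsClassFunction G (fun g => conj (F g)) := by
    intro g h
    simp only [hF g h]
  have h1 := Cfsg.Agent.Lib.Helper25.frobenius_reciprocity (Subgroup.normalizer (K : Set G))
    (delta K) (fun g => conj (F g)) hF'
  unfold classInner at h1
  simp only [Complex.conj_conj] at h1
  have hG : (Nat.card G : ℂ) ≠ 0 := by exact_mod_cast Nat.card_pos.ne'
  rw [mul_assoc, ← h1, ← mul_assoc, mul_inv_cancel₀ hG, one_mul]

end single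

section family

variable {G : Type*} [Group G] [Fintype G] {ι : Type*} [Fintype ι]
  (K : ι → Subgroup G) [∀ i, Fintype ↥(Subgroup.normalizer (K i : Set G))]

theorem not_conj_mem_of_coprime
    (hcop : ∀ i j, i ≠ j → Nat.Coprime (Nat.card (K i)) (Nat.card (K j)))
    {i j : ι} (hij : i ≠ j) {k : G} (hk : k ∈ K i) (hk1 : k ≠ 1) (y : G) :
    y * k * y⁻¹ ∉ K j := by
  intro hj
  have h1 : orderOf k ∣ Nat.card (K i) := Subgroup.orderOf_dvd_natCard _ hk
  have h2 : orderOf (y * k * y⁻¹) ∣ Nat.card (K j) := Subgroup.orderOf_dvd_natCard _ hj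
  have h3 : orderOf (y * k * y⁻¹) = orderOf k := by
    have := (MulAut.conj y).orderOf_eq k
    rwa [MulAut.conj_apply] at this
  rw [h3] at h2
  have h4 : orderOf k ∣ 1 := by
    have := Nat.dvd_gcd h1 h2
    rwa [(hcop i j hij)] at this
  exact hk1 (orderOf_eq_one_iff.mp (Nat.dvd_one.mp h4))

theorem conjSet_disjoint
    (hcop : ∀ i j, i ≠ j → Nat.Coprime (Nat.card (K i)) (Nat.card (K j)))
    {i j : ι} (hij : i ≠ j) {g : G} (hi : g ∈ conjSet (K i)) (hj : g ∈ conjSet (K j)) : False := by
  obtain ⟨hg1, y, hy⟩ := hi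
  obtain ⟨_, z, hz⟩ := hj
  have hk1 : y * g * y⁻¹ ≠ 1 := by
    intro h
    apply hg1
    have : g = y⁻¹ * (y * g * y⁻¹) * y := by group
    rw [this, h]; group
  apply not_conj_mem_of_coprime K hcop hij hy hk1 (z * y⁻¹)
  have : z * y⁻¹ * (y * g * y⁻¹) * (z * y⁻¹)⁻¹ = z * g * z⁻¹ := by group
  rw [this]
  exact hz

/-- Partition of unity. -/
theorem partition_unity
    (hTI : ∀ i, ∀ g : G, g ∉ Subgroup.normalizer (K i : Set G) → ∀ k ∈ K i,
      g * k * g⁻¹ ∈ K i → k = 1)
    (hlt : ∀ i, K i < Subgroup.normalizer (K i : Set G))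
    (hC : ∀ i, ∀ k ∈ K i, k ≠ 1 → Subgroup.centralizer ({k} : Set G) ≤ K i)
    (hcop : ∀ i j, i ≠ j → Nat.Coprime (Nat.card (K i)) (Nat.card (K j)))
    (hcover : ∀ g : G, g ≠ 1 → ∃ i, ∃ x : G, x * g * x⁻¹ ∈ K i) (g : G) :
    (open Classical in if g = 1 then (1 : ℂ) else 0) +
      ∑ i, indFun (Subgroup.normalizer (K i : Set G)) (delta (K i)) g = 1 := by
  classical
  have h1 : ∀ i, indFun (Subgroup.normalizer (K i : Set G)) (delta (K i)) g =
      if g ∈ conjSet (K i) then 1 else 0 := by
    intro i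
    rw [indDelta_apply (K i) (hTI i) (hlt i) (hC i) g]
  rw [Finset.sum_congr rfl (fun i _ => h1 i)]
  by_cases hg : g = 1
  · rw [if_pos hg, Finset.sum_eq_zero, add_zero]
    intro i _
    rw [if_neg]
    intro h
    exact h.1 hg
  · rw [if_neg hg, zero_add]
    obtain ⟨i₀, x, hx⟩ := hcover g hg
    rw [Finset.sum_eq_single i₀]
    · rw [if_pos ⟨hg, x, hx⟩]
    · intro j _ hj
      rw [if_neg]
      intro h
      exact conjSet_disjoint K hcop hj h ⟨hg, x, hx⟩
    · intro h; exact absurd (Finset.mem_univ _) h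

/-- The formula for sums over the group. -/
theorem sum_eq_of_cover
    (hTI : ∀ i, ∀ g : G, g ∉ Subgroup.normalizer (K i : Set G) → ∀ k ∈ K i,
      g * k * g⁻¹ ∈ K i → k = 1)
    (hlt : ∀ i, K i < Subgroup.normalizer (K i : Set G))
    (hC : ∀ i, ∀ k ∈ K i, k ≠ 1 → Subgroup.centralizer ({k} : Set G) ≤ K i)
    (hcop : ∀ i j, i ≠ j → Nat.Coprime (Nat.card (K i)) (Nat.card (K j)))
    (hcover : ∀ g : G, g ≠ 1 → ∃ i, ∃ x : G, x * g * x⁻¹ ∈ K i)
    (F : G → ℂ) (hF : IsClassFunction G F) :
    ∑ g : G, F g = F 1 + ∑ i, (Nat.card G : ℂ) *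
      (Nat.card ↥(Subgroup.normalizer (K i : Set G)) : ℂ)⁻¹ *
        ∑ x : ↥(Subgroup.normalizer (K i : Set G)), delta (K i) x * F x := by
  classical
  have h1 : ∀ g : G, F g = (if g = 1 then (1 : ℂ) else 0) * F g +
      ∑ i, indFun (Subgroup.normalizer (K i : Set G)) (delta (K i)) g * F g := by
    intro g
    rw [← Finset.sum_mul, ← add_mul]
    have := partition_unity K hTI hlt hC hcop hcover g
    rw [show (if g = 1 then (1 : ℂ) else 0) +
      ∑ i, indFun (Subgroup.normalizer (K i : Set G)) (delta (K i)) g = 1 by convert this,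
      one_mul]
  calc ∑ g : G, F g = ∑ g : G, ((if g = 1 then (1 : ℂ) else 0) * F g +
      ∑ i, indFun (Subgroup.normalizer (K i : Set G)) (delta (K i)) g * F g) :=
        Finset.sum_congr rfl (fun g _ => h1 g)
    _ = F 1 + ∑ i, ∑ g : G, indFun (Subgroup.normalizer (K i : Set G)) (delta (K i)) g * F g := by
        rw [Finset.sum_add_distrib, Finset.sum_comm]
        congr 1
        simp
    _ = _ := by
        congr 1
        apply Finset.sum_congr rfl
        intro i _
        exact sum_indDelta_mul (K i) F hF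

end family

end Cfsg.Agent.Lib.Helper78.CNChar
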