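import Mathlib
import Cfsg.Agent.Lib.Helper78.CNChar2
import Cfsg.Agent.Lib.Helper3.CohUnion
import Cfsg.Agent.Lib.Helper3.OddOrder

set_option autoImplicit false
set_option linter.style.haveILetI false
set_option linter.unusedSectionVars false

/-!
A family of coherent T.I. subgroups with Frobenius normalizers and pairwise coprime orders covering
`G ∖ {1}` in a group of odd order: orthogonality of the exceptional characters of different members.
-/

namespace Cfsg.Agent.Lib.Helper78.CNChar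

open Cfsg Cfsg.Agent.Lib.Helper3
open scoped ComplexConjugate

variable {G : Type*} [Group G] [Fintype G] {ι : Type*} [Fintype ι]
  {K : ι → Subgroup G} [∀ i, Fintype ↥(Subgroup.normalizer (K i : Set G))]
  {S : ∀ i, Set (↥(Subgroup.normalizer (K i : Set G)) → ℂ)}
  {star : ∀ i, (↥(Subgroup.normalizer (K i : Set G)) → ℂ) → (G → ℂ)}
  {χ₀ : ∀ i, ↥(Subgroup.normalizer (K i : Set G)) → ℂ}

/-- The hypotheses on the family. -/
structure Fam (K : ι → Subgroup G) [∀ i, Fintype ↥(Subgroup.normalizer (K i : Set G))]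
    (S : ∀ i, Set (↥(Subgroup.normalizer (K i : Set G)) → ℂ))
    (star : ∀ i, (↥(Subgroup.normalizer (K i : Set G)) → ℂ) → (G → ℂ))
    (χ₀ : ∀ i, ↥(Subgroup.normalizer (K i : Set G)) → ℂ) : Prop where
  ctx : ∀ i, CohCtx (K i) (S i) (star i)
  odd : Odd (Nat.card G)
  cop : ∀ i j, i ≠ j → Nat.Coprime (Nat.card (K i)) (Nat.card (K j))
  cover : ∀ g : G, g ≠ 1 → ∃ i, ∃ x : G, x * g * x⁻¹ ∈ K i
  mem : ∀ i, χ₀ i ∈ S i
  deg : ∀ i, χ₀ i 1 = (((K i).subgroupOf (Subgroup.normalizer (K i : Set G))).index : ℂ)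

namespace Fam

variable (F : Fam K S star χ₀)
include F

theorem odd_normalizer (i : ι) : Odd (Nat.card ↥(Subgroup.normalizer (K i : Set G))) :=
  Odd.of_dvd_nat F.odd (Subgroup.card_subgroup_dvd_card _)

/-- Every member of `S i` has a companion different from it (its complex conjugate). -/
theorem exists_ne (i : ι) {χ : ↥(Subgroup.normalizer (K i : Set G)) → ℂ} (hχ : χ ∈ S i) :
    ∃ χ' ∈ S i, χ' ≠ χ := by
  have c := F.ctx i
  have hirr := c.irr hχ
  refine ⟨fun g => conj (χ g), ?_, ?_⟩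
  · apply c.mem_of_irr_rel (IsIrrCharacter.conj hirr)
    obtain ⟨k, hk, hne⟩ := c.rel hχ
    refine ⟨k, hk, ?_⟩
    intro h
    apply hne
    have := congrArg conj h
    simpa using this
  · intro h
    apply mem_ne_one c hχ
    apply eq_one_of_real_of_odd (F.odd_normalizer i) hirr
    intro g
    have := congrFun h g
    exact Complex.conj_eq_iff_im.mp this

theorem star_norm (i : ι) {χ : ↥(Subgroup.normalizer (K i : Set G)) → ℂ} (hχ : χ ∈ S i) :
    classInner (star i χ) (star i χ) = 1 := by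
  have c := F.ctx i
  have hχz : χ ∈ zspan (S i) := Submodule.subset_span hχ
  rw [c.hstar.2.2.1 χ hχz χ hχz, classInner_irr (c.irr hχ) (c.irr hχ), if_pos rfl]

theorem star_genChar (i : ι) {χ : ↥(Subgroup.normalizer (K i : Set G)) → ℂ} (hχ : χ ∈ S i) :
    IsGeneralizedCharacter G (star i χ) :=
  (F.ctx i).hstar.2.2.2 χ (Submodule.subset_span hχ)

theorem star_inner (i : ι) {χ χ' : ↥(Subgroup.normalizer (K i : Set G)) → ℂ} (hχ : χ ∈ S i)
    (hχ' : χ' ∈ S i) :
    classInner (star i χ) (star i χ') = if χ = χ' then 1 else 0 := by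
  have c := F.ctx i
  rw [c.hstar.2.2.1 χ (Submodule.subset_span hχ) χ' (Submodule.subset_span hχ'),
    classInner_irr (c.irr hχ) (c.irr hχ')]

/-- Functions induced from different members of the family, supported on `K i ∖ {1}` and
`K k ∖ {1}`, are orthogonal. -/
theorem classInner_ind_ind {i k : ι} (hik : i ≠ k)
    (α : ↥(Subgroup.normalizer (K i : Set G)) → ℂ)
    (hα : ∀ x : ↥(Subgroup.normalizer (K i : Set G)), (x : G) ∉ K i → α x = 0) (hα1 : α 1 = 0)
    (β : ↥(Subgroup.normalizer (K k : Set G)) → ℂ)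
    (hβ : ∀ x : ↥(Subgroup.normalizer (K k : Set G)), (x : G) ∉ K k → β x = 0) (hβ1 : β 1 = 0) :
    classInner (indFun (Subgroup.normalizer (K i : Set G)) α)
      (indFun (Subgroup.normalizer (K k : Set G)) β) = 0 := by
  rw [Cfsg.Agent.Lib.Helper25.frobenius_reciprocity _ _ _
    (Cfsg.Agent.Lib.Helper25.indFun_isClassFunction _ _)]
  unfold classInner
  rw [Finset.sum_eq_zero, mul_zero]
  intro x _
  by_cases hx : (x : G) ∈ K i
  · by_cases hx1 : x = 1
    · rw [hx1, hα1, zero_mul]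
    · have h0 : indFun (Subgroup.normalizer (K k : Set G)) β (x : G) = 0 := by
        apply indFun_eq_zero_of_forall_not_mem _ {y | y ∈ K k ∧ y ≠ 1}
        · intro y hy
          by_cases hyK : (y : G) ∈ K k
          · have : y = 1 := by
              by_contra hy1
              exact hy ⟨hyK, fun h => hy1 (Subtype.ext h)⟩
            rw [this, hβ1]
          · exact hβ y hyK
        · intro y hy
          have := not_conj_mem_of_coprime K F.cop hik hx
            (fun h => hx1 (Subtype.ext h)) y⁻¹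
          apply this
          simpa using hy.1
      show α x * conj (indFun (Subgroup.normalizer (K k : Set G)) β (x : G)) = 0
      rw [h0, map_zero, mul_zero]
  · rw [hα x hx, zero_mul]

theorem crossComb_vanish (i : ι) {χ ξ : ↥(Subgroup.normalizer (K i : Set G)) → ℂ}
    (hχ : χ ∈ S i) (hξ : ξ ∈ S i) (a b : ℕ)
    (x : ↥(Subgroup.normalizer (K i : Set G))) (hx : (x : G) ∉ K i) :
    crossComb a b χ ξ x = 0 := by
  rw [crossComb_apply, (F.ctx i).vanish hχ x hx, (F.ctx i).vanish hξ x hx]; ring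

omit F in
theorem crossComb_one {X : Type*} [One X] {χ ξ : X → ℂ} (a b : ℕ) (ha : χ 1 = (a : ℂ))
    (hb : ξ 1 = (b : ℂ)) : crossComb a b χ ξ 1 = 0 := by
  rw [crossComb_apply, ha, hb]; ring

/-- The degree relation coming from a cross combination. -/
theorem star_degree_rel (i : ι) {χ ξ : ↥(Subgroup.normalizer (K i : Set G)) → ℂ}
    (hχ : χ ∈ S i) (hξ : ξ ∈ S i) (a b : ℕ) (ha : χ 1 = (a : ℂ)) (hb : ξ 1 = (b : ℂ)) :
    (b : ℂ) * star i χ 1 - (a : ℂ) * star i ξ 1 = 0 := by
  obtain ⟨_, hlin, hind, _⟩ := (F.ctx i).cross hχ hξ a b ha hb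
  have h1 : star i (crossComb a b χ ξ) 1 = 0 := by
    rw [hind, Cfsg.Agent.Lib.Helper75.indFun_apply_one, crossComb_one a b ha hb, mul_zero]
  rw [hlin, Pi.add_apply, Pi.smul_apply, Pi.smul_apply] at h1
  simp only [zsmul_eq_mul, Int.cast_natCast, Int.cast_neg] at h1
  linear_combination h1

/-- Exceptional characters belonging to different members of the family are orthogonal. -/
theorem cross_orth {i k : ι} (hik : i ≠ k)
    {χ : ↥(Subgroup.normalizer (K i : Set G)) → ℂ} (hχ : χ ∈ S i)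
    {ξ : ↥(Subgroup.normalizer (K k : Set G)) → ℂ} (hξ : ξ ∈ S k) :
    classInner (star i χ) (star k ξ) = 0 := by
  by_contra hne
  have ci := F.ctx i
  have ck := F.ctx k
  obtain ⟨hP1, hor⟩ := norm_one_pair (F.star_genChar i hχ) (F.star_genChar k hξ)
    (F.star_norm i hχ) (F.star_norm k hξ)
  rcases hor with h0 | ⟨ε, hε, hQ, hPQ⟩
  · exact hne h0
  obtain ⟨χ', hχ', hχne⟩ := F.exists_ne i hχ
  obtain ⟨ξ', hξ', hξne⟩ := F.exists_ne k hξ
  obtain ⟨a, ha0, ha⟩ := Cfsg.Agent.Lib.Helper25.irr_degree (ci.irr hχ)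
  obtain ⟨a', ha'0, ha'⟩ := Cfsg.Agent.Lib.Helper25.irr_degree (ci.irr hχ')
  obtain ⟨b, hb0, hb⟩ := Cfsg.Agent.Lib.Helper25.irr_degree (ck.irr hξ)
  obtain ⟨b', hb'0, hb'⟩ := Cfsg.Agent.Lib.Helper25.irr_degree (ck.irr hξ')
  obtain ⟨_, hlin1, hind1, _⟩ := ci.cross hχ hχ' a a' ha ha'
  obtain ⟨_, hlin2, hind2, _⟩ := ck.cross hξ hξ' b b' hb hb'
  have horth : classInner (star i (crossComb a a' χ χ')) (star k (crossComb b b' ξ ξ')) = 0 := by
    rw [hind1, hind2]
    exact F.classInner_ind_ind hik _ (F.crossComb_vanish i hχ hχ' a a') (crossComb_one a a' ha ha')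
      _ (F.crossComb_vanish k hξ hξ' b b') (crossComb_one b b' hb hb')
  have hεε : ε * ε = 1 := by rcases hε with h | h <;> rw [h] <;> ring
  have hεc : conj ε = ε := by rcases hε with h | h <;> rw [h] <;> simp
  have hε0 : ε ≠ 0 := by rcases hε with h | h <;> rw [h] <;> simp
  have hP : star i χ = ε • star k ξ := by
    rw [hQ, smul_smul, hεε, one_smul]
  -- the four inner products
  have h2 : classInner (star i χ) (star k ξ') = 0 := by
    rw [hP, classInner_smul_left, F.star_inner k hξ hξ', if_neg (Ne.symm hξne), mul_zero]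
  have h3 : classInner (star i χ') (star k ξ) = 0 := by
    rw [hQ, classInner_smul_right, F.star_inner i hχ' hχ, if_neg hχne, mul_zero]
  rw [hlin1, hlin2] at horth
  simp only [classInner_add_left, classInner_add_right,
    Cfsg.Agent.Lib.Helper25.classInner_zsmul_left, Cfsg.Agent.Lib.Helper25.classInner_zsmul_right,
    hPQ, h2, h3, Int.cast_natCast, Int.cast_neg, mul_zero, add_zero, zero_add] at horth
  -- horth : a' * (b' * ε) + -a * (-b * z) = 0
  have hz : (a : ℂ) * (b : ℂ) * classInner (star i χ') (star k ξ') = -((a' : ℂ) * (b' : ℂ) * ε) := by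
    linear_combination horth
  have hz0 : classInner (star i χ') (star k ξ') ≠ 0 := by
    intro h
    rw [h, mul_zero] at hz
    have h4 : (a' : ℂ) * (b' : ℂ) * ε ≠ 0 := by
      have h5 : (a' : ℂ) ≠ 0 := by exact_mod_cast ha'0.ne'
      have h6 : (b' : ℂ) ≠ 0 := by exact_mod_cast hb'0.ne'
      exact mul_ne_zero (mul_ne_zero h5 h6) hε0
    apply h4
    linear_combination hz
  obtain ⟨_, hor'⟩ := norm_one_pair (F.star_genChar i hχ') (F.star_genChar k hξ')
    (F.star_norm i hχ') (F.star_norm k hξ')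
  rcases hor' with h0 | ⟨ε', _, hQ', hPQ'⟩
  · exact hz0 h0
  rw [hPQ'] at hz
  -- degree relations
  have hI := F.star_degree_rel i hχ hχ' a a' ha ha'
  have hII := F.star_degree_rel k hξ hξ' b b' hb hb'
  rw [hQ, hQ'] at hII
  simp only [Pi.smul_apply, smul_eq_mul] at hII
  have hb'c : (b' : ℂ) ≠ 0 := by exact_mod_cast hb'0.ne'
  have hIII : (a : ℂ) * star i χ 1 + (a' : ℂ) * star i χ' 1 = 0 := by
    have h4 : ((b' : ℂ) * ε) * ((a : ℂ) * star i χ 1 + (a' : ℂ) * star i χ' 1) = 0 := by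
      linear_combination (a : ℂ) * hII + star i χ' 1 * hz
    rcases mul_eq_zero.mp h4 with h5 | h5
    · exact absurd h5 (mul_ne_zero hb'c hε0)
    · exact h5
  have hfin : ((a : ℂ) ^ 2 + (a' : ℂ) ^ 2) * star i χ 1 = 0 := by
    linear_combination (a : ℂ) * hIII + (a' : ℂ) * hI
  have hpos : ((a : ℂ) ^ 2 + (a' : ℂ) ^ 2) ≠ 0 := by
    have : 0 < a ^ 2 + a' ^ 2 := by positivity
    exact_mod_cast this.ne'
  rcases mul_eq_zero.mp hfin with h5 | h5
  · exact hpos h5
  · exact hP1 h5

omit F in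
theorem isGeneralizedCharacter_one : IsGeneralizedCharacter G (fun _ : G => (1 : ℂ)) :=
  ⟨fun _ => 1, 0, IsCharacter.one, IsCharacter.zero, by simp⟩

omit F in
theorem classInner_one_one : classInner (fun _ : G => (1 : ℂ)) (fun _ : G => (1 : ℂ)) = 1 := by
  rw [classInner_irr isIrrCharacter_const_one isIrrCharacter_const_one, if_pos rfl]

/-- The exceptional characters are orthogonal to the principal character. -/
theorem orth_one (i : ι) {χ : ↥(Subgroup.normalizer (K i : Set G)) → ℂ} (hχ : χ ∈ S i) :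
    classInner (star i χ) (fun _ : G => (1 : ℂ)) = 0 := by
  by_contra hne
  have ci := F.ctx i
  obtain ⟨_, hor⟩ := norm_one_pair (F.star_genChar i hχ) isGeneralizedCharacter_one
    (F.star_norm i hχ) classInner_one_one
  rcases hor with h0 | ⟨ε, hε, hQ, hPQ⟩
  · exact hne h0
  obtain ⟨χ', hχ', hχne⟩ := F.exists_ne i hχ
  obtain ⟨a, ha0, ha⟩ := Cfsg.Agent.Lib.Helper25.irr_degree (ci.irr hχ)
  obtain ⟨a', ha'0, ha'⟩ := Cfsg.Agent.Lib.Helper25.irr_degree (ci.irr hχ')
  obtain ⟨_, hlin1, hind1, _⟩ := ci.cross hχ hχ' a a' ha ha'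
  have hε0 : ε ≠ 0 := by rcases hε with h | h <;> rw [h] <;> simp
  have h1 : classInner (star i (crossComb a a' χ χ')) (fun _ : G => (1 : ℂ)) = 0 := by
    rw [hind1, Cfsg.Agent.Lib.Helper25.frobenius_reciprocity _ _ _ (fun _ _ => rfl)]
    have e : crossComb a a' χ χ' = ((a' : ℂ) • χ) - ((a : ℂ) • χ') := by
      funext x
      simp [crossComb_apply]
    rw [e, classInner_sub_left, classInner_smul_left, classInner_smul_left]
    have := classInner_mem_one ci hχ
    have := classInner_mem_one ci hχ'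
    simp_all
  have h3 : classInner (star i χ') (fun _ : G => (1 : ℂ)) = 0 := by
    rw [hQ, classInner_smul_right, F.star_inner i hχ' hχ, if_neg hχne, mul_zero]
  rw [hlin1] at h1
  simp only [classInner_add_left, Cfsg.Agent.Lib.Helper25.classInner_zsmul_left, hPQ, h3,
    Int.cast_natCast, mul_zero, add_zero] at h1
  have ha'c : (a' : ℂ) ≠ 0 := by exact_mod_cast ha'0.ne'
  rcases mul_eq_zero.mp h1 with h | h
  · exact ha'c h
  · exact hε0 h

theorem one_orth (i : ι) {χ : ↥(Subgroup.normalizer (K i : Set G)) → ℂ} (hχ : χ ∈ S i) :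
    classInner (fun _ : G => (1 : ℂ)) (star i χ) = 0 := by
  rw [classInner_conj_symm, F.orth_one i hχ, map_zero]

/-- An exceptional character of the member `i` is constant on `K l ∖ {1}` for `l ≠ i`. -/
theorem const_on_other {i l : ι} (hil : i ≠ l)
    {χ : ↥(Subgroup.normalizer (K i : Set G)) → ℂ} (hχ : χ ∈ S i) :
    ∃ C : ℂ, ∀ k ∈ K l, k ≠ 1 → star i χ k = C := by
  have ci := F.ctx i
  have cl := F.ctx l
  obtain ⟨ε, μ, hε, hμ, he⟩ := ci.star_signed hχ
  have hε0 : ε ≠ 0 := by rcases hε with h | h <;> rw [h] <;> simp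
  have hne : ¬ ∃ ξ ∈ S l, μ = star l ξ ∨ μ = -star l ξ := by
    rintro ⟨ξ, hξ, hor⟩
    have h0 := F.cross_orth hil hχ hξ
    have hn := F.star_norm l hξ
    rw [he] at h0
    rcases hor with h | h
    · rw [h, classInner_smul_left, hn, mul_one] at h0
      exact hε0 h0
    · rw [h] at h0
      have h5 : ε • -star l ξ = (-ε) • star l ξ := by simp
      rw [h5, classInner_smul_left, hn, mul_one] at h0
      apply hε0
      linear_combination -h0
  obtain ⟨C, hC⟩ := cl.const_of_not_exceptional hμ hne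
  refine ⟨ε * C, ?_⟩
  intro k hk hk1
  rw [he, Pi.smul_apply, smul_eq_mul, hC k hk hk1]

end Fam

end Cfsg.Agent.Lib.Helper78.CNChar
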