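import Mathlib
import Cfsg.Agent.Lib.Helper78.CNChar3

set_option autoImplicit false
set_option linter.style.haveILetI false
set_option linter.unusedSectionVars false

/-!
Sums over `K ∖ {1}` inside the normalizer, used to evaluate inner products by values.
-/

namespace Cfsg.Agent.Lib.Helper78.CNChar

open Cfsg Cfsg.Agent.Lib.Helper3
open scoped ComplexConjugate

section single

variable {G : Type*} [Group G] [Fintype G] {K : Subgroup G}
  [Fintype ↥(Subgroup.normalizer (K : Set G))]
  {S : Set (↥(Subgroup.normalizer (K : Set G)) → ℂ)}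
  {star : (↥(Subgroup.normalizer (K : Set G)) → ℂ) → (G → ℂ)}

theorem sum_delta_congr (F E : ↥(Subgroup.normalizer (K : Set G)) → ℂ)
    (h : ∀ x : ↥(Subgroup.normalizer (K : Set G)), (x : G) ∈ K → x ≠ 1 → F x = E x) :
    ∑ x, delta K x * F x = ∑ x, delta K x * E x := by
  apply Finset.sum_congr rfl
  intro x _
  by_cases hx : (x : G) ∈ K
  · by_cases hx1 : x = 1
    · rw [hx1, delta_one, zero_mul, zero_mul]
    · rw [h x hx hx1]
  · rw [delta_of_not_mem K hx, zero_mul, zero_mul]

theorem sum_delta_mul_of_vanish (φ : ↥(Subgroup.normalizer (K : Set G)) → ℂ)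
    (hφ : ∀ x : ↥(Subgroup.normalizer (K : Set G)), (x : G) ∉ K → φ x = 0) :
    ∑ x, delta K x * φ x = ∑ x, φ x - φ 1 := by
  classical
  have h1 : ∀ x : ↥(Subgroup.normalizer (K : Set G)),
      delta K x * φ x = φ x - (if x = 1 then φ 1 else 0) := by
    intro x
    by_cases hx : (x : G) ∈ K
    · by_cases hx1 : x = 1
      · rw [hx1, delta_one, zero_mul, if_pos rfl, sub_self]
      · rw [delta_of_mem K hx hx1, one_mul, if_neg hx1, sub_zero]
    · have hx1 : x ≠ 1 := by
        intro h; apply hx; rw [h]; exact K.one_mem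
      rw [delta_of_not_mem K hx, zero_mul, hφ x hx, if_neg hx1, sub_zero]
  rw [Finset.sum_congr rfl (fun x _ => h1 x), Finset.sum_sub_distrib]
  simp

theorem sum_delta :
    ∑ x, delta K x =
      (Nat.card ↥(K.subgroupOf (Subgroup.normalizer (K : Set G))) : ℂ) - 1 := by
  classical
  have h0 := sum_delta_mul_of_vanish (K := K)
    (fun x => if (x : G) ∈ K then (1 : ℂ) else 0) (fun x hx => if_neg hx)
  have h1 : ∑ x, delta K x = ∑ x, delta K x *
      (fun x : ↥(Subgroup.normalizer (K : Set G)) => if (x : G) ∈ K then (1 : ℂ) else 0) x := by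
    apply Finset.sum_congr rfl
    intro x _
    by_cases hx : (x : G) ∈ K
    · simp [hx]
    · simp [delta_of_not_mem K hx]
  rw [h1, h0]
  simp only [Finset.sum_boole, K.one_mem, Subgroup.coe_one, if_true]
  congr 1
  rw [Nat.card_eq_fintype_card, Fintype.card_subtype]
  rfl

/-- Sums of a member of `S` against `delta`. -/
theorem sum_delta_mem (c : CohCtx K S star)
    {χ : ↥(Subgroup.normalizer (K : Set G)) → ℂ} (hχ : χ ∈ S) :
    ∑ x, delta K x * χ x = - χ 1 := by
  rw [sum_delta_mul_of_vanish χ (c.vanish hχ), c.sum_eq_zero hχ, zero_sub]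

theorem sum_delta_conj_mem (c : CohCtx K S star)
    {χ : ↥(Subgroup.normalizer (K : Set G)) → ℂ} (hχ : χ ∈ S) :
    ∑ x, delta K x * conj (χ x) = - conj (χ 1) := by
  rw [sum_delta_mul_of_vanish (fun x => conj (χ x))
    (fun x hx => by simp [c.vanish hχ x hx]), ← map_sum, c.sum_eq_zero hχ, map_zero, zero_sub]

theorem sum_delta_normSq_mem (c : CohCtx K S star)
    {χ : ↥(Subgroup.normalizer (K : Set G)) → ℂ} (hχ : χ ∈ S) :
    ∑ x, delta K x * (χ x * conj (χ x)) =
      (Nat.card ↥(Subgroup.normalizer (K : Set G)) : ℂ) - χ 1 * conj (χ 1) := by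
  rw [sum_delta_mul_of_vanish (fun x => χ x * conj (χ x))
    (fun x hx => by simp [c.vanish hχ x hx])]
  congr 1
  have h1 := classInner_irr (c.irr hχ) (c.irr hχ)
  rw [if_pos rfl] at h1
  unfold classInner at h1
  have hN : (Nat.card ↥(Subgroup.normalizer (K : Set G)) : ℂ) ≠ 0 := by
    exact_mod_cast Nat.card_pos.ne'
  field_simp at h1
  exact h1

end single

end Cfsg.Agent.Lib.Helper78.CNChar
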