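import Mathlib

set_option autoImplicit false

/-!
The purely arithmetical contradiction at the end of the CA/CN-theorem for odd order
(Peterfalvi (7.1)): the data are integers `W i k` (values of certain exceptional characters),
and the hypotheses are the equations given by orthogonality relations, computed by values.
-/

namespace Cfsg.Agent.Lib.Helper78.CNArith

open Finset

theorem two_mul_sub_le_zero (T c : ℤ) (hT : 2 ≤ T) : 2 * c - T * c ^ 2 ≤ 0 := by
  rcases le_or_gt c 0 with h | h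
  · nlinarith [sq_nonneg c]
  · have h1 : 1 ≤ c := h
    nlinarith [sq_nonneg c, mul_nonneg (sub_nonneg.mpr h1) (sub_nonneg.mpr h1)]

theorem final_ineq_two (n x : ℤ) (hn : 1 ≤ n) (hx : 3 ≤ x)
    (h : (2 * x + 3) * (n * (x * (2 * x + 1)) - 1) ≤
      (2 * x + 3) * (n * x * (2 + x)) + n * (x * (2 * x + 1)) * (x - 1)) : False := by
  have hy : x ≤ n * x := by nlinarith
  have h2 : 2 * (n * x) * (x - 1) ≤ 2 * x + 3 := by nlinarith
  nlinarith

theorem final_ineq_ge (n x T : ℤ) (hn : 1 ≤ n) (hx : 3 ≤ x) (hT : 3 ≤ T)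
    (h : (2 * x + 1) * (n * (x * (T * x + 1)) - 1) ≤
      (2 * x + 1) * (n * x * (T + x)) + n * (x * (T * x + 1)) * (x - 1)) : False := by
  have hy : x ≤ n * x := by nlinarith
  have h2 : (n * x) * (x - 1) * ((T - 2) * (x + 1)) ≤ 2 * x + 1 := by nlinarith
  have h3 : (x + 1) ≤ (T - 2) * (x + 1) := by nlinarith
  have h4 : 0 ≤ (n * x) * (x - 1) := by nlinarith
  have h5 : (n * x) * (x - 1) * (x + 1) ≤ 2 * x + 1 := by nlinarith
  have h6 : 3 * 2 ≤ (n * x) * (x - 1) := by nlinarith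
  nlinarith


/-- The arithmetical contradiction. -/
theorem arith_contra {ι : Type*} [Fintype ι] [DecidableEq ι] [Nonempty ι]
    (g : ℕ) (e h T n : ι → ℕ) (W : ι → ι → ℤ) (m f : ι → ℤ)
    (hg : Odd g)
    (hh : ∀ i, h i = T i * e i + 1)
    (hT : ∀ i, 2 ≤ T i)
    (he : ∀ i, 3 ≤ e i)
    (hcop : ∀ i j, i ≠ j → Nat.Coprime (h i) (h j))
    (hn : ∀ i, g = n i * (h i * e i))
    (E0 : (g : ℤ) = 1 + ∑ l, (n l : ℤ) * ((h l : ℤ) - 1))
    (A1 : ∀ i, f i + ∑ l ∈ univ.erase i, (n l : ℤ) * ((h l : ℤ) - 1) * W i l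
        + (n i : ℤ) * (-(e i : ℤ) + ((h i : ℤ) - 1) * m i) = 0)
    (A2 : ∀ i, f i ^ 2 + ∑ l ∈ univ.erase i, (n l : ℤ) * ((h l : ℤ) - 1) * W i l ^ 2
        + (n i : ℤ) * ((h i : ℤ) * e i - (e i : ℤ) ^ 2 - 2 * m i * e i
            + m i ^ 2 * ((h i : ℤ) - 1)) = g)
    (A3 : ∀ i k, i ≠ k → f i * f k
        + ∑ l ∈ (univ.erase i).erase k, (n l : ℤ) * ((h l : ℤ) - 1) * W i l * W k l
        + (n i : ℤ) * W k i * (-(e i : ℤ) + m i * ((h i : ℤ) - 1))
        + (n k : ℤ) * W i k * (-(e k : ℤ) + m k * ((h k : ℤ) - 1)) = 0)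
    (A4 : ∀ i, ∑ k ∈ univ.erase i, (T k : ℤ) * W k i ^ 2
        ≤ (e i : ℤ) - 1 + 2 * m i - T i * m i ^ 2) : False := by
  classical
  -- parity facts
  have hodd_h : ∀ l, Odd (h l) := fun l =>
    Odd.of_dvd_nat hg ⟨n l * e l, by rw [hn l]; ring⟩
  have hodd_n : ∀ l, Odd (n l) := fun l =>
    Odd.of_dvd_nat hg ⟨h l * e l, by rw [hn l]⟩
  have hodd_e : ∀ l, Odd (e l) := fun l =>
    Odd.of_dvd_nat hg ⟨n l * h l, by rw [hn l]; ring⟩
  have zh : ∀ l, ((h l : ℤ) : ZMod 2) = 1 := fun l => by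
    have := (ZMod.natCast_eq_one_iff_odd).mpr (hodd_h l)
    exact_mod_cast this
  have zn : ∀ l, ((n l : ℤ) : ZMod 2) = 1 := fun l => by
    have := (ZMod.natCast_eq_one_iff_odd).mpr (hodd_n l)
    exact_mod_cast this
  have ze : ∀ l, ((e l : ℤ) : ZMod 2) = 1 := fun l => by
    have := (ZMod.natCast_eq_one_iff_odd).mpr (hodd_e l)
    exact_mod_cast this
  have zf : ∀ i, ((f i : ℤ) : ZMod 2) = 1 := by
    intro i
    have h1 := congrArg (fun z : ℤ => (z : ZMod 2)) (A1 i)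
    simp only [Int.cast_add, Int.cast_mul, Int.cast_sum, Int.cast_sub, Int.cast_neg,
      Int.cast_one, Int.cast_zero, zh, zn, ze, sub_self, mul_zero, zero_mul,
      Finset.sum_const_zero, add_zero, one_mul] at h1
    have : (f i : ZMod 2) = 1 := by
      have h2 : (f i : ZMod 2) + -1 = 0 := h1
      linear_combination h2
    exact this
  have hW : ∀ i k, i ≠ k → W i k ≠ 0 ∨ W k i ≠ 0 := by
    intro i k hik
    by_contra hcon
    push Not at hcon
    have h1 := congrArg (fun z : ℤ => (z : ZMod 2)) (A3 i k hik)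
    simp only [Int.cast_add, Int.cast_mul, Int.cast_sum, Int.cast_sub, Int.cast_neg,
      Int.cast_one, Int.cast_zero, zh, zn, ze, zf, sub_self, mul_zero, zero_mul,
      Finset.sum_const_zero, add_zero, one_mul, hcon.1, hcon.2] at h1
    exact one_ne_zero h1
  -- choose i with e i minimal
  obtain ⟨i, -, hmin⟩ := Finset.exists_min_image (univ : Finset ι) e univ_nonempty
  have hmin' : ∀ k, e i ≤ e k := fun k => hmin k (mem_univ k)
  set P := (univ : Finset ι).erase i with hP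
  -- casts
  have hhZ : ∀ l, (h l : ℤ) = (T l : ℤ) * (e l : ℤ) + 1 := fun l => by
    have := hh l; exact_mod_cast this
  have hgZ : ∀ l, (g : ℤ) = (n l : ℤ) * ((h l : ℤ) * (e l : ℤ)) := fun l => by
    have := hn l; exact_mod_cast this
  have hTZ : ∀ l, (2 : ℤ) ≤ (T l : ℤ) := fun l => by exact_mod_cast hT l
  have heZ : ∀ l, (3 : ℤ) ≤ (e l : ℤ) := fun l => by exact_mod_cast he l
  have hn1 : ∀ l, (1 : ℤ) ≤ (n l : ℤ) := fun l => by
    have : 0 < n l := (hodd_n l).pos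
    exact_mod_cast this
  have hq := two_mul_sub_le_zero (T i) (m i) (hTZ i)
  -- Out bound
  have hOut : ∑ l ∈ P, (n l : ℤ) * ((h l : ℤ) - 1) * W i l ^ 2
      ≤ (n i : ℤ) * (e i : ℤ) * (e i : ℤ) := by
    have h2 := A2 i
    have h3 : ∑ l ∈ P, (n l : ℤ) * ((h l : ℤ) - 1) * W i l ^ 2 =
        (n i : ℤ) * (e i : ℤ) * ((e i : ℤ) + (2 * m i - T i * m i ^ 2)) - f i ^ 2 := by
      rw [hgZ i, hhZ i] at h2
      linear_combination h2
    rw [h3]
    have h4 : 0 ≤ (n i : ℤ) * (e i : ℤ) := by nlinarith [hn1 i, heZ i]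
    nlinarith [sq_nonneg (f i)]
  -- In bound
  have hIn0 : ∑ k ∈ P, (T k : ℤ) * W k i ^ 2 ≤ (e i : ℤ) - 1 := by
    have := A4 i
    linarith
  have hIn : ∀ M : ℤ, 0 ≤ M → (∀ k ∈ P, M ≤ (h k : ℤ)) →
      M * ∑ k ∈ P, (n k : ℤ) * ((h k : ℤ) - 1) * W k i ^ 2 ≤ (g : ℤ) * ((e i : ℤ) - 1) := by
    intro M hM0 hM
    calc M * ∑ k ∈ P, (n k : ℤ) * ((h k : ℤ) - 1) * W k i ^ 2
        = ∑ k ∈ P, M * ((n k : ℤ) * ((h k : ℤ) - 1) * W k i ^ 2) := Finset.mul_sum _ _ _
      _ ≤ ∑ k ∈ P, (g : ℤ) * ((T k : ℤ) * W k i ^ 2) := by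
          apply Finset.sum_le_sum
          intro k hk
          have h1 : (g : ℤ) = (n k : ℤ) * ((h k : ℤ) * (e k : ℤ)) := hgZ k
          have h2 : (h k : ℤ) - 1 = (T k : ℤ) * (e k : ℤ) := by rw [hhZ k]; ring
          rw [h1, h2]
          have h3 : 0 ≤ (n k : ℤ) * ((T k : ℤ) * (e k : ℤ)) * W k i ^ 2 := by
            have := hn1 k; have := hTZ k; have := heZ k
            positivity
          have h4 := hM k hk
          nlinarith
      _ = (g : ℤ) * ∑ k ∈ P, (T k : ℤ) * W k i ^ 2 := (Finset.mul_sum _ _ _).symm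
      _ ≤ (g : ℤ) * ((e i : ℤ) - 1) := by
          apply mul_le_mul_of_nonneg_left hIn0
          positivity
  -- Combination
  have hterm : ∀ k ∈ P, (n k : ℤ) * ((h k : ℤ) - 1) ≤
      (n k : ℤ) * ((h k : ℤ) - 1) * W i k ^ 2 + (n k : ℤ) * ((h k : ℤ) - 1) * W k i ^ 2 := by
    intro k hk
    have hik : i ≠ k := (Finset.ne_of_mem_erase hk).symm
    have h0 : 0 ≤ (n k : ℤ) * ((h k : ℤ) - 1) := by
      have h2 : (h k : ℤ) - 1 = (T k : ℤ) * (e k : ℤ) := by rw [hhZ k]; ring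
      rw [h2]
      have := hn1 k; have := hTZ k; have := heZ k
      positivity
    have h1 : 1 ≤ W i k ^ 2 + W k i ^ 2 := by
      rcases hW i k hik with h | h
      · have : 1 ≤ W i k ^ 2 := by
          have : 0 < W i k ^ 2 := by positivity
          linarith
        nlinarith [sq_nonneg (W k i)]
      · have : 1 ≤ W k i ^ 2 := by
          have : 0 < W k i ^ 2 := by positivity
          linarith
        nlinarith [sq_nonneg (W i k)]
    nlinarith
  have hsumP : ∑ k ∈ P, (n k : ℤ) * ((h k : ℤ) - 1) ≤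
      ∑ k ∈ P, (n k : ℤ) * ((h k : ℤ) - 1) * W i k ^ 2
        + ∑ k ∈ P, (n k : ℤ) * ((h k : ℤ) - 1) * W k i ^ 2 := by
    rw [← Finset.sum_add_distrib]
    exact Finset.sum_le_sum hterm
  have hE0 : (g : ℤ) - 1 = (n i : ℤ) * ((h i : ℤ) - 1) + ∑ k ∈ P, (n k : ℤ) * ((h k : ℤ) - 1) := by
    rw [E0, ← Finset.add_sum_erase univ _ (mem_univ i)]
    ring
  -- lower bound for h k
  have hlow : ∀ k, 2 * (e i : ℤ) + 1 ≤ (h k : ℤ) := by
    intro k
    rw [hhZ k]
    have h1 : (e i : ℤ) ≤ (e k : ℤ) := by exact_mod_cast hmin' k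
    nlinarith [hTZ k, heZ i]
  have hmain : ∀ M : ℤ, 0 ≤ M → (∀ k ∈ P, M ≤ (h k : ℤ)) →
      M * ((n i : ℤ) * ((e i : ℤ) * ((T i : ℤ) * (e i : ℤ) + 1)) - 1) ≤
        M * ((n i : ℤ) * (e i : ℤ) * ((T i : ℤ) + (e i : ℤ)))
          + (n i : ℤ) * ((e i : ℤ) * ((T i : ℤ) * (e i : ℤ) + 1)) * ((e i : ℤ) - 1) := by
    intro M hM0 hM
    have h1 := hIn M hM0 hM
    have h2 : (g : ℤ) = (n i : ℤ) * ((e i : ℤ) * ((T i : ℤ) * (e i : ℤ) + 1)) := by
      rw [hgZ i, hhZ i]; ring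
    have h3 : (h i : ℤ) - 1 = (T i : ℤ) * (e i : ℤ) := by rw [hhZ i]; ring
    rw [← h2]
    rw [h3] at hE0
    nlinarith
  rcases (hT i).eq_or_lt with hT2 | hT3
  · -- T i = 2
    have hT2' : (T i : ℤ) = 2 := by exact_mod_cast hT2.symm
    have hM : ∀ k ∈ P, 2 * (e i : ℤ) + 3 ≤ (h k : ℤ) := by
      intro k hk
      have hik : i ≠ k := (Finset.ne_of_mem_erase hk).symm
      have h1 := hlow k
      have h2 : (h k : ℤ) ≠ 2 * (e i : ℤ) + 1 := by
        intro hcon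
        have h3 : h k = h i := by
          have : (h i : ℤ) = 2 * (e i : ℤ) + 1 := by rw [hhZ i, hT2']
          have h4 : (h k : ℤ) = (h i : ℤ) := by rw [hcon, this]
          exact_mod_cast h4
        have h5 := hcop i k hik
        rw [h3, Nat.coprime_self] at h5
        have h6 := hh i
        have := hT i; have := he i
        nlinarith
      have h3 : (h k : ℤ) ≠ 2 * (e i : ℤ) + 2 := by
        intro hcon
        have : Odd (h k : ℤ) := by exact_mod_cast hodd_h k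
        rw [hcon] at this
        have hev : Even (2 * (e i : ℤ) + 2) := ⟨(e i : ℤ) + 1, by ring⟩
        exact (Int.not_even_iff_odd.mpr this) hev
      omega
    have := hmain (2 * (e i : ℤ) + 3) (by have := heZ i; linarith) hM
    rw [hT2'] at this
    exact final_ineq_two (n i) (e i) (hn1 i) (heZ i) this
  · have hT3' : (3 : ℤ) ≤ (T i : ℤ) := by exact_mod_cast hT3
    have := hmain (2 * (e i : ℤ) + 1) (by have := heZ i; linarith) (fun k _ => hlow k)
    exact final_ineq_ge (n i) (e i) (T i) (hn1 i) (heZ i) hT3' this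

end Cfsg.Agent.Lib.Helper78.CNArith
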