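import Mathlib
import Cfsg.Agent.Lib.Helper78.CNChar4

set_option autoImplicit false
set_option linter.style.haveILetI false
set_option linter.unusedSectionVars false

/-!
The orthogonality relations of the exceptional characters `X i = star i (χ₀ i)`, computed by
values.
-/

namespace Cfsg.Agent.Lib.Helper78.CNChar

open Cfsg Cfsg.Agent.Lib.Helper3
open scoped ComplexConjugate

variable {G : Type*} [Group G] [Fintype G] {ι : Type*} [Fintype ι]
  {K : ι → Subgroup G} [∀ i, Fintype ↥(Subgroup.normalizer (K i : Set G))]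
  {S : ∀ i, Set (↥(Subgroup.normalizer (K i : Set G)) → ℂ)}
  {star : ∀ i, (↥(Subgroup.normalizer (K i : Set G)) → ℂ) → (G → ℂ)}
  {χ₀ : ∀ i, ↥(Subgroup.normalizer (K i : Set G)) → ℂ}

/-- `|N_G(K i) : K i|`. -/
noncomputable def eN (K : ι → Subgroup G) (i : ι) : ℕ :=
  ((K i).subgroupOf (Subgroup.normalizer (K i : Set G))).index

/-- `|K i|`. -/
noncomputable def hN (K : ι → Subgroup G) (i : ι) : ℕ :=
  Nat.card ↥((K i).subgroupOf (Subgroup.normalizer (K i : Set G)))

/-- `|G : N_G(K i)|`. -/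
noncomputable def nN (K : ι → Subgroup G) (i : ι) : ℕ :=
  (Subgroup.normalizer (K i : Set G)).index

omit [Fintype G] [Fintype ι] [∀ i, Fintype ↥(Subgroup.normalizer (K i : Set G))] in
theorem card_normalizer_eq (i : ι) :
    Nat.card ↥(Subgroup.normalizer (K i : Set G)) = hN K i * eN K i :=
  (Subgroup.card_mul_index _).symm

omit [Fintype G] [Fintype ι] [∀ i, Fintype ↥(Subgroup.normalizer (K i : Set G))] in
theorem card_eq_nN (i : ι) : Nat.card G = nN K i * (hN K i * eN K i) := by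
  rw [← card_normalizer_eq, mul_comm]
  exact (Subgroup.card_mul_index _).symm

omit [Fintype G] [Fintype ι] [∀ i, Fintype ↥(Subgroup.normalizer (K i : Set G))] in
theorem hN_eq (i : ι) : hN K i = Nat.card (K i) :=
  Nat.card_congr (Subgroup.subgroupOfEquivOfLe Subgroup.le_normalizer).toEquiv

/-- The numerical data attached to the family. -/
structure Dat (K : ι → Subgroup G) [∀ i, Fintype ↥(Subgroup.normalizer (K i : Set G))]
    (S : ∀ i, Set (↥(Subgroup.normalizer (K i : Set G)) → ℂ))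
    (star : ∀ i, (↥(Subgroup.normalizer (K i : Set G)) → ℂ) → (G → ℂ))
    (χ₀ : ∀ i, ↥(Subgroup.normalizer (K i : Set G)) → ℂ)
    (m f : ι → ℤ) (W : ι → ι → ℤ) : Prop where
  hm : ∀ i, ∀ χ ∈ S i, ∀ k : ↥(Subgroup.normalizer (K i : Set G)), (k : G) ∈ K i → k ≠ 1 →
    star i χ k - χ k = (m i : ℂ) * χ 1 / (eN K i : ℂ)
  hf : ∀ i, star i (χ₀ i) 1 = (f i : ℂ)
  hW : ∀ i l, i ≠ l → ∀ k ∈ K l, k ≠ 1 → star i (χ₀ i) k = (W i l : ℂ)

namespace Fam

variable (F : Fam K S star χ₀)
include F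

theorem eN_ne_zero (i : ι) : (eN K i : ℂ) ≠ 0 := by
  have : eN K i ≠ 0 := Subgroup.index_ne_zero_of_finite
  exact_mod_cast this

/-- The formula for sums over the group, with the indices `nN`. -/
theorem sum_formula (Fn : G → ℂ) (hFn : IsClassFunction G Fn) :
    ∑ g : G, Fn g = Fn 1 + ∑ i, (nN K i : ℂ) *
        ∑ x : ↥(Subgroup.normalizer (K i : Set G)), delta (K i) x * Fn x := by
  rw [sum_eq_of_cover K (fun i => (F.ctx i).hTI) (fun i => (F.ctx i).hlt) (fun i => (F.ctx i).hC)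
    F.cop F.cover Fn hFn]
  congr 1
  apply Finset.sum_congr rfl
  intro i _
  congr 1
  have hN : (Nat.card ↥(Subgroup.normalizer (K i : Set G)) : ℂ) ≠ 0 := by
    exact_mod_cast Nat.card_pos.ne'
  have : (Nat.card G : ℂ) = (Nat.card ↥(Subgroup.normalizer (K i : Set G)) : ℂ) * (nN K i : ℂ) := by
    unfold nN
    rw [← Subgroup.card_mul_index (Subgroup.normalizer (K i : Set G))]
    push_cast; ring
  rw [this]
  field_simp

/-- The class equation of the covering. -/
theorem E0c : (Nat.card G : ℂ) = 1 + ∑ l, (nN K l : ℂ) * ((hN K l : ℂ) - 1) := by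
  have h1 := F.sum_formula (fun _ => (1 : ℂ)) (fun _ _ => rfl)
  simp only [Finset.sum_const, Finset.card_univ, nsmul_eq_mul, mul_one] at h1
  rw [Nat.card_eq_fintype_card, h1]
  congr 1
  apply Finset.sum_congr rfl
  intro l _
  rw [sum_delta]
  rfl

variable {m f : ι → ℤ} {W : ι → ι → ℤ} (D : Dat K S star χ₀ m f W)
include D

theorem X_isClassFunction (i : ι) : IsClassFunction G (star i (χ₀ i)) :=
  (F.ctx i).star_isClassFunction (F.mem i)

/-- The values of `X i` on `K i ∖ {1}`. -/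
theorem X_apply_self (i : ι) (x : ↥(Subgroup.normalizer (K i : Set G))) (hx : (x : G) ∈ K i)
    (hx1 : x ≠ 1) : star i (χ₀ i) x = χ₀ i x + (m i : ℂ) := by
  have h1 := D.hm i (χ₀ i) (F.mem i) x hx hx1
  have h2 : (m i : ℂ) * χ₀ i 1 / (eN K i : ℂ) = (m i : ℂ) := by
    rw [F.deg i]
    have := F.eN_ne_zero i
    unfold eN at this ⊢
    field_simp
  rw [h2] at h1
  linear_combination h1

/-- The values of `X i` on `K l ∖ {1}`, `l ≠ i`. -/
theorem X_apply_other {i l : ι} (hil : i ≠ l) (x : ↥(Subgroup.normalizer (K l : Set G)))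
    (hx : (x : G) ∈ K l) (hx1 : x ≠ 1) : star i (χ₀ i) x = (W i l : ℂ) :=
  D.hW i l hil (x : G) hx (fun h => hx1 (Subtype.ext h))

theorem sum_delta_X_other {i l : ι} (hil : i ≠ l) :
    ∑ x : ↥(Subgroup.normalizer (K l : Set G)), delta (K l) x * star i (χ₀ i) x =
      ((hN K l : ℂ) - 1) * (W i l : ℂ) := by
  rw [sum_delta_congr _ (fun _ => (W i l : ℂ)) (F.X_apply_other D hil), ← Finset.sum_mul, sum_delta]
  rfl

theorem sum_delta_X_self (i : ι) :
    ∑ x : ↥(Subgroup.normalizer (K i : Set G)), delta (K i) x * star i (χ₀ i) x =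
      -(eN K i : ℂ) + ((hN K i : ℂ) - 1) * (m i : ℂ) := by
  rw [sum_delta_congr _ (fun x => χ₀ i x + (m i : ℂ)) (F.X_apply_self D i)]
  simp only [mul_add]
  rw [Finset.sum_add_distrib, sum_delta_mem (F.ctx i) (F.mem i), ← Finset.sum_mul, sum_delta,
    F.deg i]
  rfl

/-- `⟨X i, 1⟩ = 0`, by values. -/
theorem A1c [DecidableEq ι] (i : ι) :
    (f i : ℂ) + ∑ l ∈ Finset.univ.erase i, (nN K l : ℂ) * ((hN K l : ℂ) - 1) * (W i l : ℂ)
      + (nN K i : ℂ) * (-(eN K i : ℂ) + ((hN K i : ℂ) - 1) * (m i : ℂ)) = 0 := by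
  have h0 := F.orth_one i (F.mem i)
  unfold classInner at h0
  have hG : (Nat.card G : ℂ) ≠ 0 := by exact_mod_cast Nat.card_pos.ne'
  have h1 : ∑ g : G, star i (χ₀ i) g = 0 := by
    rcases mul_eq_zero.mp h0 with h | h
    · exact absurd (inv_eq_zero.mp h) hG
    · simpa using h
  rw [F.sum_formula _ (F.X_isClassFunction D i), D.hf i,
    ← Finset.add_sum_erase Finset.univ _ (Finset.mem_univ i), F.sum_delta_X_self D i] at h1
  have h2 : ∑ l ∈ Finset.univ.erase i, (nN K l : ℂ) *
      ∑ x : ↥(Subgroup.normalizer (K l : Set G)), delta (K l) x * star i (χ₀ i) x =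
      ∑ l ∈ Finset.univ.erase i, (nN K l : ℂ) * ((hN K l : ℂ) - 1) * (W i l : ℂ) := by
    apply Finset.sum_congr rfl
    intro l hl
    rw [F.sum_delta_X_other D (Finset.ne_of_mem_erase hl).symm]
    ring
  rw [h2] at h1
  linear_combination h1

omit F D in
theorem isClassFunction_mul_conj {A B : G → ℂ} (hA : IsClassFunction G A)
    (hB : IsClassFunction G B) : IsClassFunction G (fun g => A g * conj (B g)) := by
  intro g h
  simp only [hA g h, hB g h]

/-- `⟨X i, X i⟩ = 1`, by values. -/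
theorem A2c [DecidableEq ι] (i : ι) :
    (f i : ℂ) ^ 2 + ∑ l ∈ Finset.univ.erase i,
        (nN K l : ℂ) * ((hN K l : ℂ) - 1) * (W i l : ℂ) ^ 2
      + (nN K i : ℂ) * ((hN K i : ℂ) * (eN K i : ℂ) - (eN K i : ℂ) ^ 2
          - 2 * (m i : ℂ) * (eN K i : ℂ) + (m i : ℂ) ^ 2 * ((hN K i : ℂ) - 1))
      = (Nat.card G : ℂ) := by
  have h0 := F.star_norm i (F.mem i)
  unfold classInner at h0
  have hG : (Nat.card G : ℂ) ≠ 0 := by exact_mod_cast Nat.card_pos.ne'
  have h1 : ∑ g : G, star i (χ₀ i) g * conj (star i (χ₀ i) g) = (Nat.card G : ℂ) := by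
    field_simp at h0
    exact h0
  rw [F.sum_formula _ (isClassFunction_mul_conj (F.X_isClassFunction D i)
    (F.X_isClassFunction D i)), D.hf i,
    ← Finset.add_sum_erase Finset.univ _ (Finset.mem_univ i)] at h1
  have h2 : ∑ l ∈ Finset.univ.erase i, (nN K l : ℂ) *
      ∑ x : ↥(Subgroup.normalizer (K l : Set G)), delta (K l) x *
        (star i (χ₀ i) x * conj (star i (χ₀ i) x)) =
      ∑ l ∈ Finset.univ.erase i, (nN K l : ℂ) * ((hN K l : ℂ) - 1) * (W i l : ℂ) ^ 2 := by
    apply Finset.sum_congr rfl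
    intro l hl
    have hil : i ≠ l := (Finset.ne_of_mem_erase hl).symm
    rw [sum_delta_congr _ (fun _ => (W i l : ℂ) ^ 2) (fun x hx hx1 => by
      rw [F.X_apply_other D hil x hx hx1, map_intCast]; ring),
      ← Finset.sum_mul, sum_delta]
    unfold hN
    ring
  have h3 : ∑ x : ↥(Subgroup.normalizer (K i : Set G)), delta (K i) x *
        (star i (χ₀ i) x * conj (star i (χ₀ i) x)) =
      (hN K i : ℂ) * (eN K i : ℂ) - (eN K i : ℂ) ^ 2
          - 2 * (m i : ℂ) * (eN K i : ℂ) + (m i : ℂ) ^ 2 * ((hN K i : ℂ) - 1) := by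
    rw [sum_delta_congr _ (fun x => χ₀ i x * conj (χ₀ i x) + (m i : ℂ) * conj (χ₀ i x)
        + (m i : ℂ) * χ₀ i x + (m i : ℂ) ^ 2) (fun x hx hx1 => by
      rw [F.X_apply_self D i x hx hx1, map_add, map_intCast]; ring)]
    simp only [mul_add]
    rw [Finset.sum_add_distrib, Finset.sum_add_distrib, Finset.sum_add_distrib,
      sum_delta_normSq_mem (F.ctx i) (F.mem i), ← Finset.sum_mul, sum_delta]
    have e1 : ∑ x : ↥(Subgroup.normalizer (K i : Set G)),
        delta (K i) x * ((m i : ℂ) * conj (χ₀ i x)) = (m i : ℂ) * (-conj (χ₀ i 1)) := by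
      rw [← sum_delta_conj_mem (F.ctx i) (F.mem i), Finset.mul_sum]
      apply Finset.sum_congr rfl
      intro x _; ring
    have e2 : ∑ x : ↥(Subgroup.normalizer (K i : Set G)),
        delta (K i) x * ((m i : ℂ) * χ₀ i x) = (m i : ℂ) * (-(χ₀ i 1)) := by
      rw [← sum_delta_mem (F.ctx i) (F.mem i), Finset.mul_sum]
      apply Finset.sum_congr rfl
      intro x _; ring
    rw [e1, e2, F.deg i, Complex.conj_natCast, card_normalizer_eq]
    unfold hN eN
    push_cast
    ring
  rw [h2, h3] at h1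
  rw [map_intCast] at h1
  linear_combination h1

/-- `⟨X i, X k⟩ = 0` for `i ≠ k`, by values. -/
theorem A3c [DecidableEq ι] {i k : ι} (hik : i ≠ k) :
    (f i : ℂ) * (f k : ℂ)
      + ∑ l ∈ (Finset.univ.erase i).erase k,
          (nN K l : ℂ) * ((hN K l : ℂ) - 1) * (W i l : ℂ) * (W k l : ℂ)
      + (nN K i : ℂ) * (W k i : ℂ) * (-(eN K i : ℂ) + (m i : ℂ) * ((hN K i : ℂ) - 1))
      + (nN K k : ℂ) * (W i k : ℂ) * (-(eN K k : ℂ) + (m k : ℂ) * ((hN K k : ℂ) - 1)) = 0 := by
  have h0 := F.cross_orth hik (F.mem i) (F.mem k)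
  unfold classInner at h0
  have hG : (Nat.card G : ℂ) ≠ 0 := by exact_mod_cast Nat.card_pos.ne'
  have h1 : ∑ g : G, star i (χ₀ i) g * conj (star k (χ₀ k) g) = 0 := by
    rcases mul_eq_zero.mp h0 with h | h
    · exact absurd (inv_eq_zero.mp h) hG
    · exact h
  have hki : k ∈ Finset.univ.erase i := Finset.mem_erase.mpr ⟨hik.symm, Finset.mem_univ k⟩
  rw [F.sum_formula _ (isClassFunction_mul_conj (F.X_isClassFunction D i)
    (F.X_isClassFunction D k)), D.hf i, D.hf k,
    ← Finset.add_sum_erase Finset.univ _ (Finset.mem_univ i),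
    ← Finset.add_sum_erase (Finset.univ.erase i) _ hki] at h1
  have h2 : ∑ l ∈ (Finset.univ.erase i).erase k, (nN K l : ℂ) *
      ∑ x : ↥(Subgroup.normalizer (K l : Set G)), delta (K l) x *
        (star i (χ₀ i) x * conj (star k (χ₀ k) x)) =
      ∑ l ∈ (Finset.univ.erase i).erase k,
        (nN K l : ℂ) * ((hN K l : ℂ) - 1) * (W i l : ℂ) * (W k l : ℂ) := by
    apply Finset.sum_congr rfl
    intro l hl
    have hkl : k ≠ l := (Finset.ne_of_mem_erase hl).symm
    have hil : i ≠ l := (Finset.ne_of_mem_erase (Finset.mem_of_mem_erase hl)).symm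
    rw [sum_delta_congr _ (fun _ => (W i l : ℂ) * (W k l : ℂ)) (fun x hx hx1 => by
      rw [F.X_apply_other D hil x hx hx1, F.X_apply_other D hkl x hx hx1, map_intCast]),
      ← Finset.sum_mul, sum_delta]
    unfold hN
    ring
  have h3 : ∑ x : ↥(Subgroup.normalizer (K i : Set G)), delta (K i) x *
        (star i (χ₀ i) x * conj (star k (χ₀ k) x)) =
      (W k i : ℂ) * (-(eN K i : ℂ) + (m i : ℂ) * ((hN K i : ℂ) - 1)) := by
    rw [sum_delta_congr _ (fun x => (W k i : ℂ) * star i (χ₀ i) x) (fun x hx hx1 => by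
      rw [F.X_apply_other D hik.symm x hx hx1, map_intCast]; ring)]
    have e1 : ∑ x : ↥(Subgroup.normalizer (K i : Set G)),
        delta (K i) x * ((W k i : ℂ) * star i (χ₀ i) x) =
        (W k i : ℂ) * ∑ x : ↥(Subgroup.normalizer (K i : Set G)),
          delta (K i) x * star i (χ₀ i) x := by
      rw [Finset.mul_sum]
      apply Finset.sum_congr rfl
      intro x _; ring
    rw [e1, F.sum_delta_X_self D i]
    ring
  have h4 : ∑ x : ↥(Subgroup.normalizer (K k : Set G)), delta (K k) x *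
        (star i (χ₀ i) x * conj (star k (χ₀ k) x)) =
      (W i k : ℂ) * (-(eN K k : ℂ) + (m k : ℂ) * ((hN K k : ℂ) - 1)) := by
    rw [sum_delta_congr _ (fun x => (W i k : ℂ) * conj (star k (χ₀ k) x)) (fun x hx hx1 => by
      rw [F.X_apply_other D hik x hx hx1])]
    have e1 : ∑ x : ↥(Subgroup.normalizer (K k : Set G)),
        delta (K k) x * ((W i k : ℂ) * conj (star k (χ₀ k) x)) =
        (W i k : ℂ) * conj (∑ x : ↥(Subgroup.normalizer (K k : Set G)),
          delta (K k) x * star k (χ₀ k) x) := by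
      rw [map_sum, Finset.mul_sum]
      apply Finset.sum_congr rfl
      intro x _
      have hd : conj (delta (K k) x) = delta (K k) x := by
        classical
        unfold delta
        split_ifs <;> simp
      rw [map_mul, hd]; ring
    rw [e1, F.sum_delta_X_self D k]
    simp only [map_add, map_neg, map_mul, map_sub, map_one, Complex.conj_natCast,
      map_intCast]
    ring
  rw [h2, h3, h4] at h1
  rw [map_intCast] at h1
  linear_combination h1

end Fam

end Cfsg.Agent.Lib.Helper78.CNChar
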