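import Mathlib
import Cfsg.Agent.Lib.Helper78.CNChar5

set_option autoImplicit false
set_option linter.style.haveILetI false
set_option linter.unusedSectionVars false

/-!
Existence of the numerical data, and the inner products of the exceptional characters with
`rho i = ((1_K)^N - χ₀ i)^G`.
-/

namespace Cfsg.Agent.Lib.Helper78.CNChar

open Cfsg Cfsg.Agent.Lib.Helper3
open scoped ComplexConjugate

variable {G : Type*} [Group G] [Fintype G] {ι : Type*} [Fintype ι]
  {K : ι → Subgroup G} [∀ i, Fintype ↥(Subgroup.normalizer (K i : Set G))]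
  {S : ∀ i, Set (↥(Subgroup.normalizer (K i : Set G)) → ℂ)}
  {star : ∀ i, (↥(Subgroup.normalizer (K i : Set G)) → ℂ) → (G → ℂ)}
  {χ₀ : ∀ i, ↥(Subgroup.normalizer (K i : Set G)) → ℂ}

namespace Fam

variable (F : Fam K S star χ₀)
include F

/-- The relation between the values of two exceptional characters of the member `i` at a
nonidentity element of another member. -/
theorem star_value_rel {i l : ι} (hil : i ≠ l)
    {χ ξ : ↥(Subgroup.normalizer (K i : Set G)) → ℂ}
    (hχ : χ ∈ S i) (hξ : ξ ∈ S i) (a b : ℕ) (ha : χ 1 = (a : ℂ)) (hb : ξ 1 = (b : ℂ))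
    {y : G} (hy : y ∈ K l) (hy1 : y ≠ 1) :
    (b : ℂ) * star i χ y - (a : ℂ) * star i ξ y = 0 := by
  obtain ⟨_, hlin, hind, _⟩ := (F.ctx i).cross hχ hξ a b ha hb
  have h1 : star i (crossComb a b χ ξ) y = 0 := by
    rw [hind]
    apply indFun_eq_zero_of_forall_not_mem _ {k | k ∈ K i ∧ k ≠ 1}
    · intro x hx
      by_cases hxK : (x : G) ∈ K i
      · have : x = 1 := by
          by_contra hx1
          exact hx ⟨hxK, fun h => hx1 (Subtype.ext h)⟩
        rw [this, crossComb_one a b ha hb]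
      · exact F.crossComb_vanish i hχ hξ a b x hxK
    · intro z hz
      have := not_conj_mem_of_coprime K F.cop (Ne.symm hil) hy hy1 z⁻¹
      apply this
      simpa using hz.1
  rw [hlin, Pi.add_apply, Pi.smul_apply, Pi.smul_apply] at h1
  simp only [zsmul_eq_mul, Int.cast_natCast, Int.cast_neg] at h1
  linear_combination h1

/-- Existence of the numerical data. -/
theorem exists_dat : ∃ (m f : ι → ℤ) (W : ι → ι → ℤ), Dat K S star χ₀ m f W := by
  have h1 : ∀ i, ∃ m : ℤ, ∀ χ ∈ S i, ∀ k : ↥(Subgroup.normalizer (K i : Set G)),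
      (k : G) ∈ K i → k ≠ 1 → star i χ k - χ k = (m : ℂ) * χ 1 / (eN K i : ℂ) :=
    fun i => (F.ctx i).exists_m
  have h2 : ∀ i, ∃ f : ℤ, star i (χ₀ i) 1 = (f : ℂ) := by
    intro i
    obtain ⟨μ₁, μ₂, hμ₁, hμ₂, hd⟩ := F.star_genChar i (F.mem i)
    obtain ⟨d₁, hd₁⟩ := Cfsg.Agent.Lib.Helper25.char_degree hμ₁
    obtain ⟨d₂, hd₂⟩ := Cfsg.Agent.Lib.Helper25.char_degree hμ₂
    refine ⟨(d₁ : ℤ) - (d₂ : ℤ), ?_⟩
    rw [hd, Pi.sub_apply, hd₁, hd₂]
    push_cast
    rfl
  have h3 : ∀ i l, ∃ w : ℤ, i ≠ l → ∀ k ∈ K l, k ≠ 1 → star i (χ₀ i) k = (w : ℂ) := by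
    intro i l
    by_cases hil : i = l
    · exact ⟨0, fun h => absurd hil h⟩
    · obtain ⟨C, hC⟩ := F.const_on_other hil (F.mem i)
      have h4 := classInner_const_rho (F.ctx l) (F.mem l) (F.deg l) (star i (χ₀ i))
        ((F.ctx i).star_isClassFunction (F.mem i)) C hC
      obtain ⟨w, hw⟩ := Cfsg.Agent.Lib.Helper25.classInner_genChar_int
        (F.star_genChar i (F.mem i)) (rho_genChar (F.ctx l) (F.mem l))
      refine ⟨w, fun _ k hk hk1 => ?_⟩
      rw [hC k hk hk1, ← h4, hw]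
  choose m hm using h1
  choose f hf using h2
  choose W hW using h3
  exact ⟨m, f, W, ⟨hm, hf, hW⟩⟩

variable {m f : ι → ℤ} {W : ι → ι → ℤ} (D : Dat K S star χ₀ m f W)
include D

/-- The values of the exceptional characters of the member `k` on `K i ∖ {1}`, `i ≠ k`. -/
theorem star_apply_other {k i : ι} (hki : k ≠ i)
    {χ : ↥(Subgroup.normalizer (K k : Set G)) → ℂ} (hχ : χ ∈ S k)
    {y : G} (hy : y ∈ K i) (hy1 : y ≠ 1) :
    star k χ y = χ 1 / (eN K k : ℂ) * (W k i : ℂ) := by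
  obtain ⟨b, _, hb⟩ := Cfsg.Agent.Lib.Helper25.irr_degree ((F.ctx k).irr hχ)
  have h1 := F.star_value_rel hki (F.mem k) hχ (eN K k) b (F.deg k) hb hy hy1
  rw [D.hW k i hki y hy hy1] at h1
  have he := F.eN_ne_zero k
  rw [hb]
  field_simp
  linear_combination -h1

theorem classInner_star_rho_other {k i : ι} (hki : k ≠ i)
    {χ : ↥(Subgroup.normalizer (K k : Set G)) → ℂ} (hχ : χ ∈ S k) :
    classInner (star k χ) (rho (K i) (χ₀ i)) = χ 1 / (eN K k : ℂ) * (W k i : ℂ) :=
  classInner_const_rho (F.ctx i) (F.mem i) (F.deg i) _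
    ((F.ctx k).star_isClassFunction hχ) _ (fun _ hy hy1 => F.star_apply_other D hki hχ hy hy1)

theorem classInner_star_rho_self (i : ι)
    {χ : ↥(Subgroup.normalizer (K i : Set G)) → ℂ} (hχ : χ ∈ S i) :
    classInner (star i χ) (rho (K i) (χ₀ i)) =
      (m i : ℂ) * χ 1 / (eN K i : ℂ) - (open Classical in if χ = χ₀ i then 1 else 0) := by
  classical
  have := classInner_star_rho (F.ctx i) (m i) (D.hm i) hχ (F.mem i) (F.deg i)
  rw [this]
  rfl

end Fam

end Cfsg.Agent.Lib.Helper78.CNChar
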