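import Mathlib
import Cfsg.Agent.Lib.Helper78.CNChar6
import Cfsg.Agent.Lib.Helper78.CNArith

set_option autoImplicit false
set_option linter.style.haveILetI false
set_option linter.unusedSectionVars false

/-!
Bessel's inequality for `rho i` and the final contradiction.
-/

namespace Cfsg.Agent.Lib.Helper78.CNChar

open Cfsg Cfsg.Agent.Lib.Helper3
open scoped ComplexConjugate

variable {G : Type*} [Group G] [Fintype G] {ι : Type*} [Fintype ι]
  {K : ι → Subgroup G} [∀ i, Fintype ↥(Subgroup.normalizer (K i : Set G))]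
  {S : ∀ i, Set (↥(Subgroup.normalizer (K i : Set G)) → ℂ)}
  {star : ∀ i, (↥(Subgroup.normalizer (K i : Set G)) → ℂ) → (G → ℂ)}
  {χ₀ : ∀ i, ↥(Subgroup.normalizer (K i : Set G)) → ℂ}

/-- The members of `S k`, as a subtype of the irreducible characters. -/
abbrev JJ (S : ∀ i, Set (↥(Subgroup.normalizer (K i : Set G)) → ℂ)) (k : ι) : Type _ :=
  {χ : IrrCharacter ↥(Subgroup.normalizer (K k : Set G)) //
    (χ : ↥(Subgroup.normalizer (K k : Set G)) → ℂ) ∈ S k}

noncomputable instance (k : ι) : Fintype (JJ S k) := Fintype.ofFinite _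

namespace Fam

variable (F : Fam K S star χ₀)
include F

/-- The degrees of the members of `S k` are multiples of `eN K k`. -/
theorem exists_fd : ∃ fd : ∀ k, JJ S k → ℕ, ∀ k (χ : JJ S k),
    (χ.1 : ↥(Subgroup.normalizer (K k : Set G)) → ℂ) 1 = ((eN K k * fd k χ : ℕ) : ℂ) := by
  have h : ∀ k (χ : JJ S k), ∃ f : ℕ,
      (χ.1 : ↥(Subgroup.normalizer (K k : Set G)) → ℂ) 1 = ((eN K k * f : ℕ) : ℂ) := by
    intro k χ
    haveI : ((K k).subgroupOf (Subgroup.normalizer (K k : Set G))).Normal :=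
      Subgroup.normal_in_normalizer
    haveI : Fintype ↥((K k).subgroupOf (Subgroup.normalizer (K k : Set G))) := Fintype.ofFinite _
    exact index_dvd_degree_of_relevant _ (tifn_hF (K k) (F.ctx k).hC) χ.1.2 ((F.ctx k).rel χ.2)
  choose fd hfd using h
  exact ⟨fd, hfd⟩

/-- `|K| - 1 = e * ∑ f_χ²`. -/
theorem hN_eq_T (fd : ∀ k, JJ S k → ℕ) (hfd : ∀ k (χ : JJ S k),
    (χ.1 : ↥(Subgroup.normalizer (K k : Set G)) → ℂ) 1 = ((eN K k * fd k χ : ℕ) : ℂ)) (k : ι) :
    hN K k = (∑ χ : JJ S k, fd k χ ^ 2) * eN K k + 1 := by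
  classical
  haveI : ((K k).subgroupOf (Subgroup.normalizer (K k : Set G))).Normal :=
    Subgroup.normal_in_normalizer
  haveI : Fintype ↥((K k).subgroupOf (Subgroup.normalizer (K k : Set G))) := Fintype.ofFinite _
  haveI : Fintype (IrrCharacter ↥(Subgroup.normalizer (K k : Set G))) := Fintype.ofFinite _
  have h1 := (sum_sq_nonrelevant_and_relevant
    ((K k).subgroupOf (Subgroup.normalizer (K k : Set G)))).2
  have h2 : ∑ χ : JJ S k, ((χ.1 : ↥(Subgroup.normalizer (K k : Set G)) → ℂ) 1) ^ 2 =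
      ((hN K k : ℂ) - 1) * (eN K k : ℂ) := by
    rw [← Finset.sum_subtype (Finset.univ.filter
      (fun χ : IrrCharacter ↥(Subgroup.normalizer (K k : Set G)) =>
        (χ : ↥(Subgroup.normalizer (K k : Set G)) → ℂ) ∈ S k)) (by simp)
      (fun χ => ((χ : ↥(Subgroup.normalizer (K k : Set G)) → ℂ) 1) ^ 2), Finset.sum_filter]
    have h1' : (∑ χ : IrrCharacter ↥(Subgroup.normalizer (K k : Set G)),
        if ∃ x ∈ (K k).subgroupOf (Subgroup.normalizer (K k : Set G)),
          (χ : ↥(Subgroup.normalizer (K k : Set G)) → ℂ) x ≠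
            (χ : ↥(Subgroup.normalizer (K k : Set G)) → ℂ) 1 then
          (χ : ↥(Subgroup.normalizer (K k : Set G)) → ℂ) 1 ^ 2 else 0) =
        ((hN K k : ℂ) - 1) * (eN K k : ℂ) := by
      convert h1 using 2 <;> rfl
    rw [← h1']
    apply Finset.sum_congr rfl
    intro χ _
    have hiff : (χ : ↥(Subgroup.normalizer (K k : Set G)) → ℂ) ∈ S k ↔
        ∃ x ∈ (K k).subgroupOf (Subgroup.normalizer (K k : Set G)),
          (χ : ↥(Subgroup.normalizer (K k : Set G)) → ℂ) x ≠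
            (χ : ↥(Subgroup.normalizer (K k : Set G)) → ℂ) 1 :=
      ⟨fun h => (F.ctx k).rel h, fun h => (F.ctx k).mem_of_irr_rel χ.2 h⟩
    by_cases hχ : (χ : ↥(Subgroup.normalizer (K k : Set G)) → ℂ) ∈ S k
    · rw [if_pos hχ, if_pos (hiff.mp hχ)]
    · rw [if_neg hχ, if_neg (fun h => hχ (hiff.mpr h))]
  have h3 : ∑ χ : JJ S k, ((χ.1 : ↥(Subgroup.normalizer (K k : Set G)) → ℂ) 1) ^ 2 =
      (eN K k : ℂ) ^ 2 * ((∑ χ : JJ S k, fd k χ ^ 2 : ℕ) : ℂ) := by
    push_cast
    rw [Finset.mul_sum]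
    apply Finset.sum_congr rfl
    intro χ _
    rw [hfd k χ]
    push_cast
    ring
  rw [h3] at h2
  have he := F.eN_ne_zero k
  have h4 : (eN K k : ℂ) * ((∑ χ : JJ S k, fd k χ ^ 2 : ℕ) : ℂ) = (hN K k : ℂ) - 1 := by
    have : (eN K k : ℂ) * ((eN K k : ℂ) * ((∑ χ : JJ S k, fd k χ ^ 2 : ℕ) : ℂ)) =
        (eN K k : ℂ) * ((hN K k : ℂ) - 1) := by linear_combination h2
    exact mul_left_cancel₀ he this
  have h5 : ((hN K k : ℕ) : ℂ) = (((∑ χ : JJ S k, fd k χ ^ 2) * eN K k + 1 : ℕ) : ℂ) := by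
    push_cast
    push_cast at h4
    linear_combination -h4
  exact_mod_cast h5

variable {m f : ι → ℤ} {W : ι → ι → ℤ} (D : Dat K S star χ₀ m f W)
include D

/-- Bessel's inequality for `rho i` with respect to the principal character and all exceptional
characters. -/
theorem bessel_ineq [DecidableEq ι] (fd : ∀ k, JJ S k → ℕ) (hfd : ∀ k (χ : JJ S k),
    (χ.1 : ↥(Subgroup.normalizer (K k : Set G)) → ℂ) 1 = ((eN K k * fd k χ : ℕ) : ℂ)) (i : ι) :
    ∑ k ∈ Finset.univ.erase i, ((∑ χ : JJ S k, fd k χ ^ 2 : ℕ) : ℤ) * W k i ^ 2 ≤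
      (eN K i : ℤ) - 1 + 2 * m i - ((∑ χ : JJ S i, fd i χ ^ 2 : ℕ) : ℤ) * m i ^ 2 := by
  classical
  -- the orthonormal family
  let u : Option (Σ k, JJ S k) → G → ℂ := fun j =>
    match j with
    | none => fun _ => (1 : ℂ)
    | some p => star p.1 (p.2.1 : ↥(Subgroup.normalizer (K p.1 : Set G)) → ℂ)
  have hu : ∀ a ∈ (Finset.univ : Finset (Option (Σ k, JJ S k))),
      ∀ b ∈ (Finset.univ : Finset (Option (Σ k, JJ S k))),
      classInner (u a) (u b) = if a = b then (((fun _ => 1 : Option (Σ k, JJ S k) → ℕ) a : ℕ) : ℂ)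
        else 0 := by
    intro a _ b _
    rcases a with _ | ⟨k, χ⟩ <;> rcases b with _ | ⟨k', χ'⟩
    · simp only [u, if_pos rfl, Nat.cast_one]
      exact classInner_one_one
    · simp only [u, reduceCtorEq, if_false]
      exact F.one_orth k' χ'.2
    · simp only [u, reduceCtorEq, if_false]
      exact F.orth_one k χ.2
    · simp only [u]
      by_cases hk : k = k'
      · subst hk
        rw [F.star_inner k χ.2 χ'.2]
        by_cases hχ : χ = χ'
        · subst hχ
          simp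
        · have h1 : (χ.1 : ↥(Subgroup.normalizer (K k : Set G)) → ℂ) ≠
              (χ'.1 : ↥(Subgroup.normalizer (K k : Set G)) → ℂ) :=
            fun h => hχ (Subtype.ext (Subtype.ext h))
          have h2 : (some (⟨k, χ⟩ : Σ k, JJ S k)) ≠ some ⟨k, χ'⟩ := by
            intro h
            apply hχ
            simpa using h
          rw [if_neg h1, if_neg h2]
      · have h2 : (some (⟨k, χ⟩ : Σ k, JJ S k)) ≠ some ⟨k', χ'⟩ := by
          intro h
          apply hk
          have := Option.some.inj h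
          exact congrArg Sigma.fst this
        rw [if_neg h2]
        exact F.cross_orth hk χ.2 χ'.2
  have hb := Cfsg.Agent.Lib.Helper25.bessel_orthogonal Finset.univ u (fun _ => 1)
    (fun _ _ => one_ne_zero) hu (rho (K i) (χ₀ i))
  have hnn := Cfsg.Agent.Lib.Helper25.classInner_self_re_nonneg
    (rho (K i) (χ₀ i) - ∑ j : Option (Σ k, JJ S k),
      (classInner (rho (K i) (χ₀ i)) (u j) / ((1 : ℕ) : ℂ)) • u j)
  rw [hb] at hnn
  -- the coefficients
  let cZ : (Σ k, JJ S k) → ℤ := fun p =>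
    if p.1 = i then m p.1 * fd p.1 p.2 -
      (if (p.2.1 : ↥(Subgroup.normalizer (K p.1 : Set G)) → ℂ) = χ₀ p.1 then 1 else 0)
    else fd p.1 p.2 * W p.1 i
  have hdiv : ∀ (k : ι) (χ : JJ S k),
      (χ.1 : ↥(Subgroup.normalizer (K k : Set G)) → ℂ) 1 / (eN K k : ℂ) = (fd k χ : ℂ) := by
    intro k χ
    rw [hfd k χ]
    have := F.eN_ne_zero k
    push_cast
    field_simp
  have hc : ∀ p : Σ k, JJ S k, classInner (rho (K i) (χ₀ i)) (u (some p)) = (cZ p : ℂ) := by
    rintro ⟨k, χ⟩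
    have h1 : classInner (u (some ⟨k, χ⟩)) (rho (K i) (χ₀ i)) = (cZ ⟨k, χ⟩ : ℂ) := by
      simp only [u, cZ]
      by_cases hk : k = i
      · subst hk
        rw [if_pos rfl, F.classInner_star_rho_self D k χ.2, mul_div_assoc, hdiv k χ]
        push_cast
        congr 1
      · rw [if_neg hk, F.classInner_star_rho_other D hk χ.2, hdiv k χ]
        push_cast
        rfl
    rw [classInner_conj_symm, h1, map_intCast]
  have hc0 : classInner (rho (K i) (χ₀ i)) (u none) = 1 := by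
    rw [classInner_conj_symm]
    simp only [u]
    rw [classInner_one_rho (F.ctx i) (F.mem i) (F.deg i), map_one]
  rw [classInner_rho_rho (F.ctx i) (F.mem i) (F.deg i), Fintype.sum_option, hc0] at hnn
  simp only [hc, map_intCast, map_one, Nat.cast_one, div_one, mul_one] at hnn
  -- now hnn is an inequality between integers
  have hZ : 0 ≤ ((eN K i : ℤ) + 1 - (1 + ∑ p : Σ k, JJ S k, cZ p * cZ p)) := by
    have h1 : ((eN K i : ℂ) + 1 - (1 + ∑ p : Σ k, JJ S k, (cZ p : ℂ) * (cZ p : ℂ))) =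
        (((eN K i : ℤ) + 1 - (1 + ∑ p : Σ k, JJ S k, cZ p * cZ p) : ℤ) : ℂ) := by
      push_cast
      rfl
    have h2 : (((eN K i : ℂ) + 1 - (1 + ∑ p : Σ k, JJ S k, (cZ p : ℂ) * (cZ p : ℂ)))).re =
        (((eN K i : ℤ) + 1 - (1 + ∑ p : Σ k, JJ S k, cZ p * cZ p) : ℤ) : ℝ) := by
      rw [h1]
      exact Complex.intCast_re _
    have h3 : (eN K i : ℂ) + 1 - (1 + ∑ p : Σ k, JJ S k, (cZ p : ℂ) * (cZ p : ℂ)) =
        ((K i).subgroupOf (Subgroup.normalizer (K i : Set G))).index + 1 -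
          (1 + ∑ p : Σ k, JJ S k, (cZ p : ℂ) * (cZ p : ℂ)) := rfl
    rw [← h3, h2] at hnn
    exact_mod_cast hnn
  -- evaluate the sum
  rw [Fintype.sum_sigma, ← Finset.add_sum_erase Finset.univ _ (Finset.mem_univ i)] at hZ
  have hself : ∑ χ : JJ S i, cZ ⟨i, χ⟩ * cZ ⟨i, χ⟩ =
      ((∑ χ : JJ S i, fd i χ ^ 2 : ℕ) : ℤ) * m i ^ 2 - 2 * m i + 1 := by
    let j₀ : JJ S i := ⟨⟨χ₀ i, (F.ctx i).irr (F.mem i)⟩, F.mem i⟩
    have hj₀ : ∀ χ : JJ S i,
        ((χ.1 : ↥(Subgroup.normalizer (K i : Set G)) → ℂ) = χ₀ i) ↔ χ = j₀ := by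
      intro χ
      constructor
      · intro h; exact Subtype.ext (Subtype.ext h)
      · intro h; rw [h]
    have hfd0 : fd i j₀ = 1 := by
      have h1 := hfd i j₀
      have h2 : (j₀.1 : ↥(Subgroup.normalizer (K i : Set G)) → ℂ) 1 = (eN K i : ℂ) := F.deg i
      rw [h2] at h1
      have h3 : eN K i = eN K i * fd i j₀ := by exact_mod_cast h1
      have h4 : eN K i ≠ 0 := Subgroup.index_ne_zero_of_finite
      have h5 : eN K i * 1 = eN K i * fd i j₀ := by rw [mul_one]; exact h3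
      exact (Nat.eq_of_mul_eq_mul_left (Nat.pos_of_ne_zero h4) h5).symm
    have h1 : ∀ χ : JJ S i, cZ ⟨i, χ⟩ * cZ ⟨i, χ⟩ =
        m i ^ 2 * ((fd i χ : ℤ) ^ 2) - 2 * m i * (if χ = j₀ then (fd i χ : ℤ) else 0)
          + (if χ = j₀ then 1 else 0) := by
      intro χ
      simp only [cZ, if_pos rfl]
      by_cases hχ : χ = j₀
      · rw [if_pos ((hj₀ χ).mpr hχ), if_pos hχ, if_pos hχ]; ring
      · rw [if_neg (fun h => hχ ((hj₀ χ).mp h)), if_neg hχ, if_neg hχ]; ring
    rw [Finset.sum_congr rfl (fun χ _ => h1 χ), Finset.sum_add_distrib, Finset.sum_sub_distrib,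
      ← Finset.mul_sum, ← Finset.mul_sum, Finset.sum_ite_eq' Finset.univ j₀,
      Finset.sum_ite_eq' Finset.univ j₀]
    simp only [Finset.mem_univ, if_true, hfd0]
    push_cast
    ring
  have hother : ∑ k ∈ Finset.univ.erase i, ∑ χ : JJ S k, cZ ⟨k, χ⟩ * cZ ⟨k, χ⟩ =
      ∑ k ∈ Finset.univ.erase i, ((∑ χ : JJ S k, fd k χ ^ 2 : ℕ) : ℤ) * W k i ^ 2 := by
    apply Finset.sum_congr rfl
    intro k hk
    have hki : k ≠ i := Finset.ne_of_mem_erase hk
    push_cast
    rw [Finset.sum_mul]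
    apply Finset.sum_congr rfl
    intro χ _
    simp only [cZ, if_neg hki]
    ring
  rw [hself, hother] at hZ
  linarith

omit D in
/-- The final contradiction: there is no such family. -/
theorem false [Nonempty ι] : False := by
  classical
  obtain ⟨m, f, W, D⟩ := F.exists_dat
  obtain ⟨fd, hfd⟩ := F.exists_fd
  have hodd_all : ∀ i, Odd (nN K i * (hN K i * eN K i)) := fun i => by
    rw [← card_eq_nN i]; exact F.odd
  have hodd_h : ∀ i, Odd (hN K i) := fun i =>
    Odd.of_dvd_nat (hodd_all i) ⟨nN K i * eN K i, by ring⟩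
  have hodd_e : ∀ i, Odd (eN K i) := fun i =>
    Odd.of_dvd_nat (hodd_all i) ⟨nN K i * hN K i, by ring⟩
  have hT := F.hN_eq_T fd hfd
  refine CNArith.arith_contra (Nat.card G) (eN K) (hN K)
    (fun k => ∑ χ : JJ S k, fd k χ ^ 2) (nN K) W m f F.odd hT ?_ ?_ ?_ (fun i => card_eq_nN i)
    ?_ ?_ ?_ ?_ (fun i => F.bessel_ineq D fd hfd i)
  · -- 2 ≤ T i
    intro i
    have h1 := hT i
    by_contra hlt
    push Not at hlt
    interval_cases hTi : (∑ χ : JJ S i, fd i χ ^ 2)
    · -- T = 0 : K i trivial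
      simp only [zero_mul, zero_add] at h1
      obtain ⟨k, hk, hne⟩ := (F.ctx i).rel (F.mem i)
      have hk1 : k ≠ 1 := by
        intro h; apply hne; rw [h]
      have hcard : 1 < Nat.card ↥((K i).subgroupOf (Subgroup.normalizer (K i : Set G))) := by
        rw [Finite.one_lt_card_iff_nontrivial]
        exact ⟨⟨⟨k, hk⟩, 1, fun h => hk1 (congrArg Subtype.val h)⟩⟩
      unfold hN at h1
      omega
    · -- T = 1 : parity
      rw [one_mul] at h1
      have := hodd_h i
      rw [h1] at this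
      have h2 := hodd_e i
      rcases h2 with ⟨a, ha⟩
      rw [ha] at this
      rcases this with ⟨b, hb⟩
      omega
  · -- 3 ≤ e i
    intro i
    have h1 := hodd_e i
    have h2 : eN K i ≠ 1 := by
      intro h
      unfold eN at h
      rw [Subgroup.index_eq_one] at h
      have hlt := (F.ctx i).hlt
      apply hlt.not_ge
      intro x hx
      have : (⟨x, hx⟩ : ↥(Subgroup.normalizer (K i : Set G))) ∈
          (K i).subgroupOf (Subgroup.normalizer (K i : Set G)) := by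
        rw [h]; exact Subgroup.mem_top _
      exact Subgroup.mem_subgroupOf.mp this
    rcases h1 with ⟨a, ha⟩
    omega
  · -- coprime
    intro i j hij
    rw [hN_eq, hN_eq]
    exact F.cop i j hij
  · exact_mod_cast F.E0c
  · intro i
    exact_mod_cast F.A1c D i
  · intro i
    exact_mod_cast F.A2c D i
  · intro i k hik
    exact_mod_cast F.A3c D hik

end Fam

end Cfsg.Agent.Lib.Helper78.CNChar
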