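import Mathlib
import Cfsg.Agent.Lib.Helper78.CNChar7
import Cfsg.Agent.Lib.Helper3.TIFNAb
import Cfsg.Agent.S1514
import Cfsg.Agent.S1517

set_option autoImplicit false
set_option linter.style.haveILetI false
set_option linter.unusedSectionVars false

/-!
The set of relevant irreducible characters of the normalizer of a T.I. subgroup with Frobenius
normalizer; induction is an isometry on its integer span vanishing at `1`; coherence in the abelian
case.
-/

namespace Cfsg.Agent.Lib.Helper78.CNChar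

open Cfsg Cfsg.Agent.Lib.Helper3
open scoped ComplexConjugate

section rel

variable {G : Type*} [Group G] [Fintype G] (K : Subgroup G)
  [Fintype ↥(Subgroup.normalizer (K : Set G))]

/-- The irreducible characters of `N_G(K)` that are nontrivial on `K`. -/
def relSet : Set (↥(Subgroup.normalizer (K : Set G)) → ℂ) :=
  {χ | IsIrrCharacter ↥(Subgroup.normalizer (K : Set G)) χ ∧
    ∃ k : ↥(Subgroup.normalizer (K : Set G)), (k : G) ∈ K ∧ χ k ≠ χ 1}

variable {K}

theorem relSet_vanish (hC : ∀ k ∈ K, k ≠ 1 → Subgroup.centralizer ({k} : Set G) ≤ K)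
    {χ : ↥(Subgroup.normalizer (K : Set G)) → ℂ} (hχ : χ ∈ relSet K)
    (x : ↥(Subgroup.normalizer (K : Set G))) (hx : (x : G) ∉ K) : χ x = 0 := by
  haveI : (K.subgroupOf (Subgroup.normalizer (K : Set G))).Normal := Subgroup.normal_in_normalizer
  haveI : Fintype ↥(K.subgroupOf (Subgroup.normalizer (K : Set G))) := Fintype.ofFinite _
  obtain ⟨hirr, k, hk, hne⟩ := hχ
  exact eq_zero_of_relevant_of_not_mem _ (tifn_hF K hC) hirr ⟨k, Subgroup.mem_subgroupOf.mpr hk, hne⟩
    x (fun h => hx (Subgroup.mem_subgroupOf.mp h))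

theorem zspan_relSet_vanish (hC : ∀ k ∈ K, k ≠ 1 → Subgroup.centralizer ({k} : Set G) ≤ K)
    {α : ↥(Subgroup.normalizer (K : Set G)) → ℂ} (hα : α ∈ zspan (relSet K))
    (x : ↥(Subgroup.normalizer (K : Set G))) (hx : (x : G) ∉ K) : α x = 0 := by
  unfold zspan at hα
  induction hα using Submodule.span_induction with
  | mem χ hχ => exact relSet_vanish hC hχ x hx
  | zero => rfl
  | add a b _ _ ha hb => rw [Pi.add_apply, ha, hb, add_zero]
  | smul n a _ ha => rw [Pi.smul_apply, ha, smul_zero]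

theorem zspan_relSet_genChar
    {α : ↥(Subgroup.normalizer (K : Set G)) → ℂ} (hα : α ∈ zspan (relSet K)) :
    IsGeneralizedCharacter ↥(Subgroup.normalizer (K : Set G)) α := by
  unfold zspan at hα
  induction hα using Submodule.span_induction with
  | mem χ hχ => exact Cfsg.Agent.Lib.Helper25.genChar_of_char (IsIrrCharacter.isCharacter hχ.1)
  | zero => exact Cfsg.Agent.Lib.Helper25.genChar_zero
  | add a b _ _ ha hb => exact Cfsg.Agent.Lib.Helper25.genChar_add ha hb
  | smul n a _ ha => exact Cfsg.Agent.Lib.Helper25.genChar_zsmul ha n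

/-- Induction to `G` is a linear isometry on the integer combinations of relevant characters
vanishing at `1`. -/
theorem ind_isometry
    (hTI : ∀ g : G, g ∉ Subgroup.normalizer (K : Set G) → ∀ k ∈ K, g * k * g⁻¹ ∈ K → k = 1)
    (hlt : K < Subgroup.normalizer (K : Set G))
    (hC : ∀ k ∈ K, k ≠ 1 → Subgroup.centralizer ({k} : Set G) ≤ K) :
    IsLinearIsometryOn (zspanOn (relSet K) ({1}ᶜ : Set ↥(Subgroup.normalizer (K : Set G))))
      (fun α => indFun (Subgroup.normalizer (K : Set G)) α) := by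
  refine ⟨?_, ?_, ?_, ?_⟩
  · intro α _ β _
    exact Cfsg.Agent.Lib.Helper25.indFun_add _ α β
  · intro α _ n
    show indFun _ (n • α) = n • indFun _ α
    rw [← Int.cast_smul_eq_zsmul ℂ n α, Cfsg.Agent.Lib.Helper25.indFun_smul,
      Int.cast_smul_eq_zsmul]
  · intro α hα β hβ
    show classInner (indFun _ α) (indFun _ β) = classInner α β
    rw [Cfsg.Agent.Lib.Helper25.frobenius_reciprocity _ _ _
      (Cfsg.Agent.Lib.Helper25.indFun_isClassFunction _ _)]
    congr 1
    funext x
    have hβ1 : β 1 = 0 := (Cfsg.Agent.Lib.Helper25.mem_zspanOn_one.mp hβ).2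
    exact (Cfsg.Agent.S0850.result K hTI hlt hC).2 β
      (Cfsg.Agent.Lib.Helper25.IsGeneralizedCharacter.isClassFunction (zspan_relSet_genChar hβ.1))
      (zspan_relSet_vanish hC hβ.1) hβ1 x
  · intro α hα
    exact IsGeneralizedCharacter.indFun _ (zspan_relSet_genChar hα.1)

omit [Fintype ↥(Subgroup.normalizer (K : Set G))] in
theorem ind_map_one
    {α : ↥(Subgroup.normalizer (K : Set G)) → ℂ}
    (hα : α ∈ zspanOn (relSet K) ({1}ᶜ : Set ↥(Subgroup.normalizer (K : Set G)))) :
    indFun (Subgroup.normalizer (K : Set G)) α 1 = 0 := by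
  rw [Cfsg.Agent.Lib.Helper75.indFun_apply_one,
    (Cfsg.Agent.Lib.Helper25.mem_zspanOn_one.mp hα).2, mul_zero]

/-- A coherent set of relevant characters gives a coherence context. -/
theorem exists_cohCtx_of_isCoherent
    (hTI : ∀ g : G, g ∉ Subgroup.normalizer (K : Set G) → ∀ k ∈ K, g * k * g⁻¹ ∈ K → k = 1)
    (hlt : K < Subgroup.normalizer (K : Set G))
    (hC : ∀ k ∈ K, k ≠ 1 → Subgroup.centralizer ({k} : Set G) ≤ K)
    (hcoh : IsCoherent (relSet K) ({1}ᶜ : Set ↥(Subgroup.normalizer (K : Set G)))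
      (fun α => indFun (Subgroup.normalizer (K : Set G)) α)) :
    ∃ star, CohCtx K (relSet K) star := by
  obtain ⟨_, τ₁, h1, h2⟩ := hcoh
  exact ⟨τ₁, ⟨hTI, hlt, hC, rfl, h1, h2⟩⟩

/-- The set of relevant characters is closed under complex conjugation, without fixed points, when
the order is odd. -/
theorem relSet_conj (hodd : Odd (Nat.card G))
    {χ : ↥(Subgroup.normalizer (K : Set G)) → ℂ} (hχ : χ ∈ relSet K) :
    conjFun χ ∈ relSet K ∧ conjFun χ ≠ χ := by
  obtain ⟨hirr, k, hk, hne⟩ := hχ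
  constructor
  · refine ⟨IsIrrCharacter.conj hirr, k, hk, ?_⟩
    intro h
    apply hne
    have := congrArg conj h
    simpa [conjFun] using this
  · intro h
    have hoddN : Odd (Nat.card ↥(Subgroup.normalizer (K : Set G))) :=
      Odd.of_dvd_nat hodd (Subgroup.card_subgroup_dvd_card _)
    have h1 : χ = fun _ => 1 := by
      apply eq_one_of_real_of_odd hoddN hirr
      intro g
      have := congrFun h g
      exact Complex.conj_eq_iff_im.mp this
    apply hne
    rw [h1]

/-- There is a relevant character when `K ≠ 1`. -/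
theorem relSet_nonempty (hK1 : K ≠ ⊥) : (relSet K).Nonempty := by
  classical
  haveI : (K.subgroupOf (Subgroup.normalizer (K : Set G))).Normal := Subgroup.normal_in_normalizer
  haveI : Fintype ↥(K.subgroupOf (Subgroup.normalizer (K : Set G))) := Fintype.ofFinite _
  haveI : Fintype (IrrCharacter ↥(Subgroup.normalizer (K : Set G))) := Fintype.ofFinite _
  by_contra hne
  rw [Set.not_nonempty_iff_eq_empty] at hne
  have h1 := (sum_sq_nonrelevant_and_relevant
    (K.subgroupOf (Subgroup.normalizer (K : Set G)))).2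
  have h2 : ∑ χ : IrrCharacter ↥(Subgroup.normalizer (K : Set G)),
      (if ∃ k ∈ K.subgroupOf (Subgroup.normalizer (K : Set G)),
        (χ : ↥(Subgroup.normalizer (K : Set G)) → ℂ) k ≠
          (χ : ↥(Subgroup.normalizer (K : Set G)) → ℂ) 1 then
        ((χ : ↥(Subgroup.normalizer (K : Set G)) → ℂ) 1) ^ 2 else 0) = 0 := by
    apply Finset.sum_eq_zero
    intro χ _
    rw [if_neg]
    rintro ⟨k, hk, hk1⟩
    have : (χ : ↥(Subgroup.normalizer (K : Set G)) → ℂ) ∈ relSet K :=
      ⟨χ.2, k, Subgroup.mem_subgroupOf.mp hk, hk1⟩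
    rw [hne] at this
    exact this
  rw [h2] at h1
  have hidx : ((K.subgroupOf (Subgroup.normalizer (K : Set G))).index : ℂ) ≠ 0 := by
    have : (K.subgroupOf (Subgroup.normalizer (K : Set G))).index ≠ 0 :=
      Subgroup.index_ne_zero_of_finite
    exact_mod_cast this
  have hcard : (Nat.card ↥(K.subgroupOf (Subgroup.normalizer (K : Set G))) : ℂ) - 1 = 0 := by
    rcases mul_eq_zero.mp h1.symm with h | h
    · exact h
    · exact absurd h hidx
  have hcard' : Nat.card ↥(K.subgroupOf (Subgroup.normalizer (K : Set G))) = 1 := by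
    have : (Nat.card ↥(K.subgroupOf (Subgroup.normalizer (K : Set G))) : ℂ) = ((1 : ℕ) : ℂ) := by
      push_cast
      linear_combination hcard
    exact_mod_cast this
  apply hK1
  have h3 : Nat.card K = 1 := by
    rw [← hcard']
    exact (Nat.card_congr (Subgroup.subgroupOfEquivOfLe Subgroup.le_normalizer).toEquiv).symm
  exact Subgroup.card_eq_one.mp h3

/-- Coherence for an abelian T.I. subgroup with Frobenius normalizer, in a group of odd order. -/
theorem exists_cohCtx_of_abelian (hodd : Odd (Nat.card G))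
    (hTI : ∀ g : G, g ∉ Subgroup.normalizer (K : Set G) → ∀ k ∈ K, g * k * g⁻¹ ∈ K → k = 1)
    (hlt : K < Subgroup.normalizer (K : Set G))
    (hC : ∀ k ∈ K, k ≠ 1 → Subgroup.centralizer ({k} : Set G) ≤ K)
    (hab : ∀ a ∈ K, ∀ b ∈ K, a * b = b * a) (hK1 : K ≠ ⊥) :
    ∃ star, CohCtx K (relSet K) star := by
  apply exists_cohCtx_of_isCoherent hTI hlt hC
  obtain ⟨R, hR⟩ := Cfsg.Agent.S1514.result (relSet K) (relSet_nonempty hK1)
    (fun χ hχ => hχ.1) (fun χ hχ => relSet_conj hodd hχ)
    (fun α => indFun (Subgroup.normalizer (K : Set G)) α) (ind_isometry hTI hlt hC)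
    (fun α hα => ind_map_one hα)
  apply Cfsg.Agent.S1517.result (relSet K) _ R hR
  intro φ hφ ψ hψ
  have h1 : ∀ χ ∈ relSet K,
      χ 1 = ((K.subgroupOf (Subgroup.normalizer (K : Set G))).index : ℂ) := by
    intro χ hχ
    obtain ⟨hirr, k, hk, hne⟩ := hχ
    exact tifn_abelian_degree K hC hab hirr ⟨k, Subgroup.mem_subgroupOf.mpr hk, hne⟩
  rw [h1 φ hφ, h1 ψ hψ]

end rel

end Cfsg.Agent.Lib.Helper78.CNChar
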