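import Mathlib

/-!
# Existence of subgroups of index two

Elementary criteria, and the averaging trick producing an index-two subgroup invariant under an
involutory endomorphism.
-/

set_option autoImplicit false
set_option linter.style.haveILetI false

namespace Cfsg.Agent.Lib.Helper78.Idx2

/-- existence of a subgroup of index two -/
def HasIdx2 (Q : Type*) [Group Q] : Prop := ∃ M : Subgroup Q, M.index = 2

theorem of_surjective {Q R : Type*} [Group Q] [Group R] (f : Q →* R)
    (hf : Function.Surjective f) (h : HasIdx2 R) : HasIdx2 Q := by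
  obtain ⟨M, hM⟩ := h
  exact ⟨M.comap f, by rw [Subgroup.index_comap_of_surjective M hf, hM]⟩

theorem of_two_group {Q : Type*} [Group Q] [Finite Q] (h : IsPGroup 2 Q) (hnt : Nontrivial Q) :
    HasIdx2 Q := by
  haveI : Fact (Nat.Prime 2) := ⟨Nat.prime_two⟩
  obtain ⟨n, hn⟩ := h.exists_card_eq
  have hn0 : n ≠ 0 := by
    rintro rfl
    rw [pow_zero] at hn
    have := Finite.one_lt_card_iff_nontrivial.mpr hnt
    omega
  obtain ⟨M, hM⟩ := Sylow.exists_subgroup_card_pow_prime 2 (n := n - 1) (G := Q)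
    (by rw [hn]; exact pow_dvd_pow 2 (Nat.sub_le n 1))
  refine ⟨M, ?_⟩
  have h1 := M.index_mul_card
  rw [hM, hn] at h1
  have h2 : (2 : ℕ) ^ n = 2 * 2 ^ (n - 1) := by
    rw [← pow_succ']
    congr 1
    omega
  rw [h2] at h1
  exact Nat.eq_of_mul_eq_mul_right (by positivity) h1

theorem of_comm_even {Q : Type*} [Group Q] [Finite Q] (hc : ∀ a b : Q, a * b = b * a)
    (he : Even (Nat.card Q)) : HasIdx2 Q := by
  haveI : Fact (Nat.Prime 2) := ⟨Nat.prime_two⟩
  have hn : Nat.card Q ≠ 0 := Nat.card_pos.ne'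
  obtain ⟨k, m, hm, hkm⟩ := Nat.exists_eq_two_pow_mul_odd hn
  let φ : Q →* Q :=
    { toFun := fun x => x ^ m
      map_one' := one_pow m
      map_mul' := fun x y => (show Commute x y from hc x y).mul_pow m }
  have hφ : ∀ x, φ x = x ^ m := fun x => rfl
  have hP : IsPGroup 2 φ.range := by
    rintro ⟨y, x, rfl⟩
    refine ⟨k, ?_⟩
    apply Subtype.ext
    show (φ x) ^ 2 ^ k = 1
    rw [hφ, ← pow_mul, mul_comm, ← hkm, pow_card_eq_one']
  obtain ⟨t, ht⟩ := exists_prime_orderOf_dvd_card' (G := Q) 2 he.two_dvd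
  have htm : t ^ m = t := by
    obtain ⟨j, rfl⟩ := hm
    have h2 : t ^ 2 = 1 := by rw [← ht]; exact pow_orderOf_eq_one t
    rw [pow_succ, pow_mul, h2, one_pow, one_mul]
  have ht1 : t ≠ 1 := by
    rintro rfl
    rw [orderOf_one] at ht
    omega
  have hnt : Nontrivial φ.range := by
    refine ⟨⟨⟨φ t, t, rfl⟩, 1, ?_⟩⟩
    intro h
    apply ht1
    have h2 : φ t = 1 := congrArg Subtype.val h
    rw [← htm]
    exact h2
  exact of_surjective φ.rangeRestrict φ.rangeRestrict_surjective (of_two_group hP hnt)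

theorem of_perm4 {Q : Type*} [Group Q] (f : Q →* Equiv.Perm (Fin 4))
    (hf : Function.Surjective f) : HasIdx2 Q := by
  have h1 : HasIdx2 ℤˣ := by
    refine ⟨⊥, ?_⟩
    rw [Subgroup.index_bot, Nat.card_eq_fintype_card, Fintype.card_units_int]
  have h2 : Function.Surjective (Equiv.Perm.sign (α := Fin 4)) := Equiv.Perm.sign_surjective _
  exact of_surjective f hf (of_surjective Equiv.Perm.sign h2 h1)

theorem of_cyclic_sylow {Q : Type*} [Group Q] [Finite Q] (he : Even (Nat.card Q))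
    (P : Sylow 2 Q) (hP : IsCyclic P) : HasIdx2 Q := by
  haveI : Fact (Nat.Prime 2) := ⟨Nat.prime_two⟩
  have hmf : (Nat.card Q).minFac = 2 := (Nat.minFac_eq_two_iff _).mpr he.two_dvd
  have hc := IsCyclic.isComplement' hmf hP
  have hNC := hP.normalizer_le_centralizer hmf
  set K := (MonoidHom.transferSylow P hNC).ker with hK
  have hidx : K.index = Nat.card P := hc.symm.index_eq_card
  obtain ⟨n, hn⟩ := P.2.exists_card_eq
  have h2P : 2 ∣ Nat.card P := P.dvd_card_of_dvd_card he.two_dvd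
  have hcard : Nat.card (Q ⧸ K) = 2 ^ n := by
    rw [← Subgroup.index_eq_card, hidx, hn]
  have hPQ : IsPGroup 2 (Q ⧸ K) := IsPGroup.of_card hcard
  have hnt : Nontrivial (Q ⧸ K) := by
    rw [← Finite.one_lt_card_iff_nontrivial, hcard, ← hn]
    have : 0 < Nat.card P := Nat.card_pos
    obtain ⟨c, hc⟩ := h2P
    omega
  exact of_surjective (QuotientGroup.mk' K) (QuotientGroup.mk'_surjective K)
    (of_two_group hPQ hnt)

/-- an index-two subgroup invariant under an involutory endomorphism -/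
theorem exists_invariant {Q : Type*} [Group Q] (τ : Q →* Q) (hτ : ∀ x, τ (τ x) = x)
    (h : HasIdx2 Q) : ∃ M : Subgroup Q, M.index = 2 ∧ ∀ x ∈ M, τ x ∈ M := by
  obtain ⟨N1, h1⟩ := h
  have hsurj : Function.Surjective τ := fun x => ⟨τ x, hτ x⟩
  have h2 : (N1.comap τ).index = 2 := by
    rw [Subgroup.index_comap_of_surjective N1 hsurj, h1]
  by_cases heq : N1.comap τ = N1
  · refine ⟨N1, h1, fun x hx => ?_⟩
    rw [← heq] at hx
    exact hx
  · have hex : ∃ a, ¬ (a ∈ N1 ↔ a ∈ N1.comap τ) := by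
      by_contra hcon
      push Not at hcon
      apply heq
      ext a
      exact (hcon a).symm
    obtain ⟨a, ha⟩ := hex
    have m1 : ∀ x y : Q, x * y ∈ N1 ↔ (x ∈ N1 ↔ y ∈ N1) :=
      fun x y => Subgroup.mul_mem_iff_of_index_two h1
    have m2 : ∀ x y : Q, x * y ∈ N1.comap τ ↔ (x ∈ N1.comap τ ↔ y ∈ N1.comap τ) :=
      fun x y => Subgroup.mul_mem_iff_of_index_two h2
    let N3 : Subgroup Q :=
      { carrier := {x | x ∈ N1 ↔ x ∈ N1.comap τ}
        one_mem' := by
          show (1 : Q) ∈ N1 ↔ (1 : Q) ∈ N1.comap τ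
          exact ⟨fun _ => one_mem _, fun _ => one_mem _⟩
        mul_mem' := by
          intro x y hx hy
          show x * y ∈ N1 ↔ x * y ∈ N1.comap τ
          have hx' : x ∈ N1 ↔ x ∈ N1.comap τ := hx
          have hy' : y ∈ N1 ↔ y ∈ N1.comap τ := hy
          rw [m1, m2, hx', hy']
        inv_mem' := by
          intro x hx
          show x⁻¹ ∈ N1 ↔ x⁻¹ ∈ N1.comap τ
          have hx' : x ∈ N1 ↔ x ∈ N1.comap τ := hx
          rw [inv_mem_iff, inv_mem_iff, hx'] }
    have hmem : ∀ x, x ∈ N3 ↔ (x ∈ N1 ↔ x ∈ N1.comap τ) := fun x => Iff.rfl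
    refine ⟨N3, ?_, ?_⟩
    · rw [Subgroup.index_eq_two_iff]
      refine ⟨a, fun b => ?_⟩
      rw [hmem, hmem, m1, m2]
      unfold Xor
      by_cases p1 : a ∈ N1 <;> by_cases p2 : a ∈ N1.comap τ <;> by_cases p3 : b ∈ N1 <;>
        by_cases p4 : b ∈ N1.comap τ <;> simp_all
    · intro x hx
      rw [hmem] at hx ⊢
      rw [Subgroup.mem_comap] at hx ⊢
      rw [hτ x]
      exact hx.symm

end Cfsg.Agent.Lib.Helper78.Idx2
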