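import Mathlib
import Cfsg.Agent.S0684
import Cfsg.Agent.S0685
import Cfsg.Agent.S0686
import Cfsg.Agent.S0687
import Cfsg.Agent.S3742
import Cfsg.Agent.Lib.Helper12.RegLin
import Cfsg.Agent.Lib.Helper12.NearQ8
import Cfsg.Agent.Lib.Helper78.Idx2

/-!
# Index-two subgroups of regular linear groups

A linear group over the prime field, regular on the non-zero vectors, of even order and with at
most one subgroup of order 3, has a subgroup of index two.
-/

set_option autoImplicit false
set_option linter.style.haveILetI false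

namespace Cfsg.Agent.Lib.Helper78.RegIdx2

open Cfsg.Agent.Lib.Helper78.Idx2

/-- two elements of order three of `SL(2,5)` generating different subgroups -/
def x0 : Matrix.SpecialLinearGroup (Fin 2) (ZMod 5) := ⟨!![0, -1; 1, -1], by decide⟩

/-- see `x0` -/
def y0 : Matrix.SpecialLinearGroup (Fin 2) (ZMod 5) := ⟨!![0, 1; -1, -1], by decide⟩

theorem x0_pow : x0 ^ 3 = 1 := by decide
theorem y0_pow : y0 ^ 3 = 1 := by decide
theorem x0_ne : x0 ≠ 1 := by decide
theorem y0_ne : y0 ≠ 1 := by decide
theorem y0_ne_x0 : y0 ≠ x0 := by decide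
theorem y0_ne_sq : y0 ≠ x0 ^ 2 := by decide

theorem q8_center : ∀ q : QuaternionGroup 2, (∀ r : QuaternionGroup 2, r * q = q * r) →
    q = 1 ∨ q = QuaternionGroup.a 2 := by decide

theorem arith12 (p m k a : ℕ) (hp : p.Prime) (hk : 1 ≤ k) (hkm : 2 * k ≤ m)
    (hdvd : a ∣ p ^ k - 1) (h12 : p ^ m - 1 = 12 * a) (h3a : 3 ∣ a) : False := by
  have hp2 : 2 ≤ p := hp.two_le
  have hq2 : 2 ≤ p ^ k := by
    calc 2 ≤ p := hp2
      _ = p ^ 1 := (pow_one p).symm
      _ ≤ p ^ k := Nat.pow_le_pow_right hp.pos hk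
  have hpq : p ≤ p ^ k := by
    calc p = p ^ 1 := (pow_one p).symm
      _ ≤ p ^ k := Nat.pow_le_pow_right hp.pos hk
  have hQq : p ^ k * p ^ k ≤ p ^ m := by
    rw [← pow_add, ← two_mul]
    exact Nat.pow_le_pow_right hp.pos hkm
  have hle : a ≤ p ^ k - 1 := Nat.le_of_dvd (by omega) hdvd
  have hq11 : p ^ k ≤ 11 := by
    by_contra hcon
    have h12' : 12 ≤ p ^ k := by omega
    have : p ^ k * 12 ≤ p ^ k * p ^ k := Nat.mul_le_mul_left _ h12'
    omega
  have hQ : p ^ m ≤ 121 := by omega
  have hp11 : p ≤ 11 := le_trans hpq hq11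
  have hm6 : m ≤ 6 := by
    by_contra hcon
    have h7 : 7 ≤ m := by omega
    have h1 : 2 ^ 7 ≤ 2 ^ m := Nat.pow_le_pow_right (by norm_num) h7
    have h2 : 2 ^ m ≤ p ^ m := Nat.pow_le_pow_left hp2 m
    omega
  have hk3 : k ≤ 3 := by omega
  interval_cases p <;> first | (exfalso; revert hp; decide) | skip
  all_goals (interval_cases m <;> interval_cases k <;> omega)

section
variable {p : ℕ} [Fact p.Prime] {V : Type*} [AddCommGroup V] [Module (ZMod p) V] [Finite V]

/-- the case of an irreducible cyclic normal subgroup -/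
theorem case_irred (H : Subgroup (V ≃ₗ[ZMod p] V))
    (hreg : ∀ v w : V, v ≠ 0 → w ≠ 0 → ∃! h : H, (h : V ≃ₗ[ZMod p] V) v = w)
    (he : Even (Nat.card H)) (A0 : Subgroup H) (hA0n : A0.Normal) (hA0c : IsCyclic A0)
    (hirr : ∀ W : Submodule (ZMod p) V,
      (∀ a ∈ A0, ∀ v ∈ W, ((a : H) : V ≃ₗ[ZMod p] V) v ∈ W) → W = ⊥ ∨ W = ⊤) :
    HasIdx2 H := by
  classical
  have hfinGL : Finite (V ≃ₗ[ZMod p] V) :=
    Finite.of_injective (fun f => (f : V → V)) DFunLike.coe_injective
  haveI := hA0n
  set C : Subgroup H := Subgroup.centralizer (A0 : Set H) with hC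
  haveI hCn : C.Normal := Subgroup.normal_centralizer
  have hCcomm : ∀ c c' : H, c ∈ C → c' ∈ C → c * c' = c' * c :=
    fun c c' hc hc' => Cfsg.Agent.Lib.Helper12.RegLin.centralizer_comm H A0 hirr c c' hc hc'
  -- automorphisms of a cyclic group commute
  have hautcomm : ∀ σ τ : MulAut A0, σ * τ = τ * σ := by
    intro σ τ
    obtain ⟨m, hm⟩ := MonoidHom.map_cyclic σ.toMonoidHom
    obtain ⟨n, hn⟩ := MonoidHom.map_cyclic τ.toMonoidHom
    apply MulEquiv.ext
    intro g
    apply Subtype.ext
    have h1 : σ (τ g) = (g ^ n) ^ m := by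
      have e1 : τ g = g ^ n := hn g
      have e2 : σ (g ^ n) = (g ^ n) ^ m := hm (g ^ n)
      rw [e1, e2]
    have h2 : τ (σ g) = (g ^ m) ^ n := by
      have e1 : σ g = g ^ m := hm g
      have e2 : τ (g ^ m) = (g ^ m) ^ n := hn (g ^ m)
      rw [e1, e2]
    show ((σ (τ g) : A0) : H) = ((τ (σ g) : A0) : H)
    rw [h1, h2, ← zpow_mul, ← zpow_mul, mul_comm]
  -- the quotient by `C` is abelian
  have hQcomm : ∀ a b : H ⧸ C, a * b = b * a := by
    intro a b
    induction a using QuotientGroup.induction_on with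
    | H x =>
      induction b using QuotientGroup.induction_on with
      | H y =>
        rw [← QuotientGroup.mk_mul, ← QuotientGroup.mk_mul, QuotientGroup.eq,
          Subgroup.mem_centralizer_iff]
        intro a ha
        have h1 := hautcomm (MulAut.conjNormal x) (MulAut.conjNormal y)
        rw [← map_mul, ← map_mul] at h1
        have h2 := congrArg (fun σ : MulAut A0 => ((σ ⟨a, ha⟩ : A0) : H)) h1
        simp only [MulAut.conjNormal_apply] at h2
        have h3 : a * ((x * y)⁻¹ * (y * x)) =
            (x * y)⁻¹ * (x * y * a * (x * y)⁻¹) * (y * x) := by group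
        have h4 : (x * y)⁻¹ * (y * x) * a =
            (x * y)⁻¹ * (y * x * a * (y * x)⁻¹) * (y * x) := by group
        rw [h3, h4, h2]
  by_cases hQe : Even (Nat.card (H ⧸ C))
  · exact of_surjective (QuotientGroup.mk' C) (QuotientGroup.mk'_surjective C)
      (of_comm_even hQcomm hQe)
  · have hQodd : Odd (Nat.card (H ⧸ C)) := Nat.not_even_iff_odd.mp hQe
    haveI : Fact (Nat.Prime 2) := ⟨Nat.prime_two⟩
    let P : Sylow 2 H := default
    have hPC : (P : Subgroup H) ≤ C := by
      intro x hx
      obtain ⟨k, hk⟩ := P.2 ⟨x, hx⟩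
      have hk' : x ^ 2 ^ k = 1 := congrArg Subtype.val hk
      have h1 : ((x : H) : H ⧸ C) ^ 2 ^ k = 1 := by
        rw [← QuotientGroup.mk_pow, hk']
        rfl
      have h2 : orderOf ((x : H) : H ⧸ C) ∣ 2 ^ k := orderOf_dvd_of_pow_eq_one h1
      have h3 : orderOf ((x : H) : H ⧸ C) ∣ Nat.card (H ⧸ C) := orderOf_dvd_natCard _
      have hcop : Nat.Coprime (2 ^ k) (Nat.card (H ⧸ C)) :=
        Nat.Coprime.pow_left k (Nat.coprime_two_left.mpr hQodd)
      have h4 : orderOf ((x : H) : H ⧸ C) = 1 := Nat.eq_one_of_dvd_coprimes hcop h2 h3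
      rw [orderOf_eq_one_iff, QuotientGroup.eq_one_iff] at h4
      exact h4
    have hCc : IsMulCommutative C := ⟨⟨fun a b => Subtype.ext (hCcomm a b a.2 b.2)⟩⟩
    haveI hCcyc : IsCyclic C := Cfsg.Agent.Lib.Helper12.NearQ8.abelian_cyclic H hreg C hCc
    have hPcyc : IsCyclic P := Subgroup.isCyclic_of_le hPC
    exact of_cyclic_sylow he P hPcyc

/-- the case without irreducible cyclic normal subgroups -/
theorem case_red (H : Subgroup (V ≃ₗ[ZMod p] V))
    (hreg : ∀ v w : V, v ≠ 0 → w ≠ 0 → ∃! h : H, (h : V ≃ₗ[ZMod p] V) v = w)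
    (hI : ∀ A : Subgroup H, A.Normal → IsCyclic A → ∃ W : Submodule (ZMod p) V, W ≠ ⊥ ∧ W ≠ ⊤ ∧
      ∀ a ∈ A, ∀ v ∈ W, ((a : H) : V ≃ₗ[ZMod p] V) v ∈ W)
    (h3 : ∀ A B : Subgroup H, Nat.card A = 3 → Nat.card B = 3 → A = B) : HasIdx2 H := by
  classical
  have hp : p.Prime := Fact.out
  have hfinGL : Finite (V ≃ₗ[ZMod p] V) :=
    Finite.of_injective (fun f => (f : V → V)) DFunLike.coe_injective
  -- `V` is non-trivial
  have hbotc : IsCyclic (⊥ : Subgroup H) := inferInstance
  obtain ⟨W0, hW00, hW01, _⟩ := hI ⊥ inferInstance hbotc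
  obtain ⟨v₀, _, hv₀⟩ := Submodule.exists_mem_ne_zero_of_ne_bot hW00
  -- a maximal normal abelian subgroup
  have hbotcomm : IsMulCommutative (⊥ : Subgroup H) :=
    ⟨⟨fun a b => Subsingleton.elim _ _⟩⟩
  obtain ⟨A, _, hAmax'⟩ := Finite.exists_le_maximal
    (p := fun B : Subgroup H => B.Normal ∧ IsMulCommutative B) (a := ⊥)
    ⟨inferInstance, hbotcomm⟩
  have hAn : A.Normal := hAmax'.prop.1
  have hAc : IsMulCommutative A := hAmax'.prop.2
  have hAmax : ∀ B : Subgroup H, B.Normal → IsMulCommutative B → A ≤ B → B = A :=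
    fun B hBn hBc hAB => le_antisymm (hAmax'.le_of_ge ⟨hBn, hBc⟩ hAB) hAB
  obtain ⟨hlt, hCna⟩ := Cfsg.Agent.S0685.result H hreg hI A hAn hAc hAmax
  -- a minimal non-abelian normal subgroup centralising `A`
  obtain ⟨N, hNC, hNmin'⟩ := Finite.exists_le_minimal
    (p := fun M : Subgroup H => M.Normal ∧ M ≤ Subgroup.centralizer (A : Set H) ∧
      ¬ IsMulCommutative M) (a := Subgroup.centralizer (A : Set H))
    ⟨Subgroup.normal_centralizer, le_rfl, hCna⟩
  have hNn : N.Normal := hNmin'.prop.1
  have hNle : N ≤ Subgroup.centralizer (A : Set H) := hNmin'.prop.2.1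
  have hNna : ¬ IsMulCommutative N := hNmin'.prop.2.2
  have hNmin : ∀ M : Subgroup H, M.Normal → M ≤ N → ¬ IsMulCommutative M → M = N :=
    fun M hMn hMN hMna => le_antisymm hMN (hNmin'.le_of_le ⟨hMn, hMN.trans hNle, hMna⟩ hMN)
  obtain ⟨hirr, hCN⟩ :=
    Cfsg.Agent.S0687.result H hreg hI A hAn hAc hAmax N hNn hNle hNna hNmin
  rcases Cfsg.Agent.S0686.result H hreg hI A hAn hAc hAmax N hNn hNle hNna hNmin with
    ⟨⟨e⟩⟩ | ⟨⟨e⟩⟩
  · -- quaternion case
    have hcardN : Nat.card N = 8 := by
      rw [Nat.card_congr e.toEquiv, Nat.card_eq_fintype_card, QuaternionGroup.card]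
    obtain ⟨f⟩ := Cfsg.Agent.S3742.result
    haveI := hNn
    haveI := hAn
    let ψ : H →* MulAut N := MulAut.conjNormal
    have hkerψ : ψ.ker = A := by
      rw [← hCN]
      ext x
      rw [MonoidHom.mem_ker, Subgroup.mem_centralizer_iff]
      constructor
      · intro hx n hn
        have h1 := congrArg (fun σ : MulAut N => ((σ ⟨n, hn⟩ : N) : H)) hx
        simp only [ψ, MulAut.conjNormal_apply, MulAut.one_apply] at h1
        calc n * x = (x * n * x⁻¹) * x := by rw [h1]
          _ = x * n := by group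
      · intro hx
        apply MulEquiv.ext
        rintro ⟨n, hn⟩
        apply Subtype.ext
        show ((MulAut.conjNormal x ⟨n, hn⟩ : N) : H) = n
        rw [MulAut.conjNormal_apply]
        show x * n * x⁻¹ = n
        rw [← hx n hn]
        group
    let Ψ : H →* Equiv.Perm (Fin 4) :=
      (f.toMonoidHom.comp (MulAut.congr e).toMonoidHom).comp ψ
    have hkerΨ : Ψ.ker = A := by
      rw [← hkerψ]
      ext x
      rw [MonoidHom.mem_ker, MonoidHom.mem_ker]
      constructor
      · intro hx
        have h1 : f ((MulAut.congr e) (ψ x)) = 1 := hx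
        rw [map_eq_one_iff f f.injective, map_eq_one_iff _ (MulAut.congr e).injective] at h1
        exact h1
      · intro hx
        show f ((MulAut.congr e) (ψ x)) = 1
        rw [hx, map_one, map_one]
    have hidx : A.index = Nat.card Ψ.range := by
      rw [← hkerΨ]
      exact Subgroup.index_ker Ψ
    have hb24 : A.index ∣ 24 := by
      rw [hidx]
      have := Subgroup.card_subgroup_dvd_card Ψ.range
      rw [Nat.card_eq_fintype_card (α := Equiv.Perm (Fin 4)), Fintype.card_perm,
        Fintype.card_fin] at this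
      exact this
    -- the centre of `N`
    have hsmall : Nat.card (A.subgroupOf N) ≤ 2 := by
      let z0 : N := e.symm (QuaternionGroup.a 2)
      have hsub : ((A.subgroupOf N : Subgroup N) : Set N) ⊆ (({1, z0} : Finset N) : Set N) := by
        intro n hn
        have hnA : (n : H) ∈ A := hn
        rw [← hCN, Subgroup.mem_centralizer_iff] at hnA
        have hq : ∀ r : QuaternionGroup 2, r * e n = e n * r := by
          intro r
          have h1 := hnA (e.symm r : N) (e.symm r).2
          have h2 : (e.symm r : N) * n = n * (e.symm r : N) := Subtype.ext h1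
          have h3 := congrArg e h2
          rw [map_mul, map_mul, MulEquiv.apply_symm_apply] at h3
          exact h3
        rcases q8_center (e n) hq with h1 | h1
        · have : n = 1 := by
            apply e.injective
            rw [h1, map_one]
          rw [this]
          simp
        · have : n = z0 := by
            apply e.injective
            rw [h1]
            exact (e.apply_symm_apply _).symm
          rw [this]
          simp
      have h1 := Set.ncard_le_ncard hsub (Finset.finite_toSet _)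
      rw [Set.ncard_coe_finset] at h1
      have h2 : ({1, z0} : Finset N).card ≤ 2 := Finset.card_le_two
      have h3 : Nat.card (A.subgroupOf N) = ((A.subgroupOf N : Subgroup N) : Set N).ncard :=
        (Nat.card_coe_set_eq _).symm
      omega
    have h4b : 4 ∣ A.index := by
      have h1 : A.relIndex N ∣ A.index := Subgroup.relIndex_dvd_index_of_normal A N
      have h2 := Subgroup.index_mul_card (A.subgroupOf N)
      rw [hcardN] at h2
      have h3 : 0 < Nat.card (A.subgroupOf N) := Nat.card_pos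
      have h5 : A.relIndex N = (A.subgroupOf N).index := rfl
      rw [← h5] at h2
      have h6 : Nat.card (A.subgroupOf N) = 1 ∨ Nat.card (A.subgroupOf N) = 2 := by omega
      rcases h6 with h6 | h6
      · rw [h6] at h2
        have : A.relIndex N = 8 := by omega
        rw [this] at h1
        exact dvd_trans (by norm_num) h1
      · rw [h6] at h2
        have : A.relIndex N = 4 := by omega
        rw [this] at h1
        exact h1
    have hbmem : A.index ∈ Nat.divisors 24 := Nat.mem_divisors.2 ⟨hb24, by norm_num⟩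
    have hdiv : Nat.divisors 24 = {1, 2, 3, 4, 6, 8, 12, 24} := by decide
    rw [hdiv] at hbmem
    simp only [Finset.mem_insert, Finset.mem_singleton] at hbmem
    have hcases : A.index = 4 ∨ A.index = 8 ∨ A.index = 12 ∨ A.index = 24 := by
      rcases hbmem with h | h | h | h | h | h | h | h <;> rw [h] at h4b <;> omega
    have htwo : ∀ j : ℕ, 1 ≤ j → A.index = 2 ^ j → HasIdx2 H := by
      intro j hj hidxj
      have hcardQ : Nat.card (H ⧸ A) = 2 ^ j := by rw [← Subgroup.index_eq_card, hidxj]
      have hPQ : IsPGroup 2 (H ⧸ A) := IsPGroup.of_card hcardQ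
      have hnt : Nontrivial (H ⧸ A) := by
        rw [← Finite.one_lt_card_iff_nontrivial, hcardQ]
        calc 1 < 2 ^ 1 := by norm_num
          _ ≤ 2 ^ j := Nat.pow_le_pow_right (by norm_num) hj
      exact of_surjective (QuotientGroup.mk' A) (QuotientGroup.mk'_surjective A)
        (of_two_group hPQ hnt)
    rcases hcases with hb | hb | hb | hb
    · exact htwo 2 (by norm_num) (by rw [hb]; norm_num)
    · exact htwo 3 (by norm_num) (by rw [hb]; norm_num)
    · -- index 12: contradiction
      exfalso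
      obtain ⟨hcyc, W, hW0, hW1, hinv, hmin, hdvd⟩ :=
        Cfsg.Agent.S0684.result H hreg hI A hAn hAc hAmax
      have hcardH := Cfsg.Agent.S0685.card_of_regular H hreg v₀ hv₀
      have h2k := Cfsg.Agent.S0685.two_mul_finrank_le H hreg A hAn W hW0 hW1 hinv hmin
      have hk1 : 1 ≤ Module.finrank (ZMod p) W := by
        rw [Nat.one_le_iff_ne_zero, Ne, Submodule.finrank_eq_zero]
        exact hW0
      have hmul := Subgroup.index_mul_card A
      rw [hb] at hmul
      have hHeq : p ^ Module.finrank (ZMod p) V - 1 = 12 * Nat.card A := by omega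
      -- a subgroup of order three
      have h3H : 3 ∣ Nat.card H := by
        rw [← hmul]
        exact dvd_mul_of_dvd_left (by norm_num) _
      haveI : Fact (Nat.Prime 3) := ⟨Nat.prime_three⟩
      obtain ⟨u, hu⟩ := exists_prime_orderOf_dvd_card' (G := H) 3 h3H
      have hUcard : Nat.card (Subgroup.zpowers u) = 3 := by rw [Nat.card_zpowers, hu]
      have hUn : ∀ g : H, g * u * g⁻¹ ∈ Subgroup.zpowers u := by
        intro g
        have h1 : Nat.card ((Subgroup.zpowers u).map (MulAut.conj g).toMonoidHom) = 3 := by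
          rw [Subgroup.card_map_of_injective (MulAut.conj g).injective, hUcard]
        have h2 := h3 _ _ h1 hUcard
        rw [← h2]
        exact ⟨u, Subgroup.mem_zpowers u, rfl⟩
      have huA : u ∈ A := by
        rw [← hCN, Subgroup.mem_centralizer_iff]
        intro n hn
        have hc1 : n * u * n⁻¹ * u⁻¹ ∈ Subgroup.zpowers u :=
          Subgroup.mul_mem _ (hUn n) (Subgroup.inv_mem _ (Subgroup.mem_zpowers u))
        have hc2 : n * u * n⁻¹ * u⁻¹ ∈ N := by
          have : n * u * n⁻¹ * u⁻¹ = n * (u * n⁻¹ * u⁻¹) := by group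
          rw [this]
          exact N.mul_mem hn (hNn.conj_mem _ (N.inv_mem hn) u)
        have ho1 : orderOf (n * u * n⁻¹ * u⁻¹) ∣ 3 := by
          rw [← hUcard]
          exact Subgroup.orderOf_dvd_natCard _ hc1
        have ho2 : orderOf (n * u * n⁻¹ * u⁻¹) ∣ 8 := by
          rw [← hcardN]
          exact Subgroup.orderOf_dvd_natCard _ hc2
        have ho : orderOf (n * u * n⁻¹ * u⁻¹) = 1 :=
          Nat.eq_one_of_dvd_coprimes (by norm_num : Nat.Coprime 3 8) ho1 ho2
        rw [orderOf_eq_one_iff] at ho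
        calc n * u = (n * u * n⁻¹ * u⁻¹) * (u * n) := by group
          _ = u * n := by rw [ho, one_mul]
      have h3A : 3 ∣ Nat.card A := by
        rw [← hu]
        exact Subgroup.orderOf_dvd_natCard _ huA
      exact arith12 p _ _ _ hp hk1 h2k hdvd hHeq h3A
    · -- index 24: the sign
      have hcardR : Nat.card Ψ.range = Nat.card (Equiv.Perm (Fin 4)) := by
        rw [← hidx, hb, Nat.card_eq_fintype_card, Fintype.card_perm, Fintype.card_fin]
        rfl
      have htop : Ψ.range = ⊤ := Subgroup.eq_top_of_card_eq _ hcardR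
      exact of_perm4 Ψ (MonoidHom.range_eq_top.mp htop)
  · -- `SL(2,5)` has two subgroups of order three
    exfalso
    haveI : Fact (Nat.Prime 3) := ⟨Nat.prime_three⟩
    have hox0 : orderOf x0 = 3 := orderOf_eq_prime x0_pow x0_ne
    have hoy0 : orderOf y0 = 3 := orderOf_eq_prime y0_pow y0_ne
    set x : H := ((e.symm x0 : N) : H) with hx
    set y : H := ((e.symm y0 : N) : H) with hy
    have hox : orderOf x = 3 := by
      rw [hx, Subgroup.orderOf_coe, MulEquiv.orderOf_eq, hox0]
    have hoy : orderOf y = 3 := by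
      rw [hy, Subgroup.orderOf_coe, MulEquiv.orderOf_eq, hoy0]
    have hX : Nat.card (Subgroup.zpowers x) = 3 := by rw [Nat.card_zpowers, hox]
    have hY : Nat.card (Subgroup.zpowers y) = 3 := by rw [Nat.card_zpowers, hoy]
    have heq := h3 _ _ hX hY
    have hymem : y ∈ Subgroup.zpowers x := by
      rw [heq]
      exact Subgroup.mem_zpowers y
    obtain ⟨j, hj⟩ := Subgroup.mem_zpowers_iff.mp hymem
    have hj' : (e.symm x0 : N) ^ j = e.symm y0 := by
      apply Subtype.ext
      rw [Subgroup.coe_zpow]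
      exact hj
    have hj'' : x0 ^ j = y0 := by
      have := congrArg e hj'
      rw [map_zpow, MulEquiv.apply_symm_apply, MulEquiv.apply_symm_apply] at this
      exact this
    have hmem0 : y0 ∈ Subgroup.zpowers x0 := Subgroup.mem_zpowers_iff.mpr ⟨j, hj''⟩
    rw [mem_zpowers_iff_mem_range_orderOf, hox0] at hmem0
    simp only [Finset.mem_image, Finset.mem_range] at hmem0
    obtain ⟨i, hi, hiy⟩ := hmem0
    interval_cases i
    · exact y0_ne (by rw [← hiy, pow_zero])
    · exact y0_ne_x0 (by rw [← hiy, pow_one])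
    · exact y0_ne_sq hiy.symm

/-- a linear group regular on the non-zero vectors, of even order and with at most one subgroup
of order three, has a subgroup of index two -/
theorem hasIdx2 (H : Subgroup (V ≃ₗ[ZMod p] V))
    (hreg : ∀ v w : V, v ≠ 0 → w ≠ 0 → ∃! h : H, (h : V ≃ₗ[ZMod p] V) v = w)
    (he : Even (Nat.card H))
    (h3 : ∀ A B : Subgroup H, Nat.card A = 3 → Nat.card B = 3 → A = B) : HasIdx2 H := by
  by_cases hI : ∀ A : Subgroup H, A.Normal → IsCyclic A →
      ∃ W : Submodule (ZMod p) V, W ≠ ⊥ ∧ W ≠ ⊤ ∧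
        ∀ a ∈ A, ∀ v ∈ W, ((a : H) : V ≃ₗ[ZMod p] V) v ∈ W
  · exact case_red H hreg hI h3
  · push Not at hI
    obtain ⟨A0, hA0n, hA0c, hirr⟩ := hI
    refine case_irred H hreg he A0 hA0n hA0c ?_
    intro W hW
    by_contra hcon
    push Not at hcon
    obtain ⟨a, ha, v, hv, hav⟩ := hirr W hcon.1 hcon.2
    exact hav (hW a ha v hv)

end

end Cfsg.Agent.Lib.Helper78.RegIdx2
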