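import Mathlib
import Cfsg.Agent.Lib.Helper12.Sharp2

/-!
# From a sharply 2-transitive group to a regular linear group

The point stabiliser of a finite sharply 2-transitive group acts on the (elementary abelian)
Frobenius kernel as a linear group over the prime field that is regular on non-zero vectors.
-/

set_option autoImplicit false
set_option linter.style.haveILetI false

namespace Cfsg.Agent.Lib.Helper78.Sharp2Lin

open MulAction Cfsg.Agent.Lib.Helper12.Sharp2

universe u v

theorem exists_lin_aux {K : Type u} [CommGroup K] {T : Type v} [Group T] (p : ℕ)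
    [Module (ZMod p) (Additive K)] (θ : T →* MulAut K) :
    ∃ (ρ : T →* (Additive K ≃ₗ[ZMod p] Additive K)),
      ∀ (t : T) (x : K), ρ t (Additive.ofMul x) = Additive.ofMul (θ t x) := by
  let ρ0 : T → (Additive K ≃ₗ[ZMod p] Additive K) := fun t =>
    { MulEquiv.toAdditive (θ t) with
      map_smul' := fun c x => ZMod.map_smul (MulEquiv.toAdditive (θ t)) c x }
  have h1 : ρ0 1 = 1 := by
    apply LinearEquiv.ext
    intro x
    show Additive.ofMul (θ 1 x.toMul) = x
    rw [map_one]
    rfl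
  have h2 : ∀ s t : T, ρ0 (s * t) = ρ0 s * ρ0 t := by
    intro s t
    apply LinearEquiv.ext
    intro x
    show Additive.ofMul (θ (s * t) x.toMul) = Additive.ofMul (θ s (θ t x.toMul))
    rw [map_mul]
    rfl
  let ρ : T →* (Additive K ≃ₗ[ZMod p] Additive K) :=
    { toFun := ρ0
      map_one' := h1
      map_mul' := h2 }
  exact ⟨ρ, fun t x => rfl⟩

/-- linearisation of an action on an elementary abelian group -/
theorem exists_lin {K : Type u} [CommGroup K] {T : Type v} [Group T] (p : ℕ)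
    (hexp : ∀ x : K, x ^ p = 1) (θ : T →* MulAut K) :
    ∃ (_ : Module (ZMod p) (Additive K)) (ρ : T →* (Additive K ≃ₗ[ZMod p] Additive K)),
      ∀ (t : T) (x : K), ρ t (Additive.ofMul x) = Additive.ofMul (θ t x) := by
  have hp0 : ∀ x : Additive K, p • x = 0 := by
    intro x
    show Additive.ofMul (x.toMul ^ p) = 0
    rw [hexp]
    rfl
  obtain ⟨iM⟩ : Nonempty (Module (ZMod p) (Additive K)) := ⟨AddCommGroup.zmodModule hp0⟩
  exact ⟨iM, exists_lin_aux p θ⟩

variable {S : Type u} {β : Type v} [Group S] [MulAction S β] [Fintype β]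

theorem exists_regLin (h : IsSharp2 S β) (b₀ : β) :
    ∃ (p : ℕ) (_ : Fact p.Prime) (V : Type u) (_ : AddCommGroup V) (_ : Module (ZMod p) V)
      (_ : Finite V) (ρ : stabilizer S b₀ →* (V ≃ₗ[ZMod p] V)),
      Function.Injective ρ ∧ Nat.card V = Fintype.card β ∧ (∃ v : V, v ≠ 0) ∧
      ∀ v w : V, v ≠ 0 → w ≠ 0 → ∃! x : ρ.range, (x : V ≃ₗ[ZMod p] V) v = w := by
  classical
  obtain ⟨p, j, hp, hj, hcard, hexp⟩ := kernel_exp h
  haveI : Fact p.Prime := ⟨hp⟩
  have hfin := finite_of_sharp h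
  haveI hKn : (kernel h).Normal := kernel_normal h
  letI iK : CommGroup (kernel h) :=
    { (inferInstance : Group (kernel h)) with
      mul_comm := fun y z => Subtype.ext (kernel_comm h y.2 z.2) }
  have hexp' : ∀ x : kernel h, x ^ p = 1 := fun x => Subtype.ext (by
    have := hexp x.1 x.2
    simpa using this)
  let θ : stabilizer S b₀ →* MulAut (kernel h) :=
    (MulAut.conjNormal (H := kernel h)).comp (stabilizer S b₀).subtype
  have hθ : ∀ (t : stabilizer S b₀) (x : kernel h), ((θ t x : kernel h) : S) = t * x * (t : S)⁻¹ :=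
    fun t x => rfl
  obtain ⟨iM, ρ, hρ⟩ := exists_lin p hexp' θ
  -- key facts on the stabiliser
  have hstab1 : ∀ t : stabilizer S b₀, ∀ x : S, Fpf S β x → (t : S) * x = x * t → t = 1 := by
    intro t x hx hcomm
    have ht : (t : S) ∈ Subgroup.centralizer ({x} : Set S) := by
      rw [Subgroup.mem_centralizer_iff]
      intro y hy
      rw [Set.mem_singleton_iff] at hy
      rw [hy]
      exact hcomm.symm
    rw [Cfsg.Agent.Lib.Helper12.Sharp2.mem_centralizer_iff h hx] at ht
    rcases ht with h1 | h1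
    · exact Subtype.ext h1
    · exact absurd t.2 (h1 b₀)
  obtain ⟨x₀, hx₀⟩ := exists_fpf h
  have hx₀K : x₀ ∈ kernel h := (mem_kernel_iff h x₀).2 (Or.inr hx₀)
  have hne : ∀ x : kernel h, x ≠ 1 → Fpf S β (x : S) := by
    intro x hx
    rcases (mem_kernel_iff h x).1 x.2 with h1 | h1
    · exact absurd (Subtype.ext h1) hx
    · exact h1
  refine ⟨p, ⟨hp⟩, Additive (kernel h), inferInstance, iM, inferInstance, ρ, ?_, ?_, ?_, ?_⟩
  · -- injective
    rw [injective_iff_map_eq_one]
    intro t ht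
    apply hstab1 t x₀ hx₀
    have h1 := hρ t ⟨x₀, hx₀K⟩
    rw [ht] at h1
    have h2 : θ t ⟨x₀, hx₀K⟩ = ⟨x₀, hx₀K⟩ := (Additive.ofMul.injective h1).symm
    have h3 := congrArg (fun y : kernel h => (y : S)) h2
    simp only [hθ] at h3
    calc (t : S) * x₀ = (t : S) * x₀ * (t : S)⁻¹ * t := by group
      _ = x₀ * t := by rw [h3]
  · rw [← kernel_card h]
    exact Nat.card_congr Additive.toMul
  · refine ⟨Additive.ofMul ⟨x₀, hx₀K⟩, ?_⟩
    intro h0
    have : (⟨x₀, hx₀K⟩ : kernel h) = 1 := Additive.ofMul.injective h0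
    exact fpf_ne_one h hx₀ (congrArg Subtype.val this)
  · intro v w hv hw
    have hv1 : v.toMul ≠ 1 := fun h0 => hv (Additive.toMul.injective h0)
    have hw1 : w.toMul ≠ 1 := fun h0 => hw (Additive.toMul.injective h0)
    have hx := hne _ hv1
    have hy := hne _ hw1
    obtain ⟨k, hk⟩ := fpf_conj_all h hx hy
    haveI := kernel_trans h
    obtain ⟨k₁, hk₁⟩ := exists_smul_eq (kernel h) b₀ (k • b₀)
    have hk₁' : (k₁ : S) • b₀ = k • b₀ := hk₁
    have htmem : (k₁ : S)⁻¹ * k ∈ stabilizer S b₀ := by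
      rw [mem_stabilizer_iff, mul_smul, ← hk₁', inv_smul_smul]
    let t : stabilizer S b₀ := ⟨(k₁ : S)⁻¹ * k, htmem⟩
    have htx : (t : S) * (v.toMul : S) * (t : S)⁻¹ = (w.toMul : S) := by
      show (k₁ : S)⁻¹ * k * (v.toMul : S) * ((k₁ : S)⁻¹ * k)⁻¹ = (w.toMul : S)
      have e1 : (k₁ : S)⁻¹ * k * (v.toMul : S) * ((k₁ : S)⁻¹ * k)⁻¹
          = (k₁ : S)⁻¹ * (k * (v.toMul : S) * k⁻¹) * k₁ := by group
      rw [e1, hk]
      have hcomm := kernel_comm h (w.toMul).2 k₁.2
      rw [mul_assoc, hcomm, ← mul_assoc, inv_mul_cancel, one_mul]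
    have hρt : ρ t v = w := by
      have h1 := hρ t v.toMul
      have h2 : θ t v.toMul = w.toMul := Subtype.ext ((hθ t v.toMul).trans htx)
      rw [h2] at h1
      exact h1
    refine ⟨⟨ρ t, t, rfl⟩, hρt, ?_⟩
    rintro ⟨_, t', rfl⟩ ht'
    have ht'' : ρ t' v = w := ht'
    apply Subtype.ext
    show ρ t' = ρ t
    congr 1
    have h1 := hρ t' v.toMul
    have h1' : ρ t' v = Additive.ofMul (θ t' v.toMul) := h1
    rw [ht''] at h1'
    have h2 : θ t' v.toMul = w.toMul := (Additive.ofMul.injective h1').symm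
    have h3 : (t' : S) * (v.toMul : S) * (t' : S)⁻¹ = (w.toMul : S) := by
      rw [← hθ, h2]
    have h4 : t⁻¹ * t' = 1 := by
      apply hstab1 (t⁻¹ * t') _ hx
      show ((t : S)⁻¹ * (t' : S)) * (v.toMul : S) = (v.toMul : S) * ((t : S)⁻¹ * (t' : S))
      have e2 : (t' : S) * (v.toMul : S) = (w.toMul : S) * t' := by
        rw [← h3]; group
      have e3 : (t : S) * (v.toMul : S) = (w.toMul : S) * t := by
        rw [← htx]; group
      have e4 : (t : S)⁻¹ * (w.toMul : S) = (v.toMul : S) * (t : S)⁻¹ := by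
        have : (w.toMul : S) = (t : S) * (v.toMul : S) * (t : S)⁻¹ := htx.symm
        rw [this]; group
      rw [mul_assoc, e2, ← mul_assoc, e4, mul_assoc]
    rw [inv_mul_eq_one] at h4
    exact h4.symm

end Cfsg.Agent.Lib.Helper78.Sharp2Lin
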