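import Mathlib
import Cfsg.Agent.Lib.Helper6.Nc.Defs

/-!
# Nc hive (S3894), leaf NC-B2E: `comm_diag_mono`

`b δ = λ δ b` with `δ = diag(d₀,d₁)`, `d₀ ≠ d₁`: `b` is diagonal or antidiagonal.
-/

set_option autoImplicit false

namespace Cfsg.Agent.Lib.Helper6.Nc

open Matrix

variable {F : Type*} [Field F]

/-- NC-B2E.  `b δ = λ δ b` with `δ = diag(d₀,d₁)`, `d₀ ≠ d₁`: `b` is diagonal or antidiagonal. -/
theorem comm_diag_mono (d₀ d₁ : F) (hd : d₀ ≠ d₁) (δ : GL (Fin 2) F)
    (hδ : (δ : Matrix (Fin 2) (Fin 2) F) = !![d₀, 0; 0, d₁]) (b : GL (Fin 2) F)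
    (h : b * δ * b⁻¹ * δ⁻¹ ∈ Subgroup.center (GL (Fin 2) F)) : IsMono b := by
  obtain ⟨c, hc⟩ := Matrix.GeneralLinearGroup.mem_center_iff_val_mem_range_scalar.mp h
  -- `b δ = z δ b`
  have hz : b * δ = (b * δ * b⁻¹ * δ⁻¹) * δ * b := by group
  have hM : (b : Matrix (Fin 2) (Fin 2) F) * (δ : Matrix (Fin 2) (Fin 2) F)
      = (Matrix.scalar (Fin 2) c) * (δ : Matrix (Fin 2) (Fin 2) F) *
        (b : Matrix (Fin 2) (Fin 2) F) := by
    have := congrArg (fun g : GL (Fin 2) F => (g : Matrix (Fin 2) (Fin 2) F)) hz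
    simp only [Units.val_mul] at this
    rw [hc]
    exact this
  -- `δ` is invertible, so `d₀ d₁ ≠ 0`
  have hdet : d₀ * d₁ ≠ 0 := by
    have h1 : (δ : Matrix (Fin 2) (Fin 2) F) * ((δ⁻¹ : GL (Fin 2) F) : Matrix (Fin 2) (Fin 2) F)
        = 1 := by
      rw [← Units.val_mul, mul_inv_cancel, Units.val_one]
    have h2 := congrArg Matrix.det h1
    rw [Matrix.det_mul, hδ, Matrix.det_fin_two_of, Matrix.det_one] at h2
    intro h0
    rw [mul_zero, sub_zero, h0, zero_mul] at h2
    exact zero_ne_one h2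
  have hd0 : d₀ ≠ 0 := left_ne_zero_of_mul hdet
  have hd1 : d₁ ≠ 0 := right_ne_zero_of_mul hdet
  rw [hδ] at hM
  have e00 := congrFun (congrFun hM 0) 0
  have e01 := congrFun (congrFun hM 0) 1
  have e10 := congrFun (congrFun hM 1) 0
  have e11 := congrFun (congrFun hM 1) 1
  simp [Matrix.mul_apply, Fin.sum_univ_two, Matrix.scalar_apply, Matrix.diagonal_apply] at e00 e01 e10 e11
  unfold IsMono
  by_cases hb00 : (b : Matrix (Fin 2) (Fin 2) F) 0 0 = 0
  · by_cases hb11 : (b : Matrix (Fin 2) (Fin 2) F) 1 1 = 0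
    · exact Or.inr ⟨hb00, hb11⟩
    · left
      -- `c = 1`
      have hc1 : c = 1 := by
        have : (b : Matrix (Fin 2) (Fin 2) F) 1 1 * d₁ * (c - 1) = 0 := by linear_combination -e11
        rcases mul_eq_zero.mp this with h' | h'
        · exact absurd h' (mul_ne_zero hb11 hd1)
        · exact sub_eq_zero.mp h'
      subst hc1
      constructor
      · have : (b : Matrix (Fin 2) (Fin 2) F) 0 1 * (d₁ - d₀) = 0 := by linear_combination e01
        rcases mul_eq_zero.mp this with h' | h'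
        · exact h'
        · exact absurd (sub_eq_zero.mp h').symm hd
      · have : (b : Matrix (Fin 2) (Fin 2) F) 1 0 * (d₀ - d₁) = 0 := by linear_combination e10
        rcases mul_eq_zero.mp this with h' | h'
        · exact h'
        · exact absurd (sub_eq_zero.mp h') hd
  · left
    have hc1 : c = 1 := by
      have : (b : Matrix (Fin 2) (Fin 2) F) 0 0 * d₀ * (c - 1) = 0 := by linear_combination -e00
      rcases mul_eq_zero.mp this with h' | h'
      · exact absurd h' (mul_ne_zero hb00 hd0)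
      · exact sub_eq_zero.mp h'
    subst hc1
    constructor
    · have : (b : Matrix (Fin 2) (Fin 2) F) 0 1 * (d₁ - d₀) = 0 := by linear_combination e01
      rcases mul_eq_zero.mp this with h' | h'
      · exact h'
      · exact absurd (sub_eq_zero.mp h').symm hd
    · have : (b : Matrix (Fin 2) (Fin 2) F) 1 0 * (d₀ - d₁) = 0 := by linear_combination e10
      rcases mul_eq_zero.mp this with h' | h'
      · exact h'
      · exact absurd (sub_eq_zero.mp h') hd

end Cfsg.Agent.Lib.Helper6.Nc
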