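import Cfsg.Agent.Lib.Helper12.D3Defs
import Cfsg.Agent.Lib.Helper36.ChevTwD4

/-! # D3 hive (S2183; architect helper12): leaf D3-RL1 `rl1`

`x_b(t)`, `t ≠ 0` fixed by `φ`, is conjugate in `³D₄(q)` to `x_b(1)`: conjugate by the torus element `h_b(z)` with
`z² t = 1`, `z ∈ F_q` (squaring is bijective on the finite field `K` of characteristic `2`). -/

set_option autoImplicit false

namespace Cfsg.Agent.Lib.Helper12.D3

open Cfsg Cfsg.Lie Cfsg.Agent.Lib.Helper36 Cfsg.Agent.Lib.Helper75.D4g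

variable (K : Type*) [Field K] (φ : K →+* K)

/-- squaring is injective in characteristic `2` -/
theorem d3rl1_sq_inj [CharP K 2] {x y : K} (h : x ^ 2 = y ^ 2) : x = y := by
  have h1 : (x - y) ^ 2 = 0 := by
    have h2 : (x - y) ^ 2 = x ^ 2 - 2 * (x * y) + y ^ 2 := by ring
    have h3 : (2 : K) = 0 := CharTwo.two_eq_zero
    rw [h2, h3, zero_mul, sub_zero, h, CharTwo.add_self_eq_zero]
  exact sub_eq_zero.mp (pow_eq_zero_iff (two_ne_zero) |>.mp h1)

/-- a `φ`-fixed square root of the inverse -/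
theorem d3rl1_sqrt [Fintype K] [CharP K 2] (t : K) (ht : t ≠ 0) (hf : φ t = t) :
    ∃ z : K, z ≠ 0 ∧ φ z = z ∧ z ^ 2 * t = 1 := by
  have hinj : Function.Injective (fun x : K => x ^ 2) := fun x y h => d3rl1_sq_inj K h
  obtain ⟨z, hz⟩ := Finite.surjective_of_injective hinj t⁻¹
  have hz' : z ^ 2 = t⁻¹ := hz
  refine ⟨z, ?_, ?_, ?_⟩
  · rintro rfl
    rw [zero_pow (two_ne_zero)] at hz'
    exact inv_ne_zero ht hz'.symm
  · apply d3rl1_sq_inj K
    rw [← map_pow, hz', map_inv₀, hf]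
  · rw [hz', inv_mul_cancel₀ ht]

/-- the torus element `h_b(z)`, `z ∈ F_q`, lies in `³D₄(q)` -/
theorem d3rl1_h_mem [Fintype K] {q : ℕ} (hK : Fintype.card K = q ^ 3) (hφ : ∀ t : K, φ t = t ^ q)
    (z : K) (hz : φ z = z) : hGL chevD4 hD4 K 14 z ∈ twistedD4 K q := by
  rw [twistedD4_eq K q φ hφ hK]
  have h := hw_LJ_mem chevD4 hD4 graphD4 orbsD4 fundD4 stepsD4 twOK_D4 K φ [1] (by simp [fundD4]) z
    (by
      show φ z = z
      exact hz)
  have e : hw chevD4 hD4 K (LJ chevD4 K φ [1]) z = hGL chevD4 hD4 K 14 z := by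
    unfold hw LJ LB pBlock
    simp
    rfl
  rw [← e]
  exact h

/-- D3-RL1 -/
theorem rl1 [Fintype K] [CharP K 2] {q : ℕ} (hK : Fintype.card K = q ^ 3) (hφ : ∀ t : K, φ t = t ^ q)
    (t : K) (ht : t ≠ 0) (hf : φ t = t) : Cj K q (xg K 14 t) (xg K 14 1) := by
  obtain ⟨z, hz0, hzf, hz2⟩ := d3rl1_sqrt K φ t ht hf
  refine ⟨hGL chevD4 hD4 K 14 z, d3rl1_h_mem K φ hK hφ z hzf, ?_⟩
  have h1 := hGL_conj_xGL chevD4 hD4 K 14 14 (by decide) (by decide) z hz0 t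
  have h2 : gc chevD4 14 14 = 2 := by decide
  rw [h2] at h1
  rw [h1]
  congr 1
  rw [zpow_ofNat]
  exact hz2

end Cfsg.Agent.Lib.Helper12.D3
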