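import Cfsg.Agent.Lib.Helper15.HsBasic

/-! # HS-RES (helper15's Hs hive, S2536): restriction of a Hall subgroup of `Perm α` to an invariant
set and to its complement. -/

set_option autoImplicit false

namespace Cfsg.Agent.Lib.Helper15.Hs

open Cfsg

section res

variable {α : Type*}

/-- invariance in iff form -/
theorem res_iff (H : Subgroup (Equiv.Perm α)) (s : Set α) (hs : ∀ g ∈ H, ∀ x ∈ s, g x ∈ s)
    (g : Equiv.Perm α) (hg : g ∈ H) (x : α) : g x ∈ s ↔ x ∈ s := by
  constructor
  · intro h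
    have h1 := hs g⁻¹ (H.inv_mem hg) (g x) h
    simpa using h1
  · exact hs g hg x

/-- the restriction homomorphism to an invariant set -/
def res_hom (H : Subgroup (Equiv.Perm α)) (t : Set α) (ht : ∀ g ∈ H, ∀ x, g x ∈ t ↔ x ∈ t) :
    ↥H →* Equiv.Perm ↥t where
  toFun g := Equiv.Perm.subtypePerm g.1 (ht g.1 g.2)
  map_one' := by
    ext x
    rfl
  map_mul' g h := by
    ext x
    rfl

theorem res_hom_apply (H : Subgroup (Equiv.Perm α)) (t : Set α)
    (ht : ∀ g ∈ H, ∀ x, g x ∈ t ↔ x ∈ t) (g : ↥H) (x : ↥t) :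
    ((res_hom H t ht g x : ↥t) : α) = g.1 (x : α) := rfl

theorem res_range (H : Subgroup (Equiv.Perm α)) (t : Set α)
    (ht : ∀ g ∈ H, ∀ x, g x ∈ t ↔ x ∈ t) : (res_hom H t ht).range = resSub H t := by
  ext σ
  constructor
  · rintro ⟨g, rfl⟩
    exact ⟨g.1, g.2, fun x => rfl⟩
  · rintro ⟨g, hg, hσ⟩
    refine ⟨⟨g, hg⟩, ?_⟩
    ext x
    rw [hσ x]
    rfl

end res

section leaves

variable {α : Type*} [Fintype α] [DecidableEq α] (π : Set ℕ) (H : Subgroup (Equiv.Perm α))

/-- HS-RES -/
theorem hall_restrict (hH : IsPiHall π H) (s : Set α) (hs : ∀ g ∈ H, ∀ x ∈ s, g x ∈ s) :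
    IsPiHall π (resSub H s) ∧ IsPiHall π (resSub H sᶜ) ∧
      ∀ p : ℕ, p.Prime → p ∈ π → ¬ p ∣ Nat.choose (Nat.card α) (Nat.card ↥s) := by
  classical
  have ht1 : ∀ g ∈ H, ∀ x, g x ∈ s ↔ x ∈ s := res_iff H s hs
  have ht2 : ∀ g ∈ H, ∀ x, g x ∈ sᶜ ↔ x ∈ sᶜ := fun g hg x => not_congr (ht1 g hg x)
  have hR1 : (res_hom H s ht1).range = resSub H s := res_range H s ht1
  have hR2 : (res_hom H sᶜ ht2).range = resSub H sᶜ := res_range H sᶜ ht2
  -- the numbers
  have hjm : Nat.card ↥s + Nat.card ↥(sᶜ : Set α) = Nat.card α := by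
    rw [Nat.card_coe_set_eq, Nat.card_coe_set_eq]
    exact Set.ncard_add_ncard_compl s (Set.toFinite s) (Set.toFinite sᶜ)
  have hj : Nat.card ↥s ≤ Nat.card α := by omega
  have hcj : Nat.card ↥(sᶜ : Set α) = Nat.card α - Nat.card ↥s := by omega
  -- the orders of the restrictions divide the order of `H`
  have hd1 : Nat.card ↥(resSub H s) ∣ Nat.card ↥H := by
    rw [← hR1]; exact Subgroup.card_range_dvd _
  have hd2 : Nat.card ↥(resSub H sᶜ) ∣ Nat.card ↥H := by
    rw [← hR2]; exact Subgroup.card_range_dvd _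
  -- Lagrange in `Perm s`, `Perm sᶜ`
  have hl1 : Nat.card ↥(resSub H s) ∣ (Nat.card ↥s).factorial := by
    rw [← Nat.card_perm]; exact Subgroup.card_subgroup_dvd_card _
  have hl2 : Nat.card ↥(resSub H sᶜ) ∣ (Nat.card α - Nat.card ↥s).factorial := by
    rw [← hcj, ← Nat.card_perm]; exact Subgroup.card_subgroup_dvd_card _
  -- the product map is injective
  have hprod : Nat.card ↥H ∣ Nat.card ↥(resSub H s) * Nat.card ↥(resSub H sᶜ) := by
    rw [← hR1, ← hR2, ← Nat.card_prod]
    apply Subgroup.card_dvd_of_injective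
      ((res_hom H s ht1).rangeRestrict.prod (res_hom H sᶜ ht2).rangeRestrict)
    intro g h hgh
    have h1 : res_hom H s ht1 g = res_hom H s ht1 h := by
      have := congrArg (fun z => ((z.1 : ↥(res_hom H s ht1).range) : Equiv.Perm ↥s)) hgh
      exact this
    have h2 : res_hom H sᶜ ht2 g = res_hom H sᶜ ht2 h := by
      have := congrArg (fun z => ((z.2 : ↥(res_hom H sᶜ ht2).range) : Equiv.Perm ↥(sᶜ : Set α))) hgh
      exact this
    apply Subtype.ext
    ext x
    by_cases hx : x ∈ s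
    · have := congrArg (fun σ : Equiv.Perm ↥s => ((σ ⟨x, hx⟩ : ↥s) : α)) h1
      exact this
    · have := congrArg (fun σ : Equiv.Perm ↥(sᶜ : Set α) => ((σ ⟨x, hx⟩ : ↥(sᶜ : Set α)) : α)) h2
      exact this
  -- positivity
  have hc1 : Nat.card ↥(resSub H s) ≠ 0 := Nat.card_pos.ne'
  have hc2 : Nat.card ↥(resSub H sᶜ) ≠ 0 := Nat.card_pos.ne'
  have hcH : Nat.card ↥H ≠ 0 := Nat.card_pos.ne'
  have hf1 : (Nat.card ↥s).factorial ≠ 0 := Nat.factorial_ne_zero _
  have hf2 : (Nat.card α - Nat.card ↥s).factorial ≠ 0 := Nat.factorial_ne_zero _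
  have hch : Nat.choose (Nat.card α) (Nat.card ↥s) ≠ 0 := (Nat.choose_pos hj).ne'
  -- the key computation with `p`-adic valuations
  have key : ∀ p : ℕ, p.Prime → p ∈ π →
      (Nat.choose (Nat.card α) (Nat.card ↥s)).factorization p = 0 ∧
      (Nat.card ↥s).factorial.factorization p ≤ (Nat.card ↥(resSub H s)).factorization p ∧
      (Nat.card α - Nat.card ↥s).factorial.factorization p
        ≤ (Nat.card ↥(resSub H sᶜ)).factorization p := by
    intro p hp hpπ
    have e1 := hall_perm_factorization hH hp hpπ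
    have e2 : (Nat.card α).factorial.factorization p =
        (Nat.choose (Nat.card α) (Nat.card ↥s)).factorization p +
          (Nat.card ↥s).factorial.factorization p +
          (Nat.card α - Nat.card ↥s).factorial.factorization p := by
      rw [← Nat.choose_mul_factorial_mul_factorial hj,
        Nat.factorization_mul (Nat.mul_ne_zero hch hf1) hf2, Nat.factorization_mul hch hf1]
      rfl
    have e3 : (Nat.card ↥H).factorization p ≤
        (Nat.card ↥(resSub H s)).factorization p + (Nat.card ↥(resSub H sᶜ)).factorization p := by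
      have := (Nat.factorization_le_iff_dvd hcH (Nat.mul_ne_zero hc1 hc2)).mpr hprod p
      rw [Nat.factorization_mul hc1 hc2] at this
      exact this
    have e4 := (Nat.factorization_le_iff_dvd hc1 hf1).mpr hl1 p
    have e5 := (Nat.factorization_le_iff_dvd hc2 hf2).mpr hl2 p
    omega
  refine ⟨?_, ?_, ?_⟩
  · apply isPiHall_of_factorization
    · intro p hp hpd
      exact hH.1 p hp (hpd.trans hd1)
    · intro p hp hpπ
      rw [Nat.card_perm]
      exact (key p hp hpπ).2.1
  · apply isPiHall_of_factorization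
    · intro p hp hpd
      exact hH.1 p hp (hpd.trans hd2)
    · intro p hp hpπ
      rw [Nat.card_perm, hcj]
      exact (key p hp hpπ).2.2
  · intro p hp hpπ hpd
    have h0 := (key p hp hpπ).1
    have h1 : 1 ≤ (Nat.choose (Nat.card α) (Nat.card ↥s)).factorization p :=
      (hp.dvd_iff_one_le_factorization hch).mp hpd
    omega

end leaves

end Cfsg.Agent.Lib.Helper15.Hs
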