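import Cfsg.Agent.Lib.Helper15.HsBasic
import Cfsg.Agent.Lib.Helper78.HsRES

/-! # HA-FIX (helper14's Ha hive, S2534): a Hall subgroup of `Perm α` in the standard case
(`|α|` prime, `π` = the primes below it) fixes a point. -/

set_option autoImplicit false

namespace Cfsg.Agent.Lib.Helper14.Ha

open Cfsg Cfsg.Agent.Lib.Helper15.Hs

/-- `n ≤ C(n, j)` for `1 ≤ j ≤ n - 1` -/
theorem fix_le_choose : ∀ n j : ℕ, 1 ≤ j → j + 1 ≤ n → n ≤ Nat.choose n j := by
  intro n
  induction n with
  | zero => intro j _ h; omega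
  | succ n ih =>
    intro j hj hjn
    obtain ⟨k, rfl⟩ : ∃ k, j = k + 1 := ⟨j - 1, by omega⟩
    rcases Nat.eq_zero_or_pos k with hk | hk
    · subst hk
      simp
    · rcases Nat.lt_or_ge (k + 1) n with h1 | h1
      · rw [Nat.choose_succ_succ']
        have h2 := ih k hk (by omega)
        have h3 : 0 < Nat.choose n (k + 1) := Nat.choose_pos (by omega)
        omega
      · have hkn : k + 1 = n := by omega
        rw [hkn, Nat.choose_succ_self_right]

/-- for a prime `m` and `2 ≤ k ≤ m - 2` some prime `r < m` divides `C(m, k)` -/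
theorem fix_prime_dvd_choose (m k : ℕ) (hm : m.Prime) (h2 : 2 ≤ k) (hk : k + 2 ≤ m) :
    ∃ r : ℕ, r.Prime ∧ r < m ∧ r ∣ Nat.choose m k := by
  obtain ⟨n, rfl⟩ : ∃ n, m = n + 1 := ⟨m - 1, by omega⟩
  obtain ⟨j, rfl⟩ : ∃ j, k = j + 1 := ⟨k - 1, by omega⟩
  have hid := Nat.add_one_mul_choose_eq n j
  have hc : n ≤ Nat.choose n j := fix_le_choose n j (by omega) (by omega)
  have hdvd : (n + 1) ∣ Nat.choose (n + 1) (j + 1) :=
    hm.dvd_choose_self (by omega) (by omega)
  obtain ⟨t, ht⟩ := hdvd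
  have ht1 : t ≠ 1 := by
    intro h1
    rw [h1, mul_one] at ht
    rw [ht] at hid
    have : Nat.choose n j = j + 1 := Nat.eq_of_mul_eq_mul_left (by omega) hid
    omega
  obtain ⟨r, hr, hrt⟩ := Nat.exists_prime_and_dvd ht1
  have hrN : r ∣ Nat.choose (n + 1) (j + 1) := by rw [ht]; exact Dvd.dvd.mul_left hrt _
  have hNfact : Nat.choose (n + 1) (j + 1) ∣ (n + 1).factorial := by
    have := Nat.choose_mul_factorial_mul_factorial (n := n + 1) (k := j + 1) (by omega)
    rw [← this, mul_assoc]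
    exact Dvd.intro _ rfl
  have hrle : r ≤ n + 1 := (hr.dvd_factorial).mp (hrN.trans hNfact)
  refine ⟨r, hr, ?_, hrN⟩
  rcases Nat.lt_or_ge r (n + 1) with h | h
  · exact h
  · exfalso
    have hre : r = n + 1 := by omega
    rw [hre] at hrt
    -- `(n+1)² ∣ (n+1)!`, impossible
    have h1 : (n + 1) * (n + 1) ∣ (n + 1).factorial := by
      have : (n + 1) * (n + 1) ∣ Nat.choose (n + 1) (j + 1) := by
        rw [ht]; exact Nat.mul_dvd_mul_left _ hrt
      exact this.trans hNfact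
    rw [Nat.factorial_succ] at h1
    have h3 : (n + 1) ∣ n.factorial := Nat.dvd_of_mul_dvd_mul_left (by omega) h1
    have := (hm.dvd_factorial).mp h3
    omega

section perm

variable {α : Type*} [Fintype α] [DecidableEq α] (π : Set ℕ) (H : Subgroup (Equiv.Perm α))

/-- HA-FIX -/
theorem hall_fixed_point (hH : IsPiHall π H) (hstd : StdCase π (Nat.card α)) :
    ∃ x : α, ∀ g ∈ H, g x = x := by
  classical
  obtain ⟨hm, hπ⟩ := hstd
  have hne : Nonempty α := by
    have : Nat.card α ≠ 0 := hm.ne_zero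
    exact (Nat.card_pos_iff.mp (Nat.pos_of_ne_zero this)).1
  obtain ⟨x₀⟩ := hne
  -- the orbit of `x₀`
  have hs : ∀ g ∈ H, ∀ x ∈ MulAction.orbit H x₀, g x ∈ MulAction.orbit H x₀ := by
    intro g hg x hx
    obtain ⟨h, rfl⟩ := MulAction.mem_orbit_iff.mp hx
    exact MulAction.mem_orbit_iff.mpr ⟨⟨g, hg⟩ * h, by rw [mul_smul]; rfl⟩
  obtain ⟨-, -, hchoose⟩ := hall_restrict π H hH (MulAction.orbit H x₀) hs
  have hx₀ : x₀ ∈ MulAction.orbit H x₀ := MulAction.mem_orbit_self x₀
  -- the numbers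
  have hjm : Nat.card ↥(MulAction.orbit H x₀) + Nat.card ↥((MulAction.orbit H x₀)ᶜ : Set α)
      = Nat.card α := by
    rw [Nat.card_coe_set_eq, Nat.card_coe_set_eq]
    exact Set.ncard_add_ncard_compl _ (Set.toFinite _) (Set.toFinite _)
  have hk1 : 1 ≤ Nat.card ↥(MulAction.orbit H x₀) := by
    have : Nonempty ↥(MulAction.orbit H x₀) := ⟨⟨x₀, hx₀⟩⟩
    exact Nat.card_pos
  have hkdvd : Nat.card ↥(MulAction.orbit H x₀) ∣ Nat.card ↥H := by
    rw [Nat.card_coe_set_eq, ← MulAction.index_stabilizer]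
    exact Subgroup.index_dvd_card _
  -- case analysis on the size of the orbit
  rcases Nat.lt_or_ge (Nat.card ↥(MulAction.orbit H x₀)) 2 with hk | hk
  · -- the orbit is `{x₀}`
    have hk' : Nat.card ↥(MulAction.orbit H x₀) = 1 := by omega
    have hsub := (Nat.card_eq_one_iff_unique.mp hk').1
    refine ⟨x₀, fun g hg => ?_⟩
    have := hsub.elim ⟨g x₀, hs g hg x₀ hx₀⟩ ⟨x₀, hx₀⟩
    exact congrArg Subtype.val this
  · rcases Nat.lt_or_ge (Nat.card ↥(MulAction.orbit H x₀) + 2) (Nat.card α + 1) with hk2 | hk2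
    · -- `2 ≤ k ≤ m - 2`: a prime `r < m` divides the binomial coefficient
      exfalso
      obtain ⟨r, hr, hrm, hrd⟩ := fix_prime_dvd_choose (Nat.card α)
        (Nat.card ↥(MulAction.orbit H x₀)) hm hk (by omega)
      exact hchoose r hr ((hπ r hr hrm.le).mpr hrm) hrd
    · rcases Nat.lt_or_ge (Nat.card ↥(MulAction.orbit H x₀)) (Nat.card α) with hk3 | hk3
      · -- `k = m - 1`: the complement is a fixed point
        have hc1 : Nat.card ↥((MulAction.orbit H x₀)ᶜ : Set α) = 1 := by omega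
        obtain ⟨hsub, ⟨y⟩⟩ := Nat.card_eq_one_iff_unique.mp hc1
        refine ⟨y.1, fun g hg => ?_⟩
        have hgy : g y.1 ∈ ((MulAction.orbit H x₀)ᶜ : Set α) := by
          intro hmem
          exact y.2 ((res_iff H _ hs g hg y.1).mp hmem)
        have := hsub.elim ⟨g y.1, hgy⟩ y
        exact congrArg Subtype.val this
      · -- `k = m`: then `m ∣ |H|`, so `m ∈ π`
        exfalso
        have hkm : Nat.card ↥(MulAction.orbit H x₀) = Nat.card α := by omega
        rw [hkm] at hkdvd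
        have hmπ : Nat.card α ∈ π := hH.1 _ hm hkdvd
        have := (hπ _ hm le_rfl).mp hmπ
        omega

end perm

end Cfsg.Agent.Lib.Helper14.Ha
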