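import Mathlib
import Cfsg.Agent.Lib.Helper22.CgDefs

/-! # Cg hive (S4257; architect helper22): leaf CG7b `cg7b` (second hand, helper78) -/

set_option autoImplicit false

namespace Cfsg.Agent.Lib.Helper22.Cg

open Subgroup

universe u

/-- CG7b. centralizer of a product of two powers. -/
theorem cg7b {G : Type u} [Group G] (g a b : G) (hab : a * b = g) (ha : a ∈ zpowers g)
    (hb : b ∈ zpowers g) :
    centralizer ({g} : Set G) = centralizer ({a} : Set G) ⊓ centralizer ({b} : Set G) := by
  have key : ∀ (c : G), g * c = c * g → ∀ z ∈ zpowers g, z * c = c * z := by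
    intro c hc z hz
    obtain ⟨n, rfl⟩ := mem_zpowers_iff.mp hz
    have h1 : Commute g c := hc
    exact (h1.zpow_left n).eq
  ext c
  rw [mem_inf, mem_centralizer_iff, mem_centralizer_iff, mem_centralizer_iff]
  constructor
  · intro h
    have hg : g * c = c * g := h g (Set.mem_singleton g)
    refine ⟨?_, ?_⟩
    · intro z hz
      rw [Set.mem_singleton_iff] at hz
      subst hz
      exact key c hg _ ha
    · intro z hz
      rw [Set.mem_singleton_iff] at hz
      subst hz
      exact key c hg _ hb
  · rintro ⟨h1, h2⟩ z hz
    rw [Set.mem_singleton_iff] at hz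
    subst hz
    have e1 : a * c = c * a := h1 a (Set.mem_singleton a)
    have e2 : b * c = c * b := h2 b (Set.mem_singleton b)
    rw [← hab, mul_assoc, e2, ← mul_assoc, e1, mul_assoc]

end Cfsg.Agent.Lib.Helper22.Cg
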