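import Mathlib
import Cfsg.Agent.Lib.Helper41.PsDefs
import Cfsg.Agent.Lib.Helper33.SylowSub
import Cfsg.Agent.Lib.Helper33.PPrimeCore
import Cfsg.Agent.Lib.Helper34.CgCG6c

/-! # Ps hive (S4321; architect helper41): leaf PS11 `ps_abs2`

A `p`-element `y` central modulo a normal `p'`-subgroup `N`: `⟨y⟩` is a Sylow `p`-subgroup of `⟨y⟩N`, every
conjugate of `y` is an `N`-conjugate (relative Sylow, Helper33 `sylow_sub`), so `G = C(y) N` and CG6c applies. -/

set_option autoImplicit false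

namespace Cfsg.Agent.Lib.Helper41.Ps

open Subgroup
open Cfsg.Agent.Lib.Helper22.Cg

universe u

/-- PS11. a `p`-element that is central modulo a normal `p'`-subgroup `N` has class size dividing
`|N|` (all its conjugates are `N`-conjugates: Sylow in `N ⊔ zpowers y`). -/
theorem ps_abs2 {G : Type u} [Group G] [Finite G] (p : ℕ) [Fact p.Prime] (N : Subgroup G)
    [N.Normal] (hpN : ¬ p ∣ Nat.card N) (y : G) (hy : ∃ n : ℕ, orderOf y = p ^ n)
    (hcen : ∀ g : G, (g * y * g⁻¹) * y⁻¹ ∈ N) : cs y ∣ Nat.card N := by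
  classical
  have hp : p.Prime := Fact.out
  obtain ⟨n, hn⟩ := hy
  set Y : Subgroup G := zpowers y with hY
  have hyY : y ∈ Y := mem_zpowers y
  have hYcard : Nat.card Y = p ^ n := by rw [hY, Nat.card_zpowers, hn]
  have hYp : IsPGroup p Y := IsPGroup.of_card hYcard
  have hYN : Y ⊓ N = ⊥ := by
    refine (Subgroup.disjoint_of_coprime_natCard ?_).eq_bot
    rw [hYcard]
    exact Nat.Coprime.pow_left n ((Nat.Prime.coprime_iff_not_dvd hp).2 hpN)
  have hPi : ¬ p ∣ Y.relIndex (Y ⊔ N) := by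
    have h1 := Cfsg.Agent.Lib.Helper33.card_sup_dvd_mul' Y N
    rw [← Cfsg.Agent.Lib.Helper33.card_mul_relIndex_eq' (le_sup_left : Y ≤ Y ⊔ N)] at h1
    have h2 : Y.relIndex (Y ⊔ N) ∣ Nat.card N := (Nat.mul_dvd_mul_iff_left Nat.card_pos).mp h1
    intro h
    exact hpN (dvd_trans h h2)
  have hnc : ∀ w : G, w * y * w⁻¹ ∈ Y → w * y = y * w := by
    intro w hw
    have h1 : (w * y * w⁻¹) * y⁻¹ ∈ Y ⊓ N :=
      mem_inf.mpr ⟨Y.mul_mem hw (Y.inv_mem hyY), hcen w⟩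
    rw [hYN, mem_bot] at h1
    have h2 : w * y * w⁻¹ = y := mul_inv_eq_one.mp h1
    calc w * y = (w * y * w⁻¹) * w := by group
      _ = y * w := by rw [h2]
  have hfac : ∀ g : G, ∃ c ∈ centralizer ({y} : Set G), ∃ m ∈ N, g = c * m := by
    intro g
    set z : G := g * y * g⁻¹ with hz
    have hzM : z ∈ Y ⊔ N := by
      have e : z = (z * y⁻¹) * y := by group
      rw [e]
      exact (Y ⊔ N).mul_mem ((le_sup_right : N ≤ Y ⊔ N) (hcen g)) ((le_sup_left : Y ≤ Y ⊔ N) hyY)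
    have hHM : zpowers z ≤ Y ⊔ N := (zpowers_le).mpr hzM
    have hzpow : z ^ (p ^ n) = 1 := by
      rw [hz, conj_pow, ← hn, pow_orderOf_eq_one, mul_one, mul_inv_cancel]
    have hH : IsPGroup p (zpowers z) := by
      rintro ⟨x, hx⟩
      obtain ⟨k, rfl⟩ := mem_zpowers_iff.mp hx
      refine ⟨n, Subtype.ext ?_⟩
      show (z ^ k) ^ (p ^ n) = 1
      rw [← zpow_natCast, ← zpow_mul, mul_comm, zpow_mul, zpow_natCast, hzpow, one_zpow]
    obtain ⟨c, hcM, hle⟩ :=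
      Cfsg.Agent.Lib.Helper33.sylow_sub (le_sup_left : Y ≤ Y ⊔ N) hYp hPi hHM hH
    have h1 : c * z * c⁻¹ ∈ Y :=
      hle (Cfsg.Agent.Lib.Helper33.mem_cj'.mpr ⟨z, mem_zpowers z, rfl⟩)
    have h2 : (c * g) * y * (c * g)⁻¹ ∈ Y := by
      have e : (c * g) * y * (c * g)⁻¹ = c * z * c⁻¹ := by rw [hz]; group
      rw [e]
      exact h1
    have h3 := hnc (c * g) h2
    have hcM' : c ∈ ((Y ⊔ N : Subgroup G) : Set G) := hcM
    rw [Subgroup.mul_normal] at hcM'
    obtain ⟨y0, hy0, n0, hn0, hc0⟩ := Set.mem_mul.mp hcM'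
    have hy0c : y0 * y = y * y0 := by
      obtain ⟨k, rfl⟩ := mem_zpowers_iff.mp hy0
      exact ((Commute.refl y).zpow_left k).eq
    have hy0c' : y0⁻¹ * y = y * y0⁻¹ := by
      calc y0⁻¹ * y = y0⁻¹ * (y * y0) * y0⁻¹ := by group
        _ = y0⁻¹ * (y0 * y) * y0⁻¹ := by rw [hy0c]
        _ = y * y0⁻¹ := by group
    have hc'y : (y0⁻¹ * (c * g)) * y = y * (y0⁻¹ * (c * g)) := by
      calc (y0⁻¹ * (c * g)) * y = y0⁻¹ * ((c * g) * y) := by group
        _ = y0⁻¹ * (y * (c * g)) := by rw [h3]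
        _ = (y0⁻¹ * y) * (c * g) := by group
        _ = (y * y0⁻¹) * (c * g) := by rw [hy0c']
        _ = y * (y0⁻¹ * (c * g)) := by group
    refine ⟨y0⁻¹ * (c * g), ?_, (y0⁻¹ * (c * g))⁻¹ * n0⁻¹ * (y0⁻¹ * (c * g)), ?_, ?_⟩
    · rw [mem_centralizer_iff]
      intro w hw
      rw [Set.mem_singleton_iff] at hw
      subst hw
      exact hc'y.symm
    · exact (inferInstance : N.Normal).conj_mem' n0⁻¹ (N.inv_mem hn0) _
    · rw [← hc0]
      group
  exact cg6c (centralizer ({y} : Set G)) N hfac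

end Cfsg.Agent.Lib.Helper41.Ps
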