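import Mathlib
import Cfsg.Prelude.Def_ClassicalGeometry
import Cfsg.Prelude.Def_GeometricClasses
import Cfsg.Prelude.Def_Classical
import Cfsg.Agent.Lib.Helper14.QmDefs

/-! # QM-NALT (helper14's Qm hive, S5990): the non-alternating model involution of rank `s`
for the minus form. -/

set_option autoImplicit false

namespace Cfsg.Agent.Lib.Helper14.Qm

open Module
open Cfsg.Agent.Lib.Helper8 (minusForm IsInvIso nilPart)

section char2

variable {F : Type*} [Field F]

/-- the model: swap `inl (inl i) ↔ inl (inr i)` for `i < s`, and `v₀ ↦ v₀ + ε v₁` on the plane -/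
def naltT (d s : ℕ) (ε : F) : (VM d F) →ₗ[F] (VM d F) where
  toFun v j := match j with
    | Sum.inl (Sum.inl i) =>
        if i.val < s then v (Sum.inl (Sum.inr i)) else v (Sum.inl (Sum.inl i))
    | Sum.inl (Sum.inr i) =>
        if i.val < s then v (Sum.inl (Sum.inl i)) else v (Sum.inl (Sum.inr i))
    | Sum.inr k => if k = 0 then v (Sum.inr 0) + ε * v (Sum.inr 1) else v (Sum.inr 1)
  map_add' u v := by
    funext j
    rcases j with (i | i) | k
    · by_cases h : i.val < s <;> simp [h]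
    · by_cases h : i.val < s <;> simp [h]
    · by_cases h : k = 0
      · simp [h]; ring
      · simp [h]
  map_smul' c v := by
    funext j
    rcases j with (i | i) | k
    · by_cases h : i.val < s <;> simp [h]
    · by_cases h : i.val < s <;> simp [h]
    · by_cases h : k = 0
      · simp [h]; ring
      · simp [h]

theorem naltT_ll (d s : ℕ) (ε : F) (v : VM d F) (i : Fin (d - 1)) :
    naltT d s ε v (Sum.inl (Sum.inl i)) =
      if i.val < s then v (Sum.inl (Sum.inr i)) else v (Sum.inl (Sum.inl i)) := rfl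

theorem naltT_lr (d s : ℕ) (ε : F) (v : VM d F) (i : Fin (d - 1)) :
    naltT d s ε v (Sum.inl (Sum.inr i)) =
      if i.val < s then v (Sum.inl (Sum.inl i)) else v (Sum.inl (Sum.inr i)) := rfl

theorem naltT_r0 (d s : ℕ) (ε : F) (v : VM d F) :
    naltT d s ε v (Sum.inr 0) = v (Sum.inr 0) + ε * v (Sum.inr 1) := rfl

theorem naltT_r1 (d s : ℕ) (ε : F) (v : VM d F) :
    naltT d s ε v (Sum.inr 1) = v (Sum.inr 1) := rfl

theorem nalt_QM_apply (d : ℕ) (a b : F) (v : VM d F) :
    QM d F a b v = (∑ i : Fin (d - 1), v (Sum.inl (Sum.inl i)) * v (Sum.inl (Sum.inr i)))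
      + (v (Sum.inr 0) ^ 2 + a * v (Sum.inr 0) * v (Sum.inr 1) + b * v (Sum.inr 1) ^ 2) := by
  show minusForm (d - 1) F a b v = _
  rw [← Cfsg.Agent.Lib.Helper8.minusForm_coe]; rfl

theorem nalt_iso (h2 : (2 : F) = 0) (d s : ℕ) (a b ε : F) (hε : ε * (ε + a) = 0) (v : VM d F) :
    QM d F a b (naltT d s ε v) = QM d F a b v := by
  rw [nalt_QM_apply, nalt_QM_apply]
  congr 1
  · apply Finset.sum_congr rfl
    intro i _
    rw [naltT_ll, naltT_lr]
    by_cases h : i.val < s
    · rw [if_pos h, if_pos h, mul_comm]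
    · rw [if_neg h, if_neg h]
  · rw [naltT_r0, naltT_r1]
    linear_combination (v (Sum.inr 1)) ^ 2 * hε + ε * v (Sum.inr 0) * v (Sum.inr 1) * h2

theorem nalt_inv (h2 : (2 : F) = 0) (d s : ℕ) (ε : F) (v : VM d F) :
    naltT d s ε (naltT d s ε v) = v := by
  funext j
  rcases j with (i | i) | k
  · rw [naltT_ll]
    by_cases h : i.val < s
    · rw [if_pos h, naltT_lr, if_pos h]
    · rw [if_neg h, naltT_ll, if_neg h]
  · rw [naltT_lr]
    by_cases h : i.val < s
    · rw [if_pos h, naltT_ll, if_pos h]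
    · rw [if_neg h, naltT_lr, if_neg h]
  · fin_cases k
    · show naltT d s ε (naltT d s ε v) (Sum.inr 0) = v (Sum.inr 0)
      rw [naltT_r0, naltT_r0, naltT_r1]
      linear_combination ε * v (Sum.inr 1) * h2
    · show naltT d s ε (naltT d s ε v) (Sum.inr 1) = v (Sum.inr 1)
      rw [naltT_r1, naltT_r1]

theorem nalt_nil_ll (d s : ℕ) (ε : F) (v : VM d F) (i : Fin (d - 1)) :
    nilPart (naltT d s ε) v (Sum.inl (Sum.inl i)) =
      if i.val < s then v (Sum.inl (Sum.inr i)) - v (Sum.inl (Sum.inl i)) else 0 := by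
  rw [Cfsg.Agent.Lib.Helper8.nilPart_apply, Pi.sub_apply, naltT_ll]
  by_cases h : i.val < s
  · rw [if_pos h, if_pos h]
  · rw [if_neg h, if_neg h, sub_self]

theorem nalt_nil_lr (d s : ℕ) (ε : F) (v : VM d F) (i : Fin (d - 1)) :
    nilPart (naltT d s ε) v (Sum.inl (Sum.inr i)) =
      if i.val < s then v (Sum.inl (Sum.inl i)) - v (Sum.inl (Sum.inr i)) else 0 := by
  rw [Cfsg.Agent.Lib.Helper8.nilPart_apply, Pi.sub_apply, naltT_lr]
  by_cases h : i.val < s
  · rw [if_pos h, if_pos h]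
  · rw [if_neg h, if_neg h, sub_self]

theorem nalt_nil_r0 (d s : ℕ) (ε : F) (v : VM d F) :
    nilPart (naltT d s ε) v (Sum.inr 0) = ε * v (Sum.inr 1) := by
  rw [Cfsg.Agent.Lib.Helper8.nilPart_apply, Pi.sub_apply, naltT_r0]; ring

theorem nalt_nil_r1 (d s : ℕ) (ε : F) (v : VM d F) :
    nilPart (naltT d s ε) v (Sum.inr 1) = 0 := by
  rw [Cfsg.Agent.Lib.Helper8.nilPart_apply, Pi.sub_apply, naltT_r1, sub_self]

/-- the parametrisation of the range of `t - 1` -/
def naltPsi (d s : ℕ) : (Fin s → F) →ₗ[F] (VM d F) where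
  toFun c j := match j with
    | Sum.inl (Sum.inl i) => if h : i.val < s then c ⟨i.val, h⟩ else 0
    | Sum.inl (Sum.inr i) => if h : i.val < s then - c ⟨i.val, h⟩ else 0
    | Sum.inr k => if k = 0 then (if h : d - 1 < s then c ⟨d - 1, h⟩ else 0) else 0
  map_add' x y := by
    funext j
    rcases j with (i | i) | k
    · by_cases h : i.val < s <;> simp [h]
    · by_cases h : i.val < s <;> simp [h, add_comm]
    · by_cases hk : k = 0
      · by_cases h : d - 1 < s <;> simp [hk, h]
      · simp [hk]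
  map_smul' x y := by
    funext j
    rcases j with (i | i) | k
    · by_cases h : i.val < s <;> simp [h]
    · by_cases h : i.val < s <;> simp [h]
    · by_cases hk : k = 0
      · by_cases h : d - 1 < s <;> simp [hk, h]
      · simp [hk]

theorem naltPsi_ll (d s : ℕ) (c : Fin s → F) (i : Fin (d - 1)) :
    naltPsi (F := F) d s c (Sum.inl (Sum.inl i)) = if h : i.val < s then c ⟨i.val, h⟩ else 0 := rfl

theorem naltPsi_lr (d s : ℕ) (c : Fin s → F) (i : Fin (d - 1)) :
    naltPsi (F := F) d s c (Sum.inl (Sum.inr i)) = if h : i.val < s then - c ⟨i.val, h⟩ else 0 := rfl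

theorem naltPsi_r0 (d s : ℕ) (c : Fin s → F) :
    naltPsi (F := F) d s c (Sum.inr 0) = if h : d - 1 < s then c ⟨d - 1, h⟩ else 0 := rfl

theorem naltPsi_r1 (d s : ℕ) (c : Fin s → F) :
    naltPsi (F := F) d s c (Sum.inr 1) = 0 := rfl

theorem naltPsi_injective (d s : ℕ) (hsd : s ≤ d) :
    Function.Injective (naltPsi (F := F) d s) := by
  intro x y hxy
  funext k
  by_cases hk : k.val < d - 1
  · have := congrFun hxy (Sum.inl (Sum.inl ⟨k.val, hk⟩))
    rw [naltPsi_ll, naltPsi_ll, dif_pos k.isLt, dif_pos k.isLt] at this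
    exact this
  · have hk' : k.val = d - 1 := by have := k.isLt; omega
    have hlt : d - 1 < s := by rw [← hk']; exact k.isLt
    have := congrFun hxy (Sum.inr 0)
    rw [naltPsi_r0, naltPsi_r0, dif_pos hlt, dif_pos hlt] at this
    have hke : k = ⟨d - 1, hlt⟩ := Fin.ext hk'
    rw [hke]; exact this

/-- the parameter `ε` of the model: `a` if `s = d` (i.e. `d - 1 < s`), else `0` -/
def naltEps (d s : ℕ) (a : F) : F := if d - 1 < s then a else 0

theorem nalt_eps_mul (h2 : (2 : F) = 0) (d s : ℕ) (a : F) :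
    naltEps d s a * (naltEps d s a + a) = 0 := by
  unfold naltEps
  by_cases h : d - 1 < s
  · rw [if_pos h]; linear_combination a ^ 2 * h2
  · rw [if_neg h, zero_mul]

theorem nalt_range (d s : ℕ) (a : F) (ha : d - 1 < s → a ≠ 0) :
    LinearMap.range (nilPart (naltT d s (naltEps d s a))) =
      LinearMap.range (naltPsi (F := F) d s) := by
  apply le_antisymm
  · rintro w ⟨v, rfl⟩
    refine ⟨fun k => if h : k.val < d - 1
      then v (Sum.inl (Sum.inr ⟨k.val, h⟩)) - v (Sum.inl (Sum.inl ⟨k.val, h⟩))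
      else a * v (Sum.inr 1), ?_⟩
    funext j
    rcases j with (i | i) | k
    · rw [naltPsi_ll, nalt_nil_ll]
      by_cases h : i.val < s
      · rw [dif_pos h, if_pos h, dif_pos i.isLt]
      · rw [dif_neg h, if_neg h]
    · rw [naltPsi_lr, nalt_nil_lr]
      by_cases h : i.val < s
      · rw [dif_pos h, if_pos h, dif_pos i.isLt, neg_sub]
      · rw [dif_neg h, if_neg h]
    · fin_cases k
      · show naltPsi d s _ (Sum.inr 0) = nilPart _ v (Sum.inr 0)
        rw [naltPsi_r0, nalt_nil_r0]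
        unfold naltEps
        by_cases h : d - 1 < s
        · rw [dif_pos h, if_pos h, dif_neg (lt_irrefl _)]
        · rw [dif_neg h, if_neg h, zero_mul]
      · show naltPsi d s _ (Sum.inr 1) = nilPart _ v (Sum.inr 1)
        rw [naltPsi_r1, nalt_nil_r1]
  · rintro w ⟨c, rfl⟩
    refine ⟨fun j => match j with
      | Sum.inl (Sum.inl _) => 0
      | Sum.inl (Sum.inr i) => if h : i.val < s then c ⟨i.val, h⟩ else 0
      | Sum.inr k => if k = 0 then 0 else (if h : d - 1 < s then c ⟨d - 1, h⟩ / a else 0), ?_⟩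
    funext j
    rcases j with (i | i) | k
    · rw [naltPsi_ll, nalt_nil_ll]
      by_cases h : i.val < s
      · rw [dif_pos h, if_pos h]
        simp [h]
      · rw [dif_neg h, if_neg h]
    · rw [naltPsi_lr, nalt_nil_lr]
      by_cases h : i.val < s
      · rw [dif_pos h, if_pos h]
        simp [h]
      · rw [dif_neg h, if_neg h]
    · fin_cases k
      · show (nilPart (naltT d s (naltEps d s a)) _ : VM d F) (Sum.inr 0) = naltPsi d s c (Sum.inr 0)
        rw [naltPsi_r0, nalt_nil_r0]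
        unfold naltEps
        by_cases h : d - 1 < s
        · rw [dif_pos h, if_pos h]
          have ha' := ha h
          simp [h]
          field_simp
        · simp [h]
      · show (nilPart (naltT d s (naltEps d s a)) _ : VM d F) (Sum.inr 1) = naltPsi d s c (Sum.inr 1)
        rw [naltPsi_r1, nalt_nil_r1]

theorem nalt_finrank (d s : ℕ) (hsd : s ≤ d) (a : F) (ha : d - 1 < s → a ≠ 0) :
    finrank F (LinearMap.range (nilPart (naltT d s (naltEps d s a)))) = s := by
  rw [nalt_range d s a ha, LinearMap.finrank_range_of_inj (naltPsi_injective d s hsd),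
    Module.finrank_fin_fun]

theorem nalt_ell (d s : ℕ) (ε : F) (S : Set (Fin (d - 1))) :
    (ellSub d F S).map (naltT d s ε) ≤ ellSub d F S := by
  rintro w ⟨v, hv, rfl⟩
  rw [mem_ellSub]
  intro i hi
  have hv' := (mem_ellSub.mp hv) i hi
  rw [naltT_ll, naltT_lr]
  by_cases h : i.val < s
  · rw [if_pos h, if_pos h]; exact ⟨hv'.2, hv'.1⟩
  · rw [if_neg h, if_neg h]; exact hv'

theorem nalt_nonalt (d s : ℕ) (hs1 : 1 ≤ s) (a b : F)
    (ha : d - 1 < s → a ≠ 0) :
    ∃ z : VM d F, QM d F a b (nilPart (naltT d s (naltEps d s a)) z) ≠ 0 := by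
  classical
  rcases Nat.eq_zero_or_pos (d - 1) with hd | hd
  · -- `d = 1 = s`
    have hlt : d - 1 < s := by omega
    have ha' := ha hlt
    refine ⟨Pi.single (Sum.inr 1) 1, ?_⟩
    rw [nalt_QM_apply, nalt_nil_r0, nalt_nil_r1]
    have hem : IsEmpty (Fin (d - 1)) := by rw [hd]; infer_instance
    rw [Finset.sum_eq_zero (fun i _ => (hem.false i).elim)]
    unfold naltEps
    rw [if_pos hlt]
    simp only [Pi.single_eq_same, mul_one, mul_zero, zero_add]
    simpa using ha'
  · -- `d ≥ 2`: the first hyperbolic pair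
    refine ⟨Pi.single (Sum.inl (Sum.inr ⟨0, hd⟩)) 1, ?_⟩
    rw [nalt_QM_apply, nalt_nil_r0, nalt_nil_r1, Finset.sum_eq_single (⟨0, hd⟩ : Fin (d - 1))]
    · rw [nalt_nil_ll, nalt_nil_lr, if_pos (by exact hs1), if_pos (by exact hs1)]
      simp
    · intro i _ hi
      rw [nalt_nil_ll, nalt_nil_lr]
      by_cases h : i.val < s
      · rw [if_pos h, if_pos h]
        have h1 : (Sum.inl (Sum.inr i) : IM d) ≠ Sum.inl (Sum.inr ⟨0, hd⟩) := by
          intro hh; exact hi (Sum.inr_injective (Sum.inl_injective hh))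
        simp [h1]
      · rw [if_neg h, zero_mul]
    · intro h; exact absurd (Finset.mem_univ _) h

/-- QM-NALT, core form: the hypothesis `a ≠ 0` is needed only for `s = d` -/
theorem std_nonalt_minus_core (h2 : (2 : F) = 0) (d s : ℕ) (hs1 : 1 ≤ s) (hsd : s ≤ d) (a b : F)
    (ha : s = d → a ≠ 0) :
    ∃ t : (VM d F) →ₗ[F] (VM d F), IsInvIso (QM d F a b) t ∧
      finrank F (LinearMap.range (nilPart t)) = s ∧
      (∃ z, QM d F a b (nilPart t z) ≠ 0) ∧
      ∀ S : Set (Fin (d - 1)), (ellSub d F S).map t ≤ ellSub d F S := by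
  have ha' : d - 1 < s → a ≠ 0 := fun h => ha (by omega)
  exact ⟨naltT d s (naltEps d s a),
    ⟨nalt_iso h2 d s a b _ (nalt_eps_mul h2 d s a), nalt_inv h2 d s _⟩,
    nalt_finrank d s hsd a ha', nalt_nonalt d s hs1 a b ha', nalt_ell d s _⟩

/-- over a finite field of characteristic 2 an anisotropic `x² + a x y + b y²` has `a ≠ 0` -/
theorem nalt_a_ne_zero [Finite F] (h2 : (2 : F) = 0) (a b : F)
    (hab : ∀ x y : F, x ^ 2 + a * x * y + b * y ^ 2 = 0 → x = 0 ∧ y = 0) : a ≠ 0 := by
  intro ha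
  have hinj : Function.Injective (fun x : F => x ^ 2) := by
    intro x y hxy
    have hxy' : x ^ 2 = y ^ 2 := hxy
    have h0 : (x - y) ^ 2 = 0 := by
      linear_combination hxy' + (y ^ 2 - x * y) * h2
    exact sub_eq_zero.mp ((pow_eq_zero_iff (two_ne_zero)).mp h0)
  obtain ⟨c, hc⟩ := Finite.surjective_of_injective hinj b
  have hc' : c ^ 2 = b := hc
  have h := hab c 1 (by rw [ha]; linear_combination hc' + b * h2)
  exact one_ne_zero h.2

/-- QM-NALT with `[Finite F]` -/
theorem std_nonalt_minus_finite [Finite F] (h2 : (2 : F) = 0) (d s : ℕ) (hs1 : 1 ≤ s)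
    (hsd : s ≤ d) (a b : F)
    (hab : ∀ x y : F, x ^ 2 + a * x * y + b * y ^ 2 = 0 → x = 0 ∧ y = 0) :
    ∃ t : (VM d F) →ₗ[F] (VM d F), IsInvIso (QM d F a b) t ∧
      finrank F (LinearMap.range (nilPart t)) = s ∧
      (∃ z, QM d F a b (nilPart t z) ≠ 0) ∧
      ∀ S : Set (Fin (d - 1)), (ellSub d F S).map t ≤ ellSub d F S :=
  std_nonalt_minus_core h2 d s hs1 hsd a b (fun _ => nalt_a_ne_zero h2 a b hab)

/-- QM-NALT (corrected statement of helper14, #5323: extra hypothesis `ha : a ≠ 0`) -/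
theorem std_nonalt_minus (h2 : (2 : F) = 0) (d s : ℕ) (hs1 : 1 ≤ s) (hsd : s ≤ d) (a b : F)
    (hab : ∀ x y : F, x ^ 2 + a * x * y + b * y ^ 2 = 0 → x = 0 ∧ y = 0) (ha : a ≠ 0) :
    ∃ t : (VM d F) →ₗ[F] (VM d F), IsInvIso (QM d F a b) t ∧
      finrank F (LinearMap.range (nilPart t)) = s ∧
      (∃ z, QM d F a b (nilPart t z) ≠ 0) ∧
      ∀ S : Set (Fin (d - 1)), (ellSub d F S).map t ≤ ellSub d F S := by
  have _ := hab
  exact std_nonalt_minus_core h2 d s hs1 hsd a b (fun _ => ha)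

end char2

end Cfsg.Agent.Lib.Helper14.Qm
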