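import Mathlib
import Cfsg.Agent.Lib.Helper15.HqArDefs

/-! # HQ-ARNEC (helper15's Hq hive, S5974): necessity of the `r`-odd arithmetic condition. -/

set_option autoImplicit false

namespace Cfsg.Agent.Lib.Helper15.Hq

/-- HQ-ARNEC -/
theorem ar_nec (d m i c j : ℕ) (hi : 0 < i) (hc : c = if Even i then i else 2 * i)
    (hme : Even m) (hm : 2 ≤ m) (hmd : m < d) (hcn : c ≤ 2 * d)
    (hside : Odd i ∨ (2 * d) % c ≠ 0 ∨ Even ((2 * d) / c)) (hcm : c ≤ m)
    (h1 : j * c ≤ m) (h2 : j * c + (2 * d) % c ≤ 2 * d) (h3 : m - j * c ≤ (2 * d) % c)
    (h4 : m = j * c → (Odd i ∨ Even j))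
    (h5 : m - j * c = (2 * d) % c → ((Odd i ∨ Even ((2 * d) / c)) ↔ (Odd i ∨ Even j))) :
    RhsOdd d m i c := by
  have _ := hme
  have _ := hside
  have _ := hm
  have _ := hmd
  have _ := hcn
  have _ := h2
  have hcpos : 0 < c := by
    rw [hc]; split_ifs <;> omega
  have hk : (2 * d) % c < c := Nat.mod_lt _ hcpos
  have hr : m - j * c < c := lt_of_le_of_lt h3 hk
  have hj : m / c = j := by
    apply Nat.div_eq_of_lt_le h1
    rw [Nat.add_mul, one_mul]; omega
  have hmod : m % c = m - j * c := by
    have := Nat.div_add_mod m c
    rw [hj, mul_comm] at this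
    omega
  rw [← hmod] at h3 h5
  unfold RhsOdd
  rcases Nat.even_or_odd i with hie | hio
  · -- `i` even, `c = i`
    have hci : c = i := by rw [hc, if_pos hie]
    have hno : ¬ Odd i := by rw [Nat.not_odd_iff_even]; exact hie
    right
    refine ⟨hie, ?_⟩
    rcases Nat.eq_zero_or_pos ((2 * d) % c) with hk0 | hkpos
    · -- `k = 0`
      left
      refine ⟨hk0, Or.inr ?_⟩
      have hm0 : m % c = 0 := by omega
      refine ⟨hm0, ?_⟩
      have hmj : m = j * c := by omega
      rcases h4 hmj with h | h
      · exact absurd h hno
      · rw [← hci, hj]; exact h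
    · right
      refine ⟨by omega, ?_⟩
      rcases Nat.eq_zero_or_pos (m % c) with hm0 | hmpos
      · right; right
        refine ⟨hkpos, hm0, ?_⟩
        have hmj : m = j * c := by omega
        rcases h4 hmj with h | h
        · exact absurd h hno
        · rw [← hci, hj]; exact h
      · rcases lt_or_eq_of_le h3 with hlt | heq
        · left; exact ⟨hlt, hmpos⟩
        · right; left
          refine ⟨heq.symm, hmpos, ?_⟩
          have h5' := h5 heq
          have hiff : Even ((2 * d) / c) ↔ Even j := by
            constructor
            · intro h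
              rcases h5'.mp (Or.inr h) with h' | h'
              · exact absurd h' hno
              · exact h'
            · intro h
              rcases h5'.mpr (Or.inr h) with h' | h'
              · exact absurd h' hno
              · exact h'
          have hn : 2 * d = c * ((2 * d) / c) + (2 * d) % c := (Nat.div_add_mod _ _).symm
          have hmm : m = c * j + m % c := by
            have := (Nat.div_add_mod m c).symm
            rw [hj] at this; exact this
          have hsum : 2 * d + m - 2 * ((2 * d) % c) = ((2 * d) / c + j) * c := by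
            rw [Nat.add_mul, mul_comm ((2 * d) / c) c, mul_comm j c]
            omega
          rw [hsum, ← hci, Nat.mul_div_cancel _ hcpos, Nat.even_add]
          exact hiff
  · -- `i` odd
    left
    exact ⟨hio, hcm, h3⟩

end Cfsg.Agent.Lib.Helper15.Hq
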