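import Mathlib
import Cfsg.Prelude.Def_ClassicalGeometry
import Cfsg.Prelude.Def_GeometricClasses
import Cfsg.Prelude.Def_Classical
import Cfsg.Agent.Lib.Helper15.HqDefs

/-! # HQ-NALT (helper15's Hq hive, S5974): the non-alternating model involution of rank `s`. -/

set_option autoImplicit false

namespace Cfsg.Agent.Lib.Helper15.Hq

open Module
open Cfsg.Agent.Lib.Helper8 (plusForm IsInvIso nilPart)

section char2

variable {F : Type*} [Field F]

local notation "VV" d => (Fin d ⊕ Fin d → F)

/-- the swap of `inl i` and `inr i` for `i < s` -/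
def naltSwap (d s : ℕ) : Fin d ⊕ Fin d → Fin d ⊕ Fin d
  | Sum.inl i => if i.val < s then Sum.inr i else Sum.inl i
  | Sum.inr i => if i.val < s then Sum.inl i else Sum.inr i

theorem naltSwap_inl (d s : ℕ) (i : Fin d) :
    naltSwap d s (Sum.inl i) = if i.val < s then Sum.inr i else Sum.inl i := rfl

theorem naltSwap_inr (d s : ℕ) (i : Fin d) :
    naltSwap d s (Sum.inr i) = if i.val < s then Sum.inl i else Sum.inr i := rfl

theorem naltSwap_swap (d s : ℕ) (j : Fin d ⊕ Fin d) : naltSwap d s (naltSwap d s j) = j := by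
  rcases j with i | i
  · by_cases h : i.val < s <;> simp [naltSwap, h]
  · by_cases h : i.val < s <;> simp [naltSwap, h]

/-- the model involution -/
def naltT (d s : ℕ) : (VV d) →ₗ[F] (VV d) := LinearMap.funLeft F F (naltSwap d s)

theorem naltT_apply (d s : ℕ) (v : VV d) (j : Fin d ⊕ Fin d) :
    naltT (F := F) d s v j = v (naltSwap d s j) := rfl

theorem nalt_plusForm_apply (d : ℕ) (z : VV d) :
    plusForm d F z = ∑ i : Fin d, z (Sum.inl i) * z (Sum.inr i) := by
  rw [← Cfsg.Agent.Lib.Helper8.plusForm_coe]; rfl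

theorem nalt_iso (d s : ℕ) (v : VV d) : plusForm d F (naltT d s v) = plusForm d F v := by
  rw [nalt_plusForm_apply, nalt_plusForm_apply]
  apply Finset.sum_congr rfl
  intro i _
  rw [naltT_apply, naltT_apply, naltSwap_inl, naltSwap_inr]
  by_cases h : i.val < s
  · rw [if_pos h, if_pos h, mul_comm]
  · rw [if_neg h, if_neg h]

theorem nalt_inv (d s : ℕ) (v : VV d) : naltT d s (naltT d s v) = v := by
  funext j
  rw [naltT_apply, naltT_apply, naltSwap_swap]

/-- the parametrisation of the range of `t - 1` -/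
def naltPsi (d s : ℕ) : (Fin s → F) →ₗ[F] (VV d) where
  toFun c j := match j with
    | Sum.inl i => if h : i.val < s then c ⟨i.val, h⟩ else 0
    | Sum.inr i => if h : i.val < s then - c ⟨i.val, h⟩ else 0
  map_add' a b := by
    funext j
    rcases j with i | i
    · by_cases h : i.val < s <;> simp [h]
    · by_cases h : i.val < s <;> simp [h, add_comm]
  map_smul' a b := by
    funext j
    rcases j with i | i
    · by_cases h : i.val < s <;> simp [h]
    · by_cases h : i.val < s <;> simp [h]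

theorem naltPsi_inl (d s : ℕ) (c : Fin s → F) (i : Fin d) :
    naltPsi (F := F) d s c (Sum.inl i) = if h : i.val < s then c ⟨i.val, h⟩ else 0 := rfl

theorem naltPsi_inr (d s : ℕ) (c : Fin s → F) (i : Fin d) :
    naltPsi (F := F) d s c (Sum.inr i) = if h : i.val < s then - c ⟨i.val, h⟩ else 0 := rfl

theorem naltPsi_injective (d s : ℕ) (hsd : s ≤ d) :
    Function.Injective (naltPsi (F := F) d s) := by
  intro a b hab
  funext k
  have := congrFun hab (Sum.inl ⟨k.val, lt_of_lt_of_le k.isLt hsd⟩)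
  rw [naltPsi_inl, naltPsi_inl, dif_pos k.isLt, dif_pos k.isLt] at this
  exact this

theorem nalt_nil_inl (d s : ℕ) (v : VV d) (i : Fin d) :
    nilPart (naltT (F := F) d s) v (Sum.inl i) =
      if i.val < s then v (Sum.inr i) - v (Sum.inl i) else 0 := by
  rw [Cfsg.Agent.Lib.Helper8.nilPart_apply, Pi.sub_apply, naltT_apply, naltSwap_inl]
  by_cases h : i.val < s
  · rw [if_pos h, if_pos h]
  · rw [if_neg h, if_neg h, sub_self]

theorem nalt_nil_inr (d s : ℕ) (v : VV d) (i : Fin d) :
    nilPart (naltT (F := F) d s) v (Sum.inr i) =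
      if i.val < s then v (Sum.inl i) - v (Sum.inr i) else 0 := by
  rw [Cfsg.Agent.Lib.Helper8.nilPart_apply, Pi.sub_apply, naltT_apply, naltSwap_inr]
  by_cases h : i.val < s
  · rw [if_pos h, if_pos h]
  · rw [if_neg h, if_neg h, sub_self]

theorem nalt_range (d s : ℕ) (hsd : s ≤ d) :
    LinearMap.range (nilPart (naltT (F := F) d s)) = LinearMap.range (naltPsi (F := F) d s) := by
  apply le_antisymm
  · rintro w ⟨v, rfl⟩
    refine ⟨fun k => v (Sum.inr ⟨k.val, lt_of_lt_of_le k.isLt hsd⟩) -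
      v (Sum.inl ⟨k.val, lt_of_lt_of_le k.isLt hsd⟩), ?_⟩
    funext j
    rcases j with i | i
    · rw [naltPsi_inl, nalt_nil_inl]
      by_cases h : i.val < s
      · rw [dif_pos h, if_pos h]
      · rw [dif_neg h, if_neg h]
    · rw [naltPsi_inr, nalt_nil_inr]
      by_cases h : i.val < s
      · rw [dif_pos h, if_pos h, neg_sub]
      · rw [dif_neg h, if_neg h]
  · rintro w ⟨c, rfl⟩
    refine ⟨fun j => match j with
      | Sum.inl _ => 0
      | Sum.inr i => if h : i.val < s then c ⟨i.val, h⟩ else 0, ?_⟩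
    funext j
    rcases j with i | i
    · rw [naltPsi_inl, nalt_nil_inl]
      by_cases h : i.val < s
      · rw [dif_pos h, if_pos h]
        simp [h]
      · rw [dif_neg h, if_neg h]
    · rw [naltPsi_inr, nalt_nil_inr]
      by_cases h : i.val < s
      · rw [dif_pos h, if_pos h]
        simp [h]
      · rw [dif_neg h, if_neg h]

theorem nalt_finrank (d s : ℕ) (hsd : s ≤ d) :
    finrank F (LinearMap.range (nilPart (naltT (F := F) d s))) = s := by
  rw [nalt_range d s hsd, LinearMap.finrank_range_of_inj (naltPsi_injective d s hsd),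
    Module.finrank_fin_fun]

theorem nalt_nonalt (d s : ℕ) (hs1 : 1 ≤ s) (hsd : s ≤ d) :
    ∃ z : VV d, plusForm d F (nilPart (naltT (F := F) d s) z) ≠ 0 := by
  classical
  have h0d : 0 < d := lt_of_lt_of_le hs1 hsd
  refine ⟨Pi.single (Sum.inr ⟨0, h0d⟩) 1, ?_⟩
  rw [nalt_plusForm_apply, Finset.sum_eq_single (⟨0, h0d⟩ : Fin d)]
  · rw [nalt_nil_inl, nalt_nil_inr, if_pos (by exact hs1), if_pos (by exact hs1)]
    simp
  · intro i _ hi
    rw [nalt_nil_inl, nalt_nil_inr]
    by_cases h : i.val < s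
    · rw [if_pos h, if_pos h]
      have h1 : (Sum.inr i : Fin d ⊕ Fin d) ≠ Sum.inr ⟨0, h0d⟩ := by
        intro hh; exact hi (Sum.inr_injective hh)
      simp [h1]
    · rw [if_neg h, zero_mul]
  · intro h; exact absurd (Finset.mem_univ _) h

theorem nalt_coord (d s : ℕ) (S : Set (Fin d)) :
    (coordSub (F := F) d S).map (naltT d s) ≤ coordSub d S := by
  rintro w ⟨v, hv, rfl⟩
  rw [mem_coordSub]
  intro i hi
  have hv' := (mem_coordSub.mp hv) i hi
  rw [naltT_apply, naltT_apply, naltSwap_inl, naltSwap_inr]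
  by_cases h : i.val < s
  · rw [if_pos h, if_pos h]; exact ⟨hv'.2, hv'.1⟩
  · rw [if_neg h, if_neg h]; exact hv'

/-- HQ-NALT -/
theorem std_nonalt (h2 : (2 : F) = 0) (d s : ℕ) (hs1 : 1 ≤ s) (hsd : s ≤ d) :
    ∃ t : (VV d) →ₗ[F] (VV d), IsInvIso (plusForm d F) t ∧
      finrank F (LinearMap.range (nilPart t)) = s ∧
      (∃ z, plusForm d F (nilPart t z) ≠ 0) ∧
      ∀ S : Set (Fin d), (coordSub d S).map t ≤ coordSub d S := by
  have _ := h2
  exact ⟨naltT d s, ⟨nalt_iso d s, nalt_inv d s⟩, nalt_finrank d s hsd, nalt_nonalt d s hs1 hsd,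
    nalt_coord d s⟩

end char2

end Cfsg.Agent.Lib.Helper15.Hq
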