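import Cfsg.Agent.Lib.Helper16.GagDefs

/-! # GAG-T4c (helper16's Gag hive, S4561): the partner of an element of `Tw H p` with `a = 0`,
central-valued `f` and `b ≠ 0`. -/

set_option autoImplicit false
universe u v

namespace Cfsg.Agent.Lib.Helper16.Gag
open scoped IsMulCommutative

/-- T4c -/
theorem Tw.partner_b {H : Type u} [Group H] {p : ℕ} [NeZero p]
    (ι : Multiplicative (ZMod p) →* Subgroup.center H) (hι : Function.Injective ι)
    (h : Tw H p) (ha : h.a = 0) (hf : ∀ i, h.f i ∈ Subgroup.center H) (hb : h.b ≠ 0) :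
    ∃ k : Tw H p, h * k * h⁻¹ * k⁻¹ ∈ Tw.Zhat H p ∧ h * k * h⁻¹ * k⁻¹ ∉ Tw.Mker ι := by
  classical
  obtain ⟨k, hk⟩ : ∃ k : Tw H p, k = ⟨fun _ => 1, 1, 0, 0⟩ := ⟨_, rfl⟩
  have hkf : ∀ i, k.f i = 1 := fun i => by rw [hk]
  have hka : k.a = 1 := by rw [hk]
  have hkb : k.b = 0 := by rw [hk]
  have hkc : k.c = 0 := by rw [hk]
  have hgf : ∀ i, (h * k * h⁻¹ * k⁻¹).f i = h.f i * (h.f (i - 1))⁻¹ := by
    intro i
    simp only [Tw.mul_f, Tw.mul_a, Tw.inv_f, Tw.inv_a, hkf, ha, hka, mul_one, inv_one, zero_add,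
      add_zero]
  have hga : (h * k * h⁻¹ * k⁻¹).a = 0 := by
    simp only [Tw.mul_a, Tw.inv_a, ha, hka]; ring
  have hgb : (h * k * h⁻¹ * k⁻¹).b = 0 := by
    simp only [Tw.mul_b, Tw.inv_b, hkb]; ring
  have hgc : (h * k * h⁻¹ * k⁻¹).c = -h.b := by
    simp only [Tw.mul_c, Tw.mul_a, Tw.inv_c, Tw.inv_a, Tw.inv_b, ha, hka, hkb, hkc]; ring
  have hZ : h * k * h⁻¹ * k⁻¹ ∈ Tw.Zhat H p := by
    rw [Tw.mem_Zhat]
    refine ⟨hga, hgb, fun i => ?_⟩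
    rw [hgf]
    exact Subgroup.mul_mem _ (hf i) (Subgroup.inv_mem _ (hf _))
  refine ⟨k, hZ, ?_⟩
  intro hM
  obtain ⟨hZ', hphi⟩ := (Tw.mem_Mker ι).mp hM
  rw [Tw.phi_apply] at hphi
  have hprod : (∏ i, (⟨(h * k * h⁻¹ * k⁻¹).f i, hZ'.2.2 i⟩ : Subgroup.center H)) = 1 := by
    have h1 : ∀ i, (⟨(h * k * h⁻¹ * k⁻¹).f i, hZ'.2.2 i⟩ : Subgroup.center H) =
        ⟨h.f i, hf i⟩ * (⟨h.f (i - 1), hf (i - 1)⟩ : Subgroup.center H)⁻¹ := by
      intro i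
      apply Subtype.ext
      exact hgf i
    rw [Finset.prod_congr rfl (fun i _ => h1 i), Finset.prod_mul_distrib, Finset.prod_inv_distrib]
    have h2 : ∏ i, (⟨h.f (i - 1), hf (i - 1)⟩ : Subgroup.center H) =
        ∏ i, (⟨h.f i, hf i⟩ : Subgroup.center H) :=
      Equiv.prod_comp (Equiv.subRight (1 : ZMod p))
        (fun i => (⟨h.f i, hf i⟩ : Subgroup.center H))
    rw [h2, mul_inv_cancel]
  have hphi' : ι (Multiplicative.ofAdd (h * k * h⁻¹ * k⁻¹).c) = 1 := by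
    have := hphi
    rw [hprod, one_mul] at this
    exact this
  have hc : Multiplicative.ofAdd ((h * k * h⁻¹ * k⁻¹).c) = 1 := hι (by rw [hphi', map_one])
  rw [hgc] at hc
  have h0 : -h.b = 0 := by simpa using hc
  exact hb (neg_eq_zero.mp h0)

end Cfsg.Agent.Lib.Helper16.Gag
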