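import Mathlib
import Cfsg.Agent.Lib.Helper16.GagDefs

/-!
# S4840 hive, leaf GAG-D (`eq_bot_of_normal_pgroup`) (helper78)
-/

set_option autoImplicit false
set_option linter.unusedSectionVars false
set_option linter.style.haveILetI false

namespace Cfsg.Agent.Lib.Helper16.Gag

universe u v

variable {p : ℕ} [Fact p.Prime] {N : Type v} [CommGroup N] [Finite N] {Γ : Type u} [Group Γ]
  [Finite Γ] {φ : Γ →* MulAut N}

/-- GAG-D. `O_p(Γ) = 1`. Sketch: the fixed points of the normal `p`-subgroup `H` on the `p`-group `N` are a nontrivial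
(`IsPGroup.card_modEq_card_fixedPoints`) `Γ`-invariant subgroup; by transitivity it is all of `N`; `φ` injective. -/
theorem eq_bot_of_normal_pgroup (h : TLHyp p φ) (H : Subgroup Γ) [hHn : H.Normal]
    (hH : IsPGroup p H) : H = ⊥ := by
  classical
  have hp : p.Prime := Fact.out
  haveI := h.nontriv
  obtain ⟨a₀, ha₀⟩ := exists_ne (1 : N)
  have hdvd : p ∣ Nat.card N := by
    have h1 : orderOf a₀ = p := orderOf_eq_prime (h.exp a₀) ha₀
    rw [← h1]
    exact orderOf_dvd_natCard a₀
  let _ : MulAction H N := MulAction.compHom N (φ.comp H.subtype)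
  have hsmul : ∀ (x : H) (b : N), x • b = φ (x : Γ) b := fun _ _ => rfl
  have h1fix : (1 : N) ∈ MulAction.fixedPoints H N := by
    intro x
    rw [hsmul, map_one]
  obtain ⟨b, hb, hne⟩ := hH.exists_fixed_point_of_prime_dvd_card_of_fixed_point N hdvd h1fix
  have hb1 : b ≠ 1 := fun e => hne e.symm
  rw [Subgroup.eq_bot_iff_forall]
  intro x hx
  apply h.inj
  rw [map_one]
  ext c
  show φ x c = c
  by_cases hc : c = 1
  · rw [hc, map_one]
  · obtain ⟨g, hg⟩ := h.tr b c hb1 hc
    have hconj : g⁻¹ * x * g ∈ H := by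
      have := hHn.conj_mem x hx g⁻¹
      simpa using this
    have hfix : φ (g⁻¹ * x * g) b = b := hb ⟨_, hconj⟩
    have e : x * g = g * (g⁻¹ * x * g) := by group
    rw [← hg]
    show (φ x * φ g) b = φ g b
    rw [← map_mul, e, map_mul]
    show φ g (φ (g⁻¹ * x * g) b) = φ g b
    rw [hfix]

end Cfsg.Agent.Lib.Helper16.Gag
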