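import Mathlib
import Cfsg.Agent.Lib.Helper16.GagDefs

/-!
# S4840 hive, leaf GAG-S (`card_eq`) (helper78)
-/

set_option autoImplicit false
set_option linter.unusedSectionVars false
set_option linter.style.haveILetI false

namespace Cfsg.Agent.Lib.Helper16.Gag

universe u v

variable {p : ℕ} [Fact p.Prime] {N : Type v} [CommGroup N] [Finite N] {Γ : Type u} [Group Γ]
  [Finite Γ] {φ : Γ →* MulAut N}

theorem gags_card_ne_one : Nat.card {b : N // b ≠ 1} = Nat.card N - 1 := by
  have h1 : Nat.card {b : N // b ≠ 1} = ((Set.univ : Set N) \ {1}).ncard := by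
    rw [← Nat.card_coe_set_eq]
    apply Nat.card_congr
    apply Equiv.subtypeEquivRight
    intro v
    simp
  rw [h1, Set.ncard_sdiff_singleton_of_mem (Set.mem_univ _), Set.ncard_univ]

/-- GAG-S. Orbit-stabilizer: `|Γ| = (|N| - 1) * p ^ a` (the stabilizer of `a ≠ 1` is a `p`-group by `h.st`, the orbit is `N ∖ {1}` by `h.tr`). -/
theorem card_eq (h : TLHyp p φ) : ∃ a : ℕ, Nat.card Γ = (Nat.card N - 1) * p ^ a := by
  classical
  haveI := h.nontriv
  obtain ⟨a₀, ha₀⟩ := exists_ne (1 : N)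
  let _ : MulAction Γ N := MulAction.compHom N φ
  have hsmul : ∀ (g : Γ) (b : N), g • b = φ g b := fun _ _ => rfl
  have horb : MulAction.orbit Γ a₀ = {b : N | b ≠ 1} := by
    ext b
    constructor
    · rintro ⟨g, rfl⟩
      show φ g a₀ ≠ 1
      intro h1
      apply ha₀
      have := congrArg (φ g).symm h1
      simpa using this
    · intro hb
      obtain ⟨g, hg⟩ := h.tr a₀ b ha₀ hb
      exact ⟨g, hg⟩
  have hstp : IsPGroup p (MulAction.stabilizer Γ a₀) := by
    rintro ⟨g, hg⟩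
    rw [MulAction.mem_stabilizer_iff, hsmul] at hg
    obtain ⟨k, hk⟩ := h.st a₀ ha₀ g hg
    exact ⟨k, Subtype.ext hk⟩
  obtain ⟨a, ha⟩ := IsPGroup.iff_card.mp hstp
  refine ⟨a, ?_⟩
  have h1 := MulAction.index_stabilizer (G := Γ) (x := a₀)
  have h2 := Subgroup.card_mul_index (MulAction.stabilizer Γ a₀)
  rw [h1, horb, ha] at h2
  have h3 : ({b : N | b ≠ 1} : Set N).ncard = Nat.card N - 1 := by
    rw [← Nat.card_coe_set_eq]
    exact gags_card_ne_one
  rw [h3] at h2
  rw [← h2, mul_comm]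

end Cfsg.Agent.Lib.Helper16.Gag
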