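import Mathlib
import Cfsg.Agent.Lib.Helper16.GagDefs
import Cfsg.Agent.Lib.Helper78.GagS

/-!
# S4840 hive, leaf GAG-P (`card_dvd_of_coprime`) (helper78)
-/

set_option autoImplicit false
set_option linter.unusedSectionVars false
set_option linter.style.haveILetI false

namespace Cfsg.Agent.Lib.Helper16.Gag

universe u v

variable {p : ℕ} [Fact p.Prime] {N : Type v} [CommGroup N] [Finite N] {Γ : Type u} [Group Γ]
  [Finite Γ] {φ : Γ →* MulAut N}

/-- GAG-P. A `p'`-subgroup acts semiregularly on `N ∖ {1}`, so its order divides `|N| - 1`. -/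
theorem card_dvd_of_coprime (h : TLHyp p φ) (H : Subgroup Γ) (hH : (Nat.card H).Coprime p) :
    Nat.card H ∣ Nat.card N - 1 := by
  classical
  have hp : p.Prime := Fact.out
  -- semiregularity
  have hsemi : ∀ g ∈ H, ∀ b : N, b ≠ 1 → φ g b = b → g = 1 := by
    intro g hg b hb hfix
    obtain ⟨k, hk⟩ := h.st b hb g hfix
    have h1 : orderOf g ∣ p ^ k := orderOf_dvd_of_pow_eq_one hk
    have h2 : orderOf g ∣ Nat.card H := by
      have : orderOf (⟨g, hg⟩ : H) ∣ Nat.card H := orderOf_dvd_natCard _
      rwa [← Subgroup.orderOf_coe] at this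
    have h3 : (orderOf g).Coprime (p ^ k) :=
      Nat.Coprime.coprime_dvd_left h2 (Nat.Coprime.pow_right k hH)
    have h4 : orderOf g = 1 := Nat.Coprime.eq_one_of_dvd h3 h1
    exact orderOf_eq_one_iff.mp h4
  let X := {b : N // b ≠ 1}
  let act : MulAction H X :=
    { smul := fun g x => ⟨φ (g : Γ) x.1, by
        intro h1
        apply x.2
        have := congrArg (φ (g : Γ)).symm h1
        simpa using this⟩
      one_smul := by
        intro x
        apply Subtype.ext
        show φ ((1 : H) : Γ) x.1 = x.1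
        rw [Subgroup.coe_one, map_one]
        rfl
      mul_smul := by
        intro a b x
        apply Subtype.ext
        show φ ((a * b : H) : Γ) x.1 = φ (a : Γ) (φ (b : Γ) x.1)
        rw [Subgroup.coe_mul, map_mul]
        rfl }
  have hstab : ∀ x : X, MulAction.stabilizer H x = ⊥ := by
    intro x
    rw [eq_bot_iff]
    intro g hg
    rw [MulAction.mem_stabilizer_iff] at hg
    rw [Subgroup.mem_bot]
    apply Subtype.ext
    have h1 : φ (g : Γ) x.1 = x.1 := congrArg Subtype.val hg
    exact hsemi g g.2 _ x.2 h1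
  have e := MulAction.selfEquivOrbitsQuotientProd hstab
  have h1 : Nat.card X = Nat.card (Quotient (MulAction.orbitRel H X)) * Nat.card H := by
    rw [Nat.card_congr e, Nat.card_prod]
  have h2 : Nat.card X = Nat.card N - 1 := gags_card_ne_one
  rw [← h2, h1]
  exact Dvd.intro_left _ rfl

end Cfsg.Agent.Lib.Helper16.Gag
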