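import Mathlib

/-!
# Huppert's theorem, part 6 (helper78): the number of automorphisms of an elementary abelian group
and of a finite vector space over a prime field.
-/

set_option autoImplicit false

namespace Cfsg.Agent.Lib.Helper78.Hup

/-- conjugation of linear automorphisms by a linear equivalence, as a bijection -/
def conjEquiv {K W W' : Type*} [Field K] [AddCommGroup W] [Module K W] [AddCommGroup W']
    [Module K W'] (b : W ≃ₗ[K] W') : (W ≃ₗ[K] W) ≃ (W' ≃ₗ[K] W') where
  toFun e := b.symm ≪≫ₗ e ≪≫ₗ b
  invFun e := b ≪≫ₗ e ≪≫ₗ b.symm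
  left_inv e := by ext x; simp
  right_inv e := by ext x; simp

/-- the order of `GL(W)` for a finite vector space over `ZMod p` -/
theorem card_linAut (p : ℕ) [Fact p.Prime] {W : Type*} [AddCommGroup W] [Module (ZMod p) W]
    [Finite W] :
    Nat.card (W ≃ₗ[ZMod p] W) =
      ∏ i : Fin (Module.finrank (ZMod p) W),
        (p ^ Module.finrank (ZMod p) W - p ^ (i : ℕ)) := by
  set d := Module.finrank (ZMod p) W with hd
  let b : W ≃ₗ[ZMod p] (Fin d → ZMod p) := (Module.finBasis (ZMod p) W).equivFun
  rw [Nat.card_congr (conjEquiv b),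
    ← Nat.card_congr (LinearMap.GeneralLinearGroup.generalLinearEquiv (ZMod p)
      (Fin d → ZMod p)).toEquiv,
    ← Nat.card_congr (Matrix.GeneralLinearGroup.toLin (n := Fin d) (R := ZMod p)).toEquiv,
    Matrix.card_GL_field, ZMod.card]

/-- additive automorphisms of a `ZMod p`-module are linear -/
def addAutEquivLin (p : ℕ) {A : Type*} [AddCommGroup A] [Module (ZMod p) A] :
    (A ≃+ A) ≃ (A ≃ₗ[ZMod p] A) where
  toFun e := { e with map_smul' := (AddMonoidHom.toZModLinearMap p e.toAddMonoidHom).map_smul }
  invFun l := l.toAddEquiv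
  left_inv e := by ext x; rfl
  right_inv l := by ext x; rfl

theorem card_mulAut_comm (p d : ℕ) [Fact p.Prime] {W : Type*} [CommGroup W] [Finite W]
    (hexp : ∀ a : W, a ^ p = 1) (hcard : Nat.card W = p ^ d) :
    Nat.card (MulAut W) = ∏ i : Fin d, (p ^ d - p ^ (i : ℕ)) := by
  obtain ⟨iM⟩ : Nonempty (Module (ZMod p) (Additive W)) :=
    ⟨AddCommGroup.zmodModule (fun x => by
      show p • x = 0
      have := hexp x.toMul
      rw [← toMul_nsmul] at this
      exact this)⟩
  have h1 : Nat.card (MulAut W) = Nat.card (Additive W ≃ₗ[ZMod p] Additive W) := by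
    rw [← Nat.card_congr (addAutEquivLin p (A := Additive W))]
    exact Nat.card_congr (MulEquiv.toAdditive (G := W) (H := W))
  have h2 : Module.finrank (ZMod p) (Additive W) = d := by
    have h3 : Nat.card (Additive W) = p ^ Module.finrank (ZMod p) (Additive W) := by
      rw [Module.natCard_eq_pow_finrank (K := ZMod p) (V := Additive W), Nat.card_zmod]
    have h4 : Nat.card (Additive W) = Nat.card W := Nat.card_congr Additive.toMul
    rw [h4, hcard] at h3
    exact (Nat.pow_right_injective (Fact.out : p.Prime).two_le h3).symm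
  rw [h1, card_linAut p, h2]

/-- the number of automorphisms of an elementary abelian `p`-group of order `p ^ d` -/
theorem card_mulAut_elem (p d : ℕ) [Fact p.Prime] {W : Type*} [Group W] [Finite W]
    (hcomm : ∀ a b : W, a * b = b * a)
    (hexp : ∀ a : W, a ^ p = 1) (hcard : Nat.card W = p ^ d) :
    Nat.card (MulAut W) = ∏ i : Fin d, (p ^ d - p ^ (i : ℕ)) := by
  let _ : CommGroup W := { (inferInstance : Group W) with mul_comm := hcomm }
  exact card_mulAut_comm p d hexp hcard

end Cfsg.Agent.Lib.Helper78.Hup
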