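import Mathlib
import Cfsg.Prelude.Def_Transfer
import Cfsg.Agent.Lib.Helper16.GagDefs
import Cfsg.Agent.Lib.Helper78.GagS
import Cfsg.Agent.Lib.Helper78.Hup6

/-!
# S4840 hive, leaf GAG-R (`final9`) (helper78)
-/

set_option autoImplicit false
set_option linter.unusedSectionVars false
set_option linter.style.haveILetI false

namespace Cfsg.Agent.Lib.Helper16.Gag

universe u v

variable {p : ℕ} [Fact p.Prime] {N : Type v} [CommGroup N] [Finite N] {Γ : Type u} [Group Γ]
  [Finite Γ] {φ : Γ →* MulAut N}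

theorem gagr_fact (a : ℕ) : (8 * 3 ^ a).factorization 3 = a := by
  rw [Nat.factorization_mul (by norm_num) (by positivity), Nat.factorization_pow]
  have h8 : (8 : ℕ).factorization 3 = 0 := Nat.factorization_eq_zero_of_not_dvd (by norm_num)
  simp [h8, Nat.Prime.factorization_self Nat.prime_three]

/-- GAG-R. `|N| = 9`, `p = 3`, `Q` normal of order `8`. Sketch: GAG-S gives `|Γ| = 8 * 3 ^ a`; any Sylow `3` `S` has order `3 ^ a`,
`Subgroup.isComplement'_of_coprime`; `|Γ| ∣ |MulAut N| = 48` (`Cfsg.Agent.Lib.Helper78.Hup.card_mulAut_elem 3 2`) so `a ≤ 1`, `S` cyclic. -/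
theorem final9 (h : TLHyp p φ) (hp3 : p = 3) (hN : Nat.card N = 9) (Q : Subgroup Γ) [Q.Normal]
    (hQ : Nat.card Q = 8) :
    Cfsg.HasNormalPComplement p Γ ∧ ∀ S : Sylow p Γ, IsMulCommutative (S : Subgroup Γ) := by
  subst hp3
  obtain ⟨a, ha⟩ := card_eq h
  rw [hN] at ha
  have ha' : Nat.card Γ = 8 * 3 ^ a := ha
  have hScard : ∀ S : Sylow 3 Γ, Nat.card S = 3 ^ a := by
    intro S
    rw [S.card_eq_multiplicity, ha', gagr_fact]
  -- `a ≤ 1`
  have h48 : Nat.card (MulAut N) = 48 := by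
    have := Cfsg.Agent.Lib.Helper78.Hup.card_mulAut_elem 3 2 (W := N) h.comm h.exp (by rw [hN]; norm_num)
    rw [this]
    decide
  have hdvd : Nat.card Γ ∣ 48 := by
    rw [← h48]
    exact Subgroup.card_dvd_of_injective φ h.inj
  rw [ha'] at hdvd
  have ha1 : a ≤ 1 := by
    by_contra hlt
    have h2 : 2 ≤ a := by omega
    have h9 : 8 * 3 ^ 2 ∣ 8 * 3 ^ a := Nat.mul_dvd_mul_left 8 (pow_dvd_pow 3 h2)
    have := h9.trans hdvd
    omega
  constructor
  · obtain ⟨S⟩ := (Sylow.nonempty : Nonempty (Sylow 3 Γ))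
    refine ⟨S, Q, inferInstance, ?_⟩
    apply Subgroup.isComplement'_of_coprime
    · rw [hQ, hScard S, ha']
    · rw [hQ, hScard S]
      exact Nat.Coprime.pow_right a (by norm_num)
  · intro S
    have hS := hScard S
    have : a = 0 ∨ a = 1 := by omega
    rcases this with rfl | rfl
    · rw [pow_zero, Nat.card_eq_one_iff_unique] at hS
      haveI := hS.1
      exact ⟨⟨fun x y => Subsingleton.elim _ _⟩⟩
    · rw [pow_one] at hS
      haveI : Fact (Nat.Prime 3) := ⟨Nat.prime_three⟩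
      haveI : IsCyclic (S : Subgroup Γ) := isCyclic_of_prime_card hS
      exact IsCyclic.isMulCommutative

end Cfsg.Agent.Lib.Helper16.Gag
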