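import Cfsg.Agent.Lib.Helper21.Lo.Defs

/-! # Lo sub-hive (helper21; half (B) of helper14's We hive, S2347): core of the leaf LO-ORB (helper78)

`exists_siegel_orb_data` with the statements of LO-DUAL, LO-COUNT, LO-SEP, LO-AGRP (1), (3) and LO-LEVI as hypotheses. -/

set_option autoImplicit false

namespace Cfsg.Agent.Lib.Helper21.Lo

open Module Cfsg.Agent.Lib.Helper6.Ls Cfsg.Agent.Lib.Helper13 Cfsg.Agent.Lib.Helper21.Lq

section concrete

variable {F : Type*} [Field F] [Fintype F] [DecidableEq F]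

omit [Fintype F] [DecidableEq F] in
theorem orbk_uMat_zero (n : ℕ) : uMat (0 : Matrix (Fin n) (Fin n) F) = 1 := by
  unfold uMat
  exact Matrix.fromBlocks_one

omit [Fintype F] [DecidableEq F] in
theorem orbk_uMat_add (n : ℕ) (S S' : Matrix (Fin n) (Fin n) F) :
    uMat (S + S') = uMat S * uMat S' := by
  unfold uMat
  rw [Matrix.fromBlocks_multiply]
  simp [add_comm]

/-- LO-ORB with the other leaves as hypotheses -/
theorem orbk_core (n : ℕ)
    (hdual : ∃ ψ : AddChar F ℂ, ψ ≠ 1 ∧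
      ∀ χ : Matrix (Fin n) (Fin n) F → ℂ, χ 0 = 1 →
        (∀ S S', S.transpose = S → S'.transpose = S' → χ (S + S') = χ S * χ S') →
        ∃ M : Matrix (Fin n) (Fin n) F, M.transpose = M ∧
          ∀ S, S.transpose = S → χ S = ψ (Matrix.trace (M * S)))
    (hcount : ∀ M : Matrix (Fin n) (Fin n) F, M.transpose = M → M ≠ 0 →
      ∃ g : Fin ((Fintype.card F ^ n - 1) / 2) → GL (Fin n) F, ∀ i j, i ≠ j →
        (g i : Matrix (Fin n) (Fin n) F) * M * (g i : Matrix (Fin n) (Fin n) F).transpose ≠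
          (g j : Matrix (Fin n) (Fin n) F) * M * (g j : Matrix (Fin n) (Fin n) F).transpose)
    (hsep : ∀ ψ : AddChar F ℂ, ψ ≠ 1 → ∀ N : Matrix (Fin n) (Fin n) F, N.transpose = N → N ≠ 0 →
      ∃ S : Matrix (Fin n) (Fin n) F, S.transpose = S ∧ ψ (Matrix.trace (N * S)) ≠ 1)
    (hmem : ∀ a : Spg F n, a ∈ Agrp F n ↔ ∃ S : Matrix (Fin n) (Fin n) F, S.transpose = S ∧
      (a : Matrix (Fin n ⊕ Fin n) (Fin n ⊕ Fin n) F) = uMat S)
    (humem : ∀ S : Matrix (Fin n) (Fin n) F, S.transpose = S →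
      uMat S ∈ Matrix.symplecticGroup (Fin n) F)
    (hlevi : ∀ g : GL (Fin n) F, ∃ y : Spg F n, ∀ (S : Matrix (Fin n) (Fin n) F) (a : Spg F n),
      (a : Matrix (Fin n ⊕ Fin n) (Fin n ⊕ Fin n) F) = uMat S →
      ((y⁻¹ * a * y : Spg F n) : Matrix (Fin n ⊕ Fin n) (Fin n ⊕ Fin n) F) =
        uMat (((g⁻¹ : GL (Fin n) F) : Matrix (Fin n) (Fin n) F) * S *
          ((g⁻¹ : GL (Fin n) F) : Matrix (Fin n) (Fin n) F).transpose))
    (μ : Spg F n → ℂ) (h1 : μ 1 = 1)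
    (hmul : ∀ a ∈ Agrp F n, ∀ b ∈ Agrp F n, μ (a * b) = μ a * μ b)
    (hnt : ∃ a ∈ Agrp F n, μ a ≠ 1) :
    ∃ (ι : Type) (_ : Fintype ι) (y : ι → Spg F n),
      Fintype.card ι = (Fintype.card F ^ n - 1) / 2 ∧
      (∀ i, ∀ a ∈ Agrp F n, (y i)⁻¹ * a * y i ∈ Agrp F n) ∧
      (∀ i j, i ≠ j → ∃ a ∈ Agrp F n, μ ((y i)⁻¹ * a * y i) ≠ μ ((y j)⁻¹ * a * y j)) := by
  classical
  obtain ⟨ψ, hψ, hd⟩ := hdual
  -- the character `χ` of the symmetric matrices
  obtain ⟨χ, hχ⟩ : ∃ χ : Matrix (Fin n) (Fin n) F → ℂ,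
      ∀ (S : Matrix (Fin n) (Fin n) F) (hS : S.transpose = S), χ S = μ ⟨uMat S, humem S hS⟩ :=
    ⟨fun S => if hS : S.transpose = S then μ ⟨uMat S, humem S hS⟩ else 1, fun S hS => dif_pos hS⟩
  have hχ0 : χ 0 = 1 := by
    rw [hχ 0 Matrix.transpose_zero]
    have e : (⟨uMat 0, humem 0 Matrix.transpose_zero⟩ : Spg F n) = 1 := Subtype.ext (orbk_uMat_zero n)
    rw [e, h1]
  have hχadd : ∀ S S', S.transpose = S → S'.transpose = S' → χ (S + S') = χ S * χ S' := by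
    intro S S' hS hS'
    have hSS : (S + S').transpose = S + S' := by rw [Matrix.transpose_add, hS, hS']
    rw [hχ _ hSS, hχ _ hS, hχ _ hS']
    have e : (⟨uMat (S + S'), humem _ hSS⟩ : Spg F n) =
        ⟨uMat S, humem S hS⟩ * ⟨uMat S', humem S' hS'⟩ := Subtype.ext (orbk_uMat_add n S S')
    rw [e]
    exact hmul _ ((hmem _).mpr ⟨S, hS, rfl⟩) _ ((hmem _).mpr ⟨S', hS', rfl⟩)
  obtain ⟨M, hM, hMχ⟩ := hd χ hχ0 hχadd
  have hM0 : M ≠ 0 := by
    rintro rfl
    obtain ⟨a, ha, hμa⟩ := hnt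
    obtain ⟨S, hS, haS⟩ := (hmem a).mp ha
    apply hμa
    have e : a = ⟨uMat S, humem S hS⟩ := Subtype.ext haS
    rw [e, ← hχ S hS, hMχ S hS, Matrix.zero_mul, Matrix.trace_zero, AddChar.map_zero_eq_one]
  obtain ⟨h, hh⟩ := hcount M hM hM0
  -- `g i` with `(g i)⁻¹ = (h i)ᵀ`
  have hk : ∀ i, ∃ g : GL (Fin n) F, ((g⁻¹ : GL (Fin n) F) : Matrix (Fin n) (Fin n) F) =
      (h i : Matrix (Fin n) (Fin n) F).transpose := by
    intro i
    refine ⟨(⟨(h i : Matrix (Fin n) (Fin n) F).transpose,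
      (((h i)⁻¹ : GL (Fin n) F) : Matrix (Fin n) (Fin n) F).transpose, ?_, ?_⟩ : GL (Fin n) F)⁻¹, ?_⟩
    · rw [← Matrix.transpose_mul, Units.inv_mul, Matrix.transpose_one]
    · rw [← Matrix.transpose_mul, Units.mul_inv, Matrix.transpose_one]
    · rw [inv_inv]
  choose g hg using hk
  choose y hy using fun i => hlevi (g i)
  have key : ∀ i (S : Matrix (Fin n) (Fin n) F) (hS : S.transpose = S),
      (y i)⁻¹ * ⟨uMat S, humem S hS⟩ * y i ∈ Agrp F n ∧
      μ ((y i)⁻¹ * ⟨uMat S, humem S hS⟩ * y i) =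
        ψ (Matrix.trace (((h i : Matrix (Fin n) (Fin n) F) * M *
          (h i : Matrix (Fin n) (Fin n) F).transpose) * S)) := by
    intro i S hS
    have h2 := hy i S ⟨uMat S, humem S hS⟩ rfl
    rw [hg i, Matrix.transpose_transpose] at h2
    have hSi : ((h i : Matrix (Fin n) (Fin n) F).transpose * S *
        (h i : Matrix (Fin n) (Fin n) F)).transpose =
        (h i : Matrix (Fin n) (Fin n) F).transpose * S * (h i : Matrix (Fin n) (Fin n) F) := by
      rw [Matrix.transpose_mul, Matrix.transpose_mul, Matrix.transpose_transpose, hS, Matrix.mul_assoc]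
    refine ⟨(hmem _).mpr ⟨_, hSi, h2⟩, ?_⟩
    have e : (y i)⁻¹ * ⟨uMat S, humem S hS⟩ * y i = ⟨uMat _, humem _ hSi⟩ := Subtype.ext h2
    rw [e, ← hχ _ hSi, hMχ _ hSi]
    congr 1
    rw [← Matrix.mul_assoc, ← Matrix.mul_assoc, Matrix.trace_mul_comm, ← Matrix.mul_assoc,
      ← Matrix.mul_assoc]
  refine ⟨Fin ((Fintype.card F ^ n - 1) / 2), inferInstance, y, Fintype.card_fin _, ?_, ?_⟩
  · intro i a ha
    obtain ⟨S, hS, haS⟩ := (hmem a).mp ha
    have e : a = ⟨uMat S, humem S hS⟩ := Subtype.ext haS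
    rw [e]
    exact (key i S hS).1
  · intro i j hij
    have hN0 : (h i : Matrix (Fin n) (Fin n) F) * M * (h i : Matrix (Fin n) (Fin n) F).transpose -
        (h j : Matrix (Fin n) (Fin n) F) * M * (h j : Matrix (Fin n) (Fin n) F).transpose ≠ 0 :=
      sub_ne_zero.mpr (hh i j hij)
    have hsym : ∀ i, ((h i : Matrix (Fin n) (Fin n) F) * M *
        (h i : Matrix (Fin n) (Fin n) F).transpose).transpose =
        (h i : Matrix (Fin n) (Fin n) F) * M * (h i : Matrix (Fin n) (Fin n) F).transpose := by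
      intro i
      rw [Matrix.transpose_mul, Matrix.transpose_mul, Matrix.transpose_transpose, hM, Matrix.mul_assoc]
    have hNsym : ((h i : Matrix (Fin n) (Fin n) F) * M * (h i : Matrix (Fin n) (Fin n) F).transpose -
        (h j : Matrix (Fin n) (Fin n) F) * M * (h j : Matrix (Fin n) (Fin n) F).transpose).transpose =
        (h i : Matrix (Fin n) (Fin n) F) * M * (h i : Matrix (Fin n) (Fin n) F).transpose -
        (h j : Matrix (Fin n) (Fin n) F) * M * (h j : Matrix (Fin n) (Fin n) F).transpose := by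
      rw [Matrix.transpose_sub, hsym i, hsym j]
    obtain ⟨S, hS, hψS⟩ := hsep ψ hψ _ hNsym hN0
    refine ⟨⟨uMat S, humem S hS⟩, (hmem _).mpr ⟨S, hS, rfl⟩, ?_⟩
    rw [(key i S hS).2, (key j S hS).2]
    intro heq
    apply hψS
    rw [Matrix.sub_mul, Matrix.trace_sub, sub_eq_add_neg, AddChar.map_add_eq_mul, heq,
      ← AddChar.map_add_eq_mul, add_neg_cancel, AddChar.map_zero_eq_one]

end concrete

end Cfsg.Agent.Lib.Helper21.Lo
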