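import Mathlib
import Cfsg.Agent.Lib.Helper21.S11Defs

/-! # S11 hive (S3911; architect helper21): leaf S11-AB `comm_of_sylow`

A finite group all of whose Sylow subgroups are normal and commutative is commutative
(`Sylow.directProductOfNormal`: the group is the direct product of its Sylow subgroups). -/

set_option autoImplicit false

namespace Cfsg.Agent.Lib.Helper21.S11

variable {G : Type*} [Group G] [Finite G]

/-- S11-AB. A finite group all of whose Sylow subgroups are normal and commutative is commutative
(`Sylow.directProductOfNormal`, or: elements of normal Sylow subgroups for different primes commute and the Sylow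
subgroups generate). -/
theorem comm_of_sylow {H : Type*} [Group H] [Finite H]
    (hnorm : ∀ (q : ℕ) [Fact q.Prime] (Q : Sylow q H), (Q : Subgroup H).Normal)
    (hcomm : ∀ (q : ℕ) [Fact q.Prime] (Q : Sylow q H), ∀ a ∈ (Q : Subgroup H), ∀ b ∈ (Q : Subgroup H), a * b = b * a) :
    ∀ a b : H, a * b = b * a := by
  classical
  let e := Sylow.directProductOfNormal (G := H) (fun {p} [Fact p.Prime] P => hnorm p P)
  have key : ∀ x y : (∀ p : (Nat.card H).primeFactors, ∀ P : Sylow p H, ↥(P : Subgroup H)), x * y = y * x := by
    intro x y
    funext p P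
    have : Fact (p : ℕ).Prime := ⟨Nat.prime_of_mem_primeFactors p.2⟩
    apply Subtype.ext
    show ((x p P : ↥(P : Subgroup H)) : H) * (y p P : ↥(P : Subgroup H)) = (y p P : ↥(P : Subgroup H)) * (x p P : ↥(P : Subgroup H))
    exact hcomm p P _ (x p P).2 _ (y p P).2
  intro a b
  obtain ⟨x, rfl⟩ := e.surjective a
  obtain ⟨y, rfl⟩ := e.surjective b
  rw [← map_mul, ← map_mul, key x y]

end Cfsg.Agent.Lib.Helper21.S11
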