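import Cfsg.Agent.Lib.Helper33.SylowSub
import Cfsg.Agent.Lib.Helper55.Cores
import Mathlib.GroupTheory.Transfer
import Mathlib.GroupTheory.Commutator.Basic
import Mathlib.Tactic.Group

set_option autoImplicit false

namespace Cfsg.Agent.Lib.Helper78

open Subgroup Cfsg.Agent.Lib.Helper33 Cfsg.Agent.Lib.Helper55
open scoped commutatorElement

/-- **Burnside's normal `p`-complement theorem**, with the complement described as the set of
`p'`-elements and containing all commutators. -/
theorem exists_normal_pComplement_of_normalizer_le_centralizer {X : Type*} [Group X] [Finite X]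
    {p : ℕ} [Fact p.Prime] (P : Sylow p X)
    (hP' : Subgroup.normalizer ((P : Subgroup X) : Set X) ≤
      Subgroup.centralizer ((P : Subgroup X) : Set X)) :
    ∃ K : Subgroup X, K.Normal ∧ K.IsComplement' (P : Subgroup X) ∧ (Nat.card K).Coprime p ∧
      K ⊔ (P : Subgroup X) = ⊤ ∧ (∀ x : X, x ∈ K ↔ (orderOf x).Coprime p) ∧
      ∀ a b : X, ⁅a, b⁆ ∈ K := by
  have hcop : (Nat.card (MonoidHom.transferSylow P hP').ker).Coprime p :=
    ((Nat.Prime.coprime_iff_not_dvd Fact.out).mpr
      (MonoidHom.not_dvd_card_ker_transferSylow P hP')).symm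
  refine ⟨(MonoidHom.transferSylow P hP').ker, inferInstance,
    MonoidHom.ker_transferSylow_isComplement' P hP', hcop,
    (MonoidHom.ker_transferSylow_isComplement' P hP').sup_eq_top, ?_, ?_⟩
  · intro x
    constructor
    · intro hx
      have h1 : orderOf x ∣ Nat.card (MonoidHom.transferSylow P hP').ker := by
        have := orderOf_dvd_natCard (⟨x, hx⟩ : (MonoidHom.transferSylow P hP').ker)
        rwa [Subgroup.orderOf_mk] at this
      exact Nat.Coprime.coprime_dvd_left h1 hcop
    · intro hx
      rw [MonoidHom.mem_ker]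
      set z := MonoidHom.transferSylow P hP' x with hz
      have h1 : orderOf z ∣ orderOf x := orderOf_map_dvd _ x
      obtain ⟨k, hk⟩ := (IsPGroup.iff_orderOf.mp P.isPGroup') z
      have h2 : (orderOf z).Coprime p := Nat.Coprime.coprime_dvd_left h1 hx
      have h3 : (orderOf z).Coprime (p ^ k) := Nat.Coprime.pow_right k h2
      rw [← hk] at h3
      have h4 : orderOf z = 1 := (Nat.coprime_self _).mp h3
      exact orderOf_eq_one_iff.mp h4
  · intro a b
    rw [MonoidHom.mem_ker, map_commutatorElement]
    set u := MonoidHom.transferSylow P hP' a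
    set v := MonoidHom.transferSylow P hP' b
    have hcomm : u * v = v * u := by
      apply Subtype.ext
      have := hP' (Subgroup.le_normalizer v.2) u.1 u.2
      simpa using this
    rw [commutatorElement_def, hcomm]
    group

/-- Burnside's theorem relative to a subgroup `X` of `G`: if `P ≤ X` is a `p`-subgroup of index
prime to `p` in `X` and `N_G(P) ∩ X ≤ C_G(P)`, then the `p'`-elements of `X` form a subgroup `L`,
normal in `X`, with `X = L P`, containing all commutators of `X`. -/
theorem pComplement_of_subgroup {G : Type*} [Group G] [Finite G] {p : ℕ} [Fact p.Prime]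
    (X P : Subgroup G) (hPX : P ≤ X) (hP : IsPGroup p P) (hPi : ¬ p ∣ P.relIndex X)
    (hNC : Subgroup.normalizer (P : Set G) ⊓ X ≤ Subgroup.centralizer (P : Set G)) :
    ∃ (P' : Sylow p X) (K : Subgroup X), (P' : Subgroup X) = P.subgroupOf X ∧ K.Normal ∧
      K.IsComplement' (P' : Subgroup X) ∧ (Nat.card (K.map X.subtype)).Coprime p ∧
      (K.map X.subtype) ⊔ P = X ∧
      (∀ x ∈ X, (x ∈ K.map X.subtype ↔ (orderOf x).Coprime p)) ∧
      (∀ a ∈ X, ∀ b ∈ X, ⁅a, b⁆ ∈ K.map X.subtype) ∧
      Nat.card (K.map X.subtype) * Nat.card P = Nat.card X := by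
  have hP1 : IsPGroup p (P.subgroupOf X) := hP.comap_subtype
  let P' : Sylow p X := hP1.toSylow hPi
  have hP'coe : (P' : Subgroup X) = P.subgroupOf X := IsPGroup.toSylow_coe hP1 hPi
  have hNC' : Subgroup.normalizer ((P' : Subgroup X) : Set X) ≤
      Subgroup.centralizer ((P' : Subgroup X) : Set X) := by
    intro x hx
    rw [hP'coe] at hx ⊢
    have hxN : (x : G) ∈ Subgroup.normalizer (P : Set G) := by
      rw [Subgroup.mem_normalizer_iff]
      intro h
      rw [Subgroup.mem_normalizer_iff] at hx
      constructor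
      · intro hh
        have := (hx ⟨h, hPX hh⟩).mp (Subgroup.mem_subgroupOf.mpr hh)
        exact Subgroup.mem_subgroupOf.mp this
      · intro hh
        have hhX : h ∈ X := by
          have h1 : (x : G) * h * (x : G)⁻¹ ∈ X := hPX hh
          have : h = (x : G)⁻¹ * ((x : G) * h * (x : G)⁻¹) * (x : G) := by group
          rw [this]
          exact X.mul_mem (X.mul_mem (X.inv_mem x.2) h1) x.2
        have := (hx ⟨h, hhX⟩).mpr (Subgroup.mem_subgroupOf.mpr hh)
        exact Subgroup.mem_subgroupOf.mp this
    have hxC := hNC ⟨hxN, x.2⟩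
    rw [Subgroup.mem_centralizer_iff] at hxC ⊢
    intro y hy
    apply Subtype.ext
    exact hxC y.1 (Subgroup.mem_subgroupOf.mp hy)
  obtain ⟨K, hKn, hKc, hKcop, hKsup, hKmem, hKcomm⟩ :=
    exists_normal_pComplement_of_normalizer_le_centralizer P' hNC'
  have hcardmap : Nat.card (K.map X.subtype) = Nat.card K :=
    Subgroup.card_map_of_injective X.subtype_injective
  refine ⟨P', K, hP'coe, hKn, hKc, ?_, ?_, ?_, ?_, ?_⟩
  · rw [hcardmap]; exact hKcop
  · have h1 : (K ⊔ (P' : Subgroup X)).map X.subtype = X := by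
      rw [hKsup, ← MonoidHom.range_eq_map, Subgroup.range_subtype]
    rw [Subgroup.map_sup, hP'coe, Subgroup.subgroupOf_map_subtype, inf_eq_left.mpr hPX] at h1
    exact h1
  · intro x hx
    rw [← Subgroup.orderOf_mk x hx, ← hKmem ⟨x, hx⟩]
    constructor
    · rintro ⟨y, hy, rfl⟩
      exact hy
    · intro h
      exact ⟨⟨x, hx⟩, h, rfl⟩
  · intro a ha b hb
    exact ⟨⁅(⟨a, ha⟩ : X), ⟨b, hb⟩⁆, hKcomm _ _, rfl⟩
  · have := hKc.card_mul_card
    rw [hP'coe, Nat.card_congr (Subgroup.subgroupOfEquivOfLe hPX).toEquiv] at this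
    rw [hcardmap]
    exact this

/-- The subgroup of `p'`-elements (when it is one) is invariant under every conjugation
stabilising the ambient subgroup. -/
theorem cj_eq_of_mem_iff_coprime {G : Type*} [Group G] [Finite G] {p : ℕ} (X L : Subgroup G)
    (hLX : L ≤ X) (hL : ∀ x ∈ X, (x ∈ L ↔ (orderOf x).Coprime p)) (g : G) (hg : cj g X = X) :
    cj g L = L := by
  apply Subgroup.eq_of_le_of_card_ge _ (le_of_eq (card_cj g L).symm)
  intro y hy
  have hy' : g⁻¹ * y * g ∈ L := mem_cj.mp hy
  have hyX : y ∈ X := by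
    rw [← hg]
    exact mem_cj.mpr (hLX hy')
  rw [hL y hyX]
  have h1 := (hL _ (hLX hy')).mp hy'
  have h2 : orderOf (g⁻¹ * y * g) = orderOf y := by
    have := orderOf_injective (MulAut.conj g⁻¹).toMonoidHom (MulAut.conj g⁻¹).injective y
    simpa using this
  rwa [h2] at h1

/-- a subgroup fixed by all conjugations is normal -/
theorem normal_of_forall_cj {G : Type*} [Group G] (L : Subgroup G) (h : ∀ g : G, cj g L = L) :
    L.Normal := by
  constructor
  intro n hn g
  have := conj_mem_cj (g := g) hn
  rwa [h g] at this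

end Cfsg.Agent.Lib.Helper78
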