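import Mathlib
import Cfsg.Agent.Lib.Helper22.LBalS
import Cfsg.Agent.Lib.Helper64.SylowMax

/-!
# Lb hive (S1301), leaf LB-SYL: 2-group normalizer growth

If every 2-subgroup of `N_E(P)` lies in `P` (`E ⊴ G`), then `P ∩ L` is a Sylow 2-subgroup of `L`
for every `L ≤ E` normalized by `E`.
-/

set_option autoImplicit false

namespace Cfsg.Agent.Lib.Helper22.Lb

open Subgroup Cfsg
open scoped commutatorElement
open Cfsg.Agent.Lib.Helper23 (pUp pUp_le mem_pUp_of_pow coreIn coreIn_le)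
open Cfsg.Agent.Lib.Helper22.LBal

section partII

variable {G : Type*} [Group G] [Finite G]

/-- Normalizer growth in a `p`-group: if `P < T` with `T` a `p`-group, some `x ∈ N_T(P)` is not
in `P`. -/
theorem lbsyl_exists_normalizer {p : ℕ} [Fact p.Prime] {P T : Subgroup G} (hT : IsPGroup p T)
    (hPT : P ≤ T) (hne : P ≠ T) :
    ∃ x ∈ T, x ∈ normalizer (P : Set G) ∧ x ∉ P := by
  have : Group.IsNilpotent T := hT.isNilpotent
  have hnc : NormalizerCondition T := Group.normalizerCondition_of_isNilpotent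
  have hlt : P.subgroupOf T < ⊤ := by
    rw [lt_top_iff_ne_top, Ne, subgroupOf_eq_top]
    intro h
    exact hne (le_antisymm hPT h)
  have h2 := hnc _ hlt
  obtain ⟨y, hyN, hyP⟩ := SetLike.exists_of_lt h2
  rw [← subgroupOf_normalizer_eq hPT] at hyN
  exact ⟨y.1, y.2, hyN, hyP⟩

/-- LEAF LB-SYL (2-group normalizer growth). If every 2-subgroup of `N_E(P)` lies in `P`
(`E ⊴ G`), then `P ∩ L` is a Sylow 2-subgroup of `L` for every `L ≤ E` normalized by `E`. -/
theorem exists_sylow_inf_of_forall_le (E : Subgroup G) [E.Normal] {P : Subgroup G}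
    (hP : IsPGroup 2 P)
    (hQ : ∀ Q : Subgroup G, IsPGroup 2 Q → Q ≤ E ⊓ normalizer (P : Set G) → Q ≤ P)
    (L : Subgroup G) (hLE : L ≤ E) (hEL : E ≤ normalizer (L : Set G)) :
    ∃ S : Sylow 2 ↥L, (S : Subgroup ↥L).map L.subtype = P ⊓ L := by
  have : Fact (Nat.Prime 2) := ⟨Nat.prime_two⟩
  obtain ⟨S, hPS⟩ := hP.exists_le_sylow
  have hS2 : IsPGroup 2 (S : Subgroup G) := S.isPGroup'
  -- key claim: `S ∩ E ≤ P`
  have hD : (S : Subgroup G) ⊓ E ≤ P := by
    by_contra hcon
    have hTS : P ⊔ ((S : Subgroup G) ⊓ E) ≤ S := sup_le hPS inf_le_left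
    have hT2 : IsPGroup 2 (P ⊔ ((S : Subgroup G) ⊓ E) : Subgroup G) := hS2.to_le hTS
    have hPT : P ≤ P ⊔ ((S : Subgroup G) ⊓ E) := le_sup_left
    have hne : P ≠ P ⊔ ((S : Subgroup G) ⊓ E) := by
      intro h
      apply hcon
      rw [h]
      exact le_sup_right
    obtain ⟨x, hxT, hxN, hxP⟩ := lbsyl_exists_normalizer hT2 hPT hne
    have hmap : (P ⊔ ((S : Subgroup G) ⊓ E)).map (QuotientGroup.mk' E)
        = P.map (QuotientGroup.mk' E) := by
      rw [Subgroup.map_sup]
      have : ((S : Subgroup G) ⊓ E).map (QuotientGroup.mk' E) = ⊥ := by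
        rw [Subgroup.map_eq_bot_iff, QuotientGroup.ker_mk']
        exact inf_le_right
      rw [this, sup_bot_eq]
    have hx' : QuotientGroup.mk' E x ∈ P.map (QuotientGroup.mk' E) := by
      rw [← hmap]; exact Subgroup.mem_map_of_mem _ hxT
    obtain ⟨a, haP, hax⟩ := Subgroup.mem_map.mp hx'
    have hbE : a⁻¹ * x ∈ E := QuotientGroup.eq.mp hax
    have haN : a ∈ normalizer (P : Set G) := le_normalizer haP
    have hbN : a⁻¹ * x ∈ normalizer (P : Set G) := mul_mem (inv_mem haN) hxN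
    have hbS : a⁻¹ * x ∈ (S : Subgroup G) := mul_mem (inv_mem (hPS haP)) (hTS hxT)
    have hb2 : IsPGroup 2 (zpowers (a⁻¹ * x)) := hS2.to_le (by rw [zpowers_le]; exact hbS)
    have hbP : zpowers (a⁻¹ * x) ≤ P := hQ _ hb2 (by rw [zpowers_le]; exact ⟨hbE, hbN⟩)
    have hb : a⁻¹ * x ∈ P := hbP (mem_zpowers _)
    apply hxP
    have h3 := mul_mem haP hb
    rwa [mul_inv_cancel_left] at h3
  -- hence `P ∩ L = S ∩ L`
  have hPL : P ⊓ L = (S : Subgroup G) ⊓ L := by
    apply le_antisymm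
    · exact inf_le_inf_right _ hPS
    · exact le_inf (fun x hx => hD ⟨hx.1, hLE hx.2⟩) inf_le_right
  -- index computations
  have h1 : ¬ 2 ∣ (S : Subgroup G).relIndex E := fun h =>
    S.not_dvd_index (h.trans
      (Cfsg.Agent.Lib.Helper64.relIndex_dvd_index_of_normal_right (S : Subgroup G) E))
  have : (L.subgroupOf E).Normal := (normal_subgroupOf_iff_le_normalizer hLE).mpr hEL
  have h2 : ¬ 2 ∣ ((S : Subgroup G).subgroupOf L).index := by
    intro h
    apply h1
    have h4 := Cfsg.Agent.Lib.Helper64.relIndex_dvd_index_of_normal_right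
      ((S : Subgroup G).subgroupOf E) (L.subgroupOf E)
    rw [relIndex_subgroupOf hLE] at h4
    exact h.trans h4
  have h3 : IsPGroup 2 ((S : Subgroup G).subgroupOf L) := hS2.comap_subtype
  refine ⟨h3.toSylow h2, ?_⟩
  rw [IsPGroup.toSylow_coe, Subgroup.subgroupOf_map_subtype, hPL]

end partII

end Cfsg.Agent.Lib.Helper22.Lb
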