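import Mathlib

/-!
# Semilinear maps of a finite field normalising the squares

An additive map `L` of a field of odd characteristic such that `L (s² x) = r L x` (with `r`
depending on `s`) is of the form `x ↦ m σ(x)` for a field endomorphism `σ`.  If moreover `L ∘ L`
is a scalar and the field has `p ^ f` elements with `f` odd, then `σ = 1`.
-/

set_option autoImplicit false
set_option linter.style.haveILetI false

namespace Cfsg.Agent.Lib.Helper78.SemiLin

theorem ringHom_of_semilinear {K : Type*} [Field K] (h2 : (2 : K) ≠ 0) (L : K →+ K) (m : K)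
    (hm : L 1 = m) (hm0 : m ≠ 0) (hsq : ∀ s : K, ∃ r : K, ∀ x, L (s * s * x) = r * L x) :
    ∃ σ : K →+* K, ∀ x, L x = m * σ x := by
  let σ0 : K → K := fun x => m⁻¹ * L x
  have hσ1 : σ0 1 = 1 := by
    show m⁻¹ * L 1 = 1
    rw [hm, inv_mul_cancel₀ hm0]
  have hσadd : ∀ x y, σ0 (x + y) = σ0 x + σ0 y := by
    intro x y
    show m⁻¹ * L (x + y) = m⁻¹ * L x + m⁻¹ * L y
    rw [map_add, mul_add]
  have hσsub : ∀ x y, σ0 (x - y) = σ0 x - σ0 y := by
    intro x y
    show m⁻¹ * L (x - y) = m⁻¹ * L x - m⁻¹ * L y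
    rw [map_sub, mul_sub]
  have hσsq : ∀ s x : K, σ0 (s * s * x) = σ0 (s * s) * σ0 x := by
    intro s x
    obtain ⟨r, hr⟩ := hsq s
    have h1 := hr 1
    rw [mul_one, hm] at h1
    show m⁻¹ * L (s * s * x) = m⁻¹ * L (s * s) * (m⁻¹ * L x)
    rw [hr x, h1]
    field_simp
  have hσmul : ∀ c x : K, σ0 (c * x) = σ0 c * σ0 x := by
    intro c x
    have hc : c = ((c + 1) / 2) * ((c + 1) / 2) - ((c - 1) / 2) * ((c - 1) / 2) := by
      field_simp
      ring
    have h1 : c * x = ((c + 1) / 2) * ((c + 1) / 2) * x - ((c - 1) / 2) * ((c - 1) / 2) * x := by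
      rw [← sub_mul, ← hc]
    rw [h1, hσsub, hσsq, hσsq, ← sub_mul, ← hσsub, ← hc]
  have hσ0 : σ0 0 = 0 := by
    show m⁻¹ * L 0 = 0
    rw [map_zero, mul_zero]
  let σ : K →+* K :=
    { toFun := σ0
      map_one' := hσ1
      map_mul' := hσmul
      map_zero' := hσ0
      map_add' := hσadd }
  refine ⟨σ, fun x => ?_⟩
  show L x = m * (m⁻¹ * L x)
  rw [← mul_assoc, mul_inv_cancel₀ hm0, one_mul]

theorem eq_id_of_sq_of_odd {K : Type*} [Field K] [Fintype K] {p f : ℕ} [Fact p.Prime]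
    (hcard : Fintype.card K = p ^ f) (hf : Odd f) (σ : K →+* K) (hσ : ∀ x, σ (σ x) = x) :
    ∀ x, σ x = x := by
  haveI : CharP K p := charP_of_card_eq_prime_pow hcard
  letI : Algebra (ZMod p) K := ZMod.algebra K p
  let e0 : K ≃+* K :=
    { toFun := σ
      invFun := σ
      left_inv := hσ
      right_inv := hσ
      map_mul' := map_mul σ
      map_add' := map_add σ }
  let e : K ≃ₐ[ZMod p] K := AlgEquiv.ofRingEquiv (f := e0) (fun c => by
    show σ (algebraMap (ZMod p) K c) = algebraMap (ZMod p) K c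
    exact RingHom.congr_fun (Subsingleton.elim (σ.comp (algebraMap (ZMod p) K))
      (algebraMap (ZMod p) K)) c)
  have he2 : e ^ 2 = 1 := by
    ext x
    show σ (σ x) = x
    exact hσ x
  have hfr : Module.finrank (ZMod p) K = f := by
    have h1 := Module.card_eq_pow_finrank (K := ZMod p) (V := K)
    rw [ZMod.card, hcard] at h1
    exact (Nat.pow_right_injective (Fact.out : p.Prime).two_le h1).symm
  have hG : Nat.card (K ≃ₐ[ZMod p] K) = f := by
    rw [IsGalois.card_aut_eq_finrank, hfr]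
  have ho1 : orderOf e ∣ 2 := orderOf_dvd_of_pow_eq_one he2
  have ho2 : orderOf e ∣ f := by
    rw [← hG]
    exact orderOf_dvd_natCard e
  have hcop : Nat.Coprime 2 f := Nat.coprime_two_left.mpr hf
  have ho : orderOf e = 1 := Nat.eq_one_of_dvd_coprimes hcop ho1 ho2
  rw [orderOf_eq_one_iff] at ho
  intro x
  have := congrArg (fun g : K ≃ₐ[ZMod p] K => g x) ho
  exact this

/-- the combined statement -/
theorem scalar_of_semilinear {K : Type*} [Field K] [Fintype K] {p f : ℕ} [Fact p.Prime]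
    (hcard : Fintype.card K = p ^ f) (hf : Odd f) (h2 : (2 : K) ≠ 0) (L : K →+ K) (m : K)
    (hm : L 1 = m) (hm0 : m ≠ 0) (hsq : ∀ s : K, ∃ r : K, ∀ x, L (s * s * x) = r * L x)
    (hLL : ∃ k : K, ∀ x, L (L x) = k * x) : ∀ x, L x = m * x := by
  obtain ⟨σ, hσ⟩ := ringHom_of_semilinear h2 L m hm hm0 hsq
  obtain ⟨k, hk⟩ := hLL
  have hσm : σ m ≠ 0 := by
    intro h0
    exact hm0 ((map_eq_zero σ).mp h0)
  have hLL' : ∀ x, L (L x) = m * σ m * σ (σ x) := by
    intro x
    rw [hσ x, hσ (m * σ x), map_mul, mul_assoc]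
  have hk1 : k = m * σ m := by
    have h1 := hk 1
    rw [hLL' 1, map_one, map_one, mul_one, mul_one] at h1
    exact h1.symm
  have hσσ : ∀ x, σ (σ x) = x := by
    intro x
    have h1 := hk x
    rw [hLL' x, hk1] at h1
    exact mul_left_cancel₀ (mul_ne_zero hm0 hσm) h1
  have hid := eq_id_of_sq_of_odd hcard hf σ hσσ
  intro x
  rw [hσ x, hid x]

end Cfsg.Agent.Lib.Helper78.SemiLin
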