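import Cfsg.Agent.Lib.Helper37.G2zDefs
import Cfsg.Agent.S1026

/-! # G2z mini-hive (S4279; architect helper37): leaf G2Z-CU `cent_U`

An element `u` of `U` commuting with `t0 = h_b(-1)` lies in `LL = L1 L2`: write
`u = x_6(t₆) x_7(t₇) x_8(t₈) x_9(t₉) x_10(t₁₀) x_11(t₁₁)` (S1026); conjugation by `t0` flips the signs of the parameters
at `7, 8, 10, 11`; by uniqueness of the ordered product and `2 ≠ 0` these vanish, so `u = x_6(t₆) x_9(t₉)`. -/

set_option autoImplicit false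

namespace Cfsg.Agent.Lib.Helper37.G2z

open Cfsg Cfsg.Lie Cfsg.Agent.Lib.Helper36 Cfsg.Agent.Lib.Helper20.G2c Cfsg.Agent.Lib.Helper18

variable (F : Type*) [Field F]

theorem g2zcu_posRoots : chevG2.posRoots = [6, 7, 8, 9, 10, 11] := by decide

/-- the ordered product over the positive roots, as an element of `GL` -/
theorem g2zcu_word (t : ℕ → F) :
    ((xg F 6 (t 6) * xg F 7 (t 7) * xg F 8 (t 8) * xg F 9 (t 9) * xg F 10 (t 10) * xg F 11 (t 11) :
        GL chevG2.Idx F) : Matrix chevG2.Idx chevG2.Idx F) =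
      chevG2.wordMat F (chevG2.posRoots.map fun r => (r, t r)) := by
  rw [g2zcu_posRoots]
  unfold ChevalleyDatum.wordMat xg
  simp only [List.map_cons, List.map_nil, List.prod_cons, List.prod_nil, mul_one, Units.val_mul, xGL_coe]
  simp only [mul_assoc]

/-- the sign by which `t0` acts on the root subgroup `X_s` -/
def g2zcu_sg (s : ℕ) : ℤ := if s = 7 ∨ s = 8 ∨ s = 10 ∨ s = 11 then -1 else 1

theorem g2zcu_conj (s : ℕ) (hs : s = 6 ∨ s = 7 ∨ s = 8 ∨ s = 9 ∨ s = 10 ∨ s = 11) (a : F) :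
    t0 F * xg F s a * (t0 F)⁻¹ = xg F s (((g2zcu_sg s : ℤ) : F) * a) := by
  unfold t0 xg
  have hs' : s < chevG2.nroots := by
    rcases hs with rfl | rfl | rfl | rfl | rfl | rfl <;> decide
  rw [hGL_conj_xGL chevG2 hG2 F 6 s (by decide) hs' (-1) (neg_ne_zero.mpr one_ne_zero) a]
  congr 1
  rcases hs with rfl | rfl | rfl | rfl | rfl | rfl
  · have : gc chevG2 6 6 = 2 := by decide
    rw [this]; simp [g2zcu_sg]
  · have : gc chevG2 6 7 = -1 := by decide
    rw [this]; simp [g2zcu_sg]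
  · have : gc chevG2 6 8 = 1 := by decide
    rw [this]; simp [g2zcu_sg]
  · have : gc chevG2 6 9 = 0 := by decide
    rw [this]; simp [g2zcu_sg]
  · have : gc chevG2 6 10 = -1 := by decide
    rw [this]; simp [g2zcu_sg]
  · have : gc chevG2 6 11 = 1 := by decide
    rw [this]; simp [g2zcu_sg]

/-- G2Z-CU -/
theorem cent_U (h2 : (2 : F) ≠ 0) (u : GL chevG2.Idx F) (hu : u ∈ chevG2.posUnipotent F)
    (hc : t0 F * u = u * t0 F) : u ∈ LL F := by
  obtain ⟨t, ⟨hsupp, hword⟩, huniq⟩ := (Cfsg.Agent.S1026.result (F := F) chevG2 hG2).1 u hu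
  -- `u` as an ordered product
  have hu' : u = xg F 6 (t 6) * xg F 7 (t 7) * xg F 8 (t 8) * xg F 9 (t 9) * xg F 10 (t 10) * xg F 11 (t 11) := by
    apply Units.ext
    rw [hword, g2zcu_word]
  -- the conjugate of `u` by `t0`
  set t' : ℕ → F := fun r => ((g2zcu_sg r : ℤ) : F) * t r with ht'
  have hconj : t0 F * u * (t0 F)⁻¹ =
      xg F 6 (t' 6) * xg F 7 (t' 7) * xg F 8 (t' 8) * xg F 9 (t' 9) * xg F 10 (t' 10) * xg F 11 (t' 11) := by
    rw [← g2zcu_conj F 6 (by simp) (t 6), ← g2zcu_conj F 7 (by simp) (t 7), ← g2zcu_conj F 8 (by simp) (t 8),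
      ← g2zcu_conj F 9 (by simp) (t 9), ← g2zcu_conj F 10 (by simp) (t 10), ← g2zcu_conj F 11 (by simp) (t 11)]
    conv_lhs => rw [hu']
    group
  have hfix : t0 F * u * (t0 F)⁻¹ = u := by rw [hc, mul_inv_cancel_right]
  have ht'eq : t' = t := by
    apply huniq
    refine ⟨fun r hr => ?_, ?_⟩
    · show ((g2zcu_sg r : ℤ) : F) * t r = 0
      rw [hsupp r hr, mul_zero]
    · rw [← g2zcu_word F t', ← hconj, hfix]
  have hz : ∀ r, (r = 7 ∨ r = 8 ∨ r = 10 ∨ r = 11) → t r = 0 := by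
    intro r hr
    have h1 := congrFun ht'eq r
    have h3 : ((g2zcu_sg r : ℤ) : F) = -1 := by
      unfold g2zcu_sg
      rw [if_pos hr]
      simp
    have h4 : -1 * t r = t r := by rw [← h3]; exact h1
    have h5 : (2 : F) * t r = 0 := by linear_combination -h4
    rcases mul_eq_zero.mp h5 with h6 | h6
    · exact absurd h6 h2
    · exact h6
  rw [hu', hz 7 (by simp), hz 8 (by simp), hz 10 (by simp), hz 11 (by simp)]
  have hz0 : ∀ r, xg F r 0 = 1 := fun r => Cfsg.Agent.Lib.Helper36.xGL_zero chevG2 hG2 F r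
  rw [hz0, hz0, hz0, hz0, mul_one, mul_one, mul_one, mul_one]
  unfold LL L1 L2
  refine mul_mem ?_ ?_
  · exact le_sup_left (a := chevG2.rootSubgroup F 6 ⊔ chevG2.rootSubgroup F 5)
      (le_sup_left (a := chevG2.rootSubgroup F 6) (mem_rootSubgroup chevG2 hG2 F 6 (t 6)))
  · exact le_sup_right (b := chevG2.rootSubgroup F 9 ⊔ chevG2.rootSubgroup F 2)
      (le_sup_left (a := chevG2.rootSubgroup F 9) (mem_rootSubgroup chevG2 hG2 F 9 (t 9)))

end Cfsg.Agent.Lib.Helper37.G2z
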