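import Mathlib

/-! # OG-COPRIME (helper67's Og hive, S2413/S2414/S2415): commuting elements of coprime orders are
powers of their product. -/

set_option autoImplicit false

namespace Cfsg.Agent.Lib.Helper67.Og

/-- OG-COPRIME -/
theorem mem_zpowers_of_coprime {G : Type*} [Group G] (s t : G) (hst : Commute s t) (m n : ℕ)
    (hs : s ^ m = 1) (ht : t ^ n = 1) (hmn : Nat.Coprime m n) :
    s ∈ Subgroup.zpowers (s * t) ∧ t ∈ Subgroup.zpowers (s * t) := by
  have hb : (1 : ℤ) = m * Nat.gcdA m n + n * Nat.gcdB m n := by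
    have h := Nat.gcd_eq_gcd_ab m n
    rw [hmn.gcd_eq_one] at h
    exact_mod_cast h
  have h1 : (s * t) ^ n = s ^ n := by rw [hst.mul_pow, ht, mul_one]
  have h2 : (s * t) ^ m = t ^ m := by rw [hst.mul_pow, hs, one_mul]
  constructor
  · refine Subgroup.mem_zpowers_iff.mpr ⟨(n : ℤ) * Nat.gcdB m n, ?_⟩
    rw [zpow_mul, zpow_natCast, h1]
    have hs1 : s = s ^ (1 : ℤ) := (zpow_one s).symm
    conv_rhs => rw [hs1, hb, zpow_add, zpow_mul, zpow_natCast, hs, one_zpow, one_mul, zpow_mul,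
      zpow_natCast]
  · refine Subgroup.mem_zpowers_iff.mpr ⟨(m : ℤ) * Nat.gcdA m n, ?_⟩
    rw [zpow_mul, zpow_natCast, h2]
    have ht1 : t = t ^ (1 : ℤ) := (zpow_one t).symm
    conv_rhs => rw [ht1, hb, zpow_add, zpow_mul, zpow_natCast, zpow_mul (a := t) (m := (n : ℤ)),
      zpow_natCast, ht, one_zpow, mul_one]

end Cfsg.Agent.Lib.Helper67.Og
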