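import Cfsg.Agent.Lib.Helper33.Conj
import Cfsg.Prelude.Def_Transfer
import Mathlib.GroupTheory.Transfer
import Mathlib.GroupTheory.Abelianization.Defs
import Mathlib.Algebra.BigOperators.Ring.Nat
import Mathlib.Tactic.Group
import Mathlib.Algebra.Group.Commutator
import Mathlib.GroupTheory.Commutator.Basic

set_option autoImplicit false

namespace Cfsg.Agent.Lib.Helper78

open MulAction Subgroup Cfsg.Agent.Lib.Helper33
open scoped commutatorElement

/-- unique involution in a cyclic group -/
theorem cyclic_sq_eq_one {A : Type*} [Group A] [Finite A] [IsCyclic A] {z w : A}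
    (hz1 : z ≠ 1) (hz2 : z ^ 2 = 1) (hw2 : w ^ 2 = 1) : w = 1 ∨ w = z := by
  classical
  have := Fintype.ofFinite A
  by_contra hcon
  push Not at hcon
  have hle := IsCyclic.card_pow_eq_one_le (α := A) (n := 2) (by norm_num)
  have hsub : ({1, z, w} : Finset A) ⊆ Finset.univ.filter (fun a : A => a ^ 2 = 1) := by
    intro a ha
    simp only [Finset.mem_insert, Finset.mem_singleton] at ha
    simp only [Finset.mem_filter, Finset.mem_univ, true_and]
    rcases ha with rfl | rfl | rfl
    · exact one_pow 2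
    · exact hz2
    · exact hw2
  have hcard : ({1, z, w} : Finset A).card = 3 := by
    rw [Finset.card_insert_of_notMem, Finset.card_insert_of_notMem, Finset.card_singleton]
    · simp only [Finset.mem_singleton]; exact fun h => hcon.2 h.symm
    · simp only [Finset.mem_insert, Finset.mem_singleton]
      rintro (h | h)
      · exact hz1 h.symm
      · exact hcon.1 h.symm
  have := Finset.card_le_card hsub
  omega

/-- product of elements each equal to 1 or z -/
theorem prod_eq_pow_card {ι A : Type*} [CommGroup A] [Fintype ι] [DecidableEq A] (f : ι → A) (z : A)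
    (hf : ∀ i, f i = 1 ∨ f i = z) :
    ∏ i, f i = z ^ (Finset.univ.filter (fun i => f i ≠ 1)).card := by
  classical
  have h1 : ∀ i ∈ Finset.univ, f i = if f i ≠ 1 then z else 1 := by
    intro i _
    rcases hf i with h | h
    · simp [h]
    · by_cases hz : z = 1
      · simp [h, hz]
      · rw [if_pos (by rw [h]; exact hz), h]
  rw [Finset.prod_congr rfl h1, Finset.prod_ite, Finset.prod_const, Finset.prod_const_one, mul_one]

/-- a 2-group acting on an invariant set with no fixed points: even cardinality -/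
theorem even_ncard_of_no_fixed {R α : Type*} [Group R] [MulAction R α] [Finite α]
    (hR : IsPGroup 2 R) (X : Set α) (hinv : ∀ r : R, ∀ a ∈ X, r • a ∈ X)
    (hfix : ∀ a ∈ X, ∃ r : R, r • a ≠ a) : Even X.ncard := by
  classical
  have : Fact (Nat.Prime 2) := ⟨Nat.prime_two⟩
  let Xs : SubMulAction R α := ⟨X, fun r a ha => hinv r a ha⟩
  have h1 := hR.card_modEq_card_fixedPoints (↥Xs)
  have h2 : IsEmpty (fixedPoints R ↥Xs) := by
    constructor
    rintro ⟨⟨a, ha⟩, hfixa⟩
    obtain ⟨r, hr⟩ := hfix a ha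
    apply hr
    have := hfixa r
    exact congrArg Subtype.val this
  have h3 : Nat.card (fixedPoints R ↥Xs) = 0 := Nat.card_eq_zero.mpr (Or.inl h2)
  rw [h3] at h1
  have h4 : Nat.card ↥Xs = X.ncard := rfl
  rw [h4] at h1
  exact Nat.even_iff.mpr h1


/-- **Transfer parity lemma** (Thompson transfer, general extremal form).
`S` a Sylow 2-subgroup of the finite group `G`, `T ≤ S` normal in `S` with `S/T` cyclic,
`y ∈ S` an involution outside `T`, and `R ≤ C_G(y)` a 2-subgroup such that whenever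
`g⁻¹ R g ≤ S` the conjugate `g⁻¹ y g` lies outside `T`.  Then some normal subgroup `N` of `G`
contains `G'` and `O^2(G)` but not `y` (namely the kernel of the transfer into `S/T`). -/
theorem transfer_parity {G : Type*} [Group G] [Finite G] (S : Sylow 2 G) (T : Subgroup G)
    (hTS : T ≤ S) (hTn : (T.subgroupOf (S : Subgroup G)).Normal)
    (hcyc : IsCyclic (↥(S : Subgroup G) ⧸ T.subgroupOf (S : Subgroup G)))
    (y : G) (hy : orderOf y = 2) (hyS : y ∈ S) (hyT : y ∉ T)
    (R : Subgroup G) (hRp : IsPGroup 2 R) (hRC : R ≤ Subgroup.centralizer ({y} : Set G))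
    (hR : ∀ g : G, cj g⁻¹ R ≤ (S : Subgroup G) → g⁻¹ * y * g ∉ T) :
    ∃ N : Subgroup G, N.Normal ∧ commutator G ≤ N ∧ Cfsg.pResidual 2 G ≤ N ∧ y ∉ N := by
  classical
  have hp2 : Fact (Nat.Prime 2) := ⟨Nat.prime_two⟩
  set H : Subgroup G := (S : Subgroup G) with hH
  have hy2 : y ^ 2 = 1 := by rw [← hy]; exact pow_orderOf_eq_one y
  let _ : CommGroup (H ⧸ T.subgroupOf H) := IsCyclic.commGroup
  let ϕ : H →* H ⧸ T.subgroupOf H := QuotientGroup.mk' (T.subgroupOf H)
  have hϕ1 : ∀ (e : G) (he : e ∈ H), ϕ ⟨e, he⟩ = 1 ↔ e ∈ T := by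
    intro e he
    rw [QuotientGroup.mk'_apply, QuotientGroup.eq_one_iff, Subgroup.mem_subgroupOf]
  set z := ϕ ⟨y, hyS⟩ with hzdef
  have hz1 : z ≠ 1 := by
    intro h
    exact hyT ((hϕ1 y hyS).mp h)
  have hz2 : z ^ 2 = 1 := by
    rw [hzdef, ← map_pow]
    have : (⟨y, hyS⟩ : H) ^ 2 = 1 := Subtype.ext (by simpa using hy2)
    rw [this, map_one]
  -- the quotient is a 2-group
  have hpgrp : ∀ a : H ⧸ T.subgroupOf H, ∃ j : ℕ, a ^ (2 ^ j) = 1 := by
    intro a
    induction a using QuotientGroup.induction_on with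
    | H x =>
    obtain ⟨j, hj⟩ := S.isPGroup' x
    refine ⟨j, ?_⟩
    rw [← QuotientGroup.mk_pow, hj]; rfl
  refine ⟨(MonoidHom.transfer ϕ).ker, MonoidHom.normal_ker _,
    Abelianization.commutator_subset_ker _, ?_, ?_⟩
  · unfold Cfsg.pResidual
    rw [Subgroup.closure_le]
    intro g hg
    have hg' : Nat.Coprime (orderOf g) 2 := hg
    rw [SetLike.mem_coe, MonoidHom.mem_ker]
    obtain ⟨j, hj⟩ := hpgrp (MonoidHom.transfer ϕ g)
    have h1 : (MonoidHom.transfer ϕ g) ^ (orderOf g) = 1 := by
      rw [← map_pow, pow_orderOf_eq_one, map_one]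
    have hd1 := orderOf_dvd_of_pow_eq_one h1
    have hd2 := orderOf_dvd_of_pow_eq_one hj
    have hcop : Nat.Coprime (orderOf g) (2 ^ j) := Nat.Coprime.pow_right j hg'
    have := Nat.eq_one_of_dvd_coprimes hcop hd1 hd2
    exact orderOf_eq_one_iff.mp this
  intro hymem
  have htr1 : MonoidHom.transfer ϕ y = 1 := MonoidHom.mem_ker.mp hymem
  -- normality of T in H, elementwise
  have hTnorm : ∀ t ∈ T, ∀ h ∈ H, h * t * h⁻¹ ∈ T := by
    intro t ht h hh
    have := hTn.conj_mem ⟨t, hTS ht⟩ (Subgroup.mem_subgroupOf.mpr ht) ⟨h, hh⟩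
    exact Subgroup.mem_subgroupOf.mp this
  -- the predicate PT
  have hPT1 : ∀ g h : G, h ∈ H → ((g * h)⁻¹ * y * (g * h) ∈ T ↔ g⁻¹ * y * g ∈ T) := by
    intro g h hh
    constructor
    · intro ht
      have := hTnorm _ ht h hh
      have e : h * ((g * h)⁻¹ * y * (g * h)) * h⁻¹ = g⁻¹ * y * g := by group
      rwa [e] at this
    · intro ht
      have := hTnorm _ ht h⁻¹ (H.inv_mem hh)
      have e : h⁻¹ * (g⁻¹ * y * g) * h⁻¹⁻¹ = (g * h)⁻¹ * y * (g * h) := by group
      rwa [e] at this
  have hPT2 : ∀ r g : G, r * y = y * r → ((r * g)⁻¹ * y * (r * g) ∈ T ↔ g⁻¹ * y * g ∈ T) := by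
    intro r g hr
    have e : (r * g)⁻¹ * y * (r * g) = g⁻¹ * y * g := by
      calc (r * g)⁻¹ * y * (r * g) = g⁻¹ * (r⁻¹ * (y * r)) * g := by group
        _ = g⁻¹ * (r⁻¹ * (r * y)) * g := by rw [hr]
        _ = g⁻¹ * y * g := by group
    rw [e]
  -- per-factor analysis
  have key : ∀ (a : G) (n : ℕ) (hmem : a⁻¹ * y ^ n * a ∈ H),
      (ϕ ⟨a⁻¹ * y ^ n * a, hmem⟩ = 1 ∨ ϕ ⟨a⁻¹ * y ^ n * a, hmem⟩ = z) ∧
      (ϕ ⟨a⁻¹ * y ^ n * a, hmem⟩ ≠ 1 ↔ (Odd n ∧ ¬ a⁻¹ * y * a ∈ T)) := by
    intro a n hmem
    rcases Nat.even_or_odd' n with ⟨k, hk | hk⟩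
    · have h1 : y ^ n = 1 := by rw [hk, pow_mul, hy2, one_pow]
      have h2 : ϕ ⟨a⁻¹ * y ^ n * a, hmem⟩ = 1 := by
        rw [hϕ1]
        rw [h1, mul_one, inv_mul_cancel]
        exact T.one_mem
      refine ⟨Or.inl h2, ?_⟩
      constructor
      · intro h; exact absurd h2 h
      · rintro ⟨hodd, _⟩
        exfalso
        rw [hk] at hodd
        exact (Nat.not_odd_iff_even.mpr (even_two_mul k)) hodd
    · have h1 : y ^ n = y := by rw [hk, pow_succ, pow_mul, hy2, one_pow, one_mul]
      have hmem' : a⁻¹ * y * a ∈ H := by rw [← h1]; exact hmem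
      have heq : (⟨a⁻¹ * y ^ n * a, hmem⟩ : H) = ⟨a⁻¹ * y * a, hmem'⟩ := Subtype.ext (by change a⁻¹ * y ^ n * a = a⁻¹ * y * a; rw [h1])
      rw [heq]
      have hsq : ϕ ⟨a⁻¹ * y * a, hmem'⟩ ^ 2 = 1 := by
        rw [← map_pow]
        have : (⟨a⁻¹ * y * a, hmem'⟩ : H) ^ 2 = 1 := by
          apply Subtype.ext
          simp only [Subgroup.coe_pow, Subgroup.coe_one]
          calc (a⁻¹ * y * a) ^ 2 = a⁻¹ * y ^ 2 * a := by rw [sq, sq]; group
            _ = 1 := by rw [hy2]; group
        rw [this, map_one]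
      refine ⟨cyclic_sq_eq_one hz1 hz2 hsq, ?_⟩
      rw [Ne, hϕ1]
      constructor
      · intro h; exact ⟨⟨k, hk⟩, h⟩
      · rintro ⟨_, h⟩; exact h
  have : Fintype (Quotient (orbitRel (zpowers y) (G ⧸ H))) := Fintype.ofFinite _
  rw [MonoidHom.transfer_eq_prod_quotient_orbitRel_zpowers_quot] at htr1
  rw [prod_eq_pow_card _ z (fun q => (key _ _ _).1)] at htr1
  -- parity
  have hfilter : (Finset.univ.filter (fun q : Quotient (orbitRel (zpowers y) (G ⧸ H)) =>
      ϕ ⟨q.out.out⁻¹ * y ^ Function.minimalPeriod (y • ·) q.out * q.out.out,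
            QuotientGroup.out_conj_pow_minimalPeriod_mem H y q.out⟩ ≠ 1)) =
      (Finset.univ.filter (fun q : Quotient (orbitRel (zpowers y) (G ⧸ H)) =>
        Odd (Function.minimalPeriod (y • ·) q.out) ∧ ¬ q.out.out⁻¹ * y * q.out.out ∈ T)) := by
    apply Finset.filter_congr
    intro q _
    exact (key _ _ _).2
  rw [hfilter] at htr1
  -- total number of odd periods is odd
  have hoddtotal : Odd (Finset.univ.filter (fun q : Quotient (orbitRel (zpowers y) (G ⧸ H)) =>
        Odd (Function.minimalPeriod (y • ·) q.out))).card := by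
    rw [← Finset.odd_sum_iff_odd_card_odd, ← Subgroup.index_eq_sum_minimalPeriod H y]
    rw [← Nat.not_even_iff_odd, even_iff_two_dvd]
    exact S.not_dvd_index
  -- split
  have hsplit : (Finset.univ.filter (fun q : Quotient (orbitRel (zpowers y) (G ⧸ H)) =>
        Odd (Function.minimalPeriod (y • ·) q.out))).card =
      (Finset.univ.filter (fun q : Quotient (orbitRel (zpowers y) (G ⧸ H)) =>
        Odd (Function.minimalPeriod (y • ·) q.out) ∧ q.out.out⁻¹ * y * q.out.out ∈ T)).card +
      (Finset.univ.filter (fun q : Quotient (orbitRel (zpowers y) (G ⧸ H)) =>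
        Odd (Function.minimalPeriod (y • ·) q.out) ∧ ¬ q.out.out⁻¹ * y * q.out.out ∈ T)).card := by
    rw [← Finset.filter_filter, ← Finset.filter_filter]
    exact (Finset.card_filter_add_card_filter_not _).symm
  -- the set X
  let X : Set (G ⧸ H) := {ω | ω.out⁻¹ * y * ω.out ∈ T}
  have hfixX : ∀ ω ∈ X, y • ω = ω := by
    intro ω hω
    have hmemH : ω.out⁻¹ * y * ω.out ∈ H := hTS hω
    conv_lhs => rw [← QuotientGroup.out_eq' ω]
    conv_rhs => rw [← QuotientGroup.out_eq' ω]
    rw [MulAction.Quotient.smul_mk, eq_comm, QuotientGroup.eq, smul_eq_mul, ← mul_assoc]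
    exact hmemH
  have hXcard : (Finset.univ.filter (fun q : Quotient (orbitRel (zpowers y) (G ⧸ H)) =>
        Odd (Function.minimalPeriod (y • ·) q.out) ∧ q.out.out⁻¹ * y * q.out.out ∈ T)).card
        = X.ncard := by
    rw [← Set.ncard_coe_finset]
    have hX : X = (fun q : Quotient (orbitRel (zpowers y) (G ⧸ H)) => q.out) ''
        (↑(Finset.univ.filter (fun q : Quotient (orbitRel (zpowers y) (G ⧸ H)) =>
        Odd (Function.minimalPeriod (y • ·) q.out) ∧ q.out.out⁻¹ * y * q.out.out ∈ T)) :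
          Set (Quotient (orbitRel (zpowers y) (G ⧸ H)))) := by
      ext ω
      constructor
      · intro hω
        have hfixω := hfixX ω hω
        refine ⟨Quotient.mk'' ω, ?_, ?_⟩
        · have hout : (Quotient.mk'' ω : Quotient (orbitRel (zpowers y) (G ⧸ H))).out = ω := by
            have hrel := Quotient.mk_out (s := orbitRel (zpowers y) (G ⧸ H)) ω
            rw [MulAction.orbitRel_apply] at hrel
            obtain ⟨⟨k, hk⟩, hkω⟩ := hrel
            obtain ⟨j, rfl⟩ := hk
            rw [← hkω]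
            change (y ^ j) • ω = ω
            have : ∀ j : ℤ, (y ^ j) • ω = ω := by
              intro j
              have hmemstab : y ∈ MulAction.stabilizer G ω := hfixω
              exact (MulAction.stabilizer G ω).zpow_mem hmemstab j
            exact this j
          simp only [Finset.coe_filter, Finset.mem_univ, true_and, Set.mem_ofPred_eq]
          rw [hout]
          refine ⟨?_, hω⟩
          have : Function.minimalPeriod (y • ·) ω = 1 :=
            Function.minimalPeriod_eq_one_iff_isFixedPt.mpr hfixω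
          rw [this]; exact odd_one
        · have hrel := Quotient.mk_out (s := orbitRel (zpowers y) (G ⧸ H)) ω
          rw [MulAction.orbitRel_apply] at hrel
          obtain ⟨⟨k, hk⟩, hkω⟩ := hrel
          obtain ⟨j, rfl⟩ := hk
          change (y ^ j) • ω = _ at hkω
          have hmemstab : y ∈ MulAction.stabilizer G ω := hfixω
          have := (MulAction.stabilizer G ω).zpow_mem hmemstab j
          rw [MulAction.mem_stabilizer_iff] at this
          rw [this] at hkω
          exact hkω.symm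
      · rintro ⟨q, hq, rfl⟩
        simp only [Finset.coe_filter, Finset.mem_univ, true_and, Set.mem_ofPred_eq] at hq
        exact hq.2
    rw [hX, Set.ncard_image_of_injective _ Quotient.out_injective]
  have hyR : ∀ r ∈ R, r * y = y * r := by
    intro r hr
    have := hRC hr
    rw [Subgroup.mem_centralizer_singleton_iff] at this
    exact this
  have hXeven : Even X.ncard := by
    apply even_ncard_of_no_fixed (R := R) hRp X
    · -- invariance
      intro r ω hω
      change (r.1 • ω).out⁻¹ * y * (r.1 • ω).out ∈ T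
      have h1 : r.1 • ω = ((r.1 * ω.out : G) : G ⧸ H) := by
        conv_lhs => rw [← QuotientGroup.out_eq' ω]
        rfl
      obtain ⟨h, hh⟩ := QuotientGroup.mk_out_eq_mul H (r.1 * ω.out)
      rw [h1, hh, hPT1 _ _ h.2, hPT2 _ _ (hyR r.1 r.2)]
      exact hω
    · -- no fixed points
      intro ω hω
      by_contra hall
      push Not at hall
      set g := ω.out with hg
      have hωg : ω = ((g : G) : G ⧸ H) := (QuotientGroup.out_eq' ω).symm
      have hRH : cj g⁻¹ R ≤ H := by
        intro x hx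
        rw [mem_cj, inv_inv] at hx
        have h1 := hall ⟨_, hx⟩
        change (g * x * g⁻¹) • ω = ω at h1
        rw [hωg, MulAction.Quotient.smul_mk, eq_comm, QuotientGroup.eq, smul_eq_mul] at h1
        have e : g⁻¹ * (g * x * g⁻¹ * g) = x := by group
        rwa [e] at h1
      exact hR g hRH hω
  -- conclusion
  rw [hsplit, hXcard] at hoddtotal
  have hN : Odd (Finset.univ.filter (fun q : Quotient (orbitRel (zpowers y) (G ⧸ H)) =>
        Odd (Function.minimalPeriod (y • ·) q.out) ∧ ¬ q.out.out⁻¹ * y * q.out.out ∈ T)).card := by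
    rcases Nat.even_or_odd (Finset.univ.filter (fun q : Quotient (orbitRel (zpowers y) (G ⧸ H)) =>
        Odd (Function.minimalPeriod (y • ·) q.out) ∧ ¬ q.out.out⁻¹ * y * q.out.out ∈ T)).card with h | h
    · exfalso
      have := hXeven.add h
      exact (Nat.not_odd_iff_even.mpr this) hoddtotal
    · exact h
  obtain ⟨k, hk⟩ := hN
  rw [hk, pow_succ, pow_mul, hz2, one_pow, one_mul] at htr1
  exact hz1 htr1

end Cfsg.Agent.Lib.Helper78
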