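import Cfsg.Agent.Lib.Helper4.RuDefs

/-! # S1628 hive "Ru" (helper4): leaf RU-C2 `code2` (helper78)

No words of weight 1 or 2 in the level-2 code: the 28 columns of the check matrix `T2` are nonzero and distinct. -/

set_option autoImplicit false

namespace Cfsg.Agent.Lib.Helper4.Ru

open Cfsg.Spor

/-- every column of the check matrix `T2` is nonzero -/
theorem ruc2_col_ne_zero : ∀ p : RuIdx, ∃ j : Fin 10, pos p ∈ T2.getD j.val [] := by
  decide +kernel

/-- the columns of the check matrix `T2` are pairwise distinct -/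
theorem ruc2_col_ne : ∀ p q : RuIdx, p = q ∨ ∃ j : Fin 10,
    (pos p ∈ T2.getD j.val [] ∧ pos q ∉ T2.getD j.val []) ∨
    (pos p ∉ T2.getD j.val [] ∧ pos q ∈ T2.getD j.val []) := by
  decide +kernel

theorem ruc2_mem_posSet (l : List ℕ) (p : RuIdx) : p ∈ posSet l ↔ pos p ∈ l := by
  simp [posSet]

/-- RU-C2: no words of weight 1 or 2 -/
theorem code2 (S : Finset RuIdx) (h : ∀ j < 10, Even (S ∩ posSet (T2.getD j [])).card) :
    S = ∅ ∨ 2 < S.card := by
  by_contra hcon
  push Not at hcon
  obtain ⟨hne, hle⟩ := hcon
  have hpos : 0 < S.card := Finset.card_pos.mpr hne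
  have h12 : S.card = 1 ∨ S.card = 2 := by omega
  rcases h12 with h1 | h2
  · obtain ⟨p, rfl⟩ := Finset.card_eq_one.mp h1
    obtain ⟨j, hj⟩ := ruc2_col_ne_zero p
    have hev := h j.val j.isLt
    have hmem : p ∈ posSet (T2.getD j.val []) := (ruc2_mem_posSet _ p).mpr hj
    have heq : ({p} : Finset RuIdx) ∩ posSet (T2.getD j.val []) = {p} := by
      rw [Finset.inter_eq_left]
      simpa using hmem
    rw [heq] at hev
    simp at hev
  · obtain ⟨p, q, hpq, rfl⟩ := Finset.card_eq_two.mp h2
    rcases ruc2_col_ne p q with hpq' | ⟨j, hj⟩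
    · exact hpq hpq'
    · have hev := h j.val j.isLt
      rcases hj with ⟨hp, hq⟩ | ⟨hp, hq⟩
      · have hmemp : p ∈ posSet (T2.getD j.val []) := (ruc2_mem_posSet _ p).mpr hp
        have hmemq : q ∉ posSet (T2.getD j.val []) := fun hh => hq ((ruc2_mem_posSet _ q).mp hh)
        have heq : ({p, q} : Finset RuIdx) ∩ posSet (T2.getD j.val []) = {p} := by
          ext x
          simp only [Finset.mem_inter, Finset.mem_insert, Finset.mem_singleton]
          constructor
          · rintro ⟨hx | hx, hx2⟩
            · exact hx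
            · exact absurd (hx ▸ hx2) hmemq
          · rintro rfl
            exact ⟨Or.inl rfl, hmemp⟩
        rw [heq] at hev
        simp at hev
      · have hmemq : q ∈ posSet (T2.getD j.val []) := (ruc2_mem_posSet _ q).mpr hq
        have hmemp : p ∉ posSet (T2.getD j.val []) := fun hh => hp ((ruc2_mem_posSet _ p).mp hh)
        have heq : ({p, q} : Finset RuIdx) ∩ posSet (T2.getD j.val []) = {q} := by
          ext x
          simp only [Finset.mem_inter, Finset.mem_insert, Finset.mem_singleton]
          constructor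
          · rintro ⟨hx | hx, hx2⟩
            · exact absurd (hx ▸ hx2) hmemp
            · exact hx
          · rintro rfl
            exact ⟨Or.inr rfl, hmemq⟩
        rw [heq] at hev
        simp at hev

end Cfsg.Agent.Lib.Helper4.Ru
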