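import Mathlib
import Cfsg.Agent.Lib.Helper78.CNSolv2
import Cfsg.Agent.S0041
import Cfsg.Agent.S1473
import Cfsg.Agent.Lib.Helper47.Quot
import Cfsg.Agent.Lib.Helper10.FittingCent
import Cfsg.Agent.Lib.Helper86.Ess

set_option autoImplicit false
set_option linter.style.haveILetI false

/-! Solvable CN-groups with `F(G) = O_p(G)`: `p'`-elements act fixed-point-freely on `O_p(G)`;
`p'`-subgroups are nilpotent, abelian ones are cyclic; the same in `G ⧸ O_p(G)`. -/

namespace Cfsg.Agent.Lib.Helper78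

open Cfsg

section GLevel

variable {G : Type*} [Group G] [Finite G] {p : ℕ} [hp : Fact p.Prime]

/-- `p'`-elements act fixed-point-freely on `O_p(G)` when `C_G(O_p(G)) ≤ O_p(G)` in a CN-group -/
theorem fpf_of_coprime (hCN : Cfsg.IsCNGroup G)
    (hcent : Subgroup.centralizer (Cfsg.pCore p G : Set G) ≤ Cfsg.pCore p G)
    {g : G} (hg1 : g ≠ 1) (hg : (orderOf g).Coprime p) {u : G} (hu : u ∈ Cfsg.pCore p G)
    (hgu : g * u = u * g) : u = 1 := by
  by_contra hu1
  have hUp : IsPGroup p (Cfsg.pCore p G) := Cfsg.Agent.Lib.Helper22.pCore_isPGroup' p G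
  have hog : orderOf g ≠ 1 := by rw [Ne, orderOf_eq_one_iff]; exact hg1
  obtain ⟨r, hr, hrd⟩ := Nat.exists_prime_and_dvd hog
  haveI : Fact r.Prime := ⟨hr⟩
  set g' := g ^ (orderOf g / r) with hg'
  have hg'ord : orderOf g' = r := orderOf_pow_orderOf_div (orderOf_pos g).ne' hrd
  have hg'1 : g' ≠ 1 := by
    intro h
    rw [h, orderOf_one] at hg'ord
    exact hr.one_lt.ne hg'ord
  have hrp : p ≠ r := by
    rintro rfl
    have : p ∣ Nat.gcd (orderOf g) p := Nat.dvd_gcd hrd dvd_rfl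
    rw [hg] at this
    exact hr.one_lt.ne' (Nat.dvd_one.mp this)
  have hcomm : u * g' = g' * u := by
    have hc : Commute u g := hgu.symm
    exact (hc.pow_right _).eq
  have hall := cn_centralizes hCN hrp (Cfsg.pCore p G) hUp (l := 1) (by rw [pow_one]; exact hg'ord)
    hu hu1 hcomm
  have hg'C : g' ∈ Subgroup.centralizer (Cfsg.pCore p G : Set G) := by
    rw [Subgroup.mem_centralizer_iff]
    intro t ht
    exact hall t ht
  have hg'U := hcent hg'C
  obtain ⟨k, hk⟩ := exists_orderOf_eq_of_mem_pgroup hUp hg'U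
  rw [hg'ord] at hk
  have : r ∣ p ^ k := by rw [← hk]
  have h2 := (Nat.prime_dvd_prime_iff_eq hr hp.out).mp (hr.dvd_of_dvd_pow this)
  exact hrp h2.symm

/-- `p'`-subgroups are nilpotent -/
theorem nilpotent_of_coprime_pCore (hCN : Cfsg.IsCNGroup G)
    (hcent : Subgroup.centralizer (Cfsg.pCore p G : Set G) ≤ Cfsg.pCore p G)
    (hU1 : Cfsg.pCore p G ≠ ⊥) (J : Subgroup G) (hJ : (Nat.card J).Coprime p) :
    Group.IsNilpotent J := by
  haveI hUn : (Cfsg.pCore p G).Normal := Cfsg.Agent.Lib.Helper22.pCore_normal' p G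
  have hUp : IsPGroup p (Cfsg.pCore p G) := Cfsg.Agent.Lib.Helper22.pCore_isPGroup' p G
  obtain ⟨hAn, hAc, hA1⟩ := center_of_normal_pgroup (Cfsg.pCore p G) hUp hU1
  set A := Cfsg.pCore p G ⊓ Subgroup.centralizer (Cfsg.pCore p G : Set G) with hA
  haveI := hAn
  have hAp : IsPGroup p A := hUp.to_le inf_le_left
  obtain ⟨k, hk⟩ := IsPGroup.iff_card.mp hAp
  apply nilpotent_of_fpf hCN A J hAc hA1
  · rw [hk]
    exact (Nat.Coprime.pow_right k hJ).symm
  · intro e he he1 a ha hea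
    have hoe : (orderOf e).Coprime p :=
      Nat.Coprime.coprime_dvd_left (Subgroup.orderOf_dvd_natCard J he) hJ
    exact fpf_of_coprime hCN hcent he1 hoe (inf_le_left (a := Cfsg.pCore p G) ha) hea

/-- abelian `p'`-subgroups are cyclic -/
theorem cyclic_of_abelian_coprime_pCore (hCN : Cfsg.IsCNGroup G)
    (hcent : Subgroup.centralizer (Cfsg.pCore p G : Set G) ≤ Cfsg.pCore p G)
    (hU1 : Cfsg.pCore p G ≠ ⊥) (J : Subgroup G) (hJ : (Nat.card J).Coprime p)
    (hJc : ∀ a ∈ J, ∀ b ∈ J, a * b = b * a) : IsCyclic J := by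
  haveI hUn : (Cfsg.pCore p G).Normal := Cfsg.Agent.Lib.Helper22.pCore_normal' p G
  have hUp : IsPGroup p (Cfsg.pCore p G) := Cfsg.Agent.Lib.Helper22.pCore_isPGroup' p G
  obtain ⟨hAn, hAc, hA1⟩ := center_of_normal_pgroup (Cfsg.pCore p G) hUp hU1
  set A := Cfsg.pCore p G ⊓ Subgroup.centralizer (Cfsg.pCore p G : Set G) with hA
  haveI : IsMulCommutative A := ⟨⟨fun a b => Subtype.ext (hAc a a.2 b b.2)⟩⟩
  haveI : IsMulCommutative J := ⟨⟨fun a b => Subtype.ext (hJc a a.2 b b.2)⟩⟩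
  apply Cfsg.Agent.S0041.result J A hA1
  · rw [Subgroup.normalizer_eq_top_iff.mpr hAn]
    exact le_top
  · intro e he he1
    rw [eq_bot_iff]
    intro a ha
    rw [Subgroup.mem_bot]
    obtain ⟨haA, haC⟩ := Subgroup.mem_inf.mp ha
    rw [Subgroup.mem_centralizer_singleton_iff] at haC
    have hoe : (orderOf e).Coprime p :=
      Nat.Coprime.coprime_dvd_left (Subgroup.orderOf_dvd_natCard J he) hJ
    exact fpf_of_coprime hCN hcent he1 hoe (inf_le_left (a := Cfsg.pCore p G) haA) haC.symm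
  · left; infer_instance

end GLevel

end Cfsg.Agent.Lib.Helper78
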