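import Mathlib
import Cfsg.Prelude.Def_CaseTheorems
import Cfsg.Agent.Lib.Helper78.CNSolv3

set_option autoImplicit false
set_option linter.style.haveILetI false

/-! The quotient `X = G ⧸ O_p(G)` of a solvable CN-group with `F(G) = O_p(G)`. -/

namespace Cfsg.Agent.Lib.Helper78

open Cfsg

variable {G : Type*} [Group G] [Finite G] {p : ℕ} [hp : Fact p.Prime]

theorem card_pCore_coprime (J : ℕ) (hJ : J.Coprime p) : (Nat.card (Cfsg.pCore p G)).Coprime J := by
  obtain ⟨k, hk⟩ := IsPGroup.iff_card.mp (Cfsg.Agent.Lib.Helper22.pCore_isPGroup' p G)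
  rw [hk]
  exact (Nat.Coprime.pow_right k hJ).symm

/-- `O_p(G ⧸ O_p(G)) = 1` -/
theorem pCore_quotient_pCore_eq_bot : Cfsg.pCore p (G ⧸ Cfsg.pCore p G) = ⊥ := by
  have h := Cfsg.Agent.Lib.Helper47.comap_pCore_quotient (Cfsg.pCore p G)
    (Cfsg.Agent.Lib.Helper22.pCore_isPGroup' p G)
  rw [eq_bot_iff]
  intro x hx
  obtain ⟨g, rfl⟩ := QuotientGroup.mk'_surjective (Cfsg.pCore p G) x
  have hg : g ∈ (Cfsg.pCore p (G ⧸ Cfsg.pCore p G)).comap (QuotientGroup.mk' (Cfsg.pCore p G)) :=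
    Subgroup.mem_comap.mpr hx
  rw [h] at hg
  rw [Subgroup.mem_bot]
  exact (QuotientGroup.eq_one_iff g).mpr hg

/-- a normal nilpotent subgroup of `X` has order prime to `p` when `O_p(X) = 1` -/
theorem coprime_card_of_normal_nilpotent {X : Type*} [Group X] [Finite X]
    (hX : Cfsg.pCore p X = ⊥) (N : Subgroup X) (hN : N.Normal) (hn : Group.IsNilpotent N) :
    (Nat.card N).Coprime p := by
  rw [Nat.coprime_comm, Nat.Prime.coprime_iff_not_dvd hp.out]
  intro hd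
  obtain ⟨y, hy⟩ := exists_prime_orderOf_dvd_card' (G := N) p hd
  have hy1 : ((y : N) : X) ∈ Cfsg.pCore p X :=
    mem_pCore_of_mem_normal_nilpotent hN hn y.2 (k := 1)
      (by rw [pow_one, ← hy, ← Subgroup.orderOf_coe]; exact pow_orderOf_eq_one _)
  rw [hX, Subgroup.mem_bot] at hy1
  have : y = 1 := Subtype.ext hy1
  rw [this, orderOf_one] at hy
  exact hp.out.one_lt.ne hy

/-- lifting, in `G` -/
theorem exists_lift_of_coprime' (U : Subgroup G) [U.Normal]
    (J : Subgroup (G ⧸ U)) (hcop : (Nat.card U).Coprime (Nat.card J)) :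
    ∃ J₀ : Subgroup G, J₀ ⊓ U = ⊥ ∧ J₀.map (QuotientGroup.mk' U) = J ∧
      Nat.card J₀ = Nat.card J := by
  obtain ⟨J', -, hdisj, hmap, hcard⟩ := exists_lift_of_coprime U J hcop
  refine ⟨_, hdisj, hmap, ?_⟩
  rw [← hcard]
  exact (Nat.card_congr (J'.equivMapOfInjective _ (Subgroup.subtype_injective _)).toEquiv).symm

variable (hCN : Cfsg.IsCNGroup G)
  (hcent : Subgroup.centralizer (Cfsg.pCore p G : Set G) ≤ Cfsg.pCore p G)
  (hU1 : Cfsg.pCore p G ≠ ⊥)

include hCN hcent hU1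

/-- `p'`-subgroups of `X` are nilpotent -/
theorem quot_nilpotent_of_coprime (J : Subgroup (G ⧸ Cfsg.pCore p G))
    (hJ : (Nat.card J).Coprime p) : Group.IsNilpotent J := by
  obtain ⟨J₀, -, hmap, hcard₀⟩ := exists_lift_of_coprime' (Cfsg.pCore p G) J
    (card_pCore_coprime _ hJ)
  have hn : Group.IsNilpotent J₀ :=
    nilpotent_of_coprime_pCore hCN hcent hU1 J₀ (by rw [hcard₀]; exact hJ)
  have := isNilpotent_map (QuotientGroup.mk' (Cfsg.pCore p G)) J₀ hn
  rwa [hmap] at this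

/-- abelian `p'`-subgroups of `X` are cyclic -/
theorem quot_cyclic_of_abelian_coprime (J : Subgroup (G ⧸ Cfsg.pCore p G))
    (hJ : (Nat.card J).Coprime p) (hJc : ∀ a ∈ J, ∀ b ∈ J, a * b = b * a) : IsCyclic J := by
  obtain ⟨J₀, hdisj, hmap, hcard₀⟩ := exists_lift_of_coprime' (Cfsg.pCore p G) J
    (card_pCore_coprime _ hJ)
  have hJ₀c : ∀ a ∈ J₀, ∀ b ∈ J₀, a * b = b * a := by
    intro a ha b hb
    have ha' : (QuotientGroup.mk' (Cfsg.pCore p G)) a ∈ J := by
      rw [← hmap]; exact Subgroup.mem_map_of_mem _ ha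
    have hb' : (QuotientGroup.mk' (Cfsg.pCore p G)) b ∈ J := by
      rw [← hmap]; exact Subgroup.mem_map_of_mem _ hb
    have h1 := hJc _ ha' _ hb'
    rw [← map_mul, ← map_mul] at h1
    have h2 : (b * a)⁻¹ * (a * b) ∈ Cfsg.pCore p G := by
      have := QuotientGroup.eq.mp h1.symm
      exact this
    have h3 : (b * a)⁻¹ * (a * b) ∈ J₀ ⊓ Cfsg.pCore p G :=
      Subgroup.mem_inf.mpr ⟨mul_mem (inv_mem (mul_mem hb ha)) (mul_mem ha hb), h2⟩
    rw [hdisj, Subgroup.mem_bot] at h3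
    have := inv_mul_eq_one.mp h3
    exact this.symm
  haveI : IsCyclic J₀ :=
    cyclic_of_abelian_coprime_pCore hCN hcent hU1 J₀ (by rw [hcard₀]; exact hJ) hJ₀c
  have h5 : IsCyclic (J₀.map (QuotientGroup.mk' (Cfsg.pCore p G))) :=
    isCyclic_of_surjective ((QuotientGroup.mk' (Cfsg.pCore p G)).subgroupMap J₀)
      ((QuotientGroup.mk' (Cfsg.pCore p G)).subgroupMap_surjective J₀)
  rwa [hmap] at h5

end Cfsg.Agent.Lib.Helper78
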