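import Cfsg.Agent.Lib.Helper81.Mi.Defs
import Cfsg.Agent.Lib.Helper5.SLGen

/-! # Mi hive (helper81, S2140): leaf MI-GEN `closure_tv_eq_top` (helper78)

`SL_n(F)` is generated by the transvections `tv v φ`: the elementary transvection `1 + c E_{ij}` is
`tv (single i 1) (c • single j 1)`; then `Helper5.eq_top_of_transvection_mem`. -/

set_option autoImplicit false

namespace Cfsg.Agent.Lib.Helper81.Mi

open Matrix

section concrete

variable {F : Type*} [Field F] {n : ℕ}

/-- the elementary transvection `1 + c E_{ij}` as a `tv` -/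
theorem gen_transvection_eq_tv (i j : Fin n) (hij : i ≠ j) (c : F) :
    Matrix.SpecialLinearGroup.transvection hij c =
      tv (Pi.single i (1 : F)) (c • Pi.single j (1 : F)) := by
  have h0 : (c • Pi.single j (1 : F)) ⬝ᵥ (Pi.single i (1 : F)) = 0 := by
    rw [dotProduct_single, mul_one, Pi.smul_apply, Pi.single_eq_of_ne hij, smul_zero]
  apply Subtype.ext
  rw [coe_tv _ _ h0, Matrix.SpecialLinearGroup.transvection_coe]
  unfold tmat
  congr 1
  ext a b
  simp only [Matrix.single_apply, Matrix.vecMulVec_apply, Pi.smul_apply, Pi.single_apply, smul_eq_mul]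
  by_cases ha : a = i <;> by_cases hb : b = j
  · simp [ha, hb]
  · have hb' : ¬ j = b := fun h => hb h.symm
    simp [ha, hb, hb']
  · have ha' : ¬ i = a := fun h => ha h.symm
    simp [ha, hb, ha']
  · have ha' : ¬ i = a := fun h => ha h.symm
    simp [ha, hb, ha']

/-- MI-GEN: `SL_n(F)` is generated by the transvections `tv v φ`. -/
theorem closure_tv_eq_top : Subgroup.closure {g : SLn n F | ∃ v φ : Fin n → F, g = tv v φ} = ⊤ := by
  apply Cfsg.Agent.Lib.Helper5.eq_top_of_transvection_mem
  intro i j hij c
  apply Subgroup.subset_closure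
  exact ⟨_, _, gen_transvection_eq_tv i j hij c⟩

end concrete

end Cfsg.Agent.Lib.Helper81.Mi
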