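import Mathlib
import Cfsg.Prelude.Def_Classical

/-! # OG-FIN (helper67's Og hive, S2413/S2414/S2415): from two generators of `Ω` to two generators
of `PΩ`. -/

set_option autoImplicit false

namespace Cfsg.Agent.Lib.Helper67.Og

/-- generic version: a subgroup `K` generated (inside the ambient group) by two of its elements
gives a two-generated quotient `K ⧸ N` -/
theorem fin_two_gen_quot {G : Type*} [Group G] (K : Subgroup G) (N : Subgroup ↥K) [N.Normal]
    (X Y : G) (hX : X ∈ K) (hY : Y ∈ K) (h : K ≤ Subgroup.closure {X, Y}) :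
    ∃ a b : ↥K ⧸ N, Subgroup.closure ({a, b} : Set (↥K ⧸ N)) = ⊤ := by
  have hxy : Subgroup.closure ({(⟨X, hX⟩ : ↥K), ⟨Y, hY⟩} : Set ↥K) = ⊤ := by
    apply Subgroup.map_injective K.subtype_injective
    rw [MonoidHom.map_closure, ← MonoidHom.range_eq_map, Subgroup.range_subtype, Set.image_pair]
    apply le_antisymm
    · rw [Subgroup.closure_le]
      intro z hz
      rcases hz with rfl | rfl
      · exact hX
      · exact hY
    · exact h
  refine ⟨QuotientGroup.mk' N ⟨X, hX⟩, QuotientGroup.mk' N ⟨Y, hY⟩, ?_⟩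
  have h1 := MonoidHom.map_closure (QuotientGroup.mk' N) {(⟨X, hX⟩ : ↥K), ⟨Y, hY⟩}
  rw [hxy, Set.image_pair] at h1
  rw [← h1]
  exact Subgroup.map_top_of_surjective _ (QuotientGroup.mk'_surjective N)

/-- OG-FIN -/
theorem two_gen_of {ι : Type} [Fintype ι] [DecidableEq ι] {F : Type*} [Field F]
    (Qf : (ι → F) → F) (X Y : ↥(Cfsg.isometryGroup F Qf))
    (hX : X ∈ commutator ↥(Cfsg.isometryGroup F Qf))
    (hY : Y ∈ commutator ↥(Cfsg.isometryGroup F Qf))
    (h : commutator ↥(Cfsg.isometryGroup F Qf) ≤ Subgroup.closure {X, Y}) :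
    ∃ a b : Cfsg.POmega F Qf, Subgroup.closure ({a, b} : Set (Cfsg.POmega F Qf)) = ⊤ :=
  fin_two_gen_quot (commutator ↥(Cfsg.isometryGroup F Qf))
    (Subgroup.center ↥(commutator ↥(Cfsg.isometryGroup F Qf))) X Y hX hY h

end Cfsg.Agent.Lib.Helper67.Og
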