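import Mathlib
import Cfsg.Prelude.Def_OddOrderLocal
import Cfsg.Agent.Lib.Helper22.Fitting
import Cfsg.Agent.S1477

set_option autoImplicit false
set_option linter.style.haveILetI false

/-! Three-step groups: basic structure (for an arbitrary natural number `p`). -/

namespace Cfsg.Agent.Lib.Helper78.ThreeStep

open Cfsg

/-- the data of a three-step group, unpacked -/
structure TSData (p : ℕ) (X : Type*) [Group X] (A : Subgroup X) : Prop where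
  U_ne : pCore p X ≠ ⊥
  A_ne : A ≠ ⊥
  A_cyc : IsCyclic A
  A_cop : (Nat.card A).Coprime p
  B_normal : (pCore p X ⊔ A).Normal
  B_ne_top : pCore p X ⊔ A ≠ ⊤
  B_index : ∃ n : ℕ, (pCore p X ⊔ A).index = p ^ n
  fpf : ∀ a ∈ A, a ≠ 1 → ∀ u ∈ pCore p X, a * u = u * a → u = 1
  out : ∀ x : X, x ∉ pCore p X ⊔ A → ∀ a ∈ A, a ≠ 1 → x * a * x⁻¹ * a⁻¹ ∉ pCore p X

theorem tsData_of_isThreeStep {p : ℕ} {X : Type*} [Group X] (h : IsThreeStepGroup p X) :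
    ∃ A : Subgroup X, TSData p X A := by
  obtain ⟨h1, A, h2, h3, _, h5, h6, h7, h8, h9, h10⟩ := h
  refine ⟨A, ⟨h1, h2, h3, h5, h6, h7, h8, ?_, h10⟩⟩
  intro a ha ha1 u hu hau
  have hmem : u ∈ pCore p X ⊓ Subgroup.centralizer ({a} : Set X) := by
    refine Subgroup.mem_inf.mpr ⟨hu, ?_⟩
    rw [Subgroup.mem_centralizer_singleton_iff]
    exact hau.symm
  rw [h9 a ha ha1] at hmem
  exact Subgroup.mem_bot.mp hmem

theorem isThreeStep_of_tsData {p : ℕ} {X : Type*} [Group X] {A : Subgroup X} (h : TSData p X A)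
    (hodd : Odd (Nat.card A)) : IsThreeStepGroup p X := by
  refine ⟨h.U_ne, A, h.A_ne, h.A_cyc, hodd, h.A_cop, h.B_normal, h.B_ne_top, h.B_index, ?_, h.out⟩
  intro a ha ha1
  rw [eq_bot_iff]
  intro u hu
  obtain ⟨hu1, hu2⟩ := Subgroup.mem_inf.mp hu
  rw [Subgroup.mem_centralizer_singleton_iff] at hu2
  exact Subgroup.mem_bot.mpr (h.fpf a ha ha1 u hu1 hu2.symm)

theorem exists_ne_one {X : Type*} [Group X] {H : Subgroup X} (h : H ≠ ⊥) : ∃ x ∈ H, x ≠ 1 := by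
  rcases Subgroup.bot_or_exists_ne_one H with h1 | h1
  · exact absurd h1 h
  · exact h1

section basic

variable {p : ℕ} {X : Type*} [Group X] [Finite X] {A : Subgroup X}

/-- elements of `B = U A` outside `U` are `U`-conjugates of nonidentity elements of `A` -/
theorem conj_into_A (h : TSData p X A) {b : X} (hb : b ∈ pCore p X ⊔ A) (hbU : b ∉ pCore p X) :
    ∃ w ∈ pCore p X, ∃ a ∈ A, a ≠ 1 ∧ b = w * a * w⁻¹ := by
  haveI hUn : (pCore p X).Normal := Cfsg.Agent.Lib.Helper22.pCore_normal' p X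
  obtain ⟨u₁, hu₁, a₁, ha₁, rfl⟩ := Subgroup.mem_sup_of_normal_left.mp hb
  have ha1 : a₁ ≠ 1 := by
    rintro rfl
    exact hbU (by simpa using hu₁)
  let f : pCore p X → pCore p X := fun w =>
    ⟨(w : X) * a₁ * (w : X)⁻¹ * a₁⁻¹, by
      have h1 : a₁ * (w : X)⁻¹ * a₁⁻¹ ∈ pCore p X := hUn.conj_mem _ (inv_mem w.2) a₁
      have h2 : (w : X) * a₁ * (w : X)⁻¹ * a₁⁻¹ = (w : X) * (a₁ * (w : X)⁻¹ * a₁⁻¹) := by group
      rw [h2]
      exact mul_mem w.2 h1⟩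
  have hinj : Function.Injective f := by
    intro w w' hww
    have h1 : (w : X) * a₁ * (w : X)⁻¹ * a₁⁻¹ = (w' : X) * a₁ * (w' : X)⁻¹ * a₁⁻¹ :=
      congrArg Subtype.val hww
    have h2 : a₁ * ((w' : X)⁻¹ * (w : X)) = ((w' : X)⁻¹ * (w : X)) * a₁ := by
      have h3 : (w : X) * a₁ * (w : X)⁻¹ = (w' : X) * a₁ * (w' : X)⁻¹ := by
        have := congrArg (· * a₁) h1
        simpa using this
      have h4 : a₁ = (w : X)⁻¹ * ((w' : X) * a₁ * (w' : X)⁻¹) * (w : X) := by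
        rw [← h3]; group
      calc a₁ * ((w' : X)⁻¹ * (w : X))
          = (w' : X)⁻¹ * ((w' : X) * a₁ * (w' : X)⁻¹) * (w : X) := by group
        _ = (w' : X)⁻¹ * ((w : X) * a₁ * (w : X)⁻¹) * (w : X) := by rw [h3]
        _ = ((w' : X)⁻¹ * (w : X)) * a₁ := by group
    have h5 := h.fpf a₁ ha₁ ha1 _ (mul_mem (inv_mem w'.2) w.2) h2
    exact Subtype.ext (inv_mul_eq_one.mp h5).symm
  have hsurj : Function.Surjective f := Finite.injective_iff_surjective.mp hinj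
  obtain ⟨w, hw⟩ := hsurj ⟨u₁, hu₁⟩
  have hw' : (w : X) * a₁ * (w : X)⁻¹ * a₁⁻¹ = u₁ := congrArg Subtype.val hw
  refine ⟨w, w.2, a₁, ha₁, ha1, ?_⟩
  rw [← hw']
  group

/-- elements of `B` outside `U` act fixed-point-freely on `U` -/
theorem fpf_B (h : TSData p X A) {b : X} (hb : b ∈ pCore p X ⊔ A) (hbU : b ∉ pCore p X)
    {u : X} (hu : u ∈ pCore p X) (hbu : b * u = u * b) : u = 1 := by
  haveI hUn : (pCore p X).Normal := Cfsg.Agent.Lib.Helper22.pCore_normal' p X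
  obtain ⟨w, hw, a, ha, ha1, rfl⟩ := conj_into_A h hb hbU
  have h1 : w⁻¹ * u * w ∈ pCore p X := by
    have := hUn.conj_mem u hu w⁻¹
    simpa using this
  have h2 : a * (w⁻¹ * u * w) = (w⁻¹ * u * w) * a := by
    calc a * (w⁻¹ * u * w) = w⁻¹ * ((w * a * w⁻¹) * u) * w := by group
      _ = w⁻¹ * (u * (w * a * w⁻¹)) * w := by rw [hbu]
      _ = (w⁻¹ * u * w) * a := by group
  have h3 := h.fpf a ha ha1 _ h1 h2
  have : u = w * (w⁻¹ * u * w) * w⁻¹ := by group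
  rw [this, h3]
  group

/-- `C_X(U) ≤ U` -/
theorem cent_le (h : TSData p X A) :
    Subgroup.centralizer (pCore p X : Set X) ≤ pCore p X := by
  haveI hUn : (pCore p X).Normal := Cfsg.Agent.Lib.Helper22.pCore_normal' p X
  haveI := h.B_normal
  intro c hc
  rw [Subgroup.mem_centralizer_iff] at hc
  obtain ⟨u₀, hu₀, hu₀1⟩ := exists_ne_one h.U_ne
  obtain ⟨a₀, ha₀, ha₀1⟩ := exists_ne_one h.A_ne
  by_cases hcB : c ∈ pCore p X ⊔ A
  · by_contra hcU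
    exact hu₀1 (fpf_B h hcB hcU hu₀ (hc u₀ hu₀).symm)
  · exfalso
    have h1 := h.out c hcB a₀ ha₀ ha₀1
    -- `[c, a₀]` centralizes `U` and lies in `B`
    have h2 : c * a₀ * c⁻¹ * a₀⁻¹ ∈ pCore p X ⊔ A := by
      have ha₀B : a₀ ∈ pCore p X ⊔ A := (le_sup_right : A ≤ _) ha₀
      have := h.B_normal.conj_mem a₀ ha₀B c
      exact mul_mem this (inv_mem ha₀B)
    have h3 : ∀ u ∈ pCore p X, (c * a₀ * c⁻¹ * a₀⁻¹) * u = u * (c * a₀ * c⁻¹ * a₀⁻¹) := by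
      intro u hu
      -- c commutes with every element of U, and a₀ normalizes U
      have e1 : a₀⁻¹ * u * a₀ ∈ pCore p X := by
        have := hUn.conj_mem u hu a₀⁻¹
        simpa using this
      have e2 := hc _ e1
      have e3 : c⁻¹ * (a₀⁻¹ * u * a₀) = (a₀⁻¹ * u * a₀) * c⁻¹ := by
        have : (a₀⁻¹ * u * a₀) = c * (a₀⁻¹ * u * a₀) * c⁻¹ := by
          rw [← e2]; group
        calc c⁻¹ * (a₀⁻¹ * u * a₀) = c⁻¹ * (c * (a₀⁻¹ * u * a₀) * c⁻¹) := by rw [← this]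
          _ = (a₀⁻¹ * u * a₀) * c⁻¹ := by group
      have e4 := hc u hu
      calc (c * a₀ * c⁻¹ * a₀⁻¹) * u = c * a₀ * (c⁻¹ * (a₀⁻¹ * u * a₀)) * a₀⁻¹ := by group
        _ = c * a₀ * ((a₀⁻¹ * u * a₀) * c⁻¹) * a₀⁻¹ := by rw [e3]
        _ = (c * u) * a₀ * c⁻¹ * a₀⁻¹ := by group
        _ = (u * c) * a₀ * c⁻¹ * a₀⁻¹ := by rw [e4]
        _ = u * (c * a₀ * c⁻¹ * a₀⁻¹) := by group
    exact hu₀1 (fpf_B h h2 h1 hu₀ (h3 u₀ hu₀))

end basic

end Cfsg.Agent.Lib.Helper78.ThreeStep
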