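import Mathlib
import Cfsg.Agent.Lib.Helper78.ThreeStep1
import Cfsg.Agent.Lib.Helper11.PAbP
import Cfsg.Agent.Lib.Helper11.Quad

set_option autoImplicit false
set_option linter.style.haveILetI false

/-! Three-step groups: exclusion lemma, `PAbP`, Sylow structure. -/

namespace Cfsg.Agent.Lib.Helper78.ThreeStep

open Cfsg

section general

variable {p : ℕ} {X : Type*} [Group X] [Finite X] {A : Subgroup X}

/-- a three-step group has no normal nilpotent subgroup with abelian quotient -/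
theorem excl (h : TSData p X A) (K : Subgroup X) [hKn : K.Normal] (hK : Group.IsNilpotent K)
    (hab : ∀ x y : X, x * y * x⁻¹ * y⁻¹ ∈ K) : False := by
  haveI hUn : (pCore p X).Normal := Cfsg.Agent.Lib.Helper22.pCore_normal' p X
  haveI := h.B_normal
  have hN : ∃ N₁ : Subgroup X, N₁.Normal ∧ IsPGroup p N₁ ∧ N₁ ≠ ⊥ := by
    by_contra hcon
    push Not at hcon
    apply h.U_ne
    unfold pCore
    rw [sSup_eq_bot]
    intro N hN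
    exact hcon N hN.1 hN.2
  obtain ⟨N₁, hN₁n, hN₁p, hN₁1⟩ := hN
  have hN₁U : N₁ ≤ pCore p X := le_sSup ⟨hN₁n, hN₁p⟩
  obtain ⟨u₀, hu₀, hu₀1⟩ := exists_ne_one hN₁1
  obtain ⟨a₀, ha₀, ha₀1⟩ := exists_ne_one h.A_ne
  set w₀ := u₀ * a₀ * u₀⁻¹ * a₀⁻¹ with hw₀
  have hw₀K : w₀ ∈ K := hab u₀ a₀
  have hw₀N : w₀ ∈ N₁ := by
    have h1 : a₀ * u₀⁻¹ * a₀⁻¹ ∈ N₁ := hN₁n.conj_mem _ (inv_mem hu₀) a₀
    have h2 : w₀ = u₀ * (a₀ * u₀⁻¹ * a₀⁻¹) := by rw [hw₀]; group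
    rw [h2]
    exact mul_mem hu₀ h1
  have hw₀1 : w₀ ≠ 1 := by
    intro h1
    have h2 : a₀ * u₀ = u₀ * a₀ := by
      have : u₀ * a₀ = (u₀ * a₀ * u₀⁻¹ * a₀⁻¹) * (a₀ * u₀) := by group
      rw [this, ← hw₀, h1, one_mul]
    exact hu₀1 (h.fpf a₀ ha₀ ha₀1 u₀ (hN₁U hu₀) h2)
  have hx : ∃ x₀ : X, x₀ ∉ pCore p X ⊔ A := by
    by_contra hcon
    push Not at hcon
    exact h.B_ne_top (eq_top_iff.mpr fun x _ => hcon x)
  obtain ⟨x₀, hx₀⟩ := hx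
  set c := x₀ * a₀ * x₀⁻¹ * a₀⁻¹ with hc
  have hcK : c ∈ K := hab x₀ a₀
  have ha₀B : a₀ ∈ pCore p X ⊔ A := (le_sup_right : A ≤ _) ha₀
  have hcB : c ∈ pCore p X ⊔ A :=
    mul_mem (h.B_normal.conj_mem a₀ ha₀B x₀) (inv_mem ha₀B)
  have hcU : c ∉ pCore p X := h.out x₀ hx₀ a₀ ha₀ ha₀1
  obtain ⟨w, hw, a, ha, ha1, hcw⟩ := conj_into_A h hcB hcU
  have haK : a ∈ K := by
    have h1 : a = w⁻¹ * c * w⁻¹⁻¹ := by rw [hcw]; group
    rw [h1]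
    exact hKn.conj_mem c hcK w⁻¹
  have hapow : a ^ Nat.card A = 1 := by
    have := pow_card_eq_one' (G := A) (x := ⟨a, ha⟩)
    exact congrArg Subtype.val this
  obtain ⟨k, hk⟩ := hN₁p ⟨w₀, hw₀N⟩
  have hwpow : w₀ ^ p ^ k = 1 := congrArg Subtype.val hk
  have hcomm := Cfsg.Agent.S1477.comm_in K hK haK hw₀K hapow hwpow (h.A_cop.pow_right k)
  exact hw₀1 (h.fpf a ha ha1 w₀ (hN₁U hw₀N) hcomm)

/-- not nilpotent -/
theorem not_nilpotent (h : TSData p X A) : ¬ Group.IsNilpotent X := by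
  intro hn
  haveI := hn
  have hK : Group.IsNilpotent (⊤ : Subgroup X) :=
    Group.nilpotent_of_mulEquiv (Subgroup.topEquiv (G := X)).symm
  exact excl h ⊤ hK (fun _ _ => Subgroup.mem_top _)

omit [Finite X] in
/-- commutators of elements of `B` lie in `U` -/
theorem comm_mem_U (h : TSData p X A) {b₁ b₂ : X} (hb₁ : b₁ ∈ pCore p X ⊔ A)
    (hb₂ : b₂ ∈ pCore p X ⊔ A) : b₁ * b₂ * b₁⁻¹ * b₂⁻¹ ∈ pCore p X := by
  haveI hUn : (pCore p X).Normal := Cfsg.Agent.Lib.Helper22.pCore_normal' p X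
  obtain ⟨u₁, hu₁, a₁, ha₁, rfl⟩ := Subgroup.mem_sup_of_normal_left.mp hb₁
  obtain ⟨u₂, hu₂, a₂, ha₂, rfl⟩ := Subgroup.mem_sup_of_normal_left.mp hb₂
  haveI := h.A_cyc
  have hcomm : a₁ * a₂ = a₂ * a₁ := by
    obtain ⟨g, hg⟩ := IsCyclic.exists_generator (α := A)
    obtain ⟨m, hm⟩ := Subgroup.mem_zpowers_iff.mp (hg ⟨a₁, ha₁⟩)
    obtain ⟨n, hn⟩ := Subgroup.mem_zpowers_iff.mp (hg ⟨a₂, ha₂⟩)
    have h1 : (⟨a₁, ha₁⟩ : A) * ⟨a₂, ha₂⟩ = ⟨a₂, ha₂⟩ * ⟨a₁, ha₁⟩ := by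
      rw [← hm, ← hn, ← zpow_add, ← zpow_add, add_comm]
    exact congrArg Subtype.val h1
  rw [← QuotientGroup.eq_one_iff (N := pCore p X)]
  have e1 : ((u₁ : X) : X ⧸ pCore p X) = 1 := (QuotientGroup.eq_one_iff _).mpr hu₁
  have e2 : ((u₂ : X) : X ⧸ pCore p X) = 1 := (QuotientGroup.eq_one_iff _).mpr hu₂
  simp only [QuotientGroup.mk_mul, QuotientGroup.mk_inv, e1, e2, one_mul]
  have : ((a₁ : X) : X ⧸ pCore p X) * (a₂ : X) = (a₂ : X) * (a₁ : X) := by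
    rw [← QuotientGroup.mk_mul, ← QuotientGroup.mk_mul, hcomm]
  rw [this]
  group

omit [Finite X] in
/-- `b ^ |A| ∈ U` for `b ∈ B` -/
theorem pow_card_mem_U (_h : TSData p X A) {b : X} (hb : b ∈ pCore p X ⊔ A) :
    b ^ Nat.card A ∈ pCore p X := by
  haveI hUn : (pCore p X).Normal := Cfsg.Agent.Lib.Helper22.pCore_normal' p X
  obtain ⟨u₁, hu₁, a₁, ha₁, rfl⟩ := Subgroup.mem_sup_of_normal_left.mp hb
  have hapow : a₁ ^ Nat.card A = 1 := by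
    have := pow_card_eq_one' (G := A) (x := ⟨a₁, ha₁⟩)
    exact congrArg Subtype.val this
  rw [← QuotientGroup.eq_one_iff (N := pCore p X)]
  have e1 : ((u₁ : X) : X ⧸ pCore p X) = 1 := (QuotientGroup.eq_one_iff _).mpr hu₁
  rw [QuotientGroup.mk_pow, QuotientGroup.mk_mul, e1, one_mul, ← QuotientGroup.mk_pow, hapow]
  rfl

end general

end Cfsg.Agent.Lib.Helper78.ThreeStep
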