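import Mathlib
import Cfsg.Agent.Lib.Helper78.ThreeStep2

set_option autoImplicit false
set_option linter.style.haveILetI false
set_option linter.unusedSectionVars false

/-! Three-step groups with respect to a prime: `PAbP`, Sylow structure. -/

namespace Cfsg.Agent.Lib.Helper78.ThreeStep

open Cfsg

variable {p : ℕ} [hp : Fact p.Prime] {X : Type*} [Group X] [Finite X] {A : Subgroup X}

theorem pAbP (h : TSData p X A) : Cfsg.Agent.Lib.Helper11.PAbP p X := by
  haveI hUn : (pCore p X).Normal := Cfsg.Agent.Lib.Helper22.pCore_normal' p X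
  haveI := h.B_normal
  refine ⟨pCore p X, pCore p X ⊔ A, hUn, h.B_normal,
    Cfsg.Agent.Lib.Helper22.pCore_isPGroup' p X, ?_, ⟨Nat.card A, h.A_cop, ?_⟩, ?_⟩
  · intro a ha b hb
    rw [commutatorElement_def]
    exact comm_mem_U h ha hb
  · intro a ha
    exact pow_card_mem_U h ha
  · intro z
    obtain ⟨n, hn⟩ := h.B_index
    refine ⟨n, ?_⟩
    rw [← hn]
    exact Subgroup.pow_index_mem _ z

/-- `S ∩ B = U` for a Sylow `p`-subgroup `S` -/
theorem sylow_inf_B (h : TSData p X A) (S : Sylow p X) :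
    (S : Subgroup X) ⊓ (pCore p X ⊔ A) = pCore p X := by
  apply le_antisymm
  · intro d hd
    obtain ⟨hdS, hdB⟩ := Subgroup.mem_inf.mp hd
    have h1 := pow_card_mem_U h hdB
    obtain ⟨k, hk⟩ := S.isPGroup' ⟨d, hdS⟩
    have h2 : d ^ p ^ k ∈ pCore p X := by
      have : d ^ p ^ k = 1 := congrArg Subtype.val hk
      rw [this]
      exact one_mem _
    exact Cfsg.Agent.S1477.mem_of_pow_mem_of_coprime _ (h.A_cop.pow_right k) h1 h2
  · exact le_inf (Cfsg.Agent.Lib.Helper11.pCore_le_sylow S) le_sup_left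

/-- `p` divides the index of `B` -/
theorem p_dvd_index_B (h : TSData p X A) : p ∣ (pCore p X ⊔ A).index := by
  obtain ⟨n, hn⟩ := h.B_index
  rw [hn]
  rcases Nat.eq_zero_or_pos n with h0 | h0
  · exfalso
    rw [h0, pow_zero] at hn
    exact h.B_ne_top (Subgroup.index_eq_one.mp hn)
  · exact dvd_pow_self p h0.ne'

/-- a Sylow `p`-subgroup is not contained in `B` -/
theorem exists_sylow_not_mem_B (h : TSData p X A) (S : Sylow p X) :
    ∃ x ∈ (S : Subgroup X), x ∉ pCore p X ⊔ A := by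
  by_contra hcon
  push Not at hcon
  have hSB : (S : Subgroup X) ≤ pCore p X ⊔ A := hcon
  have h1 := Subgroup.index_dvd_of_le hSB
  have h2 := p_dvd_index_B h
  exact S.not_dvd_index (dvd_trans h2 h1)

/-- `S B = X` -/
theorem sylow_sup_B (h : TSData p X A) (S : Sylow p X) :
    (S : Subgroup X) ⊔ (pCore p X ⊔ A) = ⊤ := by
  rw [← Subgroup.index_eq_one]
  have h1 := Subgroup.index_dvd_of_le (le_sup_left : (S : Subgroup X) ≤ (S : Subgroup X) ⊔ (pCore p X ⊔ A))
  have h2 := Subgroup.index_dvd_of_le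
    (le_sup_right : (pCore p X ⊔ A) ≤ (S : Subgroup X) ⊔ (pCore p X ⊔ A))
  obtain ⟨n, hn⟩ := h.B_index
  rw [hn] at h2
  have h3 : Nat.Coprime (p ^ n) (S : Subgroup X).index :=
    Nat.Coprime.pow_left n ((Nat.Prime.coprime_iff_not_dvd hp.out).mpr S.not_dvd_index)
  exact Nat.eq_one_of_dvd_coprimes h3 h2 h1

/-- Sylow `p`-subgroups are TI modulo `U` -/
theorem mem_sylow_of_conj (h : TSData p X A) (S : Sylow p X) {x m : X}
    (hx : x ∈ (S : Subgroup X)) (hxU : x ∉ pCore p X) (hm : m * x * m⁻¹ ∈ (S : Subgroup X)) :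
    m ∈ (S : Subgroup X) := by
  haveI hUn : (pCore p X).Normal := Cfsg.Agent.Lib.Helper22.pCore_normal' p X
  haveI := h.B_normal
  have hUS : pCore p X ≤ S := Cfsg.Agent.Lib.Helper11.pCore_le_sylow S
  have hxB : x ∉ pCore p X ⊔ A := by
    intro hxB
    apply hxU
    rw [← sylow_inf_B h S]
    exact Subgroup.mem_inf.mpr ⟨hx, hxB⟩
  have hm' : m ∈ (S : Subgroup X) ⊔ (pCore p X ⊔ A) := by
    rw [sylow_sup_B h S]; exact Subgroup.mem_top _
  obtain ⟨s, hs, b, hb, rfl⟩ := Subgroup.mem_sup_of_normal_right.mp hm'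
  obtain ⟨u, hu, a, ha, rfl⟩ := Subgroup.mem_sup_of_normal_left.mp hb
  have h1 : a * x * a⁻¹ ∈ (S : Subgroup X) := by
    have e : a * x * a⁻¹ = (s * u)⁻¹ * ((s * (u * a)) * x * (s * (u * a))⁻¹) * (s * u) := by group
    rw [e]
    have hsu : s * u ∈ (S : Subgroup X) := mul_mem hs (hUS hu)
    exact mul_mem (mul_mem (inv_mem hsu) hm) hsu
  by_cases ha1 : a = 1
  · subst ha1
    rw [mul_one]
    exact mul_mem hs (hUS hu)
  · exfalso
    have haB : a ∈ pCore p X ⊔ A := (le_sup_right : A ≤ _) ha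
    have h2 : x * a * x⁻¹ * a⁻¹ ∈ (S : Subgroup X) := by
      have e : x * a * x⁻¹ * a⁻¹ = x * (a * x * a⁻¹)⁻¹ := by group
      rw [e]
      exact mul_mem hx (inv_mem h1)
    have h3 : x * a * x⁻¹ * a⁻¹ ∈ pCore p X ⊔ A :=
      mul_mem (h.B_normal.conj_mem a haB x) (inv_mem haB)
    have h4 : x * a * x⁻¹ * a⁻¹ ∈ pCore p X := by
      rw [← sylow_inf_B h S]
      exact Subgroup.mem_inf.mpr ⟨h2, h3⟩
    exact h.out x hxB a ha ha1 h4

/-- `N_X(S) = S` -/
theorem normalizer_sylow_le (h : TSData p X A) (S : Sylow p X) :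
    Subgroup.normalizer ((S : Subgroup X) : Set X) ≤ S := by
  intro m hm
  obtain ⟨x, hx, hxB⟩ := exists_sylow_not_mem_B h S
  have hxU : x ∉ pCore p X := fun hxU => hxB ((le_sup_left : pCore p X ≤ _) hxU)
  exact mem_sylow_of_conj h S hx hxU ((Subgroup.mem_normalizer_iff.mp hm x).mp hx)

/-- no nontrivial normal `r`-subgroups for `r ≠ p` -/
theorem normal_rgroup_eq_bot (h : TSData p X A) {r : ℕ} [Fact r.Prime] (hrp : r ≠ p)
    (T : Subgroup X) [hTn : T.Normal] (hT : IsPGroup r T) : T = ⊥ := by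
  haveI hUn : (pCore p X).Normal := Cfsg.Agent.Lib.Helper22.pCore_normal' p X
  have hUp : IsPGroup p (pCore p X) := Cfsg.Agent.Lib.Helper22.pCore_isPGroup' p X
  have hdisj : Disjoint T (pCore p X) := IsPGroup.disjoint_of_ne r p hrp T (pCore p X) hT hUp
  rw [eq_bot_iff]
  intro t ht
  have htC : t ∈ Subgroup.centralizer (pCore p X : Set X) := by
    rw [Subgroup.mem_centralizer_iff]
    intro u hu
    have h1 : t * u * t⁻¹ * u⁻¹ ∈ T := by
      have e : t * u * t⁻¹ * u⁻¹ = t * (u * t⁻¹ * u⁻¹) := by group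
      rw [e]
      exact mul_mem ht (hTn.conj_mem t⁻¹ (inv_mem ht) u)
    have h2 : t * u * t⁻¹ * u⁻¹ ∈ pCore p X :=
      mul_mem (hUn.conj_mem u hu t) (inv_mem hu)
    have h3 : t * u * t⁻¹ * u⁻¹ = 1 := by
      have := (Subgroup.disjoint_def.mp hdisj) h1 h2
      exact this
    have : u * t = (t * u * t⁻¹ * u⁻¹)⁻¹ * (t * u) := by group
    rw [this, h3, inv_one, one_mul]
  have htU := cent_le h htC
  exact Subgroup.mem_bot.mpr ((Subgroup.disjoint_def.mp hdisj) ht htU)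

/-- a Sylow `p`-subgroup is not normal -/
theorem sylow_not_normal (h : TSData p X A) (S : Sylow p X) : ¬ (S : Subgroup X).Normal := by
  intro hn
  have h1 : Subgroup.normalizer ((S : Subgroup X) : Set X) = ⊤ := Subgroup.normalizer_eq_top_iff.mpr hn
  have h2 := normalizer_sylow_le h S
  rw [h1] at h2
  obtain ⟨a₀, ha₀, ha₀1⟩ := exists_ne_one h.A_ne
  have ha₀S : a₀ ∈ (S : Subgroup X) := h2 (Subgroup.mem_top _)
  obtain ⟨k, hk⟩ := S.isPGroup' ⟨a₀, ha₀S⟩
  have h3 : a₀ ^ p ^ k = 1 := congrArg Subtype.val hk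
  have h4 : a₀ ^ Nat.card A = 1 := by
    have := pow_card_eq_one' (G := A) (x := ⟨a₀, ha₀⟩)
    exact congrArg Subtype.val this
  have h5 : a₀ ∈ (⊥ : Subgroup X) :=
    Cfsg.Agent.S1477.mem_of_pow_mem_of_coprime ⊥ (h.A_cop.pow_right k)
      (by rw [h4]; exact one_mem _) (by rw [h3]; exact one_mem _)
  exact ha₀1 (Subgroup.mem_bot.mp h5)

end Cfsg.Agent.Lib.Helper78.ThreeStep
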