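import Mathlib
import Cfsg.Agent.Lib.Helper78.CNSolv4

set_option autoImplicit false
set_option linter.style.haveILetI false

/-! In `X = G ⧸ O_p(G)` every `p'`-element of prime power order lies in `F(X)`. -/

namespace Cfsg.Agent.Lib.Helper78

open Cfsg

/-- in a finite cyclic group, an element killed by the prime `s` is a power of `ζ ^ (N / s)` -/
theorem mem_zpowers_of_pow_prime_eq_one {Z : Type*} [Group Z] [Finite Z] {ζ : Z}
    (hζ : ∀ x : Z, x ∈ Subgroup.zpowers ζ) {s : ℕ} (hs : s.Prime) (hsN : s ∣ orderOf ζ) {c : Z}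
    (hc : c ^ s = 1) : c ∈ Subgroup.zpowers (ζ ^ (orderOf ζ / s)) := by
  obtain ⟨a, ha⟩ := Subgroup.mem_zpowers_iff.mp (hζ c)
  have h1 : ζ ^ (a * (s : ℤ)) = 1 := by
    rw [zpow_mul, ha, zpow_natCast, hc]
  have h2 : (orderOf ζ : ℤ) ∣ a * (s : ℤ) := orderOf_dvd_iff_zpow_eq_one.mpr h1
  obtain ⟨N', hN'⟩ := hsN
  have hs0 : (s : ℤ) ≠ 0 := by exact_mod_cast hs.ne_zero
  have h3 : (N' : ℤ) ∣ a := by
    apply Int.dvd_of_mul_dvd_mul_right hs0
    rw [hN'] at h2
    push_cast at h2
    rwa [mul_comm (s : ℤ) (N' : ℤ)] at h2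
  obtain ⟨b, hb⟩ := h3
  have h4 : orderOf ζ / s = N' := by
    rw [hN']; exact Nat.mul_div_cancel_left _ hs.pos
  rw [h4, Subgroup.mem_zpowers_iff]
  refine ⟨b, ?_⟩
  rw [← ha, hb, zpow_mul, zpow_natCast]

variable {G : Type*} [Group G] [Finite G] {p : ℕ} [hp : Fact p.Prime]

omit hp in
theorem fitting_quot_ne_bot [hsolv : Group.IsSolvable G] (hUtop : Cfsg.pCore p G ≠ ⊤) :
    Cfsg.fittingSubgroup (G ⧸ Cfsg.pCore p G) ≠ ⊥ := by
  intro h
  have h1 := Cfsg.Agent.Lib.Helper10.centralizer_fitting_le (G := G ⧸ Cfsg.pCore p G)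
  rw [h] at h1
  have h2 : Subgroup.centralizer ((⊥ : Subgroup (G ⧸ Cfsg.pCore p G)) : Set (G ⧸ Cfsg.pCore p G))
      = ⊤ := by
    rw [Subgroup.centralizer_eq_top_iff_subset]
    intro x hx
    have : x = 1 := Subgroup.mem_bot.mp hx
    rw [this]
    exact Subgroup.one_mem _
  rw [h2] at h1
  apply hUtop
  rw [eq_top_iff]
  intro g _
  have : (QuotientGroup.mk' (Cfsg.pCore p G)) g ∈ (⊥ : Subgroup (G ⧸ Cfsg.pCore p G)) :=
    h1 (Subgroup.mem_top _)
  rw [Subgroup.mem_bot] at this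
  exact (QuotientGroup.eq_one_iff g).mp this

theorem quot_mem_fitting (hCN : Cfsg.IsCNGroup G)
    (hcent : Subgroup.centralizer (Cfsg.pCore p G : Set G) ≤ Cfsg.pCore p G)
    (hU1 : Cfsg.pCore p G ≠ ⊥) [hsolv : Group.IsSolvable G] (hUtop : Cfsg.pCore p G ≠ ⊤)
    {w : G ⧸ Cfsg.pCore p G} {r k : ℕ} (hr : r.Prime) (hrp : r ≠ p) (hw : orderOf w = r ^ k) :
    w ∈ Cfsg.fittingSubgroup (G ⧸ Cfsg.pCore p G) := by
  classical
  have hXCN : Cfsg.IsCNGroup (G ⧸ Cfsg.pCore p G) :=
    Cfsg.Agent.S1473.result hCN (Cfsg.pCore p G) inferInstance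
  have hXp : Cfsg.pCore p (G ⧸ Cfsg.pCore p G) = ⊥ := pCore_quotient_pCore_eq_bot
  set F := Cfsg.fittingSubgroup (G ⧸ Cfsg.pCore p G) with hF
  haveI hFn : F.Normal := Cfsg.Agent.Lib.Helper22.fittingSubgroup_normal _
  have hFnil : Group.IsNilpotent F := Cfsg.Agent.Lib.Helper22.fittingSubgroup_isNilpotent
  have hF1 : F ≠ ⊥ := fitting_quot_ne_bot hUtop
  have hFcop : (Nat.card F).Coprime p := coprime_card_of_normal_nilpotent hXp F hFn hFnil
  -- the centre of F
  set Z := F ⊓ Subgroup.centralizer (F : Set (G ⧸ Cfsg.pCore p G)) with hZ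
  haveI hZn : Z.Normal := inferInstance
  have hZc : ∀ a ∈ Z, ∀ b ∈ Z, a * b = b * a := by
    intro a ha b hb
    have h1 : a ∈ Subgroup.centralizer (F : Set (G ⧸ Cfsg.pCore p G)) := ha.2
    rw [Subgroup.mem_centralizer_iff] at h1
    exact (h1 b hb.1).symm
  have hZ1 : Z ≠ ⊥ := by
    haveI : Nontrivial F := (Subgroup.nontrivial_iff_ne_bot F).mpr hF1
    haveI := hFnil
    have hcen := Group.IsNilpotent.center_ne_bot (G := F)
    obtain ⟨⟨z, hz⟩, hz1⟩ := (Subgroup.ne_bot_iff_exists_ne_one).mp hcen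
    have hz1' : z ≠ 1 := fun h => hz1 (Subtype.ext h)
    intro h
    have hzZ : ((z : F) : G ⧸ Cfsg.pCore p G) ∈ Z := by
      refine Subgroup.mem_inf.mpr ⟨z.2, ?_⟩
      rw [Subgroup.mem_centralizer_iff]
      intro t ht
      have := Subgroup.mem_center_iff.mp hz ⟨t, ht⟩
      exact congrArg Subtype.val this
    rw [h, Subgroup.mem_bot] at hzZ
    exact hz1' (Subtype.ext hzZ)
  have hZcop : (Nat.card Z).Coprime p :=
    Nat.Coprime.coprime_dvd_left (Subgroup.card_dvd_of_le inf_le_left) hFcop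
  haveI hZcyc : IsCyclic Z := quot_cyclic_of_abelian_coprime hCN hcent hU1 Z hZcop hZc
  obtain ⟨ζ, hζ⟩ := IsCyclic.exists_generator (α := Z)
  have hordζ : orderOf ζ = Nat.card Z := orderOf_eq_card_of_forall_mem_zpowers hζ
  have hcardZ1 : Nat.card Z ≠ 1 := by
    intro h
    exact hZ1 (Subgroup.card_eq_one.mp h)
  obtain ⟨s, hs, hsd⟩ := Nat.exists_prime_and_dvd hcardZ1
  haveI : Fact s.Prime := ⟨hs⟩
  have hsp : s ≠ p := by
    rintro rfl
    have : s ∣ Nat.gcd (Nat.card Z) s := Nat.dvd_gcd hsd dvd_rfl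
    rw [hZcop] at this
    exact hs.one_lt.ne' (Nat.dvd_one.mp this)
  have hsζ : s ∣ orderOf ζ := by rw [hordζ]; exact hsd
  set m : Z := ζ ^ (orderOf ζ / s) with hm
  have hmord : orderOf m = s := orderOf_pow_orderOf_div (orderOf_pos ζ).ne' hsζ
  set m' : G ⧸ Cfsg.pCore p G := (m : G ⧸ Cfsg.pCore p G) with hm'
  have hm'ord : orderOf m' = s := by rw [hm', Subgroup.orderOf_coe]; exact hmord
  have hm'1 : m' ≠ 1 := by
    intro h
    rw [h, orderOf_one] at hm'ord
    exact hs.one_lt.ne hm'ord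
  set M := Subgroup.zpowers m' with hM
  have hMcard : Nat.card M = s := by rw [Nat.card_zpowers, hm'ord]
  have hM1 : M ≠ ⊥ := by
    intro h
    have := Subgroup.mem_zpowers m'
    rw [← hM, h, Subgroup.mem_bot] at this
    exact hm'1 this
  have hMp : IsPGroup s M := IsPGroup.of_card (n := 1) (by rw [hMcard, pow_one])
  -- M is normal
  have hconj : ∀ g : G ⧸ Cfsg.pCore p G, g * m' * g⁻¹ ∈ M := by
    intro g
    have hcZ : g * m' * g⁻¹ ∈ Z := hZn.conj_mem m' m.2 g
    have hcs : (⟨g * m' * g⁻¹, hcZ⟩ : Z) ^ s = 1 := by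
      apply Subtype.ext
      show (g * m' * g⁻¹) ^ s = 1
      rw [conj_pow, ← hm'ord, pow_orderOf_eq_one]; group
    have := mem_zpowers_of_pow_prime_eq_one hζ hs hsζ hcs
    obtain ⟨b, hb⟩ := Subgroup.mem_zpowers_iff.mp this
    rw [hM, Subgroup.mem_zpowers_iff]
    refine ⟨b, ?_⟩
    have h9 := congrArg (Subtype.val) hb
    rw [Subgroup.coe_zpow] at h9
    exact h9
  haveI hMn : M.Normal := by
    constructor
    intro x hx g
    obtain ⟨j, rfl⟩ := Subgroup.mem_zpowers_iff.mp hx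
    have : g * m' ^ j * g⁻¹ = (g * m' * g⁻¹) ^ j := by rw [conj_zpow]
    rw [this]
    exact Subgroup.zpow_mem _ (hconj g) j
  -- D = C_X(M)
  set D := Subgroup.centralizer (M : Set (G ⧸ Cfsg.pCore p G)) with hD
  haveI hDn : D.Normal := Subgroup.normal_centralizer
  have hDle : D ≤ Subgroup.centralizer ({m'} : Set (G ⧸ Cfsg.pCore p G)) :=
    Subgroup.centralizer_le (by
      intro z hz
      rw [Set.mem_singleton_iff] at hz
      rw [hz]; exact Subgroup.mem_zpowers m')
  have hDnil : Group.IsNilpotent D := isNilpotent_of_le hDle (hXCN m' hm'1)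
  have hDF : D ≤ F := Cfsg.Agent.Lib.Helper22.le_fittingSubgroup hDn hDnil
  apply hDF
  -- w commutes with m'
  have hwm : m' * w = w * m' := by
    by_cases hrs : r = s
    · subst hrs
      have hwp : IsPGroup r (Subgroup.zpowers w) :=
        Cfsg.Agent.Lib.Helper96.isPGroup_zpowers_of_pow_eq_one (k := k)
          (by rw [← hw]; exact pow_orderOf_eq_one w)
      obtain ⟨a, ha, hafix⟩ := exists_conj_fixed (Subgroup.zpowers w) hwp
        {a : G ⧸ Cfsg.pCore p G | a ∈ M ∧ a ≠ 1}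
        (by
          intro t _ g hg
          refine ⟨hMn.conj_mem g hg.1 t, ?_⟩
          intro h
          apply hg.2
          have : g = t⁻¹ * (t * g * t⁻¹) * t := by group
          rw [this, h]; group)
        (not_dvd_ncard_ne_one M hMp hM1)
      have hwa : w * a * w⁻¹ = a := hafix w (Subgroup.mem_zpowers w)
      have haM : Subgroup.zpowers a = M := by
        apply Cfsg.Agent.Lib.Helper86.eq_of_le_of_prime_card hs
        · rw [Subgroup.zpowers_le]; exact ha.1
        · intro hbot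
          have := Subgroup.mem_zpowers a
          rw [hbot, Subgroup.mem_bot] at this
          exact ha.2 this
        · exact hMcard
      have hm'a : m' ∈ Subgroup.zpowers a := by rw [haM]; exact Subgroup.mem_zpowers m'
      obtain ⟨j, hj⟩ := Subgroup.mem_zpowers_iff.mp hm'a
      have hcomm : Commute a w := by
        show a * w = w * a
        calc a * w = (w * a * w⁻¹) * w := by rw [hwa]
          _ = w * a := by group
      rw [← hj]
      exact (hcomm.zpow_left j).eq
    · set T := Subgroup.zpowers w ⊔ M with hT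
      have hTcard : Nat.card T ∣ r ^ k * s := by
        have := Cfsg.Agent.Lib.Helper55.card_sup_dvd_mul (Subgroup.zpowers w) M
        rwa [Nat.card_zpowers, hw, hMcard] at this
      have hTcop : (Nat.card T).Coprime p := by
        apply Nat.Coprime.coprime_dvd_left hTcard
        apply Nat.Coprime.mul_left
        · exact Nat.Coprime.pow_left k ((Nat.coprime_primes hr hp.out).mpr hrp)
        · exact (Nat.coprime_primes hs hp.out).mpr hsp
      have hTnil : Group.IsNilpotent T := quot_nilpotent_of_coprime hCN hcent hU1 T hTcop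
      haveI : Fact r.Prime := ⟨hr⟩
      exact commute_of_mem_nilpotent T hTnil (Ne.symm hrs)
        (le_sup_right (a := Subgroup.zpowers w) (Subgroup.mem_zpowers m'))
        (le_sup_left (b := M) (Subgroup.mem_zpowers w)) (k := 1) (by rw [pow_one]; exact hm'ord) hw
  rw [hD, Subgroup.mem_centralizer_iff]
  intro h hh
  obtain ⟨j, rfl⟩ := Subgroup.mem_zpowers_iff.mp hh
  have hcomm : Commute m' w := hwm
  exact (hcomm.zpow_left j).eq

end Cfsg.Agent.Lib.Helper78
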