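import Mathlib
import Cfsg.Agent.Lib.Helper78.CNSolv5

set_option autoImplicit false
set_option linter.style.haveILetI false

/-! Lifting with named ambient subgroup; index of `F(X)`. -/

namespace Cfsg.Agent.Lib.Helper78

open Cfsg

theorem exists_lift_of_coprime'' {G : Type*} [Group G] [Finite G] (U : Subgroup G) [U.Normal]
    (J : Subgroup (G ⧸ U)) (hcop : (Nat.card U).Coprime (Nat.card J)) :
    ∃ (L : Subgroup G) (J' : Subgroup L), L = J.comap (QuotientGroup.mk' U) ∧ U ≤ L ∧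
      Subgroup.IsComplement' (U.subgroupOf L) J' ∧
      (J'.map L.subtype) ⊓ U = ⊥ ∧ U ⊔ (J'.map L.subtype) = L ∧
      (J'.map L.subtype).map (QuotientGroup.mk' U) = J ∧
      Nat.card J' = Nat.card J ∧ Nat.card (J'.map L.subtype) = Nat.card J := by
  obtain ⟨J', hc, hdisj, hmap, hcard⟩ := exists_lift_of_coprime U J hcop
  have hUL : U ≤ J.comap (QuotientGroup.mk' U) := Cfsg.Agent.Lib.Helper55.le_comap_mk' U J
  refine ⟨_, J', rfl, hUL, hc, hdisj, ?_, hmap, hcard, ?_⟩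
  · have h1 := hc.sup_eq_top
    have h2 := congrArg (Subgroup.map (J.comap (QuotientGroup.mk' U)).subtype) h1
    rw [Subgroup.map_sup, Subgroup.subgroupOf_map_subtype, inf_eq_left.mpr hUL,
      ← MonoidHom.range_eq_map, Subgroup.range_subtype] at h2
    exact h2
  · rw [← hcard]
    exact (Nat.card_congr (J'.equivMapOfInjective _ (Subgroup.subtype_injective _)).toEquiv).symm

variable {G : Type*} [Group G] [Finite G] {p : ℕ} [hp : Fact p.Prime]

/-- the index of `F(X)` in `X = G ⧸ O_p(G)` is a power of `p` -/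
theorem index_fitting_quot (hCN : Cfsg.IsCNGroup G)
    (hcent : Subgroup.centralizer (Cfsg.pCore p G : Set G) ≤ Cfsg.pCore p G)
    (hU1 : Cfsg.pCore p G ≠ ⊥) [hsolv : Group.IsSolvable G] (hUtop : Cfsg.pCore p G ≠ ⊤) :
    ∃ n : ℕ, (Cfsg.fittingSubgroup (G ⧸ Cfsg.pCore p G)).index = p ^ n := by
  refine ⟨_, Nat.eq_prime_pow_of_unique_prime_dvd Subgroup.index_ne_zero_of_finite ?_⟩
  intro d hd hdvd
  by_contra hdp
  haveI : Fact d.Prime := ⟨hd⟩
  obtain ⟨R⟩ : Nonempty (Sylow d (G ⧸ Cfsg.pCore p G)) := inferInstance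
  have hle : (R : Subgroup (G ⧸ Cfsg.pCore p G)) ≤ Cfsg.fittingSubgroup (G ⧸ Cfsg.pCore p G) := by
    intro t ht
    obtain ⟨k, hk⟩ := exists_orderOf_eq_of_mem_pgroup R.2 ht
    exact quot_mem_fitting hCN hcent hU1 hUtop hd hdp hk
  exact Cfsg.Agent.Lib.Helper96.not_dvd_index_of_sylow_le R _ hle hdvd

end Cfsg.Agent.Lib.Helper78
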