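import Mathlib
import Cfsg.Agent.Lib.Helper78.ThreeStep3
import Cfsg.Agent.Lib.Helper78.TwoFrob1
import Cfsg.Agent.Lib.Helper79.Frobenius
import Cfsg.Agent.S1476

set_option autoImplicit false
set_option linter.style.haveILetI false
set_option linter.unusedSectionVars false

/-! Solvable CN-groups of odd order: the trichotomy with an enriched Frobenius alternative. -/

namespace Cfsg.Agent.Lib.Helper78.ThreeStep

open Cfsg
open scoped Pointwise

/-- a group embedding into a nilpotent group is nilpotent -/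
theorem nilpotent_of_injective {A B : Type*} [Group A] [Group B] (f : A →* B)
    (hf : Function.Injective f) (hB : Group.IsNilpotent B) : Group.IsNilpotent A := by
  refine Subgroup.isNilpotent_of_ker_le_center f ?_
  rw [(MonoidHom.ker_eq_bot_iff f).mpr hf]
  exact bot_le

/-- Frobenius type: a nilpotent normal Hall subgroup `K` (the Frobenius kernel) with a
Frobenius complement `E` and abelian quotient. -/
def FrobType (Y : Type*) [Group Y] (K E : Subgroup Y) : Prop :=
  K.Normal ∧ Subgroup.IsComplement' K E ∧ IsFrobeniusComplement E ∧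
    (K : Set Y) = frobeniusKernel E ∧ Group.IsNilpotent K ∧
    (Nat.card K).Coprime (Nat.card E) ∧ ∀ x y : Y, x * y * x⁻¹ * y⁻¹ ∈ K

variable {Y : Type*} [Group Y] [Finite Y]

theorem fpf_of_frobComplement {K E : Subgroup Y} (hc : Subgroup.IsComplement' K E)
    (hE : IsFrobeniusComplement E) : ∀ h ∈ E, h ≠ 1 → ∀ x ∈ K, x ≠ 1 → h * x ≠ x * h := by
  intro h hh hh1 x hx hx1 hcomm
  have hxE : x ∉ E := by
    intro hxE
    have := (Subgroup.disjoint_def.mp hc.disjoint) hx hxE
    exact hx1 this
  have h1 := hE.2.2 x hxE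
  have h2 : h ∈ E ⊓ (MulAut.conj x • E) := by
    refine Subgroup.mem_inf.mpr ⟨hh, ?_⟩
    rw [Subgroup.mem_pointwise_smul_iff_inv_smul_mem]
    have : (MulAut.conj x)⁻¹ • h = x⁻¹ * h * x := by
      rw [← map_inv]; simp [MulAut.smul_def, MulAut.conj_apply]
    rw [this]
    have e : x⁻¹ * h * x = h := by
      calc x⁻¹ * h * x = x⁻¹ * (h * x) := by group
        _ = x⁻¹ * (x * h) := by rw [hcomm]
        _ = h := by group
    rw [e]; exact hh
  rw [h1] at h2
  exact hh1 (Subgroup.mem_bot.mp h2)

/-- the trichotomy for solvable CN-groups of odd order -/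
theorem trichotomy_odd [Group.IsSolvable Y] (hCN : IsCNGroup Y) (hodd : Odd (Nat.card Y)) :
    Group.IsNilpotent Y ∨ (∃ K E : Subgroup Y, FrobType Y K E) ∨
      ∃ p : ℕ, p.Prime ∧ IsThreeStepGroup p Y := by
  rcases Cfsg.Agent.S1476.result hCN with h | h | h
  · exact Or.inl h
  · right; left
    obtain ⟨K, E, hKn, hc, hE, hcyc⟩ := h
    haveI := hKn
    have hE1 : E ≠ ⊥ := hE.1
    have hK1 : K ≠ ⊥ := by
      intro hK
      have : E = ⊤ := by
        have h1 := hc.sup_eq_top
        rwa [hK, bot_sup_eq] at h1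
      exact hE.2.1 this
    have hfr := Cfsg.Agent.Lib.Helper79.frobenius_of_fpf K E hK1 hE1 hc.symm
      (fpf_of_frobComplement hc hE)
    have hker : (K : Set Y) = frobeniusKernel E := hfr.2.symm
    have hEcyc : IsCyclic E := by
      rcases hcyc with h1 | ⟨C, Q, _, _, _, _, n, ⟨e⟩⟩
      · exact h1
      · exfalso
        have hQle : Q ≤ E := by
          rename_i hsup _ _ _
          rw [← hsup]; exact le_sup_right
        haveI : NeZero (2 ^ n) := ⟨by positivity⟩
        have h1 : Nat.card Q = 4 * 2 ^ n := by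
          rw [Nat.card_congr e.toEquiv, Nat.card_eq_fintype_card, QuaternionGroup.card]
        have h2 : Nat.card Q ∣ Nat.card Y := Subgroup.card_subgroup_dvd_card Q
        have h3 : 2 ∣ Nat.card Y := dvd_trans ⟨2 * 2 ^ n, by rw [h1]; ring⟩ h2
        exact (Nat.not_even_iff_odd.mpr hodd) (even_iff_two_dvd.mpr h3)
    refine ⟨K, E, hKn, hc, hE, hker, TwoFrob.kernel_nilpotent hE hker,
      TwoFrob.kernel_coprime hE hker, ?_⟩
    intro x y
    let φ := hc.symm.QuotientMulEquiv
    rw [← QuotientGroup.eq_one_iff (N := K)]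
    apply φ.injective
    haveI := hEcyc
    obtain ⟨g, hg⟩ := IsCyclic.exists_generator (α := E)
    have hcomm : ∀ a b : E, a * b = b * a := by
      intro a b
      obtain ⟨m, hm⟩ := Subgroup.mem_zpowers_iff.mp (hg a)
      obtain ⟨n, hn⟩ := Subgroup.mem_zpowers_iff.mp (hg b)
      rw [← hm, ← hn, ← zpow_add, ← zpow_add, add_comm]
    simp only [QuotientGroup.mk_mul, QuotientGroup.mk_inv, map_mul, map_inv, map_one]
    rw [hcomm (φ (x : Y ⧸ K)) (φ (y : Y ⧸ K))]
    group
  · exact Or.inr (Or.inr h)

/-- a three-step group with respect to any number is one with respect to a prime -/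
theorem exists_prime_threeStep [Group.IsSolvable Y] (hCN : IsCNGroup Y) (hodd : Odd (Nat.card Y))
    {p₀ : ℕ} (h : IsThreeStepGroup p₀ Y) : ∃ p : ℕ, p.Prime ∧ IsThreeStepGroup p Y := by
  obtain ⟨A, hA⟩ := tsData_of_isThreeStep h
  rcases trichotomy_odd hCN hodd with h1 | ⟨K, E, hKn, _, _, _, hKnil, _, hab⟩ | h1
  · exact absurd h1 (not_nilpotent hA)
  · haveI := hKn
    exact (excl hA K hKnil hab).elim
  · exact h1

/-- a solvable CN-group of odd order with a three-step subgroup is three-step for a prime -/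
theorem exists_prime_threeStep_of_subgroup [Group.IsSolvable Y] (hCN : IsCNGroup Y)
    (hodd : Odd (Nat.card Y)) (H : Subgroup Y) {p₀ : ℕ} (h : IsThreeStepGroup p₀ ↥H) :
    ∃ p : ℕ, p.Prime ∧ IsThreeStepGroup p Y := by
  obtain ⟨A, hA⟩ := tsData_of_isThreeStep h
  rcases trichotomy_odd hCN hodd with h1 | ⟨K, E, hKn, _, _, _, hKnil, _, hab⟩ | h1
  · haveI := h1
    exact absurd (Subgroup.isNilpotent H) (not_nilpotent hA)
  · haveI := hKn
    exfalso
    have hnil : Group.IsNilpotent (K.subgroupOf H) := by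
      let f : (K.subgroupOf H) →* K :=
        { toFun := fun x => ⟨(x : H), x.2⟩
          map_one' := rfl
          map_mul' := fun _ _ => rfl }
      refine nilpotent_of_injective f ?_ hKnil
      intro x y hxy
      have : ((x : H) : Y) = ((y : H) : Y) := congrArg (fun z : K => (z : Y)) hxy
      exact Subtype.ext (Subtype.ext this)
    refine excl hA (K.subgroupOf H) hnil ?_
    intro x y
    rw [Subgroup.mem_subgroupOf]
    exact hab x y
  · exact h1

end Cfsg.Agent.Lib.Helper78.ThreeStep
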