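import Mathlib
import Cfsg.Agent.Lib.Helper78.ThreeStep4
import Cfsg.Agent.Lib.Helper78.CNFrob
import Cfsg.Agent.Lib.Helper11.ZJMap
import Cfsg.Agent.Lib.Helper17.PGroupNorm
import Cfsg.Agent.S0653
import Cfsg.Agent.S0658

set_option autoImplicit false
set_option linter.style.haveILetI false
set_option linter.unusedSectionVars false

/-! Minimal simple CN-groups of odd order: maximal three-step subgroups. -/

namespace Cfsg.Agent.Lib.Helper78.ThreeStep

open Cfsg
open scoped Pointwise

universe u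

variable {G : Type u} [Group G] [Finite G]

/-- the abelian predicate used for `Z(J(P))` -/
abbrev ab (G : Type*) [Group G] : Subgroup G → Prop := fun X => IsMulCommutative X

theorem proper_solvable (hG : IsMinSimpleOddOrder G) {L : Subgroup G} (hL : L ≠ ⊤) :
    Group.IsSolvable L := hG.2.2.2 L hL

theorem odd_sub (hG : IsMinSimpleOddOrder G) (L : Subgroup G) : Odd (Nat.card L) := by
  have h1 : Nat.card L ∣ Nat.card G := Subgroup.card_subgroup_dvd_card L
  exact Odd.of_dvd_nat hG.1 h1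

theorem p_ne_two (hG : IsMinSimpleOddOrder G) {p : ℕ} (hp : p ∣ Nat.card G) : p ≠ 2 := by
  rintro rfl
  exact (Nat.not_even_iff_odd.mpr hG.1) (even_iff_two_dvd.mpr hp)

/-- the whole group is not a three-step group -/
theorem top_not_threeStep (hG : IsMinSimpleOddOrder G) {p₀ : ℕ} {H : Subgroup G}
    (h : IsThreeStepGroup p₀ ↥H) : H ≠ ⊤ := by
  rintro rfl
  obtain ⟨A, hA⟩ := tsData_of_isThreeStep h
  haveI := hG.2.1
  have hN : ∃ N₁ : Subgroup ↥(⊤ : Subgroup G), N₁.Normal ∧ IsPGroup p₀ N₁ ∧ N₁ ≠ ⊥ := by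
    by_contra hcon
    push Not at hcon
    apply hA.U_ne
    unfold pCore
    rw [sSup_eq_bot]
    intro N hN
    exact hcon N hN.1 hN.2
  obtain ⟨N₁, hN₁n, hN₁p, hN₁1⟩ := hN
  have hsurj : Function.Surjective (⊤ : Subgroup G).subtype := by
    intro g; exact ⟨⟨g, Subgroup.mem_top g⟩, rfl⟩
  have hn : (N₁.map (⊤ : Subgroup G).subtype).Normal := hN₁n.map _ hsurj
  have h1 : N₁.map (⊤ : Subgroup G).subtype ≠ ⊥ := by
    intro h2
    apply hN₁1
    rw [Subgroup.map_eq_bot_iff_of_injective _ (Subgroup.subtype_injective _)] at h2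
    exact h2
  have h2 : N₁.map (⊤ : Subgroup G).subtype = ⊤ := hn.eq_bot_or_eq_top.resolve_left h1
  obtain ⟨a₀, ha₀, ha₀1⟩ := exists_ne_one hA.A_ne
  have h3 : (a₀ : G) ∈ N₁.map (⊤ : Subgroup G).subtype := by rw [h2]; exact Subgroup.mem_top _
  obtain ⟨y, hy, hya⟩ := h3
  have hya' : y = a₀ := Subtype.ext hya
  rw [hya'] at hy
  obtain ⟨k, hk⟩ := hN₁p ⟨a₀, hy⟩
  have h4 : a₀ ^ p₀ ^ k = 1 := congrArg Subtype.val hk
  have h5 : a₀ ^ Nat.card A = 1 := by
    have := pow_card_eq_one' (G := A) (x := ⟨a₀, ha₀⟩)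
    exact congrArg Subtype.val this
  have h6 : a₀ ∈ (⊥ : Subgroup ↥(⊤ : Subgroup G)) :=
    Cfsg.Agent.S1477.mem_of_pow_mem_of_coprime ⊥ (hA.A_cop.pow_right k)
      (by rw [h5]; exact one_mem _) (by rw [h4]; exact one_mem _)
  exact ha₀1 (Subgroup.mem_bot.mp h6)

/-- maximal three-step subgroups with respect to `p` -/
structure Max3 (p : ℕ) (M : Subgroup G) : Prop where
  coatom : IsCoatom M
  ts : ∃ A : Subgroup ↥M, TSData p ↥M A

/-- a three-step subgroup lies in a maximal subgroup that is three-step for a prime -/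
theorem exists_max3 (hG : IsMinSimpleOddOrder G) (hCN : IsCNGroup G) {p₀ : ℕ} {H : Subgroup G}
    (h : IsThreeStepGroup p₀ ↥H) : ∃ (p : ℕ) (M : Subgroup G), p.Prime ∧ H ≤ M ∧ Max3 p M := by
  have hH := top_not_threeStep hG h
  obtain ⟨M, hM, hHM⟩ := (eq_top_or_exists_le_coatom H).resolve_left hH
  haveI := proper_solvable hG hM.1
  have hCNM := isCN_subgroup hCN M
  obtain ⟨A, hA⟩ := tsData_of_isThreeStep h
  -- trichotomy in `M`
  rcases trichotomy_odd hCNM (odd_sub hG M) with h1 | ⟨K, E, hKn, _, _, _, hKnil, _, hab⟩ | ⟨p, hp, h1⟩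
  · exfalso
    have := nilpotent_of_injective (Subgroup.inclusion hHM) (Subgroup.inclusion_injective hHM) h1
    exact not_nilpotent hA this
  · exfalso
    haveI := hKn
    have hnil : Group.IsNilpotent (K.comap (Subgroup.inclusion hHM)) := by
      let f : (K.comap (Subgroup.inclusion hHM)) →* K :=
        { toFun := fun x => ⟨Subgroup.inclusion hHM (x : H), x.2⟩
          map_one' := rfl
          map_mul' := fun _ _ => rfl }
      refine nilpotent_of_injective f ?_ hKnil
      intro x y hxy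
      have h2 : Subgroup.inclusion hHM (x : H) = Subgroup.inclusion hHM (y : H) :=
        congrArg (fun z : K => (z : M)) hxy
      exact Subtype.ext (Subgroup.inclusion_injective hHM h2)
    refine excl hA (K.comap (Subgroup.inclusion hHM)) hnil ?_
    intro x y
    rw [Subgroup.mem_comap]
    have := hab (Subgroup.inclusion hHM x) (Subgroup.inclusion hHM y)
    simpa using this
  · obtain ⟨A', hA'⟩ := tsData_of_isThreeStep h1
    exact ⟨p, M, hp, hHM, hM, A', hA'⟩

end Cfsg.Agent.Lib.Helper78.ThreeStep
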