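import Mathlib
import Cfsg.Agent.Lib.Helper78.ThreeStep5

set_option autoImplicit false
set_option linter.style.haveILetI false
set_option linter.unusedSectionVars false

/-! Minimal simple CN-groups of odd order: `Z(J(P))` for maximal three-step subgroups. -/

namespace Cfsg.Agent.Lib.Helper78.ThreeStep

open Cfsg Cfsg.Agent.Lib.Helper11
open scoped Pointwise

universe u

variable {G : Type u} [Group G] [Finite G] {p : ℕ} [hp : Fact p.Prime] {M : Subgroup G}

theorem zQ_map_subtype (R : Subgroup ↥M) :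
    zQ (ab G) (R.map M.subtype) = (zQ (ab ↥M) R).map M.subtype := by
  refine zQ_map_of_injOn M.subtype R
    (fun x _ hx => M.subtype_injective (by rw [hx]; rfl))
    (ab ↥M) (ab G) Cfsg.Agent.S0653.isMulCommutative_bot'
    (fun X _ hX => by
      have : IsMulCommutative X := hX
      show IsMulCommutative (X.map M.subtype)
      infer_instance)
    (fun X _ hX => by
      have hX' : IsMulCommutative (X.map M.subtype) := hX
      show IsMulCommutative X
      rw [← Subgroup.le_centralizer_iff_isMulCommutative] at hX' ⊢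
      intro a ha
      rw [Subgroup.mem_centralizer_iff]
      intro b hb
      have h1 := hX' (Subgroup.mem_map_of_mem M.subtype ha)
      rw [Subgroup.mem_centralizer_iff] at h1
      have h2 := h1 _ (Subgroup.mem_map_of_mem M.subtype hb)
      exact Subtype.ext h2)

/-- `M` normalizes `Z(J(S))` -/
theorem zj_normalized (hp2 : p ≠ 2) {A : Subgroup ↥M} (hA : TSData p ↥M A) (S : Sylow p ↥M) :
    M ≤ Subgroup.normalizer (zQ (ab G) ((S : Subgroup ↥M).map M.subtype) : Set G) := by
  have hchar := Cfsg.Agent.S0653.result hp2 (cent_le hA)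
    (fun V _ hV => isPStableOn_of_pAbP hp2 (pAbP hA) V hV) S
  rw [Cfsg.Agent.S0653.centerThompsonAOf_eq_zQ] at hchar
  have hN : (zQ (ab ↥M) (S : Subgroup ↥M)).Normal := by
    haveI := hchar
    infer_instance
  rw [zQ_map_subtype]
  intro n hn
  apply mem_normalizer_of_conj_mem
  rintro _ ⟨w, hw, rfl⟩
  exact ⟨⟨n, hn⟩ * w * ⟨n, hn⟩⁻¹, hN.conj_mem w hw ⟨n, hn⟩, rfl⟩

theorem sylow_map_ne_bot {A : Subgroup ↥M} (hA : TSData p ↥M A) (S : Sylow p ↥M) :
    (S : Subgroup ↥M).map M.subtype ≠ ⊥ := by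
  intro h
  rw [Subgroup.map_eq_bot_iff_of_injective _ (Subgroup.subtype_injective _)] at h
  apply hA.U_ne
  rw [eq_bot_iff, ← h]
  exact pCore_le_sylow S

theorem isPGroup_sylow_map (S : Sylow p ↥M) : IsPGroup p ((S : Subgroup ↥M).map M.subtype) :=
  S.isPGroup'.map M.subtype

/-- `N_G(Z(J(S))) = M` -/
theorem normalizer_zj_eq (hG : IsMinSimpleOddOrder G) (hp2 : p ≠ 2) (hM : IsCoatom M)
    {A : Subgroup ↥M} (hA : TSData p ↥M A) (S : Sylow p ↥M) :
    Subgroup.normalizer (zQ (ab G) ((S : Subgroup ↥M).map M.subtype) : Set G) = M := by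
  have h1 := zj_normalized hp2 hA S
  have h2 := Cfsg.Agent.S0658.zQ_ne_bot (isPGroup_sylow_map S) (sylow_map_ne_bot hA S)
  have h3 : zQ (ab G) ((S : Subgroup ↥M).map M.subtype) ≤ M :=
    (zQ_le Cfsg.Agent.S0653.isMulCommutative_bot' _).trans (Subgroup.map_subtype_le _)
  by_contra hne
  have hlt : M < Subgroup.normalizer (zQ (ab G) ((S : Subgroup ↥M).map M.subtype) : Set G) :=
    lt_of_le_of_ne h1 (Ne.symm hne)
  have htop := hM.2 _ hlt
  have hn : (zQ (ab G) ((S : Subgroup ↥M).map M.subtype)).Normal :=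
    Subgroup.normalizer_eq_top_iff.mp htop
  haveI := hG.2.1
  rcases hn.eq_bot_or_eq_top with h4 | h4
  · exact h2 h4
  · rw [h4] at h3
    exact hM.1 (top_le_iff.mp h3)

theorem ab_map : ∀ (φ : G ≃* G) (X : Subgroup G), ab G X → ab G (X.map φ.toMonoidHom) := by
  intro φ X hX
  have : IsMulCommutative X := hX
  show IsMulCommutative (X.map φ.toMonoidHom)
  infer_instance

/-- a Sylow `p`-subgroup of `M` is a Sylow `p`-subgroup of `G` -/
theorem exists_sylow_eq (hG : IsMinSimpleOddOrder G) (hp2 : p ≠ 2) (hM : IsCoatom M)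
    {A : Subgroup ↥M} (hA : TSData p ↥M A) (S : Sylow p ↥M) :
    ∃ P : Sylow p G, (P : Subgroup G) = (S : Subgroup ↥M).map M.subtype := by
  set R := (S : Subgroup ↥M).map M.subtype with hR
  obtain ⟨P, hP⟩ := (isPGroup_sylow_map S).exists_le_sylow
  refine ⟨P, ?_⟩
  by_contra hne
  have hlt : R < (P : Subgroup G) := lt_of_le_of_ne hP (Ne.symm hne)
  have h1 := Cfsg.Agent.Lib.Helper17.lt_inf_normalizer_of_lt (P : Subgroup G) R P.isPGroup' hlt
  obtain ⟨_, n, hn, hnR⟩ := SetLike.lt_iff_le_and_exists.mp h1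
  obtain ⟨_, hnN⟩ := Subgroup.mem_inf.mp hn
  have h2 := normalizer_le_normalizer_zQ (Q := ab G) ab_map R hnN
  rw [normalizer_zj_eq hG hp2 hM hA S] at h2
  -- `n ∈ M` normalizes `S`
  have h3 : (⟨n, h2⟩ : ↥M) ∈ Subgroup.normalizer ((S : Subgroup ↥M) : Set ↥M) := by
    rw [Subgroup.mem_normalizer_iff]
    intro x
    have hx := Subgroup.mem_normalizer_iff.mp hnN (x : G)
    constructor
    · intro hxS
      have h4 : (x : G) ∈ R := Subgroup.mem_map_of_mem M.subtype hxS
      obtain ⟨y, hy, hyx⟩ := hx.mp h4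
      have : y = ⟨n, h2⟩ * x * ⟨n, h2⟩⁻¹ := Subtype.ext hyx
      rwa [← this]
    · intro hxS
      have h4 : n * (x : G) * n⁻¹ ∈ R := Subgroup.mem_map_of_mem M.subtype hxS
      obtain ⟨y, hy, hyx⟩ := hx.mpr h4
      have : y = x := Subtype.ext hyx
      rwa [← this]
  have h4 := normalizer_sylow_le hA S h3
  exact hnR (Subgroup.mem_map_of_mem M.subtype h4)

end Cfsg.Agent.Lib.Helper78.ThreeStep
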