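import Mathlib
import Cfsg.Agent.Lib.Helper78.ThreeStep6

set_option autoImplicit false
set_option linter.style.haveILetI false
set_option linter.unusedSectionVars false

/-! Maximal three-step subgroups: statements for Sylow subgroups of `G`. -/

namespace Cfsg.Agent.Lib.Helper78.ThreeStep

open Cfsg Cfsg.Agent.Lib.Helper11
open scoped Pointwise

universe u

variable {G : Type u} [Group G] [Finite G] {p : ℕ} [hp : Fact p.Prime] {M M' : Subgroup G}

/-- `O_p(M)` as a subgroup of `G` -/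
def UG (p : ℕ) (M : Subgroup G) : Subgroup G := (pCore p ↥M).map M.subtype

theorem sylow_subtype_map (P : Sylow p G) (hPM : (P : Subgroup G) ≤ M) :
    ((P.subtype hPM : Sylow p ↥M) : Subgroup ↥M).map M.subtype = P := by
  rw [Sylow.coe_subtype]
  exact Subgroup.map_subgroupOf_eq_of_le hPM

theorem Max3.exists_sylow (hG : IsMinSimpleOddOrder G) (hp2 : p ≠ 2) (hM : Max3 p M) :
    ∃ P : Sylow p G, (P : Subgroup G) ≤ M := by
  obtain ⟨A, hA⟩ := hM.ts
  obtain ⟨S⟩ : Nonempty (Sylow p ↥M) := inferInstance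
  obtain ⟨P, hP⟩ := exists_sylow_eq hG hp2 hM.coatom hA S
  exact ⟨P, by rw [hP]; exact Subgroup.map_subtype_le _⟩

theorem Max3.normalizer_zj (hG : IsMinSimpleOddOrder G) (hp2 : p ≠ 2) (hM : Max3 p M)
    (P : Sylow p G) (hPM : (P : Subgroup G) ≤ M) :
    Subgroup.normalizer (zQ (ab G) (P : Subgroup G) : Set G) = M := by
  obtain ⟨A, hA⟩ := hM.ts
  have := normalizer_zj_eq hG hp2 hM.coatom hA (P.subtype hPM)
  rwa [sylow_subtype_map P hPM] at this

theorem Max3.eq_of_sylow_le (hG : IsMinSimpleOddOrder G) (hp2 : p ≠ 2) (hM : Max3 p M)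
    (hM' : Max3 p M') (P : Sylow p G) (hPM : (P : Subgroup G) ≤ M)
    (hPM' : (P : Subgroup G) ≤ M') : M = M' := by
  rw [← hM.normalizer_zj hG hp2 P hPM, ← hM'.normalizer_zj hG hp2 P hPM']

theorem Max3.normalizer_sylow_le (hG : IsMinSimpleOddOrder G) (hp2 : p ≠ 2) (hM : Max3 p M)
    (P : Sylow p G) (hPM : (P : Subgroup G) ≤ M) :
    Subgroup.normalizer ((P : Subgroup G) : Set G) ≤ P := by
  obtain ⟨A, hA⟩ := hM.ts
  intro n hn
  have h2 := normalizer_le_normalizer_zQ (Q := ab G) ab_map (P : Subgroup G) hn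
  rw [hM.normalizer_zj hG hp2 P hPM] at h2
  have h3 : (⟨n, h2⟩ : ↥M) ∈
      Subgroup.normalizer (((P.subtype hPM : Sylow p ↥M) : Subgroup ↥M) : Set ↥M) := by
    rw [Subgroup.mem_normalizer_iff]
    intro x
    rw [Sylow.coe_subtype, Subgroup.mem_subgroupOf, Subgroup.mem_subgroupOf]
    exact Subgroup.mem_normalizer_iff.mp hn (x : G)
  have h4 := _root_.Cfsg.Agent.Lib.Helper78.ThreeStep.normalizer_sylow_le hA (P.subtype hPM) h3
  rw [Sylow.coe_subtype, Subgroup.mem_subgroupOf] at h4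
  exact h4

theorem Max3.UG_le (P : Sylow p G) (hPM : (P : Subgroup G) ≤ M) : UG p M ≤ P := by
  have h1 : pCore p ↥M ≤ (P.subtype hPM : Sylow p ↥M) := pCore_le_sylow _
  unfold UG
  calc (pCore p ↥M).map M.subtype
      ≤ ((P.subtype hPM : Sylow p ↥M) : Subgroup ↥M).map M.subtype := Subgroup.map_mono h1
    _ = P := sylow_subtype_map P hPM

theorem UG_le_self : UG p M ≤ M := Subgroup.map_subtype_le _

theorem mem_UG_iff {x : G} (hx : x ∈ M) : x ∈ UG p M ↔ (⟨x, hx⟩ : ↥M) ∈ pCore p ↥M := by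
  unfold UG
  constructor
  · rintro ⟨y, hy, hyx⟩
    have : y = ⟨x, hx⟩ := Subtype.ext hyx
    rwa [← this]
  · intro h
    exact ⟨⟨x, hx⟩, h, rfl⟩

theorem UG_normalized : M ≤ Subgroup.normalizer (UG p M : Set G) := by
  haveI hUn : (pCore p ↥M).Normal := Cfsg.Agent.Lib.Helper22.pCore_normal' p ↥M
  intro n hn
  apply mem_normalizer_of_conj_mem
  rintro _ ⟨w, hw, rfl⟩
  exact ⟨⟨n, hn⟩ * w * ⟨n, hn⟩⁻¹, hUn.conj_mem w hw ⟨n, hn⟩, rfl⟩

theorem conj_mem_UG {m x : G} (hm : m ∈ M) (hx : x ∈ UG p M) : m * x * m⁻¹ ∈ UG p M :=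
  (Subgroup.mem_normalizer_iff.mp (UG_normalized (p := p) hm) x).mp hx

/-- Sylow subgroups of `M` are TI modulo `O_p(M)` -/
theorem Max3.ti (hM : Max3 p M) (P : Sylow p G) (hPM : (P : Subgroup G) ≤ M) {x m : G}
    (hx : x ∈ (P : Subgroup G)) (hxU : x ∉ UG p M) (hm : m ∈ M)
    (hmx : m * x * m⁻¹ ∈ (P : Subgroup G)) : m ∈ (P : Subgroup G) := by
  obtain ⟨A, hA⟩ := hM.ts
  have hxM : x ∈ M := hPM hx
  have h1 : (⟨x, hxM⟩ : ↥M) ∈ ((P.subtype hPM : Sylow p ↥M) : Subgroup ↥M) := by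
    rw [Sylow.coe_subtype, Subgroup.mem_subgroupOf]; exact hx
  have h2 : (⟨x, hxM⟩ : ↥M) ∉ pCore p ↥M := fun h => hxU ((mem_UG_iff hxM).mpr h)
  have h3 : (⟨m, hm⟩ : ↥M) * ⟨x, hxM⟩ * (⟨m, hm⟩ : ↥M)⁻¹ ∈
      ((P.subtype hPM : Sylow p ↥M) : Subgroup ↥M) := by
    rw [Sylow.coe_subtype, Subgroup.mem_subgroupOf]; exact hmx
  have h4 := mem_sylow_of_conj hA (P.subtype hPM) h1 h2 h3
  rw [Sylow.coe_subtype, Subgroup.mem_subgroupOf] at h4
  exact h4

end Cfsg.Agent.Lib.Helper78.ThreeStep
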