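import Mathlib
import Cfsg.Agent.Lib.Helper78.ThreeStep7

set_option autoImplicit false
set_option linter.style.haveILetI false
set_option linter.unusedSectionVars false

/-! Local subgroups `L` with a nontrivial normal `p`-subgroup: either all `p`-elements lie in
`O_p(L)` or `L` lies in a maximal three-step subgroup with respect to `p`. -/

namespace Cfsg.Agent.Lib.Helper78.ThreeStep

open Cfsg Cfsg.Agent.Lib.Helper11
open scoped Pointwise

universe u

section abstract

variable {Y : Type*} [Group Y] [Finite Y] {p : ℕ} [hp : Fact p.Prime]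

/-- `p`-elements lie in `O_p` when there is a normal nilpotent subgroup of index prime to `p` -/
theorem mem_pCore_of_nilpotent_index (K : Subgroup Y) [hKn : K.Normal] (hK : Group.IsNilpotent K)
    (hidx : (K.index).Coprime p) {x : Y} {k : ℕ} (hx : x ^ p ^ k = 1) : x ∈ pCore p Y := by
  have h1 : x ^ K.index ∈ K := Subgroup.pow_index_mem K x
  have h2 : x ^ p ^ k ∈ K := by rw [hx]; exact one_mem _
  have h3 : x ∈ K := Cfsg.Agent.S1477.mem_of_pow_mem_of_coprime K (hidx.pow_right k) h1 h2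
  exact mem_pCore_of_mem_normal_nilpotent hKn hK h3 hx

/-- nilpotent or Frobenius type with a nontrivial normal `p`-subgroup: `p`-closed -/
theorem mem_pCore_of_pElement (hnf : Group.IsNilpotent Y ∨ ∃ K E : Subgroup Y, FrobType Y K E)
    (T : Subgroup Y) [hTn : T.Normal] (hT : IsPGroup p T) (hT1 : T ≠ ⊥) {x : Y} {k : ℕ}
    (hx : x ^ p ^ k = 1) : x ∈ pCore p Y := by
  rcases hnf with h | ⟨K, E, hKn, hc, hE, hker, hKnil, hcop, _⟩
  · have hK : Group.IsNilpotent (⊤ : Subgroup Y) :=
      Group.nilpotent_of_mulEquiv (Subgroup.topEquiv (G := Y)).symm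
    refine mem_pCore_of_nilpotent_index ⊤ hK ?_ hx
    rw [Subgroup.index_top]; exact Nat.coprime_one_left p
  · haveI := hKn
    refine mem_pCore_of_nilpotent_index K hKnil ?_ hx
    rw [hc.symm.index_eq_card]
    -- `p ∣ |K|`
    have hpK : p ∣ Nat.card K := by
      by_contra hpK
      obtain ⟨t, ht, ht1⟩ := exists_ne_one hT1
      obtain ⟨n, hn, hn1⟩ := exists_ne_one (TwoFrob.kernel_ne_bot hE hker)
      have h1 : t * n * t⁻¹ * n⁻¹ ∈ T := by
        have e : t * n * t⁻¹ * n⁻¹ = t * (n * t⁻¹ * n⁻¹) := by group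
        rw [e]
        exact mul_mem ht (hTn.conj_mem t⁻¹ (inv_mem ht) n)
      have h2 : t * n * t⁻¹ * n⁻¹ ∈ K := mul_mem (hKn.conj_mem n hn t) (inv_mem hn)
      have hbot : ∀ z : Y, z ∈ T → z ∈ K → z = 1 := by
        intro z hzT hzK
        obtain ⟨j, hj⟩ := hT ⟨z, hzT⟩
        have e1 : z ^ p ^ j = 1 := congrArg Subtype.val hj
        have e2 : z ^ Nat.card K = 1 := by
          have := pow_card_eq_one' (G := K) (x := ⟨z, hzK⟩)
          exact congrArg Subtype.val this
        have hcop' : Nat.Coprime (p ^ j) (Nat.card K) :=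
          Nat.Coprime.pow_left j ((Nat.Prime.coprime_iff_not_dvd hp.out).mpr hpK)
        have : z ∈ (⊥ : Subgroup Y) :=
          Cfsg.Agent.S1477.mem_of_pow_mem_of_coprime ⊥ hcop'
            (by rw [e1]; exact one_mem _) (by rw [e2]; exact one_mem _)
        exact Subgroup.mem_bot.mp this
      have h3 := hbot _ h1 h2
      have h4 : t * n = n * t := by
        have : t * n = (t * n * t⁻¹ * n⁻¹) * (n * t) := by group
        rw [this, h3, one_mul]
      have h5 := TwoFrob.cent_le_kernel hE hker hn hn1 h4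
      exact ht1 (hbot t ht h5)
    have : Nat.Coprime (Nat.card E) (Nat.card K) := hcop.symm
    exact Nat.Coprime.coprime_dvd_right hpK this

end abstract

end Cfsg.Agent.Lib.Helper78.ThreeStep

namespace Cfsg.Agent.Lib.Helper78.ThreeStep

open Cfsg Cfsg.Agent.Lib.Helper11
open scoped Pointwise

universe u

variable {G : Type u} [Group G] [Finite G] {p : ℕ} [hp : Fact p.Prime]

/-- a three-step local subgroup with a nontrivial normal `p`-subgroup lies in a maximal
three-step subgroup with respect to `p` -/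
theorem exists_max3_of_local (hG : IsMinSimpleOddOrder G) (hCN : IsCNGroup G)
    (L T : Subgroup G) (hTL : T ≤ L) (hLT : L ≤ Subgroup.normalizer (T : Set G))
    (hT : IsPGroup p T) (hT1 : T ≠ ⊥) {q : ℕ} (hq : q.Prime) (h3 : IsThreeStepGroup q ↥L) :
    ∃ M' : Subgroup G, L ≤ M' ∧ Max3 p M' := by
  haveI : Fact q.Prime := ⟨hq⟩
  haveI hT'n : (T.subgroupOf L).Normal := Subgroup.normal_subgroupOf_of_le_normalizer hLT
  have hT'p : IsPGroup p (T.subgroupOf L) := hT.comap_subtype
  have hT'1 : T.subgroupOf L ≠ ⊥ := by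
    intro h
    rw [Subgroup.subgroupOf_eq_bot] at h
    exact hT1 (disjoint_self.mp (h.mono_right hTL))
  obtain ⟨A_L, hA_L⟩ := tsData_of_isThreeStep h3
  have hqp : q = p := by
    by_contra hne
    exact hT'1 (normal_rgroup_eq_bot hA_L (r := p) (fun h => hne h.symm) (T.subgroupOf L) hT'p)
  subst hqp
  obtain ⟨p', M', hp', hLM', hM'⟩ := exists_max3 hG hCN h3
  refine ⟨M', hLM', ?_⟩
  by_cases hpp : p' = q
  · subst hpp; exact hM'
  · exfalso
    haveI : Fact p'.Prime := ⟨hp'⟩
    obtain ⟨A', hA'⟩ := hM'.ts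
    haveI hB'n := hA'.B_normal
    obtain ⟨S_L⟩ : Nonempty (Sylow q ↥L) := inferInstance
    obtain ⟨x, hxS, hxB⟩ := exists_sylow_not_mem_B hA_L S_L
    have hUS : pCore q ↥L ≤ S_L := pCore_le_sylow S_L
    have hcopq : ∀ i j : ℕ, Nat.Coprime (p' ^ i) (q ^ j) :=
      fun i j => Nat.Coprime.pow i j ((Nat.coprime_primes hp' hq).mpr hpp)
    -- `p`-elements of `L` lie in `B'`
    have hmemB' : ∀ z : ↥L, z ∈ (S_L : Subgroup ↥L) →
        Subgroup.inclusion hLM' z ∈ pCore p' ↥M' ⊔ A' := by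
      intro z hz
      obtain ⟨j, hj⟩ := S_L.isPGroup' ⟨z, hz⟩
      have e1 : z ^ q ^ j = 1 := congrArg Subtype.val hj
      have e2 : (Subgroup.inclusion hLM' z) ^ q ^ j = 1 := by
        rw [← map_pow, e1, map_one]
      obtain ⟨n, hn⟩ := hA'.B_index
      have e3 : (Subgroup.inclusion hLM' z) ^ p' ^ n ∈ pCore p' ↥M' ⊔ A' := by
        rw [← hn]; exact Subgroup.pow_index_mem _ _
      exact Cfsg.Agent.S1477.mem_of_pow_mem_of_coprime _ (hcopq n j) e3
        (by rw [e2]; exact one_mem _)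
    have hcomm : ∀ u ∈ pCore q ↥L, u * x = x * u := by
      intro u hu
      have hc : x * u * x⁻¹ * u⁻¹ ∈ (S_L : Subgroup ↥L) :=
        mul_mem (mul_mem (mul_mem hxS (hUS hu)) (inv_mem hxS)) (inv_mem (hUS hu))
      obtain ⟨k, hk⟩ := S_L.isPGroup' ⟨_, hc⟩
      have e1 : (x * u * x⁻¹ * u⁻¹) ^ q ^ k = 1 := congrArg Subtype.val hk
      have h1 := comm_mem_U hA' (hmemB' x hxS) (hmemB' u (hUS hu))
      have hU'p : IsPGroup p' (pCore p' ↥M') := Cfsg.Agent.Lib.Helper22.pCore_isPGroup' p' ↥M'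
      obtain ⟨i, hi⟩ := hU'p ⟨_, h1⟩
      have e2 : (Subgroup.inclusion hLM' x * Subgroup.inclusion hLM' u *
          (Subgroup.inclusion hLM' x)⁻¹ * (Subgroup.inclusion hLM' u)⁻¹) ^ p' ^ i = 1 :=
        congrArg Subtype.val hi
      have e3 : Subgroup.inclusion hLM' x * Subgroup.inclusion hLM' u *
          (Subgroup.inclusion hLM' x)⁻¹ * (Subgroup.inclusion hLM' u)⁻¹ =
          Subgroup.inclusion hLM' (x * u * x⁻¹ * u⁻¹) := by
        simp only [map_mul, map_inv]
      rw [e3, ← map_pow] at e2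
      have e4 : (x * u * x⁻¹ * u⁻¹) ^ p' ^ i = 1 :=
        Subgroup.inclusion_injective hLM' (by rw [e2, map_one])
      have e5 : x * u * x⁻¹ * u⁻¹ ∈ (⊥ : Subgroup ↥L) :=
        Cfsg.Agent.S1477.mem_of_pow_mem_of_coprime ⊥ (hcopq i k)
          (by rw [e4]; exact one_mem _) (by rw [e1]; exact one_mem _)
      have e6 : x * u * x⁻¹ * u⁻¹ = 1 := Subgroup.mem_bot.mp e5
      have : x * u = (x * u * x⁻¹ * u⁻¹) * (u * x) := by group
      rw [this, e6, one_mul]
    have hxC : x ∈ Subgroup.centralizer (pCore q ↥L : Set ↥L) := by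
      rw [Subgroup.mem_centralizer_iff]
      exact hcomm
    exact hxB ((le_sup_left : pCore q ↥L ≤ _) (cent_le hA_L hxC))

end Cfsg.Agent.Lib.Helper78.ThreeStep
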