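import Mathlib
import Cfsg.Agent.Lib.Helper78.ThreeStep8

set_option autoImplicit false
set_option linter.style.haveILetI false
set_option linter.unusedSectionVars false

/-! Elements of a Sylow subgroup of a maximal three-step subgroup outside `O_p(M)` lie in a
unique Sylow subgroup of `G`. -/

namespace Cfsg.Agent.Lib.Helper78.ThreeStep

open Cfsg Cfsg.Agent.Lib.Helper11
open scoped Pointwise

universe u

variable {G : Type u} [Group G] [Finite G] {p : ℕ} [hp : Fact p.Prime] {M : Subgroup G}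

theorem mem_smul_sylow_iff (P : Sylow p G) {g x : G} :
    x ∈ ((g • P : Sylow p G) : Subgroup G) ↔ g⁻¹ * x * g ∈ (P : Subgroup G) := by
  rw [Sylow.coe_subgroup_smul, Subgroup.mem_pointwise_smul_iff_inv_smul_mem]
  have : (MulAut.conj g)⁻¹ • x = g⁻¹ * x * g := by
    rw [← map_inv]; simp [MulAut.smul_def]
  rw [this]

theorem sylow_eq_of_le (P P' : Sylow p G) (h : (P : Subgroup G) ≤ P') : P' = P := by
  apply Sylow.ext
  symm
  apply Subgroup.eq_of_le_of_card_ge h
  rw [Sylow.card_eq_multiplicity, Sylow.card_eq_multiplicity]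

theorem card_le_of_le {H K : Subgroup G} (h : H ≤ K) : Nat.card H ≤ Nat.card K :=
  Nat.le_of_dvd Nat.card_pos (Subgroup.card_dvd_of_le h)

/-- the uniqueness statement, by induction on the codimension of the intersection -/
theorem uniq_sylow_aux (hG : IsMinSimpleOddOrder G) (hCN : IsCNGroup G) (hp2 : p ≠ 2)
    (hM : Max3 p M) (P : Sylow p G) (hPM : (P : Subgroup G) ≤ M) :
    ∀ n : ℕ, ∀ (P' : Sylow p G) (y : G), y ∈ (P : Subgroup G) → y ∉ UG p M →
      y ∈ (P' : Subgroup G) →
      Nat.card (P : Subgroup G) ≤ Nat.card ((P : Subgroup G) ⊓ (P' : Subgroup G) : Subgroup G) + n →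
      P' = P := by
  intro n
  induction n with
  | zero =>
    intro P' y _ _ _ hcard
    rw [add_zero] at hcard
    have h1 : (P : Subgroup G) ⊓ (P' : Subgroup G) = P :=
      Subgroup.eq_of_le_of_card_ge inf_le_left hcard
    exact sylow_eq_of_le P P' (by rw [← h1]; exact inf_le_right)
  | succ n ih =>
    intro P' y hyP hyU hyP' hcard
    by_contra hne
    set T : Subgroup G := (P : Subgroup G) ⊓ (P' : Subgroup G) with hT
    have hTP : T < (P : Subgroup G) := by
      refine lt_of_le_of_ne inf_le_left ?_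
      intro h
      exact hne (sylow_eq_of_le P P' (by rw [← h]; exact inf_le_right))
    have hTP' : T < (P' : Subgroup G) := by
      refine lt_of_le_of_ne inf_le_right ?_
      intro h
      have h2 : (P' : Subgroup G) ≤ P := by rw [← h]; exact inf_le_left
      exact hne (sylow_eq_of_le P' P h2).symm
    have hyT : y ∈ T := Subgroup.mem_inf.mpr ⟨hyP, hyP'⟩
    have hy1 : y ≠ 1 := by
      rintro rfl
      exact hyU (one_mem _)
    have hT1 : T ≠ ⊥ := by
      intro h
      rw [h] at hyT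
      exact hy1 (Subgroup.mem_bot.mp hyT)
    have hTp : IsPGroup p T := P.isPGroup'.to_le inf_le_left
    set N : Subgroup G := Subgroup.normalizer (T : Set G) with hN
    have hTN : T ≤ N := Subgroup.le_normalizer
    have hR₁ : Nat.card T < Nat.card ((P : Subgroup G) ⊓ N : Subgroup G) :=
      Cfsg.Agent.Lib.Helper17.card_lt_card_inf_normalizer (P : Subgroup G) T P.isPGroup' hTP
    have hR₂ : Nat.card T < Nat.card ((P' : Subgroup G) ⊓ N : Subgroup G) :=
      Cfsg.Agent.Lib.Helper17.card_lt_card_inf_normalizer (P' : Subgroup G) T P'.isPGroup' hTP'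
    have hNtop : N ≠ ⊤ := by
      intro h
      have hn : T.Normal := Subgroup.normalizer_eq_top_iff.mp h
      haveI := hG.2.1
      rcases hn.eq_bot_or_eq_top with h4 | h4
      · exact hT1 h4
      · have : (⊤ : Subgroup G) ≤ M := by rw [← h4]; exact hTP.le.trans hPM
        exact hM.coatom.1 (top_le_iff.mp this)
    haveI := proper_solvable hG hNtop
    have hCNN := isCN_subgroup hCN N
    haveI hT'n : (T.subgroupOf N).Normal := Subgroup.normal_in_normalizer
    have hT'p : IsPGroup p (T.subgroupOf N) := hTp.comap_subtype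
    have hT'1 : T.subgroupOf N ≠ ⊥ := by
      intro h
      rw [Subgroup.subgroupOf_eq_bot] at h
      exact hT1 (disjoint_self.mp (h.mono_right hTN))
    -- the IH applies to every Sylow subgroup containing `P ⊓ N`
    have key : ∀ P'' : Sylow p G, (P : Subgroup G) ⊓ N ≤ P'' → P'' = P := by
      intro P'' hle
      have hyP'' : y ∈ (P'' : Subgroup G) := hle (Subgroup.mem_inf.mpr ⟨hyP, hTN hyT⟩)
      refine ih P'' y hyP hyU hyP'' ?_
      have h1 : Nat.card ((P : Subgroup G) ⊓ N : Subgroup G) ≤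
          Nat.card ((P : Subgroup G) ⊓ (P'' : Subgroup G) : Subgroup G) :=
        card_le_of_le (le_inf inf_le_left hle)
      omega
    have pclosed : (Group.IsNilpotent ↥N ∨ ∃ K E : Subgroup ↥N, FrobType ↥N K E) → False := by
      intro hnf
      have hR : ∀ x ∈ N, (∃ k : ℕ, x ^ p ^ k = 1) → x ∈ UG p N := by
        intro x hx ⟨k, hk⟩
        have h2 : (⟨x, hx⟩ : ↥N) ^ p ^ k = 1 := Subtype.ext (by simpa using hk)
        exact (mem_UG_iff hx).mpr
          (mem_pCore_of_pElement hnf (T.subgroupOf N) hT'p hT'1 h2)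
      have hRp : IsPGroup p (UG p N) :=
        (Cfsg.Agent.Lib.Helper22.pCore_isPGroup' p ↥N).map N.subtype
      obtain ⟨P'', hP''⟩ := hRp.exists_le_sylow
      have hle₁ : (P : Subgroup G) ⊓ N ≤ P'' := by
        intro x hx
        obtain ⟨hxP, hxN⟩ := Subgroup.mem_inf.mp hx
        obtain ⟨k, hk⟩ := P.isPGroup' ⟨x, hxP⟩
        exact hP'' (hR x hxN ⟨k, congrArg Subtype.val hk⟩)
      have hP''P := key P'' hle₁
      have hle₂ : (P' : Subgroup G) ⊓ N ≤ T := by
        intro x hx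
        obtain ⟨hxP', hxN⟩ := Subgroup.mem_inf.mp hx
        obtain ⟨k, hk⟩ := P'.isPGroup' ⟨x, hxP'⟩
        have := hP'' (hR x hxN ⟨k, congrArg Subtype.val hk⟩)
        rw [hP''P] at this
        exact Subgroup.mem_inf.mpr ⟨this, hxP'⟩
      have := card_le_of_le hle₂
      omega
    rcases trichotomy_odd hCNN (odd_sub hG N) with h1 | h1 | ⟨q, hq, h3⟩
    · exact pclosed (Or.inl h1)
    · exact pclosed (Or.inr h1)
    -- the three-step case
    obtain ⟨M', hNM', hM'⟩ := exists_max3_of_local hG hCN N T hTN le_rfl hTp hT1 hq h3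
    obtain ⟨P₁, hP₁M'⟩ := hM'.exists_sylow hG hp2
    obtain ⟨m, hm, hmR⟩ := Cfsg.Agent.S0658.exists_conj_mem_sylow M' P₁ hP₁M'
      ((P : Subgroup G) ⊓ N) (inf_le_right.trans hNM') (P.isPGroup'.to_le inf_le_left)
    have hle₁ : (P : Subgroup G) ⊓ N ≤ (m • P₁ : Sylow p G) := by
      intro x hx
      rw [mem_smul_sylow_iff]
      exact hmR x hx
    have hPP := key (m • P₁) hle₁
    have hPM' : (P : Subgroup G) ≤ M' := by
      rw [← hPP]
      intro x hx
      rw [mem_smul_sylow_iff] at hx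
      have : x = m * (m⁻¹ * x * m) * m⁻¹ := by group
      rw [this]
      exact mul_mem (mul_mem hm (hP₁M' hx)) (inv_mem hm)
    have hMM' : M = M' := hM.eq_of_sylow_le hG hp2 hM' P hPM hPM'
    have hNM : N ≤ M := by rw [hMM']; exact hNM'
    obtain ⟨m₂, hm₂, hm₂R⟩ := Cfsg.Agent.S0658.exists_conj_mem_sylow M P hPM
      ((P' : Subgroup G) ⊓ N) (inf_le_right.trans hNM) (P'.isPGroup'.to_le inf_le_left)
    have hyR₂ : y ∈ (P' : Subgroup G) ⊓ N := Subgroup.mem_inf.mpr ⟨hyP', hTN hyT⟩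
    have hy'P : m₂⁻¹ * y * m₂ ∈ (P : Subgroup G) := hm₂R y hyR₂
    have hy'U : m₂⁻¹ * y * m₂ ∉ UG p M := by
      intro h
      apply hyU
      have := conj_mem_UG (p := p) hm₂ h
      have e : m₂ * (m₂⁻¹ * y * m₂) * m₂⁻¹ = y := by group
      rwa [e] at this
    have hy'P' : m₂⁻¹ * y * m₂ ∈ ((m₂⁻¹ • P' : Sylow p G) : Subgroup G) := by
      rw [mem_smul_sylow_iff]
      have e : m₂⁻¹⁻¹ * (m₂⁻¹ * y * m₂) * m₂⁻¹ = y := by group
      rw [e]; exact hyP'
    have hcard₂ : Nat.card ((P' : Subgroup G) ⊓ N : Subgroup G) ≤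
        Nat.card ((P : Subgroup G) ⊓ ((m₂⁻¹ • P' : Sylow p G) : Subgroup G) : Subgroup G) := by
      have hinj : Function.Injective (MulAut.conj m₂⁻¹ : G ≃* G).toMonoidHom :=
        (MulAut.conj m₂⁻¹ : G ≃* G).injective
      rw [← Subgroup.card_map_of_injective (K := (P' : Subgroup G) ⊓ N) hinj]
      apply card_le_of_le
      rintro _ ⟨x, hx, rfl⟩
      have e : (MulAut.conj m₂⁻¹ : G ≃* G).toMonoidHom x = m₂⁻¹ * x * m₂ := by
        simp [MulAut.conj_apply]
      rw [e]
      refine Subgroup.mem_inf.mpr ⟨hm₂R x hx, ?_⟩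
      rw [mem_smul_sylow_iff]
      have e2 : m₂⁻¹⁻¹ * (m₂⁻¹ * x * m₂) * m₂⁻¹ = x := by group
      rw [e2]
      exact (Subgroup.mem_inf.mp hx).1
    have hP₃ := ih (m₂⁻¹ • P') (m₂⁻¹ * y * m₂) hy'P hy'U hy'P' (by omega)
    have hm₂P : m₂⁻¹ ∈ (P : Subgroup G) := by
      refine hM.ti P hPM hyP hyU (inv_mem hm₂) ?_
      have e : m₂⁻¹ * y * m₂⁻¹⁻¹ = m₂⁻¹ * y * m₂ := by group
      rw [e]; exact hy'P
    apply hne
    have h5 : m₂⁻¹ • P = P :=
      Sylow.smul_eq_iff_mem_normalizer.mpr (Subgroup.le_normalizer hm₂P)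
    have h6 : m₂⁻¹ • P' = m₂⁻¹ • P := by rw [hP₃, h5]
    exact smul_left_cancel _ h6

end Cfsg.Agent.Lib.Helper78.ThreeStep
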