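import Mathlib
import Cfsg.Agent.Lib.Helper78.ThreeStep9
import Cfsg.Agent.Lib.Helper20.TransferLemmas

set_option autoImplicit false
set_option linter.style.haveILetI false
set_option linter.unusedSectionVars false

/-! A minimal simple CN-group of odd order has no three-step subgroups: the transfer argument. -/

namespace Cfsg.Agent.Lib.Helper78.ThreeStep

open Cfsg Cfsg.Agent.Lib.Helper11
open scoped Pointwise

universe u

variable {G : Type u} [Group G] [Finite G] {p : ℕ} [hp : Fact p.Prime] {M : Subgroup G}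

theorem uniq_sylow (hG : IsMinSimpleOddOrder G) (hCN : IsCNGroup G) (hp2 : p ≠ 2)
    (hM : Max3 p M) (P : Sylow p G) (hPM : (P : Subgroup G) ≤ M) {y : G}
    (hyP : y ∈ (P : Subgroup G)) (hyU : y ∉ UG p M) (P' : Sylow p G)
    (hyP' : y ∈ (P' : Subgroup G)) : P' = P :=
  uniq_sylow_aux hG hCN hp2 hM P hPM (Nat.card (P : Subgroup G)) P' y hyP hyU hyP'
    (Nat.le_add_left _ _)

/-- fusion: a conjugate of `y ∈ P \ O_p(M)` lying in `P` is a `P`-conjugate -/
theorem mem_of_conj_mem (hG : IsMinSimpleOddOrder G) (hCN : IsCNGroup G) (hp2 : p ≠ 2)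
    (hM : Max3 p M) (P : Sylow p G) (hPM : (P : Subgroup G) ≤ M) {y g : G}
    (hyP : y ∈ (P : Subgroup G)) (hyU : y ∉ UG p M) (hg : g⁻¹ * y * g ∈ (P : Subgroup G)) :
    g ∈ (P : Subgroup G) := by
  have h1 : y ∈ ((g • P : Sylow p G) : Subgroup G) := (mem_smul_sylow_iff P).mpr hg
  have h2 := uniq_sylow hG hCN hp2 hM P hPM hyP hyU (g • P) h1
  exact hM.normalizer_sylow_le hG hp2 P hPM (Sylow.smul_eq_iff_mem_normalizer.mp h2)

theorem no_max3 (hG : IsMinSimpleOddOrder G) (hCN : IsCNGroup G) (hp2 : p ≠ 2)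
    (hM : Max3 p M) : False := by
  obtain ⟨P, hPM⟩ := hM.exists_sylow hG hp2
  obtain ⟨A, hA⟩ := hM.ts
  have hUP : UG p M ≤ P := Max3.UG_le P hPM
  haveI hUn : ((UG p M).subgroupOf (P : Subgroup G)).Normal :=
    Subgroup.normal_subgroupOf_of_le_normalizer (hPM.trans UG_normalized)
  -- an element of `P` outside `O_p(M)`
  obtain ⟨x₀, hx₀S, hx₀B⟩ := exists_sylow_not_mem_B hA (P.subtype hPM)
  have hx₀P : (x₀ : G) ∈ (P : Subgroup G) := by
    rw [Sylow.coe_subtype, Subgroup.mem_subgroupOf] at hx₀S; exact hx₀S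
  have hx₀U : (x₀ : G) ∉ UG p M := by
    intro h
    apply hx₀B
    exact (le_sup_left : pCore p ↥M ≤ _) ((mem_UG_iff x₀.2).mp h)
  set UP := (UG p M).subgroupOf (P : Subgroup G) with hUPdef
  have hQp : IsPGroup p (↥(P : Subgroup G) ⧸ UP) := P.isPGroup'.to_quotient UP
  haveI : Group.IsNilpotent (↥(P : Subgroup G) ⧸ UP) := hQp.isNilpotent
  haveI : Nontrivial (↥(P : Subgroup G) ⧸ UP) := by
    refine ⟨⟨(QuotientGroup.mk ⟨x₀, hx₀P⟩ : ↥(P : Subgroup G) ⧸ UP), 1, ?_⟩⟩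
    intro h
    rw [QuotientGroup.eq_one_iff, hUPdef, Subgroup.mem_subgroupOf] at h
    exact hx₀U h
  have hlt := Group.IsSolvable.commutator_lt_top_of_nontrivial (↥(P : Subgroup G) ⧸ UP)
  obtain ⟨_, q, _, hq⟩ := SetLike.lt_iff_le_and_exists.mp hlt
  obtain ⟨x, rfl⟩ := QuotientGroup.mk_surjective q
  let φ : ↥(P : Subgroup G) →* Abelianization (↥(P : Subgroup G) ⧸ UP) :=
    Abelianization.of.comp (QuotientGroup.mk' UP)
  have hφx : φ x ≠ 1 := by
    intro h
    apply hq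
    rw [← Abelianization.ker_of]
    exact MonoidHom.mem_ker.mpr h
  have hφU : ∀ (u : G) (hu : u ∈ (P : Subgroup G)), u ∈ UG p M → φ ⟨u, hu⟩ = 1 := by
    intro u hu huU
    have : (QuotientGroup.mk' UP) ⟨u, hu⟩ = 1 := by
      rw [QuotientGroup.mk'_apply, QuotientGroup.eq_one_iff, hUPdef, Subgroup.mem_subgroupOf]
      exact huU
    show Abelianization.of ((QuotientGroup.mk' UP) ⟨u, hu⟩) = 1
    rw [this, map_one]
  have hφ : ∀ (h : G) (hh : h ∈ (P : Subgroup G)) (g : G)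
      (hc : g⁻¹ * h * g ∈ (P : Subgroup G)), φ ⟨g⁻¹ * h * g, hc⟩ = φ ⟨h, hh⟩ := by
    intro h hh g hc
    by_cases hhU : h ∈ UG p M
    · rw [hφU h hh hhU]
      apply hφU
      by_contra hcU
      have e : (g⁻¹)⁻¹ * (g⁻¹ * h * g) * g⁻¹ = h := by group
      have h1 := mem_of_conj_mem hG hCN hp2 hM P hPM hc hcU (g := g⁻¹) (by rw [e]; exact hh)
      have h2 := conj_mem_UG (p := p) (hPM h1) hhU
      have e2 : g⁻¹ * h * g⁻¹⁻¹ = g⁻¹ * h * g := by group
      rw [e2] at h2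
      exact hcU h2
    · have hgP := mem_of_conj_mem hG hCN hp2 hM P hPM hh hhU hc
      have e : (⟨g⁻¹ * h * g, hc⟩ : ↥(P : Subgroup G)) =
          (⟨g, hgP⟩ : ↥(P : Subgroup G))⁻¹ * ⟨h, hh⟩ * ⟨g, hgP⟩ := Subtype.ext rfl
      rw [e, map_mul, map_mul, map_inv]
      rw [mul_comm (φ ⟨g, hgP⟩)⁻¹, mul_assoc, inv_mul_cancel, mul_one]
  have htr := Cfsg.Agent.Lib.Helper20.transfer_eq_pow_of_conj φ hφ x
  -- the transfer is nontrivial
  have hτx : MonoidHom.transfer φ (x : G) ≠ 1 := by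
    rw [htr]
    intro h
    obtain ⟨k, hk⟩ := P.isPGroup' x
    have e1 : φ x ^ p ^ k = 1 := by rw [← map_pow, hk, map_one]
    have hcop : Nat.Coprime (P : Subgroup G).index (p ^ k) :=
      Nat.Coprime.pow_right k ((Nat.Prime.coprime_iff_not_dvd hp.out).mpr P.not_dvd_index).symm
    have : φ x ∈ (⊥ : Subgroup (Abelianization (↥(P : Subgroup G) ⧸ UP))) :=
      Cfsg.Agent.S1477.mem_of_pow_mem_of_coprime ⊥ hcop
        (by rw [h]; exact one_mem _) (by rw [e1]; exact one_mem _)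
    exact hφx (Subgroup.mem_bot.mp this)
  -- simplicity
  haveI := hG.2.1
  have hker : (MonoidHom.transfer φ).ker = ⊥ := by
    rcases (MonoidHom.normal_ker (MonoidHom.transfer φ)).eq_bot_or_eq_top with h | h
    · exact h
    · exfalso
      apply hτx
      have : (x : G) ∈ (MonoidHom.transfer φ).ker := by rw [h]; exact Subgroup.mem_top _
      exact MonoidHom.mem_ker.mp this
  have hinj : Function.Injective (MonoidHom.transfer φ) :=
    (MonoidHom.ker_eq_bot_iff _).mp hker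
  apply hG.2.2.1
  refine ⟨⟨fun a b => ?_⟩⟩
  apply hinj
  rw [map_mul, map_mul, mul_comm]

end Cfsg.Agent.Lib.Helper78.ThreeStep
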