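import Mathlib
import Cfsg.Agent.Lib.Helper78.ThreeStep10
import Cfsg.Agent.S1478

set_option autoImplicit false
set_option linter.style.haveILetI false
set_option linter.unusedSectionVars false

/-! Minimal simple CN-groups of odd order: proper subgroups are nilpotent or of Frobenius type,
expressed inside `G`. -/

namespace Cfsg.Agent.Lib.Helper78.CNMin

open Cfsg Cfsg.Agent.Lib.Helper78.ThreeStep
open scoped Pointwise

universe u

variable {G : Type u} [Group G]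

theorem conj_mem_of_mem_normalizer {H : Subgroup G} {g h : G}
    (hg : g ∈ Subgroup.normalizer (H : Set G)) (hh : h ∈ H) : g * h * g⁻¹ ∈ H :=
  (Subgroup.mem_normalizer_iff.mp hg h).mp hh

theorem le_normalizer_of_conj_mem {L H : Subgroup G}
    (h : ∀ g ∈ L, ∀ x ∈ H, g * x * g⁻¹ ∈ H) : L ≤ Subgroup.normalizer (H : Set G) := by
  intro g hg
  rw [Subgroup.mem_normalizer_iff]
  intro x
  constructor
  · exact h g hg x
  · intro hx
    have := h g⁻¹ (inv_mem hg) _ hx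
    have e : g⁻¹ * (g * x * g⁻¹) * g⁻¹⁻¹ = x := by group
    rwa [e] at this

/-- `L = K ⋊ E` of Frobenius type with nilpotent kernel `K` and abelian quotient. -/
structure FrobIn (L K E : Subgroup G) : Prop where
  K_le : K ≤ L
  E_le : E ≤ L
  K_norm : ∀ m ∈ L, ∀ x ∈ K, m * x * m⁻¹ ∈ K
  K_nil : Group.IsNilpotent K
  K_ne : K ≠ ⊥
  E_ne : E ≠ ⊥
  disj : K ⊓ E = ⊥
  prod : ∀ m ∈ L, ∃ a ∈ K, ∃ b ∈ E, m = a * b
  cop : (Nat.card K).Coprime (Nat.card E)
  fpf : ∀ e ∈ E, e ≠ 1 → ∀ x ∈ K, e * x = x * e → x = 1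
  cent : ∀ n ∈ K, n ≠ 1 → ∀ x ∈ L, x * n = n * x → x ∈ K
  comm : ∀ x ∈ L, ∀ y ∈ L, x * y * x⁻¹ * y⁻¹ ∈ K
  pow_mem : ∀ x ∈ L, x ^ Nat.card E ∈ K

variable [Finite G]

/-- proper subgroups are nilpotent or of Frobenius type -/
theorem local_type (hG : IsMinSimpleOddOrder G) (hCN : IsCNGroup G) {L : Subgroup G}
    (hL : L ≠ ⊤) : Group.IsNilpotent ↥L ∨ ∃ K E : Subgroup ↥L, FrobType ↥L K E := by
  haveI := proper_solvable hG hL
  rcases trichotomy_odd (isCN_subgroup hCN L) (odd_sub hG L) with h | h | ⟨p, _, h⟩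
  · exact Or.inl h
  · exact Or.inr h
  · exact absurd h (Cfsg.Agent.S1478.result hG hCN L p)

theorem frobIn_of_frobType {L : Subgroup G} {K E : Subgroup ↥L} (h : FrobType ↥L K E) :
    FrobIn L (K.map L.subtype) (E.map L.subtype) := by
  obtain ⟨hKn, hc, hE, hker, hKnil, hcop, hab⟩ := h
  haveI := hKn
  have hinj : Function.Injective L.subtype := L.subtype_injective
  have hmemK : ∀ {x : G} (hx : x ∈ L), x ∈ K.map L.subtype ↔ (⟨x, hx⟩ : ↥L) ∈ K := by
    intro x hx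
    constructor
    · rintro ⟨y, hy, hyx⟩
      have : y = ⟨x, hx⟩ := Subtype.ext hyx
      rwa [← this]
    · intro h; exact ⟨⟨x, hx⟩, h, rfl⟩
  have hmemE : ∀ {x : G} (hx : x ∈ L), x ∈ E.map L.subtype ↔ (⟨x, hx⟩ : ↥L) ∈ E := by
    intro x hx
    constructor
    · rintro ⟨y, hy, hyx⟩
      have : y = ⟨x, hx⟩ := Subtype.ext hyx
      rwa [← this]
    · intro h; exact ⟨⟨x, hx⟩, h, rfl⟩
  have hKL : K.map L.subtype ≤ L := Subgroup.map_subtype_le _
  have hEL : E.map L.subtype ≤ L := Subgroup.map_subtype_le _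
  refine
    { K_le := hKL
      E_le := hEL
      K_norm := ?_
      K_nil := ?_
      K_ne := ?_
      E_ne := ?_
      disj := ?_
      prod := ?_
      cop := ?_
      fpf := ?_
      cent := ?_
      comm := ?_
      pow_mem := ?_ }
  · intro m hm x hx
    have hxL := hKL hx
    rw [hmemK (mul_mem (mul_mem hm hxL) (inv_mem hm))]
    have := hKn.conj_mem ⟨x, hxL⟩ ((hmemK hxL).mp hx) ⟨m, hm⟩
    exact this
  · exact Group.nilpotent_of_mulEquiv (K.equivMapOfInjective L.subtype hinj)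
  · intro h0
    rw [Subgroup.map_eq_bot_iff_of_injective _ hinj] at h0
    exact TwoFrob.kernel_ne_bot hE hker h0
  · intro h0
    rw [Subgroup.map_eq_bot_iff_of_injective _ hinj] at h0
    exact hE.1 h0
  · rw [eq_bot_iff]
    intro x hx
    obtain ⟨hxK, hxE⟩ := Subgroup.mem_inf.mp hx
    have hxL := hKL hxK
    have h1 := (hmemK hxL).mp hxK
    have h2 := (hmemE hxL).mp hxE
    have h3 := (Subgroup.disjoint_def.mp hc.disjoint) h1 h2
    rw [Subgroup.mem_bot]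
    exact congrArg Subtype.val h3
  · intro m hm
    have hsup : K ⊔ E = ⊤ := hc.sup_eq_top
    have hm' : (⟨m, hm⟩ : ↥L) ∈ K ⊔ E := by rw [hsup]; exact Subgroup.mem_top _
    obtain ⟨a, ha, b, hb, hab'⟩ := Subgroup.mem_sup_of_normal_left.mp hm'
    refine ⟨(a : G), ⟨a, ha, rfl⟩, (b : G), ⟨b, hb, rfl⟩, ?_⟩
    have := congrArg Subtype.val hab'
    simpa using this.symm
  · rw [Subgroup.card_map_of_injective hinj, Subgroup.card_map_of_injective hinj]
    exact hcop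
  · intro e he he1 x hx hcomm
    have heL := hEL he
    have hxL := hKL hx
    have h1 := (hmemE heL).mp he
    have h2 := (hmemK hxL).mp hx
    have he1' : (⟨e, heL⟩ : ↥L) ≠ 1 := fun h => he1 (congrArg Subtype.val h)
    have hcomm' : (⟨e, heL⟩ : ↥L) * ⟨x, hxL⟩ = ⟨x, hxL⟩ * ⟨e, heL⟩ := Subtype.ext hcomm
    have := TwoFrob.fpf hE hker h1 he1' h2 hcomm'
    exact congrArg Subtype.val this
  · intro n hn hn1 x hx hcomm
    have hnL := hKL hn
    have h2 := (hmemK hnL).mp hn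
    have hn1' : (⟨n, hnL⟩ : ↥L) ≠ 1 := fun h => hn1 (congrArg Subtype.val h)
    have hcomm' : (⟨x, hx⟩ : ↥L) * ⟨n, hnL⟩ = ⟨n, hnL⟩ * ⟨x, hx⟩ := Subtype.ext hcomm
    exact (hmemK hx).mpr (TwoFrob.cent_le_kernel hE hker h2 hn1' hcomm')
  · intro x hx y hy
    have := hab ⟨x, hx⟩ ⟨y, hy⟩
    exact ⟨_, this, rfl⟩
  · intro x hx
    have h1 : (⟨x, hx⟩ : ↥L) ^ K.index ∈ K := Subgroup.pow_index_mem K _
    rw [hc.symm.index_eq_card] at h1
    rw [Subgroup.card_map_of_injective hinj]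
    exact ⟨_, h1, rfl⟩

/-- proper subgroups are nilpotent or of Frobenius type, inside `G` -/
theorem local_frobIn (hG : IsMinSimpleOddOrder G) (hCN : IsCNGroup G) {L : Subgroup G}
    (hL : L ≠ ⊤) : Group.IsNilpotent ↥L ∨ ∃ K E : Subgroup G, FrobIn L K E := by
  rcases local_type hG hCN hL with h | ⟨K, E, h⟩
  · exact Or.inl h
  · exact Or.inr ⟨_, _, frobIn_of_frobType h⟩

/-- a nontrivial normal subgroup of a group of Frobenius type meets the kernel -/
theorem FrobIn.inf_ne_bot {L K E : Subgroup G} (hF : FrobIn L K E) {X : Subgroup G} (hXL : X ≤ L)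
    (hXn : ∀ m ∈ L, ∀ x ∈ X, m * x * m⁻¹ ∈ X) (hX1 : X ≠ ⊥) : X ⊓ K ≠ ⊥ := by
  intro hbot
  obtain ⟨x, hx, hx1⟩ := exists_ne_one hX1
  obtain ⟨n, hn, hn1⟩ := exists_ne_one hF.K_ne
  have h1 : x * n * x⁻¹ * n⁻¹ ∈ X := by
    have e : x * n * x⁻¹ * n⁻¹ = x * (n * x⁻¹ * n⁻¹) := by group
    rw [e]
    exact mul_mem hx (hXn n (hF.K_le hn) _ (inv_mem hx))
  have h2 : x * n * x⁻¹ * n⁻¹ ∈ K := mul_mem (hF.K_norm x (hXL hx) n hn) (inv_mem hn)
  have h3 : x * n * x⁻¹ * n⁻¹ ∈ X ⊓ K := Subgroup.mem_inf.mpr ⟨h1, h2⟩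
  rw [hbot, Subgroup.mem_bot] at h3
  have h4 : x * n = n * x := by
    have : x * n = (x * n * x⁻¹ * n⁻¹) * (n * x) := by group
    rw [this, h3, one_mul]
  have h5 := hF.cent n hn hn1 x (hXL hx) h4
  have h6 : x ∈ X ⊓ K := Subgroup.mem_inf.mpr ⟨hx, h5⟩
  rw [hbot, Subgroup.mem_bot] at h6
  exact hx1 h6

/-- a nilpotent subgroup of a group of Frobenius type containing the kernel is the kernel -/
theorem FrobIn.eq_of_nilpotent {L K E : Subgroup G} (hF : FrobIn L K E) {H : Subgroup G}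
    (hH : Group.IsNilpotent H) (hKH : K ≤ H) (hHL : H ≤ L) : H = K := by
  apply le_antisymm _ hKH
  intro h hh
  obtain ⟨n, hn, hn1⟩ := exists_ne_one hF.K_ne
  have hnK : n ^ Nat.card K = 1 := by
    have := pow_card_eq_one' (G := K) (x := ⟨n, hn⟩)
    exact congrArg Subtype.val this
  have h1 : h ^ Nat.card E ∈ K := hF.pow_mem h (hHL hh)
  have h2 : (h ^ Nat.card K) ^ Nat.card E = 1 := by
    rw [← pow_mul, mul_comm, pow_mul]
    have := pow_card_eq_one' (G := K) (x := ⟨h ^ Nat.card E, h1⟩)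
    exact congrArg Subtype.val this
  have h3 : h ^ Nat.card K * n = n * h ^ Nat.card K :=
    Cfsg.Agent.S1477.comm_in H hH (_root_.pow_mem hh _) (hKH hn) h2 hnK hF.cop.symm
  have h4 : h ^ Nat.card K ∈ K := hF.cent n hn hn1 _ (hHL (_root_.pow_mem hh _)) h3
  exact Cfsg.Agent.S1477.mem_of_pow_mem_of_coprime K hF.cop h4 h1

/-- a group of Frobenius type is not nilpotent -/
theorem FrobIn.not_nilpotent {L K E : Subgroup G} (hF : FrobIn L K E) :
    ¬ Group.IsNilpotent ↥L := by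
  intro hL
  have h1 := hF.eq_of_nilpotent hL hF.K_le le_rfl
  obtain ⟨e, he, he1⟩ := exists_ne_one hF.E_ne
  have h2 : e ∈ K ⊓ E := Subgroup.mem_inf.mpr ⟨by rw [← h1]; exact hF.E_le he, he⟩
  rw [hF.disj, Subgroup.mem_bot] at h2
  exact he1 h2

theorem FrobIn.le_normalizer {L K E : Subgroup G} (hF : FrobIn L K E) :
    L ≤ Subgroup.normalizer (K : Set G) := le_normalizer_of_conj_mem hF.K_norm

theorem FrobIn.isComplIn {L K E : Subgroup G} (hF : FrobIn L K E) : IsComplIn K E L :=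
  ⟨hF.K_le, hF.E_le, hF.disj, hF.prod⟩

theorem FrobIn.fpf_inf {L K E : Subgroup G} (hF : FrobIn L K E) :
    ∀ e ∈ E, e ≠ 1 → K ⊓ Subgroup.centralizer ({e} : Set G) = ⊥ := by
  intro e he he1
  rw [eq_bot_iff]
  intro x hx
  obtain ⟨hxK, hxc⟩ := Subgroup.mem_inf.mp hx
  rw [Subgroup.mem_centralizer_singleton_iff] at hxc
  rw [Subgroup.mem_bot]
  exact hF.fpf e he he1 x hxK hxc.symm

end Cfsg.Agent.Lib.Helper78.CNMin
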