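import Mathlib
import Cfsg.Agent.Lib.Helper78.CNMin1

set_option autoImplicit false
set_option linter.style.haveILetI false
set_option linter.unusedSectionVars false

/-! Minimal simple CN-groups of odd order: Sylow subgroups are trivial-intersection sets. -/

namespace Cfsg.Agent.Lib.Helper78.CNMin

open Cfsg Cfsg.Agent.Lib.Helper78.ThreeStep Cfsg.Agent.Lib.Helper11
open scoped Pointwise

universe u

variable {G : Type u} [Group G] [Finite G] {p : ℕ} [hp : Fact p.Prime]

theorem sylow_ti_aux (hG : IsMinSimpleOddOrder G) (hCN : IsCNGroup G) :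
    ∀ n : ℕ, ∀ (P P' : Sylow p G), (P : Subgroup G) ⊓ (P' : Subgroup G) ≠ ⊥ →
      Nat.card (P : Subgroup G) ≤ Nat.card ((P : Subgroup G) ⊓ (P' : Subgroup G) : Subgroup G) + n →
      P' = P := by
  intro n
  induction n with
  | zero =>
    intro P P' _ hcard
    rw [add_zero] at hcard
    have h1 : (P : Subgroup G) ⊓ (P' : Subgroup G) = P :=
      Subgroup.eq_of_le_of_card_ge inf_le_left hcard
    exact sylow_eq_of_le P P' (by rw [← h1]; exact inf_le_right)
  | succ n ih =>
    intro P P' hT1 hcard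
    by_contra hne
    set T : Subgroup G := (P : Subgroup G) ⊓ (P' : Subgroup G) with hT
    have hTP : T < (P : Subgroup G) := by
      refine lt_of_le_of_ne inf_le_left ?_
      intro h
      exact hne (sylow_eq_of_le P P' (by rw [← h]; exact inf_le_right))
    have hTP' : T < (P' : Subgroup G) := by
      refine lt_of_le_of_ne inf_le_right ?_
      intro h
      have h2 : (P' : Subgroup G) ≤ P := by rw [← h]; exact inf_le_left
      exact hne (sylow_eq_of_le P' P h2).symm
    have hTp : IsPGroup p T := P.isPGroup'.to_le inf_le_left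
    set N : Subgroup G := Subgroup.normalizer (T : Set G) with hN
    have hTN : T ≤ N := Subgroup.le_normalizer
    have hR₁ : Nat.card T < Nat.card ((P : Subgroup G) ⊓ N : Subgroup G) :=
      Cfsg.Agent.Lib.Helper17.card_lt_card_inf_normalizer (P : Subgroup G) T P.isPGroup' hTP
    have hR₂ : Nat.card T < Nat.card ((P' : Subgroup G) ⊓ N : Subgroup G) :=
      Cfsg.Agent.Lib.Helper17.card_lt_card_inf_normalizer (P' : Subgroup G) T P'.isPGroup' hTP'
    have hNtop : N ≠ ⊤ := by
      intro h
      have hn : T.Normal := Subgroup.normalizer_eq_top_iff.mp h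
      haveI := hG.2.1
      rcases hn.eq_bot_or_eq_top with h4 | h4
      · exact hT1 h4
      · rw [h4] at hTP
        exact absurd hTP (not_lt_of_ge le_top)
    haveI hT'n : (T.subgroupOf N).Normal := Subgroup.normal_in_normalizer
    have hT'p : IsPGroup p (T.subgroupOf N) := hTp.comap_subtype
    have hT'1 : T.subgroupOf N ≠ ⊥ := by
      intro h
      rw [Subgroup.subgroupOf_eq_bot] at h
      exact hT1 (disjoint_self.mp (h.mono_right hTN))
    have key : ∀ P'' : Sylow p G, (P : Subgroup G) ⊓ N ≤ P'' → P'' = P := by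
      intro P'' hle
      have hTle : T ≤ (P : Subgroup G) ⊓ (P'' : Subgroup G) :=
        le_inf hTP.le (le_trans (le_inf hTP.le hTN) hle)
      have hne' : (P : Subgroup G) ⊓ (P'' : Subgroup G) ≠ ⊥ := by
        intro h
        rw [h] at hTle
        exact hT1 (le_bot_iff.mp hTle)
      refine ih P P'' hne' ?_
      have h1 : Nat.card ((P : Subgroup G) ⊓ N : Subgroup G) ≤
          Nat.card ((P : Subgroup G) ⊓ (P'' : Subgroup G) : Subgroup G) :=
        card_le_of_le (le_inf inf_le_left hle)
      omega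
    have hnf := local_type hG hCN hNtop
    have hR : ∀ x ∈ N, (∃ k : ℕ, x ^ p ^ k = 1) → x ∈ UG p N := by
      intro x hx ⟨k, hk⟩
      have h2 : (⟨x, hx⟩ : ↥N) ^ p ^ k = 1 := Subtype.ext (by simpa using hk)
      exact (mem_UG_iff hx).mpr
        (mem_pCore_of_pElement hnf (T.subgroupOf N) hT'p hT'1 h2)
    have hRp : IsPGroup p (UG p N) :=
      (Cfsg.Agent.Lib.Helper22.pCore_isPGroup' p ↥N).map N.subtype
    obtain ⟨P'', hP''⟩ := hRp.exists_le_sylow
    have hle₁ : (P : Subgroup G) ⊓ N ≤ P'' := by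
      intro x hx
      obtain ⟨hxP, hxN⟩ := Subgroup.mem_inf.mp hx
      obtain ⟨k, hk⟩ := P.isPGroup' ⟨x, hxP⟩
      exact hP'' (hR x hxN ⟨k, congrArg Subtype.val hk⟩)
    have hP''P := key P'' hle₁
    have hle₂ : (P' : Subgroup G) ⊓ N ≤ T := by
      intro x hx
      obtain ⟨hxP', hxN⟩ := Subgroup.mem_inf.mp hx
      obtain ⟨k, hk⟩ := P'.isPGroup' ⟨x, hxP'⟩
      have := hP'' (hR x hxN ⟨k, congrArg Subtype.val hk⟩)
      rw [hP''P] at this
      exact Subgroup.mem_inf.mpr ⟨this, hxP'⟩
    have := card_le_of_le hle₂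
    omega

/-- distinct Sylow subgroups meet trivially -/
theorem sylow_ti (hG : IsMinSimpleOddOrder G) (hCN : IsCNGroup G) (P P' : Sylow p G)
    (hne : P' ≠ P) : (P : Subgroup G) ⊓ (P' : Subgroup G) = ⊥ := by
  by_contra h
  exact hne (sylow_ti_aux hG hCN (Nat.card (P : Subgroup G)) P P' h (Nat.le_add_left _ _))

end Cfsg.Agent.Lib.Helper78.CNMin
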