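import Mathlib
import Cfsg.Agent.Lib.Helper78.CNMin2
import Cfsg.Agent.Lib.Helper78.CNBasics

set_option autoImplicit false
set_option linter.style.haveILetI false
set_option linter.unusedSectionVars false

/-! Minimal simple CN-groups of odd order: maximal nilpotent subgroups. -/

namespace Cfsg.Agent.Lib.Helper78.CNMin

open Cfsg Cfsg.Agent.Lib.Helper78.ThreeStep Cfsg.Agent.Lib.Helper11
open scoped Pointwise

universe u

variable {G : Type u} [Group G]

/-- maximal nilpotent subgroups -/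
def MaxNil (H : Subgroup G) : Prop :=
  Group.IsNilpotent H ∧ ∀ L : Subgroup G, Group.IsNilpotent L → H ≤ L → L = H

theorem mem_map_conj {H : Subgroup G} {g x : G} :
    x ∈ H.map (MulAut.conj g).toMonoidHom ↔ g⁻¹ * x * g ∈ H := by
  constructor
  · rintro ⟨y, hy, rfl⟩
    have e : g⁻¹ * (MulAut.conj g).toMonoidHom y * g = y := by
      simp only [MulEquiv.coe_toMonoidHom, MulAut.conj_apply]; group
    rw [e]; exact hy
  · intro h
    refine ⟨g⁻¹ * x * g, h, ?_⟩
    simp only [MulEquiv.coe_toMonoidHom, MulAut.conj_apply]; group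

theorem isNilpotent_of_comm {S : Type*} [Group S] (h : ∀ a b : S, a * b = b * a) :
    Group.IsNilpotent S :=
  @CommGroup.isNilpotent S { (inferInstance : Group S) with mul_comm := h }

theorem map_conj_map_conj_inv (H : Subgroup G) (g : G) :
    (H.map (MulAut.conj g).toMonoidHom).map (MulAut.conj g⁻¹).toMonoidHom = H := by
  ext x
  rw [mem_map_conj, mem_map_conj]
  have e : g⁻¹ * (g⁻¹⁻¹ * x * g⁻¹) * g = x := by group
  rw [e]

theorem MaxNil.map_conj {H : Subgroup G} (hH : MaxNil H) (g : G) :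
    MaxNil (H.map (MulAut.conj g).toMonoidHom) := by
  refine ⟨isNilpotent_map _ H hH.1, ?_⟩
  intro L hL hle
  have h1 : H ≤ L.map (MulAut.conj g⁻¹).toMonoidHom := by
    rw [← map_conj_map_conj_inv H g]
    exact Subgroup.map_mono hle
  have h2 := hH.2 _ (isNilpotent_map _ L hL) h1
  have h3 := map_conj_map_conj_inv L g⁻¹
  rw [inv_inv] at h3
  rw [← h3, h2]

variable [Finite G]

theorem not_nilpotent_top (hG : IsMinSimpleOddOrder G) : ¬ Group.IsNilpotent G := by
  intro h
  haveI := hG.2.1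
  haveI : Group.IsSolvable G := inferInstance
  have hc := (IsSimpleGroup.comm_iff_isSolvable (G := G)).mpr inferInstance
  exact hG.2.2.1 ⟨⟨hc⟩⟩

theorem MaxNil.ne_top (hG : IsMinSimpleOddOrder G) {H : Subgroup G} (hH : MaxNil H) : H ≠ ⊤ := by
  rintro rfl
  exact not_nilpotent_top hG (Group.nilpotent_of_mulEquiv (_h := hH.1) (Subgroup.topEquiv (G := G)))

theorem MaxNil.ne_bot (hG : IsMinSimpleOddOrder G) {H : Subgroup G} (hH : MaxNil H) : H ≠ ⊥ := by
  rintro rfl
  haveI := hG.2.1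
  obtain ⟨g, hg⟩ := exists_ne (1 : G)
  have hnil : Group.IsNilpotent (Subgroup.zpowers g) := by
    apply isNilpotent_of_comm
    rintro ⟨a, ha⟩ ⟨b, hb⟩
    obtain ⟨i, rfl⟩ := Subgroup.mem_zpowers_iff.mp ha
    obtain ⟨j, rfl⟩ := Subgroup.mem_zpowers_iff.mp hb
    apply Subtype.ext
    show g ^ i * g ^ j = g ^ j * g ^ i
    rw [← zpow_add, ← zpow_add, add_comm]
  have h1 := hH.2 _ hnil bot_le
  have h2 : g ∈ Subgroup.zpowers g := Subgroup.mem_zpowers g
  rw [h1, Subgroup.mem_bot] at h2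
  exact hg h2

/-- maximal nilpotent subgroups are trivial-intersection sets -/
theorem MaxNil.ti (hG : IsMinSimpleOddOrder G) (hCN : IsCNGroup G) {H : Subgroup G}
    (hH : MaxNil H) : ∀ g : G, H.map (MulAut.conj g).toMonoidHom ≠ H →
      H ⊓ H.map (MulAut.conj g).toMonoidHom = ⊥ := by
  by_cases hpp : IsPrimePow (Nat.card H)
  · obtain ⟨p, k, hp, _, hpk⟩ := (isPrimePow_nat_iff _).mp hpp
    haveI : Fact p.Prime := ⟨hp⟩
    have hpg : IsPGroup p H := IsPGroup.of_card hpk.symm
    obtain ⟨P, hP⟩ := hpg.exists_le_sylow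
    have hPH : (P : Subgroup G) = H := hH.2 _ P.isPGroup'.isNilpotent hP
    intro g hg
    have hne : (g • P : Sylow p G) ≠ P := by
      intro h
      apply hg
      have : ((g • P : Sylow p G) : Subgroup G) = (P : Subgroup G) := by rw [h]
      rw [← hPH]
      exact this
    have := sylow_ti hG hCN P (g • P) hne
    rw [← hPH]
    exact this
  · by_cases h1 : Nat.card H = 1
    · intro g _
      rw [Subgroup.card_eq_one.mp h1, bot_inf_eq]
    · exact (Cfsg.Agent.S1477.result hCN H hH.1 hH.2).2.1 hpp h1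

theorem MaxNil.cent_le (hG : IsMinSimpleOddOrder G) (hCN : IsCNGroup G) {H : Subgroup G}
    (hH : MaxNil H) : ∀ x ∈ H, x ≠ 1 → Subgroup.centralizer ({x} : Set G) ≤ H :=
  (Cfsg.Agent.S1477.result hCN H hH.1 hH.2).2.2 (hH.ti hG hCN)

theorem MaxNil.coprime (hCN : IsCNGroup G) {H : Subgroup G} (hH : MaxNil H) :
    (Nat.card H).Coprime H.index :=
  (Cfsg.Agent.S1477.result hCN H hH.1 hH.2).1

/-- a nontrivial nilpotent subgroup has a nontrivial central element -/
theorem exists_central_ne_one {K : Subgroup G} (hK : Group.IsNilpotent K) (hK1 : K ≠ ⊥) :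
    ∃ c ∈ K, c ≠ 1 ∧ ∀ k ∈ K, k * c = c * k := by
  haveI : Nontrivial ↥K := (Subgroup.nontrivial_iff_ne_bot K).mpr hK1
  have h := Group.IsNilpotent.center_ne_bot ↥K
  obtain ⟨c, hc, hc1⟩ := exists_ne_one h
  refine ⟨(c : G), c.2, fun h => hc1 (Subtype.ext h), ?_⟩
  intro k hk
  have := Subgroup.mem_center_iff.mp hc ⟨k, hk⟩
  exact congrArg Subtype.val this

/-- a nilpotent subgroup meeting a maximal nilpotent subgroup nontrivially lies in it -/
theorem MaxNil.le_of_inf_ne_bot (hG : IsMinSimpleOddOrder G) (hCN : IsCNGroup G) {H K : Subgroup G}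
    (hH : MaxNil H) (hK : Group.IsNilpotent K) (hne : H ⊓ K ≠ ⊥) : K ≤ H := by
  obtain ⟨z, hz, hz1⟩ := exists_ne_one hne
  obtain ⟨hzH, hzK⟩ := Subgroup.mem_inf.mp hz
  have hK1 : K ≠ ⊥ := by
    rintro rfl
    exact hz1 (Subgroup.mem_bot.mp hzK)
  obtain ⟨c, hcK, hc1, hcc⟩ := exists_central_ne_one hK hK1
  have hcH : c ∈ H := by
    apply hH.cent_le hG hCN z hzH hz1
    rw [Subgroup.mem_centralizer_singleton_iff]
    exact (hcc z hzK).symm
  intro k hk
  apply hH.cent_le hG hCN c hcH hc1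
  rw [Subgroup.mem_centralizer_singleton_iff]
  exact hcc k hk

theorem MaxNil.eq_of_inf_ne_bot (hG : IsMinSimpleOddOrder G) (hCN : IsCNGroup G) {H H' : Subgroup G}
    (hH : MaxNil H) (hH' : MaxNil H') (hne : H ⊓ H' ≠ ⊥) : H = H' :=
  hH'.2 H hH.1 (hH.le_of_inf_ne_bot hG hCN hH'.1 hne)

/-- every nilpotent subgroup lies in a maximal one -/
theorem exists_maxNil {L : Subgroup G} (hL : Group.IsNilpotent L) :
    ∃ H : Subgroup G, MaxNil H ∧ L ≤ H := by
  have hfin : {X : Subgroup G | Group.IsNilpotent X}.Finite := Set.toFinite _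
  obtain ⟨H, hLH, hH⟩ := hfin.exists_le_maximal (a := L) hL
  refine ⟨H, ⟨hH.1, ?_⟩, hLH⟩
  intro X hX hHX
  exact le_antisymm (hH.2 hX hHX) hHX

/-- a maximal nilpotent subgroup is not self-normalizing -/
theorem MaxNil.normalizer_ne (hG : IsMinSimpleOddOrder G) (hCN : IsCNGroup G) {H : Subgroup G}
    (hH : MaxNil H) : Subgroup.normalizer (H : Set G) ≠ H := by
  intro hN
  have hC : IsFrobeniusComplement H := by
    refine ⟨hH.ne_bot hG, hH.ne_top hG, ?_⟩
    intro g hg
    apply hH.ti hG hCN g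
    intro h
    apply hg
    rw [← hN]
    apply le_normalizer_of_conj_mem (L := Subgroup.zpowers g)
    · intro m hm x hx
      obtain ⟨i, rfl⟩ := Subgroup.mem_zpowers_iff.mp hm
      have hi : ∀ j : ℕ, ∀ x ∈ H, g ^ j * x * (g ^ j)⁻¹ ∈ H := by
        intro j
        induction j with
        | zero => intro x hx; simpa using hx
        | succ j ih =>
          intro x hx
          have h1 := ih x hx
          have h2 : g * (g ^ j * x * (g ^ j)⁻¹) * g⁻¹ ∈ H := by
            rw [← h]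
            exact ⟨_, h1, by simp [MulAut.conj_apply]⟩
          have e : g ^ (j + 1) * x * (g ^ (j + 1))⁻¹ = g * (g ^ j * x * (g ^ j)⁻¹) * g⁻¹ := by
            rw [pow_succ']; group
          rw [e]; exact h2
      obtain ⟨j, hj⟩ : ∃ j : ℕ, g ^ i = g ^ j := by
        obtain ⟨j, hj⟩ := (mem_powers_iff_mem_zpowers (x := g) (y := g ^ i)).mpr ⟨i, rfl⟩
        exact ⟨j, hj.symm⟩
      rw [hj]
      exact hi j x hx
    · exact Subgroup.mem_zpowers g
  obtain ⟨N, _, hNn, hc⟩ := Cfsg.Agent.Lib.Helper96.frobenius_kernel_subgroup H hC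
  haveI := hG.2.1
  rcases hNn.eq_bot_or_eq_top with h | h
  · have h1 := hc.sup_eq_top
    rw [h, bot_sup_eq] at h1
    exact hH.ne_top hG h1
  · have h1 := hc.disjoint
    rw [h] at h1
    exact hH.ne_bot hG (top_disjoint.mp h1)

end Cfsg.Agent.Lib.Helper78.CNMin
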