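import Mathlib
import Cfsg.Agent.Lib.Helper78.CNMin3

set_option autoImplicit false
set_option linter.style.haveILetI false
set_option linter.unusedSectionVars false

/-! Minimal simple CN-groups of odd order: normalizers of maximal nilpotent subgroups are
maximal subgroups of Frobenius type, and every maximal subgroup arises this way. -/

namespace Cfsg.Agent.Lib.Helper78.CNMin

open Cfsg Cfsg.Agent.Lib.Helper78.ThreeStep Cfsg.Agent.Lib.Helper11
open scoped Pointwise

universe u

variable {G : Type u} [Group G] [Finite G]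

theorem MaxNil.normalizer_ne_top (hG : IsMinSimpleOddOrder G) {H : Subgroup G} (hH : MaxNil H) :
    Subgroup.normalizer (H : Set G) ≠ ⊤ := by
  intro h
  have hn : H.Normal := Subgroup.normalizer_eq_top_iff.mp h
  haveI := hG.2.1
  rcases hn.eq_bot_or_eq_top with h4 | h4
  · exact hH.ne_bot hG h4
  · exact hH.ne_top hG h4

theorem MaxNil.eq_kernel_aux (hG : IsMinSimpleOddOrder G) (hCN : IsCNGroup G) {H M K E : Subgroup G}
    (hH : MaxNil H) (hHM : H ≤ M) (hF : FrobIn M K E) (hne : H ⊓ K ≠ ⊥) : K = H := by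
  have h1 : K ≤ H := hH.le_of_inf_ne_bot hG hCN hF.K_nil hne
  exact (hF.eq_of_nilpotent hH.1 h1 hHM).symm

theorem MaxNil.eq_kernel_normalizer (hG : IsMinSimpleOddOrder G) (hCN : IsCNGroup G)
    {H K E : Subgroup G} (hH : MaxNil H) (hF : FrobIn (Subgroup.normalizer (H : Set G)) K E) :
    K = H := by
  apply hH.eq_kernel_aux hG hCN Subgroup.le_normalizer hF
  apply hF.inf_ne_bot Subgroup.le_normalizer _ (hH.ne_bot hG)
  intro m hm x hx
  exact conj_mem_of_mem_normalizer hm hx

theorem MaxNil.normalizer_not_nilpotent (hG : IsMinSimpleOddOrder G) (hCN : IsCNGroup G)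
    {H : Subgroup G} (hH : MaxNil H) :
    ¬ Group.IsNilpotent ↥(Subgroup.normalizer (H : Set G)) := by
  intro h
  exact hH.normalizer_ne hG hCN (hH.2 _ h Subgroup.le_normalizer)

theorem MaxNil.exists_frobIn (hG : IsMinSimpleOddOrder G) (hCN : IsCNGroup G)
    {H : Subgroup G} (hH : MaxNil H) :
    ∃ E : Subgroup G, FrobIn (Subgroup.normalizer (H : Set G)) H E := by
  rcases local_frobIn hG hCN (hH.normalizer_ne_top hG) with h | ⟨K, E, hF⟩
  · exact absurd h (hH.normalizer_not_nilpotent hG hCN)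
  · have := hH.eq_kernel_normalizer hG hCN hF
    subst this
    exact ⟨E, hF⟩

theorem MaxNil.eq_kernel (hG : IsMinSimpleOddOrder G) (hCN : IsCNGroup G) {H M K E : Subgroup G}
    (hH : MaxNil H) (hNM : Subgroup.normalizer (H : Set G) ≤ M) (hF : FrobIn M K E) : K = H := by
  have hHN : H ≤ Subgroup.normalizer (H : Set G) := Subgroup.le_normalizer
  apply hH.eq_kernel_aux hG hCN (hHN.trans hNM) hF
  obtain ⟨E₀, hF₀⟩ := hH.exists_frobIn hG hCN
  by_cases hX : Subgroup.normalizer (H : Set G) ⊓ K = ⊥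
  · exfalso
    apply hH.normalizer_not_nilpotent hG hCN
    apply isNilpotent_of_comm
    rintro ⟨x, hx⟩ ⟨y, hy⟩
    apply Subtype.ext
    show x * y = y * x
    have h1 : x * y * x⁻¹ * y⁻¹ ∈ K := hF.comm x (hNM hx) y (hNM hy)
    have h2 : x * y * x⁻¹ * y⁻¹ ∈ Subgroup.normalizer (H : Set G) :=
      mul_mem (mul_mem (mul_mem hx hy) (inv_mem hx)) (inv_mem hy)
    have h3 : x * y * x⁻¹ * y⁻¹ ∈ Subgroup.normalizer (H : Set G) ⊓ K :=
      Subgroup.mem_inf.mpr ⟨h2, h1⟩
    rw [hX, Subgroup.mem_bot] at h3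
    have : x * y = (x * y * x⁻¹ * y⁻¹) * (y * x) := by group
    rw [this, h3, one_mul]
  · have h1 := hF₀.inf_ne_bot (X := Subgroup.normalizer (H : Set G) ⊓ K) inf_le_left ?_ hX
    · intro h0
      apply h1
      rw [eq_bot_iff]
      intro z hz
      obtain ⟨hz1, hz2⟩ := Subgroup.mem_inf.mp hz
      have : z ∈ H ⊓ K := Subgroup.mem_inf.mpr ⟨hz2, (Subgroup.mem_inf.mp hz1).2⟩
      rw [h0] at this
      exact this
    · intro m hm x hx
      obtain ⟨hx1, hx2⟩ := Subgroup.mem_inf.mp hx
      exact Subgroup.mem_inf.mpr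
        ⟨mul_mem (mul_mem hm hx1) (inv_mem hm), hF.K_norm m (hNM hm) x hx2⟩

/-- the normalizer of a maximal nilpotent subgroup is a maximal subgroup -/
theorem MaxNil.normalizer_coatom (hG : IsMinSimpleOddOrder G) (hCN : IsCNGroup G)
    {H : Subgroup G} (hH : MaxNil H) : IsCoatom (Subgroup.normalizer (H : Set G)) := by
  refine ⟨hH.normalizer_ne_top hG, ?_⟩
  intro b hb
  by_contra hbt
  have hHN : H ≤ Subgroup.normalizer (H : Set G) := Subgroup.le_normalizer
  rcases local_frobIn hG hCN hbt with h | ⟨K, E, hF⟩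
  · have h1 := hH.2 b h (hHN.trans hb.le)
    rw [h1] at hb
    exact absurd hb (not_lt_of_ge hHN)
  · have h1 := hH.eq_kernel hG hCN hb.le hF
    subst h1
    exact absurd hb (not_lt_of_ge hF.le_normalizer)

/-- every maximal subgroup is of Frobenius type with a maximal nilpotent kernel -/
theorem coatom_structure (hG : IsMinSimpleOddOrder G) (hCN : IsCNGroup G) {M : Subgroup G}
    (hM : IsCoatom M) : ∃ H E : Subgroup G, MaxNil H ∧ FrobIn M H E := by
  rcases local_frobIn hG hCN hM.1 with h | ⟨K, E, hF⟩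
  · exfalso
    have hH : MaxNil M := by
      refine ⟨h, ?_⟩
      intro L hL hML
      by_contra hne
      have hlt : M < L := lt_of_le_of_ne hML (Ne.symm hne)
      have := hM.2 L hlt
      subst this
      exact not_nilpotent_top hG (Group.nilpotent_of_mulEquiv (_h := hL) (Subgroup.topEquiv (G := G)))
    have h1 : M < Subgroup.normalizer (M : Set G) :=
      lt_of_le_of_ne Subgroup.le_normalizer (Ne.symm (hH.normalizer_ne hG hCN))
    exact hH.normalizer_ne_top hG (hM.2 _ h1)
  · obtain ⟨H₁, hH₁, hKH₁⟩ := exists_maxNil hF.K_nil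
    have hMN : M ≤ Subgroup.normalizer (H₁ : Set G) := by
      apply le_normalizer_of_conj_mem
      intro m hm x hx
      have hmap : H₁.map (MulAut.conj m).toMonoidHom = H₁ := by
        by_contra hne
        have h1 := hH₁.ti hG hCN m hne
        apply hF.K_ne
        rw [eq_bot_iff, ← h1]
        intro k hk
        refine Subgroup.mem_inf.mpr ⟨hKH₁ hk, ?_⟩
        rw [mem_map_conj]
        apply hKH₁
        have := hF.K_norm m⁻¹ (inv_mem hm) k hk
        rwa [inv_inv] at this
      rw [← hmap]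
      exact ⟨x, hx, by simp [MulAut.conj_apply]⟩
    have hMeq : M = Subgroup.normalizer (H₁ : Set G) := by
      by_contra hne
      exact hH₁.normalizer_ne_top hG (hM.2 _ (lt_of_le_of_ne hMN hne))
    have hF' : FrobIn (Subgroup.normalizer (H₁ : Set G)) K E := by rw [← hMeq]; exact hF
    have := hH₁.eq_kernel_normalizer hG hCN hF'
    subst this
    exact ⟨K, E, hH₁, hF⟩

end Cfsg.Agent.Lib.Helper78.CNMin
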