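import Mathlib
import Cfsg.Agent.Lib.Helper78.CNMin4

set_option autoImplicit false
set_option linter.style.haveILetI false

/-!
Representatives of the conjugacy classes of maximal nilpotent subgroups of a minimal simple
CN-group of odd order: a family of T.I. subgroups of pairwise coprime orders covering the group.
-/

namespace Cfsg.Agent.Lib.Helper78.CNMin

open Cfsg

universe u

variable {G : Type u} [Group G] [Finite G]

/-- T.I. property in the form used in character theory. -/
theorem MaxNil.ti_form (hG : IsMinSimpleOddOrder G) (hCN : IsCNGroup G) {H : Subgroup G}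
    (hH : MaxNil H) :
    ∀ g : G, g ∉ Subgroup.normalizer (H : Set G) → ∀ k ∈ H, g * k * g⁻¹ ∈ H → k = 1 := by
  intro g hg k hk hgk
  have hne : H.map (MulAut.conj g⁻¹).toMonoidHom ≠ H := by
    intro h
    apply hg
    rw [Subgroup.mem_normalizer_iff]
    intro x
    constructor
    · intro hx
      have : x ∈ H.map (MulAut.conj g⁻¹).toMonoidHom := by rw [h]; exact hx
      rw [mem_map_conj] at this
      simpa using this
    · intro hx
      have : x ∈ H.map (MulAut.conj g⁻¹).toMonoidHom := by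
        rw [mem_map_conj]; simpa using hx
      rwa [h] at this
  have h0 := hH.ti hG hCN g⁻¹ hne
  have hmem : k ∈ H ⊓ H.map (MulAut.conj g⁻¹).toMonoidHom := by
    rw [Subgroup.mem_inf]
    refine ⟨hk, ?_⟩
    rw [mem_map_conj]
    simpa using hgk
  rw [h0] at hmem
  exact Subgroup.mem_bot.mp hmem

theorem MaxNil.lt_normalizer (hG : IsMinSimpleOddOrder G) (hCN : IsCNGroup G) {H : Subgroup G}
    (hH : MaxNil H) : H < Subgroup.normalizer (H : Set G) :=
  lt_of_le_of_ne Subgroup.le_normalizer (hH.normalizer_ne hG hCN).symm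

/-- conjugacy of maximal nilpotent subgroups -/
def maxNilSetoid (G : Type u) [Group G] : Setoid {H : Subgroup G // MaxNil H} where
  r H H' := ∃ g : G, H'.1 = H.1.map (MulAut.conj g).toMonoidHom
  iseqv := by
    refine ⟨?_, ?_, ?_⟩
    · intro H
      refine ⟨1, ?_⟩
      ext x
      rw [mem_map_conj]
      simp
    · rintro H H' ⟨g, hg⟩
      refine ⟨g⁻¹, ?_⟩
      rw [hg, map_conj_map_conj_inv]
    · rintro H H' H'' ⟨g, hg⟩ ⟨g', hg'⟩
      refine ⟨g' * g, ?_⟩
      rw [hg', hg]
      ext x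
      rw [mem_map_conj, mem_map_conj, mem_map_conj]
      have : g⁻¹ * (g'⁻¹ * x * g') * g = (g' * g)⁻¹ * x * (g' * g) := by group
      rw [this]

/-- The family of representatives. -/
theorem exists_family (hG : IsMinSimpleOddOrder G) (hCN : IsCNGroup G) :
    ∃ (ι : Type u) (_ : Fintype ι) (_ : Nonempty ι) (K : ι → Subgroup G),
      (∀ i, MaxNil (K i)) ∧
      (∀ i j, i ≠ j → Nat.Coprime (Nat.card (K i)) (Nat.card (K j))) ∧
      (∀ g : G, g ≠ 1 → ∃ i, ∃ x : G, x * g * x⁻¹ ∈ K i) := by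
  classical
  haveI := hG.2.1
  let ι := Quotient (maxNilSetoid G)
  haveI : Finite ι := Quotient.finite _
  let K : ι → Subgroup G := fun q => (Quotient.out q).1
  have hK : ∀ i, MaxNil (K i) := fun q => (Quotient.out q).2
  have hrep : ∀ H : Subgroup G, MaxNil H → ∃ i, ∃ g : G,
      H = (K i).map (MulAut.conj g).toMonoidHom := by
    intro H hH
    refine ⟨Quotient.mk (maxNilSetoid G) ⟨H, hH⟩, ?_⟩
    have : (maxNilSetoid G).r (Quotient.out (Quotient.mk (maxNilSetoid G) ⟨H, hH⟩)) ⟨H, hH⟩ :=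
      Quotient.exact (Quotient.out_eq _)
    obtain ⟨g, hg⟩ := this
    exact ⟨g, hg⟩
  have hnc : ∀ i j, i ≠ j → ∀ g : G, K j ≠ (K i).map (MulAut.conj g).toMonoidHom := by
    intro i j hij g h
    apply hij
    have : (maxNilSetoid G).r (Quotient.out i) (Quotient.out j) := ⟨g, h⟩
    have h2 := Quotient.sound (s := maxNilSetoid G) this
    rwa [Quotient.out_eq, Quotient.out_eq] at h2
  refine ⟨ι, Fintype.ofFinite ι, ?_, K, hK, ?_, ?_⟩
  · obtain ⟨H, hH, _⟩ := exists_maxNil (G := G) (L := (⊥ : Subgroup G))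
      (isNilpotent_of_comm (fun a b => Subsingleton.elim _ _))
    exact ⟨Quotient.mk (maxNilSetoid G) ⟨H, hH⟩⟩
  · intro i j hij
    apply Nat.coprime_of_dvd
    intro p hp hpi hpj
    haveI : Fact p.Prime := ⟨hp⟩
    obtain ⟨Q, hQ⟩ := Cfsg.Agent.S1477.exists_sylow_le hCN _ (hK i).1 (hK i).2 hpi
    obtain ⟨Q', hQ'⟩ := Cfsg.Agent.S1477.exists_sylow_le hCN _ (hK j).1 (hK j).2 hpj
    obtain ⟨g, hg⟩ := MulAction.exists_smul_eq G Q Q'
    have hpG : p ∣ Nat.card G := dvd_trans hpj (Subgroup.card_subgroup_dvd_card _)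
    have hQ'1 : (Q' : Subgroup G) ≠ ⊥ := Q'.ne_bot_of_dvd_card hpG
    have hle : (Q' : Subgroup G) ≤ (K i).map (MulAut.conj g).toMonoidHom := by
      rw [← hg]
      show (Q : Subgroup G).map (MulAut.conj g).toMonoidHom ≤ _
      exact Subgroup.map_mono hQ
    have hne : K j ⊓ (K i).map (MulAut.conj g).toMonoidHom ≠ ⊥ := by
      intro h0
      apply hQ'1
      rw [eq_bot_iff, ← h0]
      exact le_inf hQ' hle
    have heq := (hK j).eq_of_inf_ne_bot hG hCN ((hK i).map_conj g) hne
    exact hnc i j hij g heq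
  · intro x hx
    have hnil : Group.IsNilpotent (Subgroup.zpowers x) := by
      apply isNilpotent_of_comm
      rintro ⟨a, ha⟩ ⟨b, hb⟩
      obtain ⟨i, rfl⟩ := Subgroup.mem_zpowers_iff.mp ha
      obtain ⟨j, rfl⟩ := Subgroup.mem_zpowers_iff.mp hb
      apply Subtype.ext
      show x ^ i * x ^ j = x ^ j * x ^ i
      rw [← zpow_add, ← zpow_add, add_comm]
    obtain ⟨H, hH, hxH⟩ := exists_maxNil hnil
    obtain ⟨i, g, hig⟩ := hrep H hH
    have h1 : x ∈ H := hxH (Subgroup.mem_zpowers x)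
    rw [hig, mem_map_conj] at h1
    refine ⟨i, g⁻¹, ?_⟩
    rw [inv_inv]
    exact h1

end Cfsg.Agent.Lib.Helper78.CNMin
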