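import Cfsg.Agent.Lib.Helper73.SlK5Defs
import Cfsg.Agent.Lib.Helper3.CharOps

/-! # Sl hive (helper76, S2332), sub-hive SL-K5 (helper73): leaf SL-K5-ABS `k5_abs` (helper78)

The character of `L` on the fixed space of a finite subgroup `Q` normalised by `ι(L)`. -/

set_option autoImplicit false

namespace Cfsg.Agent.Lib.Helper76.Sl

open Matrix Cfsg

/-- the representation-level statement behind `k5_abs` -/
theorem abs_core {G L : Type*} [Group G] [Group L] (Q : Subgroup G) (s : Finset G)
    (hs : ∀ x, x ∈ s ↔ x ∈ Q) (ι : L →* G) (hnorm : ∀ l : L, ∀ x ∈ Q, ι l * x * (ι l)⁻¹ ∈ Q)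
    {V : Type*} [AddCommGroup V] [Module ℂ V] [FiniteDimensional ℂ V] (ρ : Representation ℂ G V) :
    IsCharacter L (fun l => ((s.card : ℂ))⁻¹ * ∑ x ∈ s, ρ.character (x * ι l)) := by
  classical
  have h1s : (1 : G) ∈ s := (hs 1).mpr Q.one_mem
  have hcard : 0 < s.card := Finset.card_pos.mpr ⟨1, h1s⟩
  have hN0 : (s.card : ℂ) ≠ 0 := Nat.cast_ne_zero.mpr hcard.ne'
  -- the averaging operator
  obtain ⟨S, hS⟩ : ∃ S : V →ₗ[ℂ] V, S = ∑ x ∈ s, ρ x := ⟨_, rfl⟩
  obtain ⟨e, he⟩ : ∃ e : V →ₗ[ℂ] V, e = ((s.card : ℂ))⁻¹ • S := ⟨_, rfl⟩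
  have hyS : ∀ y ∈ Q, ρ y * S = S := by
    intro y hy
    rw [hS, Finset.mul_sum]
    refine Finset.sum_bij (fun x _ => y * x) ?_ ?_ ?_ ?_
    · intro x hx
      exact (hs _).mpr (Q.mul_mem hy ((hs x).mp hx))
    · intro a _ b _ h
      exact mul_left_cancel h
    · intro b hb
      exact ⟨y⁻¹ * b, (hs _).mpr (Q.mul_mem (Q.inv_mem hy) ((hs b).mp hb)), by simp⟩
    · intro x _
      rw [map_mul]
  have hSS : S * S = (s.card : ℂ) • S := by
    have h1 : S * S = ∑ y ∈ s, ρ y * S := by
      conv_lhs => rw [hS]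
      rw [Finset.sum_mul]
      rw [← hS]
    rw [h1, Finset.sum_congr rfl (fun y hy => hyS y ((hs y).mp hy)), Finset.sum_const,
      Nat.cast_smul_eq_nsmul]
  have hee : e * e = e := by
    rw [he, smul_mul_smul_comm, hSS, smul_smul]
    congr 1
    field_simp
  have hcommS : ∀ l : L, ρ (ι l) * S = S * ρ (ι l) := by
    intro l
    rw [hS, Finset.mul_sum, Finset.sum_mul]
    refine Finset.sum_bij (fun x _ => ι l * x * (ι l)⁻¹) ?_ ?_ ?_ ?_
    · intro x hx
      exact (hs _).mpr (hnorm l x ((hs x).mp hx))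
    · intro a _ b _ h
      exact mul_left_cancel (mul_right_cancel h)
    · intro b hb
      refine ⟨(ι l)⁻¹ * b * ι l, ?_, by group⟩
      have := hnorm l⁻¹ b ((hs b).mp hb)
      rw [map_inv, inv_inv] at this
      exact (hs _).mpr this
    · intro x _
      rw [← map_mul, ← map_mul]
      congr 1
      group
  have hcomm : ∀ l : L, ρ (ι l) * e = e * ρ (ι l) := by
    intro l
    rw [he, mul_smul_comm, smul_mul_assoc, hcommS]
  -- the fixed space
  obtain ⟨U, hUdef⟩ : ∃ U : Submodule ℂ V, U = LinearMap.range e := ⟨_, rfl⟩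
  have he_mem : ∀ v, e v ∈ U := by
    intro v
    rw [hUdef]
    exact LinearMap.mem_range_self e v
  have he_id : ∀ u ∈ U, e u = u := by
    intro u hu
    rw [hUdef] at hu
    obtain ⟨v, rfl⟩ := hu
    have := LinearMap.congr_fun hee v
    simpa [Module.End.mul_apply] using this
  have hU : ∀ l : L, ∀ u ∈ U, ρ (ι l) u ∈ U := by
    intro l u hu
    rw [← he_id u hu]
    have := LinearMap.congr_fun (hcomm l) u
    simp only [Module.End.mul_apply] at this
    rw [this]
    exact he_mem _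
  -- the representation of `L` on `U`
  let σ : Representation ℂ L U :=
    { toFun := fun l => (ρ (ι l)).restrict (hU l)
      map_one' := by
        apply LinearMap.ext
        intro u
        apply Subtype.ext
        rw [LinearMap.coe_restrict_apply]
        simp
      map_mul' := by
        intro a b
        apply LinearMap.ext
        intro u
        apply Subtype.ext
        rw [LinearMap.coe_restrict_apply, Module.End.mul_apply, LinearMap.coe_restrict_apply,
          LinearMap.coe_restrict_apply, map_mul, map_mul, Module.End.mul_apply] }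
  have hσ : ∀ l, σ l = (ρ (ι l)).restrict (hU l) := fun _ => rfl
  have hchar : σ.character = fun l => ((s.card : ℂ))⁻¹ * ∑ x ∈ s, ρ.character (x * ι l) := by
    funext l
    -- `f := e * ρ (ι l)` takes values in `U` and restricts to `ρ (ι l)` on `U`
    have hf : ∀ v, (e * ρ (ι l)) v ∈ U := fun v => he_mem _
    have hf' : ∀ u ∈ U, (e * ρ (ι l)) u ∈ U := fun u _ => hf u
    have hres : (e * ρ (ι l)).restrict hf' = σ l := by
      apply LinearMap.ext
      intro u
      apply Subtype.ext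
      rw [hσ, LinearMap.coe_restrict_apply, LinearMap.coe_restrict_apply, Module.End.mul_apply]
      exact he_id _ (hU l u u.2)
    have htr := LinearMap.trace_restrict_eq_of_forall_mem U (e * ρ (ι l)) hf hf'
    show LinearMap.trace ℂ U (σ l) = _
    rw [← hres, htr, he, smul_mul_assoc, map_smul, hS, Finset.sum_mul, map_sum, smul_eq_mul]
    congr 1
    apply Finset.sum_congr rfl
    intro x _
    rw [← map_mul]
    rfl
  rw [← hchar]
  exact Cfsg.Agent.Lib.Helper3.isCharacter_character σ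

/-- SL-K5-ABS -/
theorem k5_abs {G L : Type*} [Group G] [Group L] (Q : Subgroup G) (s : Finset G) (hs : ∀ x, x ∈ s ↔ x ∈ Q)
    (ι : L →* G) (hnorm : ∀ l : L, ∀ x ∈ Q, ι l * x * (ι l)⁻¹ ∈ Q)
    (χ : G → ℂ) (hχ : IsCharacter G χ) :
    IsCharacter L (fun l => ((s.card : ℂ))⁻¹ * ∑ x ∈ s, χ (x * ι l)) := by
  obtain ⟨n, ρ, rfl⟩ := hχ
  exact abs_core Q s hs ι hnorm ρ

end Cfsg.Agent.Lib.Helper76.Sl
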