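import Cfsg.Agent.Lib.Helper78.SlK3ROWcore
import Cfsg.Agent.Lib.Helper34.SlK3PARB

/-! # Sl hive (helper76, S2332), sub-hive SL-K3 (helper9): leaves K3-ROW `k3_row_sum` and K3-COL `k3_col_sum`
(helper78): the exact-name wrappers of `k3row_core` / `k3col_core` on the real PAR files. -/

set_option autoImplicit false

namespace Cfsg.Agent.Lib.Helper76.Sl

open Matrix Cfsg
open scoped ComplexConjugate

variable (F : Type*) [Field F] [Fintype F] [DecidableEq F]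

open Classical in
/-- K3-ROW -/
theorem k3_row_sum (m : ℕ) (e : AddChar F ℂ) (he : e ≠ 1) (χ : Gm F (m + 1) → ℂ)
    (α : Fin (m + 1) → F) :
    ∑ β, k3mu F m e χ α β = ((Fintype.card F : ℂ) ^ (m + 2))⁻¹ *
      ∑ g ∈ Finset.univ.filter (fun g : Gm F (m + 1) => g ∈ Qset F (m + 1)),
        χ g * conj (e (∑ j, α j * g.1 0 (k3mid m j))) :=
  k3row_core F m (k3hmat F m) (k3_sum_H F m) (k3_sum_Q F m) (k3hmat_a F m) (k3hmat_b F m) e he χ α

open Classical in
/-- K3-COL -/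
theorem k3_col_sum (m : ℕ) (e : AddChar F ℂ) (he : e ≠ 1) (χ : Gm F (m + 1) → ℂ)
    (β : Fin (m + 1) → F) :
    ∑ α, k3mu F m e χ α β = ((Fintype.card F : ℂ) ^ (m + 2))⁻¹ *
      ∑ g ∈ Finset.univ.filter (fun g : Gm F (m + 1) => g ∈ K3Qp F m),
        χ g * conj (e (∑ j, β j * g.1 (k3mid m j) (Fin.last (m + 2)))) :=
  k3col_core F m (k3hmat F m) (k3_sum_H F m) (k3_sum_Qp F m) (k3hmat_a F m) (k3hmat_b F m) e he χ β

end Cfsg.Agent.Lib.Helper76.Sl
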