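import Mathlib
import Cfsg.Agent.Lib.Helper78.CNChar8
import Cfsg.Agent.Lib.Helper25.IndNormal
import Cfsg.Agent.Lib.Helper3.Decomp
import Cfsg.Agent.S1528

set_option autoImplicit false
set_option linter.style.haveILetI false
set_option linter.unusedSectionVars false

/-!
For a T.I. subgroup `K` with Frobenius normalizer `N`: the characters of `N` induced from the
nonprincipal irreducible characters of `K` are exactly the irreducible characters of `N` that are
nontrivial on `K`.
-/

namespace Cfsg.Agent.Lib.Helper78.CNChar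

open Cfsg Cfsg.Agent.Lib.Helper3
open scoped ComplexConjugate

section frob

variable {L : Type*} [Group L] [Fintype L] (K : Subgroup L) [hKn : K.Normal] [Fintype K]

/-- In a group `L` with a normal subgroup `K` containing the centralizers of its nonidentity
elements, the characters induced from nonprincipal irreducible characters of `K` are irreducible
and nontrivial on `K`. -/
theorem induced_irr_of_frob
    (hC : ∀ n ∈ K, n ≠ 1 → Subgroup.centralizer ({n} : Set L) ≤ K)
    {θ : K → ℂ} (hθ : IsIrrCharacter K θ) (hθ1 : θ ≠ fun _ => 1) :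
    IsIrrCharacter L (indFun K θ) ∧ ∃ k ∈ K, indFun K θ k ≠ indFun K θ 1 := by
  classical
  have hchar : IsCharacter L (indFun K θ) := isCharacter_indFun K (IsIrrCharacter.isCharacter hθ)
  have hne0 : indFun K θ ≠ 0 := by
    intro h
    have h1 := congrFun h 1
    rw [Cfsg.Agent.Lib.Helper75.indFun_apply_one, Pi.zero_apply] at h1
    obtain ⟨d, hd0, hd⟩ := Cfsg.Agent.Lib.Helper25.irr_degree hθ
    rw [hd] at h1
    have hidx : (K.index : ℂ) ≠ 0 := by
      have : K.index ≠ 0 := Subgroup.index_ne_zero_of_finite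
      exact_mod_cast this
    have hdc : (d : ℂ) ≠ 0 := by exact_mod_cast hd0.ne'
    exact mul_ne_zero hidx hdc h1
  obtain ⟨χ, hχ, hχne⟩ := exists_irr_classInner_ne_zero (IsCharacter.isClassFunction hchar) hne0
  have hχcl := IsCharacter.isClassFunction (IsIrrCharacter.isCharacter hχ)
  rw [Cfsg.Agent.Lib.Helper25.frobenius_reciprocity K θ χ hχcl] at hχne
  -- `χ` is relevant
  have hrel : ∃ n ∈ K, χ n ≠ χ 1 := by
    by_contra hcon
    push Not at hcon
    apply hχne
    have h1 : (fun h : K => χ h) = (χ 1) • (fun _ : K => (1 : ℂ)) := by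
      funext k
      simp [hcon k k.2]
    rw [h1, classInner_smul_right, classInner_irr hθ isIrrCharacter_const_one, if_neg hθ1,
      mul_zero]
  obtain ⟨φ, hφ, hχφ⟩ := Cfsg.Agent.S1528.result K hC χ hχ hrel
  -- `θ` is a conjugate of `φ`
  have hres : (fun h : K => χ h) = (Nat.card K : ℂ)⁻¹ •
      ∑ x : L, Cfsg.Agent.Lib.Helper25.conjOn K φ x := by
    funext k
    rw [hχφ, Cfsg.Agent.Lib.Helper25.indFun_restrict_normal]
    simp [Finset.sum_apply]
  rw [hres, classInner_smul_right, classInner_sum_right] at hχne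
  have hex : ∃ x : L, classInner θ (Cfsg.Agent.Lib.Helper25.conjOn K φ x) ≠ 0 := by
    by_contra hcon
    push Not at hcon
    apply hχne
    rw [Finset.sum_eq_zero (fun x _ => hcon x), mul_zero]
  obtain ⟨x, hx⟩ := hex
  have hθx : θ = Cfsg.Agent.Lib.Helper25.conjOn K φ x := by
    by_contra hne
    apply hx
    rw [classInner_irr hθ (Cfsg.Agent.Lib.Helper25.conjOn_isIrr K hφ x), if_neg hne]
  have hind : indFun K θ = χ := by
    rw [hθx, Cfsg.Agent.Lib.Helper25.indFun_conjOn, hχφ]
  rw [hind]
  exact ⟨hχ, hrel⟩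

/-- The induced set equals the set of irreducible characters nontrivial on `K`. -/
theorem inducedIrrAbove_bot_eq
    (hC : ∀ n ∈ K, n ≠ 1 → Subgroup.centralizer ({n} : Set L) ≤ K) :
    inducedIrrAbove K ⊥ = {χ : L → ℂ | IsIrrCharacter L χ ∧ ∃ k ∈ K, χ k ≠ χ 1} := by
  classical
  ext χ
  constructor
  · rintro ⟨θ, hθ, hθ1, _, rfl⟩
    exact induced_irr_of_frob K hC hθ hθ1
  · rintro ⟨hχ, hrel⟩
    obtain ⟨φ, hφ, hχφ⟩ := Cfsg.Agent.S1528.result K hC χ hχ hrel
    refine ⟨φ, hφ, ?_, ?_, hχφ⟩
    · intro h1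
      obtain ⟨k, hk, hne⟩ := hrel
      apply hne
      rw [hχφ, h1, Cfsg.Agent.Lib.Helper75.indFun_const_one_apply,
        Cfsg.Agent.Lib.Helper75.indFun_const_one_apply, if_pos hk, if_pos K.one_mem]
    · intro a ha
      have : a = 1 := Subtype.ext (Subgroup.mem_bot.mp ha)
      rw [this]

end frob

section norm

variable {G : Type*} [Group G] [Fintype G] {K : Subgroup G}
  [Fintype ↥(Subgroup.normalizer (K : Set G))]

/-- The bridge between the two descriptions of the set of exceptional characters. -/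
theorem inducedIrrAbove_eq_relSet
    (hC : ∀ k ∈ K, k ≠ 1 → Subgroup.centralizer ({k} : Set G) ≤ K) :
    inducedIrrAbove (K.subgroupOf (Subgroup.normalizer (K : Set G))) ⊥ = relSet K := by
  haveI : (K.subgroupOf (Subgroup.normalizer (K : Set G))).Normal := Subgroup.normal_in_normalizer
  haveI : Fintype ↥(K.subgroupOf (Subgroup.normalizer (K : Set G))) := Fintype.ofFinite _
  rw [inducedIrrAbove_bot_eq (K.subgroupOf (Subgroup.normalizer (K : Set G)))]
  · ext χ
    constructor
    · rintro ⟨hχ, k, hk, hne⟩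
      exact ⟨hχ, k, Subgroup.mem_subgroupOf.mp hk, hne⟩
    · rintro ⟨hχ, k, hk, hne⟩
      exact ⟨hχ, k, Subgroup.mem_subgroupOf.mpr hk, hne⟩
  · intro n hn hn1 x hx
    rw [Subgroup.mem_centralizer_singleton_iff] at hx
    exact tifn_hF K hC n hn hn1 x hx

/-- Coherence of the induced set gives a coherence context. -/
theorem exists_cohCtx_of_induced
    (hTI : ∀ g : G, g ∉ Subgroup.normalizer (K : Set G) → ∀ k ∈ K, g * k * g⁻¹ ∈ K → k = 1)
    (hlt : K < Subgroup.normalizer (K : Set G))
    (hC : ∀ k ∈ K, k ≠ 1 → Subgroup.centralizer ({k} : Set G) ≤ K)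
    (hcoh : IsCoherent (inducedIrrAbove (K.subgroupOf (Subgroup.normalizer (K : Set G))) ⊥)
      ({1}ᶜ : Set ↥(Subgroup.normalizer (K : Set G)))
      (fun α : ↥(Subgroup.normalizer (K : Set G)) → ℂ =>
        indFun (Subgroup.normalizer (K : Set G)) α)) :
    ∃ star, CohCtx K (relSet K) star := by
  rw [inducedIrrAbove_eq_relSet hC] at hcoh
  exact exists_cohCtx_of_isCoherent hTI hlt hC hcoh

end norm

end Cfsg.Agent.Lib.Helper78.CNChar
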