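import Mathlib
import Cfsg.Agent.Lib.Helper78.CNChar9
import Cfsg.Agent.Lib.Helper25.IndIrr3
import Cfsg.Agent.Lib.Helper79.Basic

set_option autoImplicit false
set_option linter.style.haveILetI false
set_option linter.unusedSectionVars false

/-!
The master theorem: a family of T.I. subgroups with Frobenius normalizers, solvable, coherent,
of pairwise coprime orders, whose conjugates cover a group of odd order, does not exist.
-/

namespace Cfsg.Agent.Lib.Helper78.CNChar

open Cfsg Cfsg.Agent.Lib.Helper3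
open scoped ComplexConjugate

section deg

variable {G : Type*} [Group G] [Fintype G] {K : Subgroup G}
  [Fintype ↥(Subgroup.normalizer (K : Set G))]

/-- For solvable `K ≠ 1` there is a relevant irreducible character of `N_G(K)` of degree
`|N_G(K) : K|`. -/
theorem exists_relSet_deg
    (hC : ∀ k ∈ K, k ≠ 1 → Subgroup.centralizer ({k} : Set G) ≤ K)
    (hsolv : Group.IsSolvable K) (hK1 : K ≠ ⊥) :
    ∃ χ ∈ relSet K, χ 1 = ((K.subgroupOf (Subgroup.normalizer (K : Set G))).index : ℂ) := by
  haveI : (K.subgroupOf (Subgroup.normalizer (K : Set G))).Normal := Subgroup.normal_in_normalizer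
  haveI : Fintype ↥(K.subgroupOf (Subgroup.normalizer (K : Set G))) := Fintype.ofFinite _
  set K' := K.subgroupOf (Subgroup.normalizer (K : Set G)) with hK'
  let e : ↥K' ≃* ↥K := Subgroup.subgroupOfEquivOfLe Subgroup.le_normalizer
  have hsolv' : Group.IsSolvable ↥K' :=
    Group.isSolvable_of_isSolvable_injective (f := e.toMonoidHom) e.injective
  have hnt : (⊥ : Subgroup ↥K') ≠ ⊤ := by
    intro h
    apply hK1
    have h1 : Nat.card ↥K' = 1 := by
      rw [← Subgroup.card_top (G := ↥K'), ← h, Subgroup.card_bot]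
    have h2 : Nat.card ↥K = 1 := by rw [← Nat.card_congr e.toEquiv, h1]
    exact Subgroup.card_eq_one.mp h2
  obtain ⟨lam, hlam, _⟩ := Cfsg.Agent.Lib.Helper25.exists_linear_nontrivial hsolv'
    (⊥ : Subgroup ↥K') hnt
  set θ : ↥K' → ℂ := fun k => ((lam k : ℂˣ) : ℂ) with hθ
  have hθirr : IsIrrCharacter ↥K' θ := Cfsg.Agent.Lib.Helper79.isIrrCharacter_of_monoidHom lam
  have hθ1 : θ ≠ fun _ => 1 := by
    intro h
    apply hlam
    ext k
    have := congrFun h k
    simpa [hθ] using this
  have hC' : ∀ n ∈ K', n ≠ 1 → Subgroup.centralizer ({n} : Set ↥(Subgroup.normalizer (K : Set G)))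
      ≤ K' := by
    intro n hn hn1 x hx
    rw [Subgroup.mem_centralizer_singleton_iff] at hx
    exact tifn_hF K hC n hn hn1 x hx
  obtain ⟨hirr, k, hk, hne⟩ := induced_irr_of_frob K' hC' hθirr hθ1
  refine ⟨indFun K' θ, ⟨hirr, k, Subgroup.mem_subgroupOf.mp hk, hne⟩, ?_⟩
  rw [Cfsg.Agent.Lib.Helper75.indFun_apply_one]
  simp [hθ]

end deg

section master

variable {G : Type*} [Group G] [Fintype G] {ι : Type*} [Fintype ι] [Nonempty ι]
  (K : ι → Subgroup G) [∀ i, Fintype ↥(Subgroup.normalizer (K i : Set G))]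

/-- The master theorem. -/
theorem family_false (hodd : Odd (Nat.card G))
    (hTI : ∀ i, ∀ g : G, g ∉ Subgroup.normalizer (K i : Set G) → ∀ k ∈ K i,
      g * k * g⁻¹ ∈ K i → k = 1)
    (hlt : ∀ i, K i < Subgroup.normalizer (K i : Set G))
    (hC : ∀ i, ∀ k ∈ K i, k ≠ 1 → Subgroup.centralizer ({k} : Set G) ≤ K i)
    (hsolv : ∀ i, Group.IsSolvable (K i)) (hK1 : ∀ i, K i ≠ ⊥)
    (hcoh : ∀ i, IsCoherent
      (inducedIrrAbove ((K i).subgroupOf (Subgroup.normalizer (K i : Set G))) ⊥)
      ({1}ᶜ : Set ↥(Subgroup.normalizer (K i : Set G)))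
      (fun α : ↥(Subgroup.normalizer (K i : Set G)) → ℂ =>
        indFun (Subgroup.normalizer (K i : Set G)) α))
    (hcop : ∀ i j, i ≠ j → Nat.Coprime (Nat.card (K i)) (Nat.card (K j)))
    (hcover : ∀ g : G, g ≠ 1 → ∃ i, ∃ x : G, x * g * x⁻¹ ∈ K i) : False := by
  have hctx : ∀ i, ∃ star, CohCtx (K i) (relSet (K i)) star := fun i =>
    exists_cohCtx_of_induced (hTI i) (hlt i) (hC i) (hcoh i)
  choose star hstar using hctx
  have hχ : ∀ i, ∃ χ ∈ relSet (K i),
      χ 1 = (((K i).subgroupOf (Subgroup.normalizer (K i : Set G))).index : ℂ) :=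
    fun i => exists_relSet_deg (hC i) (hsolv i) (hK1 i)
  choose χ₀ hχ₀ hdeg using hχ
  have F : Fam K (fun i => relSet (K i)) star χ₀ :=
    { ctx := hstar
      odd := hodd
      cop := hcop
      cover := hcover
      mem := hχ₀
      deg := hdeg }
  exact F.false

end master

end Cfsg.Agent.Lib.Helper78.CNChar
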