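import Mathlib
import Cfsg.Agent.Lib.Helper78.CNChar10
import Cfsg.Agent.Lib.Helper78.CNFamily
import Cfsg.Agent.S0033

set_option autoImplicit false
set_option linter.style.haveILetI false
set_option linter.unusedSectionVars false

/-!
Consequences of Sibley's coherence theorem (taken as a hypothesis `SibleyHyp`): Peterfalvi (7.1)
and the nonexistence of minimal simple CN-groups of odd order.
-/

namespace Cfsg.Agent.Lib.Helper78.CNChar

open Cfsg Cfsg.Agent.Lib.Helper3
open scoped ComplexConjugate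

universe u

/-- The statement of Sibley's coherence theorem for the subgroups of a fixed group `G`. -/
def SibleyHyp (G : Type u) [Group G] [Fintype G] : Prop :=
  ∀ (H L W₁ : Subgroup G) [Fintype L], Odd (Nat.card L) → H ≤ L → W₁ ≤ L → H ≠ ⊥ → W₁ ≠ ⊥ →
    Group.IsNilpotent H → (∀ x ∈ L, ∀ h ∈ H, x * h * x⁻¹ ∈ H) → H ⊓ W₁ = ⊥ → H ⊔ W₁ = L →
    (∀ w ∈ W₁, w ≠ 1 → ∀ h ∈ H, w * h = h * w → h = 1) → IsTISubset (H : Set G) →
    Subgroup.normalizer (H : Set G) = L →
    IsCoherent (inducedIrrAbove (H.subgroupOf L) ⊥) {1}ᶜ (fun α : L → ℂ => indFun L α)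

section thompson

variable {N : Type u} [Group N] [Finite N] (K : Subgroup N) [hKn : K.Normal]

/-- A Frobenius kernel is nilpotent (Thompson). -/
theorem frobKer_isNilpotent
    (hF : ∀ k ∈ K, k ≠ 1 → ∀ x : N, x * k = k * x → x ∈ K) (hK : K ≠ ⊤) :
    Group.IsNilpotent K := by
  classical
  haveI : Fintype N := Fintype.ofFinite N
  by_cases hK1 : K = ⊥
  · subst hK1
    exact Cfsg.Agent.Lib.Helper78.CNMin.isNilpotent_of_comm (fun a b => Subsingleton.elim _ _)
  have hidx : K.index ≠ 1 := fun h => hK (Subgroup.index_eq_one.mp h)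
  set p := K.index.minFac with hp
  have hpp : p.Prime := Nat.minFac_prime hidx
  haveI : Fact p.Prime := ⟨hpp⟩
  have hpidx : p ∣ K.index := Nat.minFac_dvd _
  have hpN : p ∣ Nat.card N := dvd_trans hpidx (Subgroup.index_dvd_card K)
  obtain ⟨x, hx⟩ := exists_prime_orderOf_dvd_card' p hpN
  have hcop := frobKer_coprime K hF
  have hxK : x ∉ K := by
    intro h
    have h1 : p ∣ Nat.card K := by
      rw [← hx]; exact Subgroup.orderOf_dvd_natCard K h
    have h2 : p ∣ 1 := by
      have := Nat.dvd_gcd h1 hpidx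
      rwa [hcop] at this
    exact hpp.one_lt.ne' (Nat.dvd_one.mp h2)
  set φ : MulAut K := MulAut.conjNormal x with hφ
  have hfpf : MonoidHom.FixedPointFree ((φ : K ≃* K) : K →* K) := by
    intro k hk
    by_contra hk1
    apply hxK
    have h1 : ((φ k : K) : N) = (k : N) := congrArg Subtype.val hk
    rw [hφ, MulAut.conjNormal_apply] at h1
    apply hF (k : N) k.2 (fun h => hk1 (Subtype.ext h)) x
    calc x * (k : N) = (x * (k : N) * x⁻¹) * x := by group
      _ = (k : N) * x := by rw [h1]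
  have hord : orderOf φ = p := by
    have h1 : orderOf φ ∣ p := by
      rw [← hx, hφ]
      exact orderOf_map_dvd _ x
    rcases (Nat.dvd_prime hpp).mp h1 with h | h
    · exfalso
      have h2 : φ = 1 := orderOf_eq_one_iff.mp h
      obtain ⟨k, hk1⟩ := (Subgroup.ne_bot_iff_exists_ne_one).mp hK1
      apply hk1
      apply hfpf k
      rw [h2]
      rfl
    · exact h
  exact Cfsg.Agent.S0033.result φ hfpf p hpp hord

end thompson

section pet

variable {G : Type u} [Group G] [Fintype G]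

/-- Data for applying Sibley's theorem to a T.I. subgroup whose normalizer is a Frobenius group
with kernel `K`: nilpotency and a complement. -/
theorem frob_data {K : Subgroup G} (hlt : K < Subgroup.normalizer (K : Set G))
    (hC : ∀ k ∈ K, k ≠ 1 → Subgroup.centralizer ({k} : Set G) ≤ K) :
    Group.IsNilpotent K ∧ ∃ W₁ : Subgroup G, W₁ ≤ Subgroup.normalizer (K : Set G) ∧ W₁ ≠ ⊥ ∧
      K ⊓ W₁ = ⊥ ∧ K ⊔ W₁ = Subgroup.normalizer (K : Set G) ∧
      (∀ w ∈ W₁, w ≠ 1 → ∀ h ∈ K, w * h = h * w → h = 1) := by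
  classical
  haveI : (K.subgroupOf (Subgroup.normalizer (K : Set G))).Normal := Subgroup.normal_in_normalizer
  set N := Subgroup.normalizer (K : Set G) with hN
  set K' := K.subgroupOf N with hK'
  have hF := tifn_hF K hC
  have hK't : K' ≠ ⊤ := by
    intro h
    rw [hK', Subgroup.subgroupOf_eq_top] at h
    exact absurd hlt (not_lt_of_ge h)
  let e : ↥K' ≃* ↥K := Subgroup.subgroupOfEquivOfLe Subgroup.le_normalizer
  have hnil' : Group.IsNilpotent ↥K' := frobKer_isNilpotent K' hF hK't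
  have hnil : Group.IsNilpotent ↥K := Group.nilpotent_of_mulEquiv (_h := hnil') e
  refine ⟨hnil, ?_⟩
  haveI : Fintype ↥N := Fintype.ofFinite _
  have hcop := frobKer_coprime K' hF
  obtain ⟨E, hE⟩ := Subgroup.exists_right_complement'_of_coprime hcop
  have hdisj : K' ⊓ E = ⊥ := hE.disjoint.eq_bot
  refine ⟨E.map N.subtype, ?_, ?_, ?_, ?_, ?_⟩
  · rintro _ ⟨x, _, rfl⟩
    exact x.2
  · intro h
    have hE1 : E = ⊥ := by
      rw [eq_bot_iff]
      intro x hx
      have : (x : G) ∈ E.map N.subtype := ⟨x, hx, rfl⟩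
      rw [h, Subgroup.mem_bot] at this
      exact Subgroup.mem_bot.mpr (Subtype.ext this)
    apply hK't
    have h1 := hE.sup_eq_top
    rwa [hE1, sup_bot_eq] at h1
  · rw [eq_bot_iff]
    rintro y ⟨hyK, ⟨x, hx, rfl⟩⟩
    have : x ∈ K' ⊓ E := ⟨Subgroup.mem_subgroupOf.mpr hyK, hx⟩
    rw [hdisj, Subgroup.mem_bot] at this
    rw [this]
    exact Subgroup.mem_bot.mpr rfl
  · apply le_antisymm
    · apply sup_le Subgroup.le_normalizer
      rintro _ ⟨x, _, rfl⟩
      exact x.2
    · intro y hy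
      obtain ⟨⟨a, b⟩, hab, _⟩ := hE.existsUnique (⟨y, hy⟩ : ↥N)
      have h1 : y = ((a : ↥N) : G) * ((b : ↥N) : G) := by
        have := congrArg Subtype.val hab
        simpa using this.symm
      rw [h1]
      apply Subgroup.mul_mem_sup
      · exact Subgroup.mem_subgroupOf.mp a.2
      · exact ⟨b, b.2, rfl⟩
  · rintro w ⟨x, hx, rfl⟩ hw1 h hh hcomm
    by_contra hh1
    apply hw1
    have hxK : x ∈ K' := by
      rw [hK', Subgroup.mem_subgroupOf]
      apply hC h hh hh1
      rw [Subgroup.mem_centralizer_singleton_iff]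
      exact hcomm
    have : x ∈ K' ⊓ E := ⟨hxK, hx⟩
    rw [hdisj, Subgroup.mem_bot] at this
    rw [this]
    rfl

/-- Peterfalvi (7.1), assuming Sibley's theorem. -/
theorem peterfalvi_of_sibley (sib : SibleyHyp G) (hodd : Odd (Nat.card G))
    {ι : Type*} [Fintype ι] [Nonempty ι] (H : ι → Subgroup G)
    (hlt : ∀ i, H i < Subgroup.normalizer (H i : Set G)) (hH1 : ∀ i, H i ≠ ⊥)
    (hfrob : ∀ i, ∀ h ∈ H i, h ≠ 1 →
      Subgroup.normalizer (H i : Set G) ⊓ Subgroup.centralizer ({h} : Set G) ≤ H i)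
    (hcop : ∀ i j, i ≠ j → Nat.Coprime (Nat.card (H i)) (Nat.card (H j)))
    (hTI : ∀ i, IsTISubset (H i : Set G))
    (hcover : ∀ g : G, g ≠ 1 → ∃ i, ∃ x : G, x * g * x⁻¹ ∈ H i) : False := by
  classical
  haveI inst : ∀ i, Fintype ↥(Subgroup.normalizer (H i : Set G)) := fun i => Fintype.ofFinite _
  have hC : ∀ i, ∀ k ∈ H i, k ≠ 1 → Subgroup.centralizer ({k} : Set G) ≤ H i := by
    intro i k hk hk1 x hx
    have hxN : x ∈ Subgroup.normalizer (H i : Set G) := by
      by_contra hxN
      apply hk1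
      apply hTI i x hxN k hk
      rw [Subgroup.mem_centralizer_singleton_iff] at hx
      rw [hx, mul_inv_cancel_right]
      exact hk
    exact hfrob i k hk hk1 ⟨hxN, hx⟩
  have hdata := fun i => frob_data (hlt i) (hC i)
  have hcoh : ∀ i, IsCoherent
      (inducedIrrAbove ((H i).subgroupOf (Subgroup.normalizer (H i : Set G))) ⊥)
      ({1}ᶜ : Set ↥(Subgroup.normalizer (H i : Set G)))
      (fun α : ↥(Subgroup.normalizer (H i : Set G)) → ℂ =>
        indFun (Subgroup.normalizer (H i : Set G)) α) := by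
    intro i
    obtain ⟨hnil, W₁, hW₁N, hW1, hinf, hsup, hfpf⟩ := hdata i
    exact @sib (H i) (Subgroup.normalizer (H i : Set G)) W₁ (inst i)
      (Odd.of_dvd_nat hodd (Subgroup.card_subgroup_dvd_card _)) Subgroup.le_normalizer hW₁N
      (hH1 i) hW1 hnil
      (fun x hx h hh => ((Subgroup.mem_normalizer_iff.mp hx) h).mp hh) hinf hsup hfpf (hTI i) rfl
  exact family_false H hodd (fun i => hTI i) hlt hC
    (fun i => by haveI := (hdata i).1; infer_instance) hH1 hcoh hcop hcover

end pet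

end Cfsg.Agent.Lib.Helper78.CNChar
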