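import Cfsg.Agent.Lib.Helper72.E6gDefs
import Cfsg.Agent.Lib.Helper75.C2gGen

/-! # E6g mini-hive (S2406), leaf E6G-COMM: the orthogonal pairs of root elements commute -/

set_option autoImplicit false

namespace Cfsg.Agent.Lib.Helper72.E6g

open Cfsg Cfsg.Lie Cfsg.Agent.Lib.Helper36 Cfsg.Agent.Lib.Helper40.C2g

variable {K : Type*} [Field K]

/-- root elements of `E₆(K)` commute when the list of commutator terms is empty -/
theorem e6gcomm_aux (r s : ℕ) (hr : r < chevE6.nroots) (hs : s < chevE6.nroots) (hne1 : s ≠ r)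
    (hne2 : s ≠ chevE6.neg r) (hterms : chevE6.commTerms r s = []) (t u : K) :
    Commute (xe K r t) (xe K s u) :=
  (Cfsg.Agent.Lib.Helper67.C2g.xGL_comm_of_nil chevE6 hE6 K r s hr hs hne1 hne2 hterms t u).symm

/-- E6G-COMM: the orthogonal pairs commute -/
theorem comm_pairs (t u : K) :
    Commute (xe K 56 t) (xe K 36 u) ∧ Commute (xe K 15 t) (xe K 35 u) ∧ Commute (xe K 29 t) (xe K 34 u) := by
  refine ⟨?_, ?_, ?_⟩
  · exact e6gcomm_aux 56 36 (by decide) (by decide) (by decide) (by decide) (by decide) t u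
  · exact e6gcomm_aux 15 35 (by decide) (by decide) (by decide) (by decide) (by decide) t u
  · exact e6gcomm_aux 29 34 (by decide) (by decide) (by decide) (by decide) (by decide) t u

end Cfsg.Agent.Lib.Helper72.E6g
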