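import Cfsg.Agent.Lib.Helper83.FpDefs

/-! # Fp hive (helper83, S2276): leaf FP-ROT `rot_three_cycle` (helper78)

`y` = rotation `x ↦ (x + r) % L` of `[0, L)`, `0 < r < L < m`, `L ≠ 2 r`, `c = finRotate m`: then
`t = c * y * c⁻¹ * y⁻¹` is the 3-cycle `0 ↦ L ↦ r ↦ 0`, and `{0, r, L}` is not a coset of the subgroup of order 3. -/

set_option autoImplicit false

namespace Cfsg.Agent.Lib.Helper83.Fp

open Equiv

theorem fprot_mod (a L : ℕ) (h : a < 2 * L) : a % L = if a < L then a else a - L := by
  split_ifs with h1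
  · exact Nat.mod_eq_of_lt h1
  · rw [Nat.mod_eq_sub_mod (by omega)]
    exact Nat.mod_eq_of_lt (by omega)

theorem fprot_swap_val {k : ℕ} (a b x : Fin (k + 1)) :
    (swap a b x).val = if x.val = a.val then b.val else if x.val = b.val then a.val else x.val := by
  rw [swap_apply_def]
  by_cases h1 : x = a
  · rw [if_pos h1, if_pos (congrArg Fin.val h1)]
  · have h1' : ¬ x.val = a.val := fun h => h1 (Fin.ext h)
    rw [if_neg h1, if_neg h1']
    by_cases h2 : x = b
    · rw [if_pos h2, if_pos (congrArg Fin.val h2)]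
    · have h2' : ¬ x.val = b.val := fun h => h2 (Fin.ext h)
      rw [if_neg h2, if_neg h2']

/-- FP-ROT -/
theorem rot_three_cycle : RotStmt := by
  unfold RotStmt
  intro m H hc y hy r L hr hrL hLm hL2 hrot
  obtain ⟨k, rfl⟩ : ∃ k, m = k + 1 := ⟨m - 1, by omega⟩
  have hcv : ∀ x : Fin (k + 1), (finRotate (k + 1) x).val = if x.val = k then 0 else x.val + 1 := by
    intro x
    rw [coe_finRotate]
    by_cases h : x = Fin.last k
    · rw [if_pos h, if_pos (by rw [h]; rfl)]
    · have h' : ¬ x.val = k := fun hh => h (Fin.ext hh)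
      rw [if_neg h, if_neg h']
  have hyv : ∀ x : Fin (k + 1), (y x).val =
      if x.val < L then (if x.val + r < L then x.val + r else x.val + r - L) else x.val := by
    intro x
    rw [hrot x]
    by_cases h : x.val < L
    · rw [if_pos h, if_pos h, fprot_mod _ _ (by omega)]
    · rw [if_neg h, if_neg h]
  -- the three points
  obtain ⟨a0, ha0⟩ : ∃ a : Fin (k + 1), a.val = 0 := ⟨⟨0, by omega⟩, rfl⟩
  obtain ⟨ar, har⟩ : ∃ a : Fin (k + 1), a.val = r := ⟨⟨r, by omega⟩, rfl⟩
  obtain ⟨aL, haL⟩ : ∃ a : Fin (k + 1), a.val = L := ⟨⟨L, by omega⟩, rfl⟩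
  have h0r : a0 ≠ ar := fun h => by have := congrArg Fin.val h; omega
  have h0L : a0 ≠ aL := fun h => by have := congrArg Fin.val h; omega
  have hrL' : ar ≠ aL := fun h => by have := congrArg Fin.val h; omega
  obtain ⟨s, hs⟩ : ∃ s : Perm (Fin (k + 1)), s = swap a0 ar * swap a0 aL := ⟨_, rfl⟩
  have hsv : ∀ x : Fin (k + 1), (s x).val =
      if x.val = L then r else if x.val = 0 then L else if x.val = r then 0 else x.val := by
    intro x
    rw [hs, Perm.mul_apply, fprot_swap_val, fprot_swap_val, ha0, har, haL]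
    split_ifs <;> omega
  have hkey : ∀ x : Fin (k + 1), s (y (finRotate (k + 1) x)) = finRotate (k + 1) (y x) := by
    intro x
    apply Fin.ext
    rw [hsv, hyv, hcv, hcv, hyv]
    have hx := x.isLt
    split_ifs <;> first | omega | (exfalso; assumption)
  have ht : finRotate (k + 1) * y * (finRotate (k + 1))⁻¹ * y⁻¹ = s := by
    have h1 : finRotate (k + 1) * y = s * y * finRotate (k + 1) := by
      ext x
      simp only [Perm.mul_apply]
      rw [hkey x]
    rw [h1]
    group
  refine ⟨finRotate (k + 1) * y * (finRotate (k + 1))⁻¹ * y⁻¹,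
    H.mul_mem (H.mul_mem (H.mul_mem hc hy) (H.inv_mem hc)) (H.inv_mem hy), ?_, ?_⟩
  · rw [ht, hs]
    exact Equiv.Perm.isThreeCycle_swap_mul_swap_same h0r h0L hrL'
  · rw [ht]
    have hm0 : a0 ∈ s.support := by
      rw [Perm.mem_support]
      intro h
      have := congrArg Fin.val h
      rw [hsv, ha0] at this
      simp only [] at this
      split_ifs at this <;> omega
    have hmr : ar ∈ s.support := by
      rw [Perm.mem_support]
      intro h
      have := congrArg Fin.val h
      rw [hsv, har] at this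
      split_ifs at this <;> omega
    have hmL : aL ∈ s.support := by
      rw [Perm.mem_support]
      intro h
      have := congrArg Fin.val h
      rw [hsv, haL] at this
      split_ifs at this <;> omega
    by_cases h3 : 3 * r = k + 1 ∨ 3 * r = 2 * (k + 1)
    · refine ⟨a0, hm0, aL, hmL, ?_, ?_, ?_⟩ <;> rw [ha0, haL] <;> omega
    · refine ⟨a0, hm0, ar, hmr, ?_, ?_, ?_⟩ <;> rw [ha0, har] <;> omega

end Cfsg.Agent.Lib.Helper83.Fp
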