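import Mathlib

/-!
# Huppert's theorem on solvable transitive linear groups, part 1 (helper78)

Basic set-up: a finite group `G` with a representation `ρ : G →* (V ≃ₗ[ZMod q] V)` that is
transitive on the non-zero vectors.  Semiregularity of abelian normal subgroups and fixed-point
counting.
-/

set_option autoImplicit false

namespace Cfsg.Agent.Lib.Helper78.Hup

variable {q : ℕ} [Fact q.Prime] {V : Type*} [AddCommGroup V] [Module (ZMod q) V]
  {G : Type*} [Group G]

/-- transitivity on the non-zero vectors -/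
def Tr (ρ : G →* (V ≃ₗ[ZMod q] V)) : Prop :=
  ∀ v w : V, v ≠ 0 → w ≠ 0 → ∃ g : G, ρ g v = w

theorem rho_inv_apply (ρ : G →* (V ≃ₗ[ZMod q] V)) (g : G) (v : V) : ρ g⁻¹ (ρ g v) = v := by
  rw [← LinearEquiv.mul_apply, ← map_mul, inv_mul_cancel, map_one]; rfl

theorem rho_apply_inv (ρ : G →* (V ≃ₗ[ZMod q] V)) (g : G) (v : V) : ρ g (ρ g⁻¹ v) = v := by
  rw [← LinearEquiv.mul_apply, ← map_mul, mul_inv_cancel, map_one]; rfl

theorem rho_mul_apply (ρ : G →* (V ≃ₗ[ZMod q] V)) (g h : G) (v : V) :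
    ρ (g * h) v = ρ g (ρ h v) := by
  rw [map_mul, LinearEquiv.mul_apply]

theorem rho_one_apply (ρ : G →* (V ≃ₗ[ZMod q] V)) (v : V) : ρ 1 v = v := by
  rw [map_one]; rfl

/-- stabiliser of a vector inside a subgroup -/
def stab (ρ : G →* (V ≃ₗ[ZMod q] V)) (A : Subgroup G) (v : V) : Subgroup G where
  carrier := {a | a ∈ A ∧ ρ a v = v}
  mul_mem' := by
    rintro a b ⟨ha, ha'⟩ ⟨hb, hb'⟩
    refine ⟨A.mul_mem ha hb, ?_⟩
    rw [rho_mul_apply, hb', ha']
  one_mem' := ⟨A.one_mem, rho_one_apply ρ v⟩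
  inv_mem' := by
    rintro a ⟨ha, ha'⟩
    refine ⟨A.inv_mem ha, ?_⟩
    have := rho_inv_apply ρ a v
    rw [ha'] at this
    exact this

theorem mem_stab (ρ : G →* (V ≃ₗ[ZMod q] V)) (A : Subgroup G) (v : V) (a : G) :
    a ∈ stab ρ A v ↔ a ∈ A ∧ ρ a v = v := Iff.rfl

theorem stab_card_eq [Finite G] (ρ : G →* (V ≃ₗ[ZMod q] V)) (htr : Tr ρ) (A : Subgroup G)
    [hAn : A.Normal] {v w : V} (hv : v ≠ 0) (hw : w ≠ 0) :
    Nat.card (stab ρ A v) = Nat.card (stab ρ A w) := by
  obtain ⟨g, hg⟩ := htr v w hv hw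
  have h : stab ρ A w = (stab ρ A v).map (MulAut.conj g).toMonoidHom := by
    ext x
    rw [Subgroup.mem_map]
    constructor
    · rintro ⟨hxA, hx⟩
      refine ⟨g⁻¹ * x * g, ⟨?_, ?_⟩, ?_⟩
      · have := hAn.conj_mem x hxA g⁻¹
        simpa using this
      · rw [rho_mul_apply, rho_mul_apply, hg, hx, ← hg, rho_inv_apply]
      · simp [MulAut.conj_apply, mul_assoc]
    · rintro ⟨y, ⟨hyA, hy⟩, rfl⟩
      refine ⟨?_, ?_⟩
      · exact hAn.conj_mem y hyA g
      · show ρ (g * y * g⁻¹) w = w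
        rw [rho_mul_apply, rho_mul_apply, ← hg, rho_inv_apply, hy]
  rw [h, Subgroup.card_map_of_injective (MulAut.conj g).injective]

/-- **Semiregularity**: an abelian normal subgroup of a linear group that is transitive on the
non-zero vectors acts semiregularly on the non-zero vectors. -/
theorem semireg [Finite G] (ρ : G →* (V ≃ₗ[ZMod q] V)) (hρ : Function.Injective ρ) (htr : Tr ρ)
    (A : Subgroup G) [A.Normal] (hA : ∀ a ∈ A, ∀ b ∈ A, a * b = b * a) :
    ∀ a ∈ A, ∀ v : V, v ≠ 0 → ρ a v = v → a = 1 := by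
  intro a ha v hv hav
  by_contra ha1
  have hne : ρ a ≠ 1 := fun h => ha1 (hρ (h.trans (map_one ρ).symm))
  obtain ⟨w, hw⟩ : ∃ w, ρ a w ≠ w := by
    by_contra hcon
    push Not at hcon
    exact hne (LinearEquiv.ext hcon)
  have hw0 : w ≠ 0 := by
    rintro rfl
    exact hw (map_zero _)
  have hvw : v + w ≠ 0 := by
    intro h
    have h1 : w = -v := eq_neg_of_add_eq_zero_right h
    apply hw
    rw [h1, map_neg, hav]
  have hsub : ∀ u x : V, u ≠ 0 → x ≠ 0 → stab ρ A u ≤ stab ρ A x →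
      stab ρ A u = stab ρ A x := by
    intro u x hu hx hle
    exact Subgroup.eq_of_le_of_card_ge hle (stab_card_eq ρ htr A hx hu).le
  have hle : ∀ c ∈ stab ρ A (v + w), c ∈ stab ρ A v ∧ c ∈ stab ρ A w := by
    rintro c ⟨hcA, hc⟩
    rw [map_add] at hc
    have hx' : ρ c v - v = w - ρ c w := by
      rw [sub_eq_sub_iff_add_eq_add, hc, add_comm]
    by_cases hx0 : ρ c v - v = 0
    · refine ⟨⟨hcA, sub_eq_zero.mp hx0⟩, ⟨hcA, ?_⟩⟩
      have h2 := hx'.symm.trans hx0
      exact (sub_eq_zero.mp h2).symm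
    · exfalso
      have h1 : stab ρ A v ≤ stab ρ A (ρ c v - v) := by
        rintro b ⟨hbA, hb⟩
        refine ⟨hbA, ?_⟩
        rw [map_sub, hb, ← rho_mul_apply, hA b hbA c hcA, rho_mul_apply, hb]
      have h2 : stab ρ A w ≤ stab ρ A (ρ c v - v) := by
        rintro b ⟨hbA, hb⟩
        refine ⟨hbA, ?_⟩
        rw [hx', map_sub, hb, ← rho_mul_apply, hA b hbA c hcA, rho_mul_apply, hb]
      have e1 := hsub v _ hv hx0 h1
      have e2 := hsub w _ hw0 hx0 h2
      have h3 : a ∈ stab ρ A w := by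
        rw [e2, ← e1]
        exact ⟨ha, hav⟩
      exact hw h3.2
  have e1 : stab ρ A (v + w) = stab ρ A v := hsub _ _ hvw hv (fun c hc => (hle c hc).1)
  have e2 : stab ρ A (v + w) = stab ρ A w := hsub _ _ hvw hw0 (fun c hc => (hle c hc).2)
  have h3 : a ∈ stab ρ A w := by
    rw [← e2, e1]
    exact ⟨ha, hav⟩
  exact hw h3.2

/-- fixed-point counting for a map of prime-power order -/
theorem card_modEq_fixed {α : Type*} [Finite α] (f : α → α) (r k : ℕ) [Fact r.Prime]
    (hf : f^[r ^ k] = id) :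
    Nat.card α ≡ Nat.card {x : α // f x = x} [MOD r] := by
  classical
  let _ : Fintype α := Fintype.ofFinite α
  let F : Function.End α := f
  have h1 : F ^ r ^ k = 1 := by
    have := hom_coe_pow (fun g : Function.End α ↦ (g : α → α)) rfl (fun g h ↦ rfl) F (r ^ k)
    exact this.trans hf
  have h2 := Equiv.Perm.card_fixedPoints_modEq (f := F) (p := r) (n := k) h1
  rw [Nat.card_eq_fintype_card]
  have h3 : Nat.card {x : α // f x = x} = Fintype.card (Function.fixedPoints F) := by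
    rw [← Nat.card_eq_fintype_card]
    exact Nat.card_congr (Equiv.subtypeEquivRight (fun x => Iff.rfl))
  rw [h3]
  exact h2

end Cfsg.Agent.Lib.Helper78.Hup
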