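import Mathlib
import Cfsg.Agent.Lib.Helper78.Hup1
import Cfsg.Agent.Lib.Helper12.RegSolvA

/-!
# Huppert's theorem, part 2 (helper78): irreducibility, Zsigmondy elements, the semilinear
conclusion from an irreducible abelian normal subgroup.
-/

set_option autoImplicit false

namespace Cfsg.Agent.Lib.Helper78.Hup

variable {q : ℕ} [Fact q.Prime] {V : Type*} [AddCommGroup V] [Module (ZMod q) V]
  {G : Type*} [Group G]

/-- the fixed space of an element -/
def fixSub (ρ : G →* (V ≃ₗ[ZMod q] V)) (g : G) : Submodule (ZMod q) V where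
  carrier := {v | ρ g v = v}
  add_mem' := by
    intro a b ha hb
    show ρ g (a + b) = a + b
    rw [map_add, ha, hb]
  zero_mem' := map_zero _
  smul_mem' := by
    intro c v hv
    show ρ g (c • v) = c • v
    rw [map_smul, hv]

theorem mem_fixSub (ρ : G →* (V ≃ₗ[ZMod q] V)) (g : G) (v : V) :
    v ∈ fixSub ρ g ↔ ρ g v = v := Iff.rfl

theorem card_sub [Finite V] (W : Submodule (ZMod q) V) :
    Nat.card W = q ^ Module.finrank (ZMod q) W := by
  rw [Module.natCard_eq_pow_finrank (K := ZMod q) (V := W), Nat.card_zmod]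

theorem card_V [Finite V] : Nat.card V = q ^ Module.finrank (ZMod q) V := by
  rw [Module.natCard_eq_pow_finrank (K := ZMod q) (V := V), Nat.card_zmod]

theorem rho_pow_apply (ρ : G →* (V ≃ₗ[ZMod q] V)) (g : G) (k : ℕ) (v : V) :
    ρ (g ^ k) v = (ρ g)^[k] v := by
  induction k generalizing v with
  | zero => simp [rho_one_apply]
  | succ k ih =>
    rw [pow_succ, rho_mul_apply, ih, Function.iterate_succ_apply]

/-- fixed-point counting on an invariant subspace -/
theorem card_inv_modEq [Finite V] (ρ : G →* (V ≃ₗ[ZMod q] V)) (g : G) (r k : ℕ) [Fact r.Prime]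
    (hg : g ^ (r ^ k) = 1) (W : Submodule (ZMod q) V) (hW : ∀ v ∈ W, ρ g v ∈ W) :
    Nat.card W ≡ Nat.card ↥(W ⊓ fixSub ρ g) [MOD r] := by
  let f : W → W := fun w => ⟨ρ g w, hW w w.2⟩
  have hf : ∀ (m : ℕ) (w : W), ((f^[m] w : W) : V) = ρ (g ^ m) w := by
    intro m
    induction m with
    | zero => intro w; simp [rho_one_apply]
    | succ m ih =>
      intro w
      rw [Function.iterate_succ_apply', pow_succ', rho_mul_apply, ← ih]
  have hfr : f^[r ^ k] = id := by
    funext w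
    apply Subtype.ext
    rw [hf, hg, rho_one_apply]
    rfl
  have h1 := card_modEq_fixed f r k hfr
  have h2 : Nat.card {x : W // f x = x} = Nat.card ↥(W ⊓ fixSub ρ g) := by
    apply Nat.card_congr
    refine ⟨fun x => ⟨x.1.1, ⟨x.1.2, congrArg Subtype.val x.2⟩⟩,
      fun y => ⟨⟨y.1, y.2.1⟩, Subtype.ext y.2.2⟩, fun x => rfl, fun y => rfl⟩
  rw [← h2]
  exact h1

theorem dvd_pow_sub_one_of_modEq {r j k : ℕ} (hr : r.Prime) (hrq : r ≠ q) (hjk : j ≤ k)
    (h : q ^ k ≡ q ^ j [MOD r]) : r ∣ q ^ (k - j) - 1 := by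
  have hq : q.Prime := Fact.out
  have h1 : r ∣ q ^ k - q ^ j :=
    (Nat.modEq_iff_dvd' (Nat.pow_le_pow_right hq.pos hjk)).mp h.symm
  have h2 : q ^ k - q ^ j = q ^ j * (q ^ (k - j) - 1) := by
    rw [Nat.mul_sub, mul_one, ← pow_add, Nat.add_sub_cancel' hjk]
  rw [h2] at h1
  have hcop : Nat.Coprime r (q ^ j) :=
    Nat.Coprime.pow_right _ ((Nat.coprime_primes hr hq).mpr hrq)
  exact hcop.dvd_of_dvd_mul_left h1

/-- a Zsigmondy element fixes no non-zero vector and is irreducible -/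
theorem zsig_irred [Finite V] (ρ : G →* (V ≃ₗ[ZMod q] V)) (hρ : Function.Injective ρ)
    (r : ℕ) [hr : Fact r.Prime] (hrq : r ≠ q)
    (hrk : ∀ k, 0 < k → k < Module.finrank (ZMod q) V → ¬ r ∣ q ^ k - 1)
    (g : G) (hg : g ^ r = 1) (hg1 : g ≠ 1) :
    fixSub ρ g = ⊥ ∧
    ∀ W : Submodule (ZMod q) V, (∀ v ∈ W, ρ g v ∈ W) → W = ⊥ ∨ W = ⊤ := by
  have hg' : g ^ (r ^ 1) = 1 := by rw [pow_one]; exact hg
  have key : ∀ W : Submodule (ZMod q) V, (∀ v ∈ W, ρ g v ∈ W) →
      Module.finrank (ZMod q) ↥(W ⊓ fixSub ρ g) = Module.finrank (ZMod q) W ∨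
      Module.finrank (ZMod q) V ≤
        Module.finrank (ZMod q) W - Module.finrank (ZMod q) ↥(W ⊓ fixSub ρ g) := by
    intro W hW
    have h1 := card_inv_modEq ρ g r 1 hg' W hW
    rw [card_sub, card_sub] at h1
    have hle : Module.finrank (ZMod q) ↥(W ⊓ fixSub ρ g) ≤ Module.finrank (ZMod q) W :=
      Submodule.finrank_mono inf_le_left
    have h2 := dvd_pow_sub_one_of_modEq hr.out hrq hle h1
    by_contra hcon
    push Not at hcon
    have h3 : 0 < Module.finrank (ZMod q) W - Module.finrank (ZMod q) ↥(W ⊓ fixSub ρ g) := by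
      have := hcon.1
      omega
    exact hrk _ h3 hcon.2 h2
  have hfix : fixSub ρ g = ⊥ := by
    have h1 := key ⊤ (fun v _ => Submodule.mem_top)
    rw [top_inf_eq, finrank_top] at h1
    rcases h1 with h1 | h1
    · exfalso
      have h2 : fixSub ρ g = ⊤ := Submodule.eq_top_of_finrank_eq h1
      apply hg1
      apply hρ
      rw [map_one]
      apply LinearEquiv.ext
      intro v
      have : v ∈ fixSub ρ g := by rw [h2]; trivial
      exact this
    · have h2 : Module.finrank (ZMod q) ↥(fixSub ρ g) = 0 := by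
        have := Submodule.finrank_le (fixSub ρ g)
        omega
      exact Submodule.finrank_eq_zero.mp h2
  refine ⟨hfix, ?_⟩
  intro W hW
  have h1 := key W hW
  rw [hfix, inf_bot_eq, finrank_bot] at h1
  rcases h1 with h1 | h1
  · left
    exact Submodule.finrank_eq_zero.mp h1.symm
  · right
    apply Submodule.eq_top_of_finrank_eq
    have := Submodule.finrank_le W
    omega

/-- a transitive linear group is irreducible -/
theorem irred_of_tr (ρ : G →* (V ≃ₗ[ZMod q] V)) (htr : Tr ρ) (W : Submodule (ZMod q) V)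
    (hW : ∀ g : G, ∀ v ∈ W, ρ g v ∈ W) : W = ⊥ ∨ W = ⊤ := by
  by_cases h : W = ⊥
  · exact Or.inl h
  · right
    obtain ⟨w, hw, hw0⟩ := Submodule.exists_mem_ne_zero_of_ne_bot h
    rw [eq_top_iff]
    intro v _
    by_cases hv : v = 0
    · rw [hv]; exact W.zero_mem
    · obtain ⟨g, hg⟩ := htr w v hw0 hv
      rw [← hg]
      exact hW g w hw

/-- a `q`-element of an abelian normal subgroup is trivial -/
theorem qpow_trivial [Finite V] [Nontrivial V] [Finite G] (ρ : G →* (V ≃ₗ[ZMod q] V))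
    (hρ : Function.Injective ρ) (htr : Tr ρ)
    (A : Subgroup G) [A.Normal] (hA : ∀ a ∈ A, ∀ b ∈ A, a * b = b * a)
    (a : G) (ha : a ∈ A) (k : ℕ) (hak : a ^ (q ^ k) = 1) : a = 1 := by
  have hq : q.Prime := Fact.out
  have h1 := card_inv_modEq ρ a q k hak ⊤ (fun v _ => Submodule.mem_top)
  rw [top_inf_eq, card_sub, card_sub, finrank_top] at h1
  have hpos : 0 < Module.finrank (ZMod q) V := Module.finrank_pos
  have h2 : q ^ Module.finrank (ZMod q) V ≡ 0 [MOD q] :=
    (Nat.modEq_zero_iff_dvd).mpr (dvd_pow_self q hpos.ne')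
  have h3 : q ∣ q ^ Module.finrank (ZMod q) ↥(fixSub ρ a) :=
    (Nat.modEq_zero_iff_dvd).mp (h1.symm.trans h2)
  have h4 : Module.finrank (ZMod q) ↥(fixSub ρ a) ≠ 0 := by
    intro h0
    rw [h0, pow_zero] at h3
    exact hq.one_lt.ne' (Nat.dvd_one.mp h3)
  have h5 : fixSub ρ a ≠ ⊥ := fun h => h4 (Submodule.finrank_eq_zero.mpr h)
  obtain ⟨v, hv, hv0⟩ := Submodule.exists_mem_ne_zero_of_ne_bot h5
  exact semireg ρ hρ htr A hA a ha v hv0 hv

/-- the semilinear conclusion from an irreducible abelian normal subgroup -/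
theorem concl_of_irred {V : Type*} [AddCommGroup V] [Module (ZMod q) V] [Finite V]
    [Nontrivial V] (ρ : G →* (V ≃ₗ[ZMod q] V))
    (A : Subgroup G) [hAn : A.Normal] (hA : ∀ a ∈ A, ∀ b ∈ A, a * b = b * a)
    (hirr : ∀ W : Submodule (ZMod q) V, (∀ a ∈ A, ∀ v ∈ W, ρ a v ∈ W) → W = ⊥ ∨ W = ⊤) :
    ∃ (F : Type) (_ : Field F) (_ : Fintype F) (e : V ≃+ F),
      ∀ g : G, ∃ (a : F) (σ : F ≃+* F), ∀ v : V, e (ρ g v) = a * σ (e v) := by
  let H : Subgroup (V ≃ₗ[ZMod q] V) := ρ.range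
  let A' : Subgroup H := A.map ρ.rangeRestrict
  have hA'n : A'.Normal := Subgroup.Normal.map hAn _ ρ.rangeRestrict_surjective
  have hA'c : ∀ a ∈ A', ∀ b ∈ A', a * b = b * a := by
    rintro _ ⟨a, ha, rfl⟩ _ ⟨b, hb, rfl⟩
    rw [← map_mul, ← map_mul, hA a ha b hb]
  have hirr' : ∀ W : Submodule (ZMod q) V,
      (∀ n ∈ A', ∀ v ∈ W, ((n : H) : V ≃ₗ[ZMod q] V) v ∈ W) → W = ⊥ ∨ W = ⊤ := by
    intro W hW
    apply hirr W
    intro a ha v hv
    exact hW (ρ.rangeRestrict a) ⟨a, ha, rfl⟩ v hv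
  obtain ⟨F, fF, ftF, e, he⟩ :=
    Cfsg.Agent.Lib.Helper12.RegSolv.gammaL_of_irreducible H A' hA'n hA'c hirr'
  refine ⟨F, fF, ftF, e, ?_⟩
  intro g
  exact he (ρ.rangeRestrict g)

end Cfsg.Agent.Lib.Helper78.Hup
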