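import Mathlib
import Cfsg.Agent.Lib.Helper78.Hup2

/-!
# Huppert's theorem, part 3 (helper78): coprime action on abelian groups; an irreducible element
of prime order centralises invariant abelian subgroups of coprime order.
-/

set_option autoImplicit false

namespace Cfsg.Agent.Lib.Helper78.Hup

variable {q : ℕ} [Fact q.Prime] {V : Type*} [AddCommGroup V] [Module (ZMod q) V]
  {G : Type*} [Group G]

/-- the subgroup `[B, h]` of an abelian subgroup `B` normalised by `h` -/
def commSub (B : Subgroup G) (h : G) (hB : ∀ a ∈ B, ∀ b ∈ B, a * b = b * a)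
    (hn : ∀ b ∈ B, h * b * h⁻¹ ∈ B) : Subgroup G where
  carrier := {x | ∃ b ∈ B, x = h * b * h⁻¹ * b⁻¹}
  mul_mem' := by
    rintro _ _ ⟨b, hb, rfl⟩ ⟨b', hb', rfl⟩
    refine ⟨b * b', B.mul_mem hb hb', ?_⟩
    calc h * b * h⁻¹ * b⁻¹ * (h * b' * h⁻¹ * b'⁻¹)
        = h * b * h⁻¹ * (b⁻¹ * (h * b' * h⁻¹)) * b'⁻¹ := by group
      _ = h * b * h⁻¹ * ((h * b' * h⁻¹) * b⁻¹) * b'⁻¹ := by
          rw [hB b⁻¹ (B.inv_mem hb) (h * b' * h⁻¹) (hn b' hb')]
      _ = h * (b * b') * h⁻¹ * (b⁻¹ * b'⁻¹) := by group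
      _ = h * (b * b') * h⁻¹ * (b * b')⁻¹ := by
          rw [mul_inv_rev, hB b'⁻¹ (B.inv_mem hb') b⁻¹ (B.inv_mem hb)]
  one_mem' := ⟨1, B.one_mem, by group⟩
  inv_mem' := by
    rintro _ ⟨b, hb, rfl⟩
    refine ⟨b⁻¹, B.inv_mem hb, ?_⟩
    calc (h * b * h⁻¹ * b⁻¹)⁻¹ = b * (h * b⁻¹ * h⁻¹) := by group
      _ = (h * b⁻¹ * h⁻¹) * b := hB b hb _ (hn _ (B.inv_mem hb))
      _ = h * b⁻¹ * h⁻¹ * b⁻¹⁻¹ := by group

section commSub

variable (B : Subgroup G) (h : G) (hB : ∀ a ∈ B, ∀ b ∈ B, a * b = b * a)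
    (hn : ∀ b ∈ B, h * b * h⁻¹ ∈ B)

theorem mem_commSub (x : G) : x ∈ commSub B h hB hn ↔ ∃ b ∈ B, x = h * b * h⁻¹ * b⁻¹ := Iff.rfl

theorem commSub_le : commSub B h hB hn ≤ B := by
  rintro _ ⟨b, hb, rfl⟩
  exact B.mul_mem (hn b hb) (B.inv_mem hb)

theorem commSub_conj (x : G) (hx : x ∈ commSub B h hB hn) : h * x * h⁻¹ ∈ commSub B h hB hn := by
  obtain ⟨b, hb, rfl⟩ := hx
  refine ⟨h * b * h⁻¹, hn b hb, ?_⟩
  group

theorem commSub_conj' (hn' : ∀ b ∈ B, h⁻¹ * b * h ∈ B) (x : G) (hx : x ∈ commSub B h hB hn) :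
    h⁻¹ * x * h ∈ commSub B h hB hn := by
  obtain ⟨b, hb, rfl⟩ := hx
  refine ⟨h⁻¹ * b * h, hn' b hb, ?_⟩
  group

theorem commSub_conj_pow (x : G) (hx : x ∈ commSub B h hB hn) (i : ℕ) :
    h ^ i * x * (h ^ i)⁻¹ ∈ commSub B h hB hn := by
  induction i with
  | zero => simpa using hx
  | succ i ih =>
    have := commSub_conj B h hB hn _ ih
    have e : h ^ (i + 1) * x * (h ^ (i + 1))⁻¹ = h * (h ^ i * x * (h ^ i)⁻¹) * h⁻¹ := by
      rw [pow_succ']; group
    rw [e]; exact this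

/-- `h` acts fixed-point-freely on `[B, h]` when `h ^ r = 1` and `r` is coprime to `|B|` -/
theorem commSub_fpf [Finite B] (r : ℕ) (hr : h ^ r = 1) (hcop : (Nat.card B).Coprime r)
    (x : G) (hx : x ∈ commSub B h hB hn) (hfix : h * x * h⁻¹ = x) : x = 1 := by
  obtain ⟨b, hb, rfl⟩ := hx
  set x := h * b * h⁻¹ * b⁻¹ with hxdef
  have hxB : x ∈ B := B.mul_mem (hn b hb) (B.inv_mem hb)
  have key : ∀ i : ℕ, h ^ i * b * (h ^ i)⁻¹ = b * x ^ i := by
    intro i
    induction i with
    | zero => simp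
    | succ i ih =>
      have e1 : h ^ (i + 1) * b * (h ^ (i + 1))⁻¹ = h * (h ^ i * b * (h ^ i)⁻¹) * h⁻¹ := by
        rw [pow_succ']; group
      have e2 : h * (b * x ^ i) * h⁻¹ = (h * b * h⁻¹) * (h * x * h⁻¹) ^ i := by
        rw [conj_pow]; group
      have e3 : h * b * h⁻¹ = x * b := by rw [hxdef]; group
      rw [e1, ih, e2, hfix, e3, hB x hxB b hb, mul_assoc, ← pow_succ']
  have h1 := key r
  rw [hr] at h1
  have h2 : x ^ r = 1 := by
    have : b * 1 = b * x ^ r := by simpa using h1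
    exact (mul_left_cancel this).symm
  have h3 : x ^ Nat.card B = 1 := by
    have : (⟨x, hxB⟩ : B) ^ Nat.card B = 1 := pow_card_eq_one'
    exact congrArg Subtype.val this
  have h4 : orderOf x ∣ Nat.gcd (Nat.card B) r :=
    Nat.dvd_gcd (orderOf_dvd_of_pow_eq_one h3) (orderOf_dvd_of_pow_eq_one h2)
  rw [hcop] at h4
  exact orderOf_eq_one_iff.mp (Nat.dvd_one.mp h4)

/-- the order of `[B, h]` is `1` modulo the prime `r` -/
theorem commSub_card_modEq [Finite B] (r : ℕ) [Fact r.Prime] (hr : h ^ r = 1)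
    (hcop : (Nat.card B).Coprime r) :
    Nat.card (commSub B h hB hn) ≡ 1 [MOD r] := by
  have : Finite (commSub B h hB hn) :=
    Finite.of_injective (fun x => (⟨x.1, commSub_le B h hB hn x.2⟩ : B))
      (fun x y hxy => Subtype.ext (congrArg (fun z : B => (z : G)) hxy))
  let f : commSub B h hB hn → commSub B h hB hn :=
    fun x => ⟨h * x * h⁻¹, commSub_conj B h hB hn x x.2⟩
  have hf : ∀ (m : ℕ) (x : commSub B h hB hn),
      ((f^[m] x : commSub B h hB hn) : G) = h ^ m * x * (h ^ m)⁻¹ := by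
    intro m
    induction m with
    | zero => intro x; simp
    | succ m ih =>
      intro x
      rw [Function.iterate_succ_apply', pow_succ']
      show h * ((f^[m] x : commSub B h hB hn) : G) * h⁻¹ = _
      rw [ih]; group
  have hfr : f^[r ^ 1] = id := by
    funext x
    apply Subtype.ext
    rw [hf, pow_one, hr]
    simp
  have h1 := card_modEq_fixed f r 1 hfr
  have h2 : Nat.card {x : commSub B h hB hn // f x = x} = 1 := by
    rw [Nat.card_eq_one_iff_unique]
    refine ⟨⟨?_⟩, ⟨⟨1, ?_⟩⟩⟩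
    · rintro ⟨x, hx⟩ ⟨y, hy⟩
      have hx1 : (x : G) = 1 :=
        commSub_fpf B h hB hn r hr hcop x x.2 (congrArg Subtype.val hx)
      have hy1 : (y : G) = 1 :=
        commSub_fpf B h hB hn r hr hcop y y.2 (congrArg Subtype.val hy)
      apply Subtype.ext
      apply Subtype.ext
      rw [hx1, hy1]
    · apply Subtype.ext
      show h * ((1 : commSub B h hB hn) : G) * h⁻¹ = _
      simp
  rw [h2] at h1
  exact h1

end commSub

/-- cyclic shift of a sum over the powers of an element of order dividing `r` -/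
theorem sum_pow_fixed (ρ : G →* (V ≃ₗ[ZMod q] V)) (g : G) (r : ℕ) (hg : g ^ r = 1) (w : V) :
    ρ g (∑ i ∈ Finset.range r, ρ (g ^ i) w) = ∑ i ∈ Finset.range r, ρ (g ^ i) w := by
  rw [map_sum]
  have h1 : ∀ i, ρ g (ρ (g ^ i) w) = ρ (g ^ (i + 1)) w := by
    intro i
    rw [pow_succ', rho_mul_apply]
  simp only [h1]
  have h2 := Finset.sum_range_succ (fun i => ρ (g ^ i) w) r
  have h3 := Finset.sum_range_succ' (fun i => ρ (g ^ i) w) r
  rw [h2] at h3
  simp only [hg, pow_zero] at h3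
  exact (add_right_cancel h3).symm

/-- **Key lemma**: an irreducible element `g` of prime order `r` centralises every abelian
subgroup that it normalises and whose order is coprime to `r` and to `q`. -/
theorem centralizes_of_irred [Finite V] [Nontrivial V] [Finite G] (ρ : G →* (V ≃ₗ[ZMod q] V))
    (hρ : Function.Injective ρ) (r : ℕ) [hr : Fact r.Prime] (g : G) (hg : g ^ r = 1)
    (hirr : ∀ W : Submodule (ZMod q) V, (∀ v ∈ W, ρ g v ∈ W) → W = ⊥ ∨ W = ⊤)
    (B : Subgroup G) (hB : ∀ a ∈ B, ∀ b ∈ B, a * b = b * a)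
    (hn : ∀ b ∈ B, g * b * g⁻¹ ∈ B) (hn' : ∀ b ∈ B, g⁻¹ * b * g ∈ B)
    (hcr : (Nat.card B).Coprime r) (hcq : (Nat.card B).Coprime q) :
    ∀ b ∈ B, g * b = b * g := by
  classical
  by_contra hcon
  push Not at hcon
  obtain ⟨b₀, hb₀, hb₀g⟩ := hcon
  have hg1 : g ≠ 1 := by
    rintro rfl
    exact hb₀g (by simp)
  let K := commSub B g hB hn
  have hKB : K ≤ B := commSub_le B g hB hn
  have hfpf : ∀ x ∈ K, g * x * g⁻¹ = x → x = 1 :=
    fun x hx => commSub_fpf B g hB hn r hg hcr x hx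
  have hKne : ∃ x ∈ K, x ≠ 1 := by
    refine ⟨g * b₀ * g⁻¹ * b₀⁻¹, ⟨b₀, hb₀, rfl⟩, ?_⟩
    intro h
    apply hb₀g
    have : g * b₀ * g⁻¹ = b₀ := by
      have := congrArg (· * b₀) h
      simpa using this
    calc g * b₀ = g * b₀ * g⁻¹ * g := by group
      _ = b₀ * g := by rw [this]
  -- (1) the fixed space of `g` is trivial
  have hfix : fixSub ρ g = ⊥ := by
    rcases hirr (fixSub ρ g) (fun v hv => by
      rw [mem_fixSub] at hv ⊢
      rw [hv, hv]) with h | h
    · exact h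
    · exfalso
      apply hg1
      apply hρ
      rw [map_one]
      apply LinearEquiv.ext
      intro v
      have : v ∈ fixSub ρ g := by rw [h]; trivial
      exact this
  -- (2) the fixed space of `K` is trivial
  let CK : Submodule (ZMod q) V :=
    { carrier := {v | ∀ y ∈ K, ρ y v = v}
      add_mem' := by
        intro a b ha hb y hy
        rw [map_add, ha y hy, hb y hy]
      zero_mem' := fun y _ => map_zero _
      smul_mem' := by
        intro c v hv y hy
        rw [map_smul, hv y hy] }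
  have hCK : CK = ⊥ := by
    rcases hirr CK (by
      intro v hv y hy
      have h1 : g⁻¹ * y * g ∈ K := commSub_conj' B g hB hn hn' y hy
      have h2 := hv _ h1
      have h3 : ρ y (ρ g v) = ρ g (ρ (g⁻¹ * y * g) v) := by
        rw [← rho_mul_apply, ← rho_mul_apply]
        congr 2
        group
      rw [h3, h2]) with h | h
    · exact h
    · exfalso
      obtain ⟨x, hxK, hx1⟩ := hKne
      apply hx1
      apply hρ
      rw [map_one]
      apply LinearEquiv.ext
      intro v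
      have : v ∈ CK := by rw [h]; trivial
      exact this x hxK
  have : Finite K := Finite.of_injective (fun x : K => (x : G)) Subtype.val_injective
  let _ : Fintype K := Fintype.ofFinite K
  -- (3) sums over `K` vanish
  have hsumK : ∀ v : V, ∑ y : K, ρ (y : G) v = 0 := by
    intro v
    have h1 : ∑ y : K, ρ (y : G) v ∈ CK := by
      intro y' hy'
      rw [map_sum]
      have h2 : ∀ y : K, ρ y' (ρ (y : G) v) = ρ (((Equiv.mulLeft (⟨y', hy'⟩ : K)) y : K) : G) v := by
        intro y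
        rw [← rho_mul_apply]
        rfl
      simp only [h2]
      exact Equiv.sum_comp (Equiv.mulLeft (⟨y', hy'⟩ : K)) (fun y : K => ρ (y : G) v)
    rw [hCK] at h1
    exact (Submodule.mem_bot _).mp h1
  -- (4) sums over the powers of a conjugate of `g` vanish
  have hsumg : ∀ (y : G) (v : V), ∑ i ∈ Finset.range r, ρ (y * g ^ i * y⁻¹) v = 0 := by
    intro y v
    have h1 : ∑ i ∈ Finset.range r, ρ (g ^ i) (ρ y⁻¹ v) ∈ fixSub ρ g :=
      sum_pow_fixed ρ g r hg _
    rw [hfix] at h1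
    have h2 := (Submodule.mem_bot _).mp h1
    have h3 : ∑ i ∈ Finset.range r, ρ (y * g ^ i * y⁻¹) v =
        ρ y (∑ i ∈ Finset.range r, ρ (g ^ i) (ρ y⁻¹ v)) := by
      rw [map_sum]
      apply Finset.sum_congr rfl
      intro i _
      rw [rho_mul_apply, rho_mul_apply]
    rw [h3, h2, map_zero]
  -- (5) the double sum
  have hord : orderOf g = r := orderOf_eq_prime hg hg1
  have hinner : ∀ i, 0 < i → i < r → ∀ v : V, ∑ y : K, ρ ((y : G) * g ^ i * (y : G)⁻¹) v = 0 := by
    intro i hi0 hir v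
    let β : K → K := fun y =>
      ⟨(y : G) * (g ^ i * (y : G)⁻¹ * (g ^ i)⁻¹),
        K.mul_mem y.2 (commSub_conj_pow B g hB hn _ (K.inv_mem y.2) i)⟩
    have hβinj : Function.Injective β := by
      intro y y' hyy'
      have h1 : (y : G) * (g ^ i * (y : G)⁻¹ * (g ^ i)⁻¹) =
          (y' : G) * (g ^ i * (y' : G)⁻¹ * (g ^ i)⁻¹) := congrArg Subtype.val hyy'
      set u : G := (y' : G)⁻¹ * (y : G) with hu
      have huK : u ∈ K := K.mul_mem (K.inv_mem y'.2) y.2
      have h2 : g ^ i * u * (g ^ i)⁻¹ = u := by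
        have h3 : g ^ i * (y : G)⁻¹ * (g ^ i)⁻¹ =
            (y : G)⁻¹ * ((y' : G) * (g ^ i * (y' : G)⁻¹ * (g ^ i)⁻¹)) := by
          rw [← h1]; group
        calc g ^ i * u * (g ^ i)⁻¹
            = (g ^ i * (y' : G)⁻¹ * (g ^ i)⁻¹) * (g ^ i * (y : G)⁻¹ * (g ^ i)⁻¹)⁻¹ := by
              rw [hu]; group
          _ = u := by rw [h3, hu]; group
      have hcop : Nat.Coprime i (orderOf g) := by
        rw [hord]
        exact (Nat.coprime_of_lt_prime hi0.ne' hir hr.out).symm
      obtain ⟨m, hm⟩ := exists_pow_eq_self_of_coprime hcop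
      have h4 : ∀ m : ℕ, (g ^ i) ^ m * u * ((g ^ i) ^ m)⁻¹ = u := by
        intro m
        induction m with
        | zero => simp
        | succ m ih =>
          calc (g ^ i) ^ (m + 1) * u * ((g ^ i) ^ (m + 1))⁻¹
              = g ^ i * ((g ^ i) ^ m * u * ((g ^ i) ^ m)⁻¹) * (g ^ i)⁻¹ := by
                rw [pow_succ']; group
            _ = u := by rw [ih, h2]
      have h5 := h4 m
      rw [hm] at h5
      have h6 := hfpf u huK h5
      have : (y : G) = (y' : G) := by
        have := congrArg ((y' : G) * ·) h6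
        simpa [hu] using this
      exact Subtype.ext this
    have hβbij : Function.Bijective β := Finite.injective_iff_bijective.mp hβinj
    have h1 : ∀ y : K, ρ ((y : G) * g ^ i * (y : G)⁻¹) v =
        ρ ((Equiv.ofBijective β hβbij y : K) : G) (ρ (g ^ i) v) := by
      intro y
      rw [← rho_mul_apply]
      congr 2
      show _ = (y : G) * (g ^ i * (y : G)⁻¹ * (g ^ i)⁻¹) * g ^ i
      group
    simp only [h1]
    rw [Equiv.sum_comp (Equiv.ofBijective β hβbij) (fun y : K => ρ (y : G) (ρ (g ^ i) v))]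
    exact hsumK _
  have hfinal : ∀ v : V, Fintype.card K • v = 0 := by
    intro v
    have h1 : ∑ y : K, ∑ i ∈ Finset.range r, ρ ((y : G) * g ^ i * (y : G)⁻¹) v = 0 := by
      apply Finset.sum_eq_zero
      intro y _
      exact hsumg y v
    rw [Finset.sum_comm] at h1
    obtain ⟨r', hr'⟩ : ∃ r', r = r' + 1 := ⟨r - 1, by have := hr.out.pos; omega⟩
    rw [hr', Finset.sum_range_succ'] at h1
    have h2 : ∑ i ∈ Finset.range r', ∑ y : K, ρ ((y : G) * g ^ (i + 1) * (y : G)⁻¹) v = 0 := by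
      apply Finset.sum_eq_zero
      intro i hi
      rw [Finset.mem_range] at hi
      exact hinner (i + 1) (Nat.succ_pos i) (by omega) v
    rw [h2, zero_add] at h1
    have h3 : ∀ y : K, ρ ((y : G) * g ^ 0 * (y : G)⁻¹) v = v := by
      intro y
      simp
    simp only [h3, Finset.sum_const, Finset.card_univ] at h1
    exact h1
  obtain ⟨v, hv⟩ := exists_ne (0 : V)
  have h1 := hfinal v
  rw [← Nat.cast_smul_eq_nsmul (ZMod q)] at h1
  rcases smul_eq_zero.mp h1 with h2 | h2
  · have h3 : q ∣ Fintype.card K := (ZMod.natCast_eq_zero_iff _ _).mp h2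
    have h4 : Fintype.card K ∣ Nat.card B := by
      rw [← Nat.card_eq_fintype_card]
      exact Subgroup.card_dvd_of_le hKB
    have h5 : q ∣ Nat.gcd (Nat.card B) q := Nat.dvd_gcd (h3.trans h4) dvd_rfl
    rw [hcq] at h5
    exact (Fact.out : q.Prime).one_lt.ne' (Nat.dvd_one.mp h5)
  · exact hv h2

end Cfsg.Agent.Lib.Helper78.Hup
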