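import Mathlib
import Cfsg.Agent.Lib.Helper78.Hup3

/-!
# Huppert's theorem, part 4 (helper78): the span counting lemma.

For a subgroup `M` of class at most two with centre `Z` acting semiregularly, a transversal of `Z`
in `M` is linearly independent over the algebra generated by `Z`; hence `|M : Z| ≤ (dim V)²`.
-/

set_option autoImplicit false

namespace Cfsg.Agent.Lib.Helper78.Hup

variable {q : ℕ} [Fact q.Prime] {V : Type*} [AddCommGroup V] [Module (ZMod q) V]
  {G : Type*} [Group G]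

/-- the representation as endomorphisms -/
def R (ρ : G →* (V ≃ₗ[ZMod q] V)) : G →* Module.End (ZMod q) V :=
  (LinearEquiv.automorphismGroup.toLinearMapMonoidHom).comp ρ

theorem R_apply (ρ : G →* (V ≃ₗ[ZMod q] V)) (g : G) (v : V) : R ρ g v = ρ g v := rfl

theorem R_mul_inv (ρ : G →* (V ≃ₗ[ZMod q] V)) (g : G) : R ρ g * R ρ g⁻¹ = 1 := by
  rw [← map_mul, mul_inv_cancel, map_one]

theorem R_inv_mul (ρ : G →* (V ≃ₗ[ZMod q] V)) (g : G) : R ρ g⁻¹ * R ρ g = 1 := by
  rw [← map_mul, inv_mul_cancel, map_one]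

/-- a subgroup `M` with a central subgroup `Z` that is exactly its centre, acts semiregularly and
contains all commutators -/
structure CPair (ρ : G →* (V ≃ₗ[ZMod q] V)) (M Z : Subgroup G) : Prop where
  le : Z ≤ M
  central : ∀ z ∈ Z, ∀ m ∈ M, z * m = m * z
  semireg : ∀ z ∈ Z, z ≠ 1 → ∀ v : V, ρ z v = v → v = 0
  comm : ∀ x ∈ M, ∀ y ∈ M, x * y * x⁻¹ * y⁻¹ ∈ Z
  cent : ∀ t ∈ M, t ∉ Z → ∃ y ∈ M, y * t ≠ t * y

/-- the algebra generated by the image of `Z` -/
def Kalg (ρ : G →* (V ≃ₗ[ZMod q] V)) (Z : Subgroup G) :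
    Subalgebra (ZMod q) (Module.End (ZMod q) V) :=
  Algebra.adjoin (ZMod q) ((fun z => R ρ z) '' (Z : Set G))

theorem R_mem_Kalg (ρ : G →* (V ≃ₗ[ZMod q] V)) (Z : Subgroup G) {z : G} (hz : z ∈ Z) :
    R ρ z ∈ Kalg ρ Z :=
  Algebra.subset_adjoin ⟨z, hz, rfl⟩

theorem Kalg_comm (ρ : G →* (V ≃ₗ[ZMod q] V)) {M Z : Subgroup G} (hP : CPair ρ M Z)
    {k : Module.End (ZMod q) V} (hk : k ∈ Kalg ρ Z) {m : G} (hm : m ∈ M) :
    R ρ m * k = k * R ρ m := by
  have hle : Kalg ρ Z ≤ Subalgebra.centralizer (ZMod q) {R ρ m} := by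
    apply Algebra.adjoin_le
    rintro _ ⟨z, hz, rfl⟩
    rw [SetLike.mem_coe, Subalgebra.mem_centralizer_iff]
    intro g hg
    rw [Set.mem_singleton_iff] at hg
    rw [hg]
    show R ρ m * R ρ z = R ρ z * R ρ m
    rw [← map_mul, ← map_mul, hP.central z hz m hm]
  have := hle hk
  rw [Subalgebra.mem_centralizer_iff] at this
  exact this _ rfl

theorem diff_surj [Finite V] (ρ : G →* (V ≃ₗ[ZMod q] V)) {M Z : Subgroup G} (hP : CPair ρ M Z)
    {c₁ c₂ : G} (h1 : c₁ ∈ Z) (h2 : c₂ ∈ Z) (hne : c₂ ≠ c₁) :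
    Function.Surjective (R ρ c₂ - R ρ c₁ : Module.End (ZMod q) V) := by
  apply Finite.surjective_of_injective
  rw [← LinearMap.ker_eq_bot, LinearMap.ker_eq_bot']
  intro v hv
  rw [LinearMap.sub_apply, R_apply, R_apply, sub_eq_zero] at hv
  apply hP.semireg (c₁⁻¹ * c₂) (Z.mul_mem (Z.inv_mem h1) h2)
  · intro h
    apply hne
    have := congrArg (c₁ * ·) h
    simpa using this
  · rw [rho_mul_apply, hv, rho_inv_apply]

/-- **Linear independence** of pairwise incongruent elements of `M` over `Kalg`. -/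
theorem indep [Finite V] (ρ : G →* (V ≃ₗ[ZMod q] V)) {M Z : Subgroup G} (hP : CPair ρ M Z) :
    ∀ (n : ℕ) (S : Finset G), S.card = n → (∀ t ∈ S, t ∈ M) →
      (∀ t ∈ S, ∀ t' ∈ S, t ≠ t' → t⁻¹ * t' ∉ Z) →
      ∀ k : G → Module.End (ZMod q) V, (∀ t, k t ∈ Kalg ρ Z) →
        ∑ t ∈ S, k t * R ρ t = 0 → ∀ t ∈ S, k t = 0 := by
  classical
  intro n
  induction n with
  | zero =>
    intro S hS _ _ k _ _ t ht
    rw [Finset.card_eq_zero] at hS
    rw [hS] at ht
    exact absurd ht (Finset.notMem_empty t)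
  | succ n ih =>
    intro S hS hSM hSZ k hk hrel
    obtain ⟨t₁, ht₁⟩ : S.Nonempty := by
      rw [← Finset.card_pos, hS]; exact Nat.succ_pos n
    have hother : ∀ t₂ ∈ S, t₂ ≠ t₁ → k t₂ = 0 := by
      intro t₂ ht₂ hne
      have hu : t₁⁻¹ * t₂ ∉ Z := hSZ t₁ ht₁ t₂ ht₂ (Ne.symm hne)
      have huM : t₁⁻¹ * t₂ ∈ M := M.mul_mem (M.inv_mem (hSM t₁ ht₁)) (hSM t₂ ht₂)
      obtain ⟨y, hyM, hy⟩ := hP.cent _ huM hu
      let c : G → G := fun t => y * t * y⁻¹ * t⁻¹
      have hcZ : ∀ t ∈ S, c t ∈ Z := fun t ht => hP.comm y hyM t (hSM t ht)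
      have hyk : ∀ t, R ρ y * k t = k t * R ρ y := fun t => Kalg_comm ρ hP (hk t) hyM
      have e1 : ∑ t ∈ S, k t * R ρ (c t) * R ρ t = 0 := by
        have h1 : ∀ t ∈ S, k t * R ρ (c t) * R ρ t = R ρ y * (k t * R ρ t) * R ρ y⁻¹ := by
          intro t _
          have h2 : R ρ (c t) * R ρ t = R ρ y * R ρ t * R ρ y⁻¹ := by
            rw [← map_mul, ← map_mul, ← map_mul]
            congr 1
            show y * t * y⁻¹ * t⁻¹ * t = y * t * y⁻¹
            group
          rw [mul_assoc (k t), h2, ← mul_assoc (R ρ y), hyk t]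
          simp only [mul_assoc]
        rw [Finset.sum_congr rfl h1, ← Finset.sum_mul, ← Finset.mul_sum, hrel]
        simp
      have e2 : ∑ t ∈ S, k t * R ρ (c t₁) * R ρ t = 0 := by
        have h1 : ∀ t ∈ S, k t * R ρ (c t₁) * R ρ t = R ρ (c t₁) * (k t * R ρ t) := by
          intro t _
          rw [← mul_assoc, Kalg_comm ρ hP (hk t) (hP.le (hcZ t₁ ht₁))]
        rw [Finset.sum_congr rfl h1, ← Finset.mul_sum, hrel, mul_zero]
      let k' : G → Module.End (ZMod q) V :=
        fun t => if t ∈ S then k t * (R ρ (c t) - R ρ (c t₁)) else 0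
      have hk'S : ∀ t ∈ S, k' t = k t * (R ρ (c t) - R ρ (c t₁)) := by
        intro t ht
        show (if t ∈ S then k t * (R ρ (c t) - R ρ (c t₁)) else 0) = _
        rw [if_pos ht]
      have e3 : ∑ t ∈ S, k' t * R ρ t = 0 := by
        have h1 : ∀ t ∈ S, k' t * R ρ t =
            k t * R ρ (c t) * R ρ t - k t * R ρ (c t₁) * R ρ t := by
          intro t ht
          rw [hk'S t ht, mul_sub, sub_mul]
        rw [Finset.sum_congr rfl h1, Finset.sum_sub_distrib, e1, e2, sub_zero]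
      have e4 : ∑ t ∈ S.erase t₁, k' t * R ρ t = 0 := by
        rw [← e3]
        apply Finset.sum_erase
        rw [hk'S t₁ ht₁, sub_self, mul_zero, zero_mul]
      have hk' : ∀ t, k' t ∈ Kalg ρ Z := by
        intro t
        by_cases ht : t ∈ S
        · rw [hk'S t ht]
          exact (Kalg ρ Z).mul_mem (hk t)
            ((Kalg ρ Z).sub_mem (R_mem_Kalg ρ Z (hcZ t ht)) (R_mem_Kalg ρ Z (hcZ t₁ ht₁)))
        · show (if t ∈ S then k t * (R ρ (c t) - R ρ (c t₁)) else 0) ∈ Kalg ρ Z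
          rw [if_neg ht]
          exact (Kalg ρ Z).zero_mem
      have hcard : (S.erase t₁).card = n := by
        rw [Finset.card_erase_of_mem ht₁, hS]; rfl
      have h5 := ih (S.erase t₁) hcard (fun t ht => hSM t (Finset.mem_of_mem_erase ht))
        (fun t ht t' ht' => hSZ t (Finset.mem_of_mem_erase ht) t' (Finset.mem_of_mem_erase ht'))
        k' hk' e4 t₂ (Finset.mem_erase.mpr ⟨hne, ht₂⟩)
      rw [hk'S t₂ ht₂] at h5
      have hcne : c t₂ ≠ c t₁ := by
        intro hc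
        apply hy
        have h6 : y * t₂ * y⁻¹ * t₂⁻¹ = y * t₁ * y⁻¹ * t₁⁻¹ := hc
        have h7 : t₂ * y⁻¹ * t₂⁻¹ = t₁ * y⁻¹ * t₁⁻¹ := by
          have := congrArg (y⁻¹ * ·) h6
          simpa [mul_assoc] using this
        have h8 : y⁻¹ * (t₁⁻¹ * t₂) = (t₁⁻¹ * t₂) * y⁻¹ := by
          calc y⁻¹ * (t₁⁻¹ * t₂) = t₁⁻¹ * (t₁ * y⁻¹ * t₁⁻¹) * t₂ := by group
            _ = t₁⁻¹ * (t₂ * y⁻¹ * t₂⁻¹) * t₂ := by rw [h7]
            _ = (t₁⁻¹ * t₂) * y⁻¹ := by group
        calc y * (t₁⁻¹ * t₂) = y * ((t₁⁻¹ * t₂) * y⁻¹) * y := by group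
          _ = y * (y⁻¹ * (t₁⁻¹ * t₂)) * y := by rw [h8]
          _ = (t₁⁻¹ * t₂) * y := by group
      have hsurj := diff_surj ρ hP (hcZ t₁ ht₁) (hcZ t₂ ht₂) hcne
      apply LinearMap.ext
      intro w
      obtain ⟨v, rfl⟩ := hsurj w
      have := LinearMap.congr_fun h5 v
      simpa using this
    intro t ht
    by_cases htt : t = t₁
    · subst htt
      have h1 : ∑ t' ∈ S, k t' * R ρ t' = k t * R ρ t := by
        apply Finset.sum_eq_single_of_mem t ht
        intro b hb hbt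
        rw [hother b hb hbt, zero_mul]
      rw [h1] at hrel
      calc k t = k t * R ρ t * R ρ t⁻¹ := by rw [mul_assoc, R_mul_inv, mul_one]
        _ = 0 := by rw [hrel, zero_mul]
    · exact hother t ht htt

theorem finite_end [Finite V] : Finite (Module.End (ZMod q) V) :=
  Finite.of_injective (fun f => (f : V → V)) DFunLike.coe_injective

/-- the evaluation map `(S → Kalg) → End V` -/
noncomputable def Phi (ρ : G →* (V ≃ₗ[ZMod q] V)) (Z : Subgroup G) (S : Finset G)
    (f : S → Kalg ρ Z) : Module.End (ZMod q) V :=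
  ∑ t ∈ S.attach, (f t : Module.End (ZMod q) V) * R ρ (t : G)

theorem Phi_injective [Finite V] (ρ : G →* (V ≃ₗ[ZMod q] V)) {M Z : Subgroup G}
    (hP : CPair ρ M Z) (S : Finset G) (hSM : ∀ t ∈ S, t ∈ M)
    (hSZ : ∀ t ∈ S, ∀ t' ∈ S, t ≠ t' → t⁻¹ * t' ∉ Z) :
    Function.Injective (Phi ρ Z S) := by
  classical
  intro f f' hff'
  let k : G → Module.End (ZMod q) V := fun t =>
    if h : t ∈ S then ((f ⟨t, h⟩ : Module.End (ZMod q) V) - (f' ⟨t, h⟩ : Module.End (ZMod q) V))
    else 0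
  have hk : ∀ t, k t ∈ Kalg ρ Z := by
    intro t
    by_cases h : t ∈ S
    · show (if h : t ∈ S then ((f ⟨t, h⟩ : Module.End (ZMod q) V) -
        (f' ⟨t, h⟩ : Module.End (ZMod q) V)) else 0) ∈ Kalg ρ Z
      rw [dif_pos h]
      exact (Kalg ρ Z).sub_mem (f ⟨t, h⟩).2 (f' ⟨t, h⟩).2
    · show (if h : t ∈ S then ((f ⟨t, h⟩ : Module.End (ZMod q) V) -
        (f' ⟨t, h⟩ : Module.End (ZMod q) V)) else 0) ∈ Kalg ρ Z
      rw [dif_neg h]
      exact (Kalg ρ Z).zero_mem
  have hkS : ∀ t : S, k (t : G) =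
      (f t : Module.End (ZMod q) V) - (f' t : Module.End (ZMod q) V) := by
    intro t
    show (if h : (t : G) ∈ S then ((f ⟨t, h⟩ : Module.End (ZMod q) V) -
        (f' ⟨t, h⟩ : Module.End (ZMod q) V)) else 0) = _
    rw [dif_pos t.2]
  have hrel : ∑ t ∈ S, k t * R ρ t = 0 := by
    rw [← Finset.sum_attach]
    have h1 : ∀ t ∈ S.attach, k (t : G) * R ρ (t : G) =
        (f t : Module.End (ZMod q) V) * R ρ (t : G) -
          (f' t : Module.End (ZMod q) V) * R ρ (t : G) := by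
      intro t _
      rw [hkS t, sub_mul]
    rw [Finset.sum_congr rfl h1, Finset.sum_sub_distrib]
    exact sub_eq_zero.mpr hff'
  have h0 := indep ρ hP S.card S rfl hSM hSZ k hk hrel
  funext t
  apply Subtype.ext
  have := h0 t t.2
  rw [hkS t] at this
  exact sub_eq_zero.mp this

theorem card_end [Finite V] :
    Nat.card (Module.End (ZMod q) V) =
      q ^ (Module.finrank (ZMod q) V * Module.finrank (ZMod q) V) := by
  rw [Module.natCard_eq_pow_finrank (K := ZMod q) (V := Module.End (ZMod q) V), Nat.card_zmod,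
    Module.finrank_linearMap]

theorem card_Kalg [Finite V] (ρ : G →* (V ≃ₗ[ZMod q] V)) (Z : Subgroup G) :
    Nat.card (Kalg ρ Z) = q ^ Module.finrank (ZMod q) (Kalg ρ Z) := by
  haveI := finite_end (q := q) (V := V)
  rw [Module.natCard_eq_pow_finrank (K := ZMod q) (V := Kalg ρ Z), Nat.card_zmod]

theorem finrank_Kalg_pos [Finite V] [Nontrivial V] (ρ : G →* (V ≃ₗ[ZMod q] V)) (Z : Subgroup G) :
    0 < Module.finrank (ZMod q) (Kalg ρ Z) := by
  haveI := finite_end (q := q) (V := V)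
  exact Module.finrank_pos

/-- a transversal of `Z` in `M` as a finset -/
theorem exists_transversal [Finite G] (M Z : Subgroup G) (hle : Z ≤ M) :
    ∃ S : Finset G, (∀ t ∈ S, t ∈ M) ∧ (∀ t ∈ S, ∀ t' ∈ S, t ≠ t' → t⁻¹ * t' ∉ Z) ∧
      S.card * Nat.card Z = Nat.card M := by
  classical
  let Z' : Subgroup M := Z.subgroupOf M
  let _ : Fintype (M ⧸ Z') := Fintype.ofFinite _
  let o : M ⧸ Z' → G := fun c => ((Quotient.out c : M) : G)
  have ho : Function.Injective o := by
    intro c c' h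
    have h1 : (Quotient.out c : M) = Quotient.out c' := Subtype.ext h
    exact Quotient.out_injective h1
  refine ⟨Finset.univ.image o, ?_, ?_, ?_⟩
  · intro t ht
    rw [Finset.mem_image] at ht
    obtain ⟨c, _, rfl⟩ := ht
    exact (Quotient.out c : M).2
  · intro t ht t' ht' hne hmem
    rw [Finset.mem_image] at ht ht'
    obtain ⟨c, _, rfl⟩ := ht
    obtain ⟨c', _, rfl⟩ := ht'
    apply hne
    have h1 : (Quotient.out c : M)⁻¹ * (Quotient.out c' : M) ∈ Z' := by
      rw [Subgroup.mem_subgroupOf]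
      exact hmem
    have h2 : (QuotientGroup.mk (Quotient.out c : M) : M ⧸ Z') =
        QuotientGroup.mk (Quotient.out c' : M) := QuotientGroup.eq.mpr h1
    have h3 : c = c' := by
      have e1 : (QuotientGroup.mk (Quotient.out c : M) : M ⧸ Z') = c := Quotient.out_eq' c
      have e2 : (QuotientGroup.mk (Quotient.out c' : M) : M ⧸ Z') = c' := Quotient.out_eq' c'
      rw [← e1, ← e2, h2]
    rw [h3]
  · rw [Finset.card_image_of_injective _ ho, Finset.card_univ, ← Nat.card_eq_fintype_card]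
    have h1 : Nat.card Z' = Nat.card Z :=
      Nat.card_congr (Subgroup.subgroupOfEquivOfLe hle).toEquiv
    have h2 := Subgroup.index_mul_card Z'
    rw [Subgroup.index, h1] at h2
    exact h2

/-- **The span counting bound** `|M : Z| ≤ (dim V)²`. -/
theorem card_le_sq [Finite V] [Nontrivial V] [Finite G] (ρ : G →* (V ≃ₗ[ZMod q] V))
    {M Z : Subgroup G} (hP : CPair ρ M Z) :
    Nat.card M ≤ (Module.finrank (ZMod q) V * Module.finrank (ZMod q) V) * Nat.card Z := by
  classical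
  obtain ⟨S, hSM, hSZ, hcard⟩ := exists_transversal M Z hP.le
  haveI := finite_end (q := q) (V := V)
  have h1 := Nat.card_le_card_of_injective _ (Phi_injective ρ hP S hSM hSZ)
  rw [Nat.card_fun, card_end, card_Kalg, Nat.card_eq_fintype_card, Fintype.card_coe,
    ← pow_mul] at h1
  have hq : 1 < q := (Fact.out : q.Prime).one_lt
  have h2 := (Nat.pow_le_pow_iff_right hq).mp h1
  have h3 := finrank_Kalg_pos ρ Z
  have h4 : S.card ≤ Module.finrank (ZMod q) V * Module.finrank (ZMod q) V := by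
    calc S.card = 1 * S.card := (one_mul _).symm
      _ ≤ Module.finrank (ZMod q) (Kalg ρ Z) * S.card := Nat.mul_le_mul_right _ h3
      _ ≤ _ := h2
  rw [← hcard]
  exact Nat.mul_le_mul_right _ h4

/-- **Equality in the span counting bound**: `Z` acts by scalars and the centraliser of `M` in
`End V` consists of scalars. -/
theorem scalar_of_card_eq [Finite V] [Nontrivial V] [Finite G] (ρ : G →* (V ≃ₗ[ZMod q] V))
    {M Z : Subgroup G} (hP : CPair ρ M Z)
    (hcard : Nat.card M =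
      (Module.finrank (ZMod q) V * Module.finrank (ZMod q) V) * Nat.card Z) :
    (∀ z ∈ Z, ∃ c : ZMod q, ∀ v, ρ z v = c • v) ∧
    (∀ φ : Module.End (ZMod q) V, (∀ m ∈ M, R ρ m * φ = φ * R ρ m) →
      ∃ c : ZMod q, ∀ v, φ v = c • v) := by
  classical
  obtain ⟨S, hSM, hSZ, hcardS⟩ := exists_transversal M Z hP.le
  have := finite_end (q := q) (V := V)
  have hZpos : 0 < Nat.card Z := Nat.card_pos
  have hS : S.card = Module.finrank (ZMod q) V * Module.finrank (ZMod q) V := by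
    rw [hcard] at hcardS
    exact Nat.eq_of_mul_eq_mul_right hZpos hcardS
  have hinj := Phi_injective ρ hP S hSM hSZ
  have h1 := Nat.card_le_card_of_injective _ hinj
  rw [Nat.card_fun, card_end, card_Kalg, Nat.card_eq_fintype_card, Fintype.card_coe,
    ← pow_mul] at h1
  have hq : 1 < q := (Fact.out : q.Prime).one_lt
  have h2 := (Nat.pow_le_pow_iff_right hq).mp h1
  have h3 := finrank_Kalg_pos ρ Z
  have hnpos : 0 < Module.finrank (ZMod q) V := Module.finrank_pos
  have h4 : Module.finrank (ZMod q) (Kalg ρ Z) = 1 := by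
    rw [hS] at h2
    have h5 : 0 < Module.finrank (ZMod q) V * Module.finrank (ZMod q) V :=
      Nat.mul_pos hnpos hnpos
    have h6 : Module.finrank (ZMod q) (Kalg ρ Z) ≤ 1 := by
      by_contra hcon
      push Not at hcon
      have : 2 * (Module.finrank (ZMod q) V * Module.finrank (ZMod q) V) ≤
          Module.finrank (ZMod q) (Kalg ρ Z) *
            (Module.finrank (ZMod q) V * Module.finrank (ZMod q) V) :=
        Nat.mul_le_mul_right _ hcon
      omega
    omega
  have hbot : Kalg ρ Z = ⊥ := Subalgebra.eq_bot_of_finrank_one h4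
  have hsc : ∀ k ∈ Kalg ρ Z, ∃ c : ZMod q, k = algebraMap (ZMod q) (Module.End (ZMod q) V) c := by
    intro k hk
    rw [hbot, Algebra.mem_bot] at hk
    obtain ⟨c, hc⟩ := hk
    exact ⟨c, hc.symm⟩
  refine ⟨?_, ?_⟩
  · intro z hz
    obtain ⟨c, hc⟩ := hsc _ (R_mem_Kalg ρ Z hz)
    refine ⟨c, fun v => ?_⟩
    have := LinearMap.congr_fun hc v
    rw [R_apply, Module.algebraMap_end_apply] at this
    exact this
  · intro φ hφ
    have hbij : Function.Bijective (Phi ρ Z S) := by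
      apply Function.Injective.bijective_of_nat_card_le hinj
      rw [Nat.card_fun, card_end, card_Kalg, Nat.card_eq_fintype_card, Fintype.card_coe,
        ← pow_mul, h4, one_mul, hS]
    have hcen : φ ∈ Subalgebra.center (ZMod q) (Module.End (ZMod q) V) := by
      rw [Subalgebra.mem_center_iff]
      intro ψ
      obtain ⟨f, rfl⟩ := hbij.2 ψ
      show (∑ t ∈ S.attach, (f t : Module.End (ZMod q) V) * R ρ (t : G)) * φ =
        φ * ∑ t ∈ S.attach, (f t : Module.End (ZMod q) V) * R ρ (t : G)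
      rw [Finset.sum_mul, Finset.mul_sum]
      apply Finset.sum_congr rfl
      intro t _
      obtain ⟨c, hc⟩ := hsc _ (f t).2
      rw [hc, mul_assoc, hφ _ (hSM _ t.2), ← mul_assoc, ← mul_assoc, Algebra.commutes]
    rw [Algebra.IsCentral.center_eq_bot, Algebra.mem_bot] at hcen
    obtain ⟨c, hc⟩ := hcen
    refine ⟨c, fun v => ?_⟩
    have := LinearMap.congr_fun hc v
    rw [Module.algebraMap_end_apply] at this
    exact this.symm

end Cfsg.Agent.Lib.Helper78.Hup
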