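import Mathlib

/-!
# Huppert's theorem, part 5 (helper78): the index of the centre in a group of symplectic type is
an even power of `s`.
-/

set_option autoImplicit false

namespace Cfsg.Agent.Lib.Helper78.Hup

variable {G : Type*} [Group G]

theorem mem_cent_single {a g : G} : g ∈ Subgroup.centralizer {a} ↔ a * g = g * a := by
  rw [Subgroup.mem_centralizer_iff]
  constructor
  · intro h; exact h a rfl
  · intro h b hb
    rw [Set.mem_singleton_iff] at hb
    rw [hb]; exact h

/-- the commutator homomorphism `m ↦ [x, m]` from `M` to a central subgroup `Z` -/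
def commHom (M Z : Subgroup G) (hZc : ∀ z ∈ Z, ∀ m ∈ M, z * m = m * z)
    (x : G) (hx : ∀ m ∈ M, x * m * x⁻¹ * m⁻¹ ∈ Z) : M →* Z where
  toFun m := ⟨x * m * x⁻¹ * m⁻¹, hx m m.2⟩
  map_one' := by
    apply Subtype.ext
    simp
  map_mul' := by
    intro m m'
    apply Subtype.ext
    show x * (m * m' : G) * x⁻¹ * (m * m' : G)⁻¹ =
      (x * m * x⁻¹ * (m : G)⁻¹) * (x * m' * x⁻¹ * (m' : G)⁻¹)
    have h1 := hZc _ (hx m' m'.2) m m.2
    calc x * (m * m' : G) * x⁻¹ * (m * m' : G)⁻¹
        = x * m * x⁻¹ * (m : G)⁻¹ * ((m : G) * (x * m' * x⁻¹ * (m' : G)⁻¹)) * (m : G)⁻¹ := by group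
      _ = x * m * x⁻¹ * (m : G)⁻¹ * ((x * m' * x⁻¹ * (m' : G)⁻¹) * (m : G)) * (m : G)⁻¹ := by
          rw [h1]
      _ = _ := by group

theorem commHom_coe (M Z : Subgroup G) (hZc : ∀ z ∈ Z, ∀ m ∈ M, z * m = m * z)
    (x : G) (hx : ∀ m ∈ M, x * m * x⁻¹ * m⁻¹ ∈ Z) (m : M) :
    ((commHom M Z hZc x hx m : Z) : G) = x * m * x⁻¹ * (m : G)⁻¹ := rfl

/-- one step: the centraliser of `u` in `H` has index `s` -/
theorem card_centralizer_step [Finite G] (s : ℕ) [hs : Fact s.Prime] (H : Subgroup G) (u c : G)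
    (hc : orderOf c = s)
    (hcH : ∀ m ∈ H, c * m = m * c)
    (hu : ∀ m ∈ H, u * m * u⁻¹ * m⁻¹ ∈ Subgroup.zpowers c)
    (hne : ∃ h ∈ H, u * h * u⁻¹ * h⁻¹ ≠ 1) :
    Nat.card H = s * Nat.card ↥(H ⊓ Subgroup.centralizer {u}) := by
  have hzc : ∀ z ∈ Subgroup.zpowers c, ∀ m ∈ H, z * m = m * z := by
    intro z hz m hm
    have hle : Subgroup.zpowers c ≤ Subgroup.centralizer {m} := by
      rw [Subgroup.zpowers_le, Subgroup.mem_centralizer_iff]
      intro h hh
      rw [Set.mem_singleton_iff] at hh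
      rw [hh]
      exact (hcH m hm).symm
    have := hle hz
    rw [Subgroup.mem_centralizer_iff] at this
    exact (this m rfl).symm
  let φ : H →* Subgroup.zpowers c := commHom H (Subgroup.zpowers c) hzc u hu
  have hker : φ.ker = (H ⊓ Subgroup.centralizer {u}).subgroupOf H := by
    ext m
    rw [MonoidHom.mem_ker, Subgroup.mem_subgroupOf, Subgroup.mem_inf, Subgroup.mem_centralizer_iff]
    constructor
    · intro h
      refine ⟨m.2, ?_⟩
      intro g hg
      rw [Set.mem_singleton_iff] at hg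
      rw [hg]
      have h1 : u * m * u⁻¹ * (m : G)⁻¹ = 1 := congrArg Subtype.val h
      calc u * (m : G) = (u * m * u⁻¹ * (m : G)⁻¹) * m * u := by group
        _ = m * u := by rw [h1, one_mul]
    · rintro ⟨_, h⟩
      apply Subtype.ext
      show u * m * u⁻¹ * (m : G)⁻¹ = 1
      rw [h u rfl]
      group
  have h1 : Nat.card H = Nat.card φ.ker * Nat.card φ.range := by
    rw [← Subgroup.index_ker, Subgroup.card_mul_index]
  have h2 : Nat.card φ.ker = Nat.card ↥(H ⊓ Subgroup.centralizer {u}) := by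
    rw [hker]
    exact Nat.card_congr (Subgroup.subgroupOfEquivOfLe inf_le_left).toEquiv
  have h3 : Nat.card φ.range = s := by
    have h4 : Nat.card φ.range ∣ s := by
      have := Subgroup.card_subgroup_dvd_card φ.range
      rwa [Nat.card_zpowers, hc] at this
    rcases (Nat.dvd_prime hs.out).mp h4 with h5 | h5
    · exfalso
      obtain ⟨h, hh, hne⟩ := hne
      have h6 : φ.range = ⊥ := Subgroup.card_eq_one.mp h5
      have h7 : φ ⟨h, hh⟩ ∈ φ.range := ⟨_, rfl⟩
      rw [h6, Subgroup.mem_bot] at h7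
      exact hne (congrArg Subtype.val h7)
    · exact h5
  rw [h1, h2, h3, mul_comm]

/-- **Parity**: in a group `M` of class two whose centre `Z` has a unique subgroup of order `s`
and with `M / Z` of exponent `s`, the index `|M : Z|` is an even power of `s`. -/
theorem parity [Finite G] (s : ℕ) [hs : Fact s.Prime] (Z : Subgroup G)
    (hΩ : ∀ c ∈ Z, ∀ c' ∈ Z, c ^ s = 1 → c' ^ s = 1 → c ≠ 1 → c' ∈ Subgroup.zpowers c) :
    ∀ (n : ℕ) (M : Subgroup G), Nat.card M = n → Z ≤ M →
      (∀ z ∈ Z, ∀ m ∈ M, z * m = m * z) →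
      (∀ x ∈ M, ∀ y ∈ M, x * y * x⁻¹ * y⁻¹ ∈ Z) →
      (∀ x ∈ M, x ^ s ∈ Z) →
      (∀ t ∈ M, (∀ y ∈ M, y * t = t * y) → t ∈ Z) →
      ∃ k : ℕ, Nat.card M = s ^ (2 * k) * Nat.card Z := by
  intro n
  induction n using Nat.strong_induction_on with
  | _ n ih =>
    intro M hn hle hZc hcomm hpow hcent
    by_cases hMZ : M ≤ Z
    · refine ⟨0, ?_⟩
      rw [le_antisymm hMZ hle]
      simp
    · obtain ⟨x, hxM, hxZ⟩ := SetLike.not_le_iff_exists.mp hMZ
      obtain ⟨y, hyM, hyx⟩ : ∃ y ∈ M, y * x ≠ x * y := by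
        by_contra hcon
        push Not at hcon
        exact hxZ (hcent x hxM hcon)
      let φx : M →* Z := commHom M Z hZc x (fun m hm => hcomm x hxM m hm)
      let φy : M →* Z := commHom M Z hZc y (fun m hm => hcomm y hyM m hm)
      set c : G := x * y * x⁻¹ * y⁻¹ with hcdef
      have hcZ : c ∈ Z := hcomm x hxM y hyM
      have hc1 : c ≠ 1 := by
        intro h
        apply hyx
        calc y * x = (x * y * x⁻¹ * y⁻¹)⁻¹ * (x * y) := by group
          _ = x * y := by rw [← hcdef, h, inv_one, one_mul]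
      -- every commutator has order dividing `s`
      have hpows : ∀ (u : G) (huM : u ∈ M) (m : G) (hm : m ∈ M),
          (u * m * u⁻¹ * m⁻¹) ^ s = 1 := by
        intro u huM m hm
        let φu : M →* Z := commHom M Z hZc u (fun m hm => hcomm u huM m hm)
        have h1 : φu (⟨m, hm⟩ ^ s) = 1 := by
          apply Subtype.ext
          show u * ((⟨m, hm⟩ ^ s : M) : G) * u⁻¹ * ((⟨m, hm⟩ ^ s : M) : G)⁻¹ = 1
          rw [Subgroup.coe_pow]
          show u * m ^ s * u⁻¹ * (m ^ s)⁻¹ = 1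
          have h2 := hZc _ (hpow m hm) u huM
          calc u * m ^ s * u⁻¹ * (m ^ s)⁻¹ = u * m ^ s * u⁻¹ * (m ^ s)⁻¹ := rfl
            _ = (m ^ s * u) * u⁻¹ * (m ^ s)⁻¹ := by rw [h2]
            _ = 1 := by group
        rw [map_pow] at h1
        have h3 : ((φu ⟨m, hm⟩ : Z) : G) ^ s = 1 := by
          rw [← Subgroup.coe_pow, h1]; rfl
        exact h3
      have hcs : c ^ s = 1 := hpows x hxM y hyM
      have hord : orderOf c = s := orderOf_eq_prime hcs hc1
      have hmemz : ∀ (u : G) (huM : u ∈ M) (m : G) (hm : m ∈ M),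
          u * m * u⁻¹ * m⁻¹ ∈ Subgroup.zpowers c := by
        intro u huM m hm
        exact hΩ c hcZ _ (hcomm u huM m hm) hcs (hpows u huM m hm) hc1
      have hcM : ∀ m ∈ M, c * m = m * c := fun m hm => hZc c hcZ m hm
      -- step 1
      have step1 : Nat.card M = s * Nat.card ↥(M ⊓ Subgroup.centralizer {x}) :=
        card_centralizer_step s M x c hord hcM (fun m hm => hmemz x hxM m hm)
          ⟨y, hyM, hc1⟩
      -- step 2
      have hxC : x ∈ M ⊓ Subgroup.centralizer {x} :=
        Subgroup.mem_inf.mpr ⟨hxM, mem_cent_single.mpr rfl⟩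
      have hyx1 : y * x * y⁻¹ * x⁻¹ ≠ 1 := by
        intro h
        apply hc1
        have : y * x * y⁻¹ * x⁻¹ = c⁻¹ := by rw [hcdef]; group
        rw [this] at h
        exact inv_eq_one.mp h
      have step2 : Nat.card ↥(M ⊓ Subgroup.centralizer {x}) =
          s * Nat.card ↥(M ⊓ Subgroup.centralizer {x} ⊓ Subgroup.centralizer {y}) :=
        card_centralizer_step s (M ⊓ Subgroup.centralizer {x}) y c hord
          (fun m hm => hcM m hm.1) (fun m hm => hmemz y hyM m hm.1) ⟨x, hxC, hyx1⟩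
      set M₁ : Subgroup G := M ⊓ Subgroup.centralizer {x} ⊓ Subgroup.centralizer {y} with hM₁
      have hM₁M : M₁ ≤ M := inf_le_left.trans inf_le_left
      have hM₁x : ∀ t ∈ M₁, x * t = t * x := by
        intro t ht
        exact mem_cent_single.mp (Subgroup.mem_inf.mp (Subgroup.mem_inf.mp ht).1).2
      have hM₁y : ∀ t ∈ M₁, y * t = t * y := by
        intro t ht
        exact mem_cent_single.mp (Subgroup.mem_inf.mp ht).2
      have hcardM : Nat.card M = s * (s * Nat.card M₁) := by rw [step1, step2]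
      have hspos : 2 ≤ s := hs.out.two_le
      have hlt : Nat.card M₁ < n := by
        rw [← hn, hcardM]
        have : 0 < Nat.card M₁ := Nat.card_pos
        nlinarith
      have hZM₁ : Z ≤ M₁ := by
        intro z hz
        exact Subgroup.mem_inf.mpr ⟨Subgroup.mem_inf.mpr ⟨hle hz,
          mem_cent_single.mpr (hZc z hz x hxM).symm⟩,
          mem_cent_single.mpr (hZc z hz y hyM).symm⟩
      have hcent₁ : ∀ t ∈ M₁, (∀ y ∈ M₁, y * t = t * y) → t ∈ Z := by
        intro t ht htc
        apply hcent t (hM₁M ht)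
        intro m hm
        obtain ⟨a, ha⟩ := Subgroup.mem_zpowers_iff.mp (hmemz x hxM m hm)
        obtain ⟨b, hb⟩ := Subgroup.mem_zpowers_iff.mp (hmemz y hyM m hm)
        -- the corrected element
        let m' : M := ⟨m, hm⟩ * ⟨x, hxM⟩ ^ b * ⟨y, hyM⟩ ^ (-a)
        have hφxx : φx ⟨x, hxM⟩ = 1 := by
          apply Subtype.ext
          show x * x * x⁻¹ * x⁻¹ = 1
          group
        have hφyy : φy ⟨y, hyM⟩ = 1 := by
          apply Subtype.ext
          show y * y * y⁻¹ * y⁻¹ = 1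
          group
        have hφxy : φx ⟨y, hyM⟩ = ⟨c, hcZ⟩ := rfl
        have hφyx : φy ⟨x, hxM⟩ = (⟨c, hcZ⟩ : Z)⁻¹ := by
          apply Subtype.ext
          show y * x * y⁻¹ * x⁻¹ = c⁻¹
          rw [hcdef]; group
        have hφxm : φx ⟨m, hm⟩ = (⟨c, hcZ⟩ : Z) ^ a := by
          apply Subtype.ext
          rw [Subgroup.coe_zpow]
          exact ha.symm
        have hφym : φy ⟨m, hm⟩ = (⟨c, hcZ⟩ : Z) ^ b := by
          apply Subtype.ext
          rw [Subgroup.coe_zpow]
          exact hb.symm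
        have h1 : φx m' = 1 := by
          show φx (⟨m, hm⟩ * ⟨x, hxM⟩ ^ b * ⟨y, hyM⟩ ^ (-a)) = 1
          rw [map_mul, map_mul, map_zpow, map_zpow, hφxx, hφxy, hφxm, one_zpow, mul_one,
            ← zpow_add, add_neg_cancel, zpow_zero]
        have h2 : φy m' = 1 := by
          show φy (⟨m, hm⟩ * ⟨x, hxM⟩ ^ b * ⟨y, hyM⟩ ^ (-a)) = 1
          rw [map_mul, map_mul, map_zpow, map_zpow, hφyy, hφyx, hφym, one_zpow, mul_one,
            inv_zpow, mul_inv_cancel]
        have hm'x : x * (m' : G) = (m' : G) * x := by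
          have h3 : x * (m' : G) * x⁻¹ * (m' : G)⁻¹ = 1 := congrArg Subtype.val h1
          calc x * (m' : G) = (x * (m' : G) * x⁻¹ * (m' : G)⁻¹) * m' * x := by group
            _ = m' * x := by rw [h3, one_mul]
        have hm'y : y * (m' : G) = (m' : G) * y := by
          have h3 : y * (m' : G) * y⁻¹ * (m' : G)⁻¹ = 1 := congrArg Subtype.val h2
          calc y * (m' : G) = (y * (m' : G) * y⁻¹ * (m' : G)⁻¹) * m' * y := by group
            _ = m' * y := by rw [h3, one_mul]
        have hm'M₁ : (m' : G) ∈ M₁ :=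
          Subgroup.mem_inf.mpr ⟨Subgroup.mem_inf.mpr ⟨m'.2, mem_cent_single.mpr hm'x⟩,
            mem_cent_single.mpr hm'y⟩
        have c1 : Commute t (m' : G) := (htc _ hm'M₁).symm
        have c2 : Commute t x := (hM₁x t ht).symm
        have c3 : Commute t y := (hM₁y t ht).symm
        have hm_eq : m = (m' : G) * y ^ a * x ^ (-b) := by
          show m = ((⟨m, hm⟩ * ⟨x, hxM⟩ ^ b * ⟨y, hyM⟩ ^ (-a) : M) : G) * y ^ a * x ^ (-b)
          rw [Subgroup.coe_mul, Subgroup.coe_mul, Subgroup.coe_zpow, Subgroup.coe_zpow]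
          show m = m * x ^ b * y ^ (-a) * y ^ a * x ^ (-b)
          group
        have c4 : Commute t m := by
          rw [hm_eq]
          exact (c1.mul_right (c3.zpow_right a)).mul_right (c2.zpow_right (-b))
        exact c4.symm
      obtain ⟨k, hk⟩ := ih (Nat.card M₁) hlt M₁ rfl hZM₁
        (fun z hz m hm => hZc z hz m (hM₁M hm))
        (fun u hu v hv => hcomm u (hM₁M hu) v (hM₁M hv))
        (fun u hu => hpow u (hM₁M hu)) hcent₁
      refine ⟨k + 1, ?_⟩
      rw [hcardM, hk]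
      ring

end Cfsg.Agent.Lib.Helper78.Hup
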