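import Mathlib
import Cfsg.Agent.Lib.Helper78.Hup4
import Cfsg.Agent.Lib.Helper78.Hup5
import Cfsg.Agent.Lib.Helper78.Hup6

/-!
# Huppert's theorem, part 7 (helper78): the endgame — a normal subgroup of symplectic type whose
central quotient has order `(dim V)²` bounds the order of the group.
-/

set_option autoImplicit false

namespace Cfsg.Agent.Lib.Helper78.Hup

variable {q : ℕ} [Fact q.Prime] {V : Type*} [AddCommGroup V] [Module (ZMod q) V]
  {G : Type*} [Group G]

/-- transitivity on the non-zero vectors gives `|V| - 1 ∣ |G|` -/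
theorem card_dvd_of_tr [Finite V] [Nontrivial V] [Finite G] (ρ : G →* (V ≃ₗ[ZMod q] V))
    (htr : Tr ρ) : q ^ Module.finrank (ZMod q) V - 1 ∣ Nat.card G := by
  classical
  let _ : MulAction G V := MulAction.compHom V ρ
  have hsmul : ∀ (g : G) (v : V), g • v = ρ g v := fun _ _ => rfl
  obtain ⟨v₀, hv₀⟩ := exists_ne (0 : V)
  have horb : MulAction.orbit G v₀ = {v : V | v ≠ 0} := by
    ext v
    constructor
    · rintro ⟨g, rfl⟩
      show g • v₀ ≠ 0
      rw [hsmul]
      intro h
      apply hv₀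
      have := congrArg (ρ g⁻¹) h
      rwa [rho_inv_apply, map_zero] at this
    · intro hv
      obtain ⟨g, hg⟩ := htr v₀ v hv₀ hv
      exact ⟨g, hg⟩
  have h1 := MulAction.index_stabilizer (G := G) (x := v₀)
  rw [horb] at h1
  have h2 : ({v : V | v ≠ 0} : Set V).ncard = q ^ Module.finrank (ZMod q) V - 1 := by
    have h3 : ({v : V | v ≠ 0} : Set V) = Set.univ \ {0} := by
      ext v; simp
    rw [h3, Set.ncard_sdiff_singleton_of_mem (Set.mem_univ _), Set.ncard_univ, card_V (q := q)]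
  rw [h2] at h1
  rw [← h1]
  exact Subgroup.index_dvd_card _

/-- a subgroup `B` whose `s`-th powers lie in the normal subgroup `A ≤ B` -/
theorem exp_card [Finite G] (s : ℕ) [Fact s.Prime] (A B : Subgroup G) [hA : A.Normal]
    (hAB : A ≤ B) (hpow : ∀ x ∈ B, x ^ s ∈ A) :
    ∃ j : ℕ, Nat.card B = s ^ j * Nat.card A := by
  have : (A.subgroupOf B).Normal := hA.subgroupOf B
  have hp : IsPGroup s (B ⧸ A.subgroupOf B) := by
    intro g
    obtain ⟨b, rfl⟩ := QuotientGroup.mk_surjective g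
    refine ⟨1, ?_⟩
    rw [pow_one, ← QuotientGroup.mk_pow, QuotientGroup.eq_one_iff, Subgroup.mem_subgroupOf,
      Subgroup.coe_pow]
    exact hpow b b.2
  obtain ⟨j, hj⟩ := IsPGroup.iff_card.mp hp
  refine ⟨j, ?_⟩
  rw [Subgroup.card_eq_card_quotient_mul_card_subgroup (A.subgroupOf B), hj,
    Nat.card_congr (Subgroup.subgroupOfEquivOfLe hAB).toEquiv]

/-- a group of scalars has order dividing `q - 1` -/
theorem scalar_card_dvd [Finite V] [Nontrivial V] [Finite G] (ρ : G →* (V ≃ₗ[ZMod q] V))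
    (hρ : Function.Injective ρ) (A : Subgroup G)
    (hA : ∀ a ∈ A, ∃ c : ZMod q, ∀ v, ρ a v = c • v) : Nat.card A ∣ q - 1 := by
  let σ : (ZMod q)ˣ →* (V ≃ₗ[ZMod q] V) := DistribMulAction.toModuleAut (ZMod q) V
  have hσ : ∀ (u : (ZMod q)ˣ) (v : V), σ u v = (u : ZMod q) • v := fun _ _ => rfl
  have h1 : A.map ρ ≤ σ.range := by
    rintro _ ⟨a, ha, rfl⟩
    obtain ⟨c, hc⟩ := hA a ha
    have hc0 : c ≠ 0 := by
      rintro rfl
      obtain ⟨v, hv⟩ := exists_ne (0 : V)
      apply hv
      have := hc v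
      rw [zero_smul] at this
      have h2 := congrArg (ρ a⁻¹) this
      rwa [rho_inv_apply, map_zero] at h2
    refine ⟨Units.mk0 c hc0, ?_⟩
    apply LinearEquiv.ext
    intro v
    rw [hσ, hc]
    rfl
  have h2 : Nat.card (A.map ρ) = Nat.card A := Subgroup.card_map_of_injective hρ
  have h3 : Nat.card σ.range ∣ Nat.card (ZMod q)ˣ := Subgroup.card_range_dvd σ
  have h4 : Nat.card (ZMod q)ˣ = q - 1 := by
    rw [Nat.card_eq_fintype_card, ZMod.card_units]
  rw [← h2, ← h4]
  exact (Subgroup.card_dvd_of_le h1).trans h3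

/-- the centre of a subgroup, as a subgroup of the ambient group -/
def cen (N : Subgroup G) : Subgroup G := N ⊓ Subgroup.centralizer (N : Set G)

theorem mem_cen {N : Subgroup G} {z : G} : z ∈ cen N ↔ z ∈ N ∧ ∀ y ∈ N, y * z = z * y := by
  unfold cen
  rw [Subgroup.mem_inf, Subgroup.mem_centralizer_iff]
  rfl

theorem cen_le (N : Subgroup G) : cen N ≤ N := inf_le_left

instance cen_normal (N : Subgroup G) [N.Normal] : (cen N).Normal := by
  unfold cen
  infer_instance

theorem cen_comm (N : Subgroup G) : ∀ a ∈ cen N, ∀ b ∈ cen N, a * b = b * a := by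
  intro a ha b hb
  exact (mem_cen.mp hb).2 a (mem_cen.mp ha).1

/-- the pair `(N, Z(N))` is a central pair when `N` is normal of class at most two -/
theorem cpair_cen [Finite V] [Finite G] (ρ : G →* (V ≃ₗ[ZMod q] V)) (hρ : Function.Injective ρ)
    (htr : Tr ρ) (N : Subgroup G) [N.Normal]
    (hcomm : ∀ x ∈ N, ∀ y ∈ N, x * y * x⁻¹ * y⁻¹ ∈ cen N) : CPair ρ N (cen N) where
  le := cen_le N
  central := fun z hz m hm => ((mem_cen.mp hz).2 m hm).symm
  semireg := by
    intro z hz hz1 v hv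
    by_contra hv0
    exact hz1 (semireg ρ hρ htr (cen N) (cen_comm N) z hz v hv0 hv)
  comm := hcomm
  cent := by
    intro t ht htZ
    by_contra hcon
    push Not at hcon
    exact htZ (mem_cen.mpr ⟨ht, hcon⟩)

end Cfsg.Agent.Lib.Helper78.Hup
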