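import Mathlib
import Cfsg.Agent.Lib.Helper78.Hup7

/-!
# Huppert's theorem, part 8 (helper78): the endgame divisibility.
-/

set_option autoImplicit false

namespace Cfsg.Agent.Lib.Helper78.Hup

variable {q : ℕ} [Fact q.Prime] {V : Type*} [AddCommGroup V] [Module (ZMod q) V]
  {G : Type*} [Group G]

theorem zmod2_eq_one : ∀ l : ZMod 2, l ≠ 0 → l = 1 := by decide

/-- **Endgame**: a normal subgroup `N` of class two with `N / Z(N)` of exponent two and order
`(dim V)²` forces `|V| - 1 ∣ (q - 1) · 2^d · |GL(d, 2)|`. -/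
theorem endgame [Finite V] [Nontrivial V] [Finite G] (ρ : G →* (V ≃ₗ[ZMod q] V))
    (hρ : Function.Injective ρ) (htr : Tr ρ) (N : Subgroup G) [hNn : N.Normal]
    (hcomm : ∀ x ∈ N, ∀ y ∈ N, x * y * x⁻¹ * y⁻¹ ∈ cen N)
    (hsq : ∀ x ∈ N, x ^ 2 ∈ cen N)
    (hcard : Nat.card N =
      (Module.finrank (ZMod q) V * Module.finrank (ZMod q) V) * Nat.card (cen N)) :
    ∃ d : ℕ, Module.finrank (ZMod q) V * Module.finrank (ZMod q) V = 2 ^ d ∧
      q ^ Module.finrank (ZMod q) V - 1 ∣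
        (q - 1) * 2 ^ d * ∏ i : Fin d, (2 ^ d - 2 ^ (i : ℕ)) ∧
      (2 ≤ Module.finrank (ZMod q) V → q ≠ 2) := by
  classical
  set n := Module.finrank (ZMod q) V with hn
  set Z := cen N with hZdef
  have hZab := cen_comm N
  have hP : CPair ρ N Z := cpair_cen ρ hρ htr N hcomm
  obtain ⟨hZsc, hcen⟩ := scalar_of_card_eq ρ hP hcard
  set Z₁ := Subgroup.centralizer (N : Set G) with hZ₁def
  have hZ₁mem : ∀ x, x ∈ Z₁ ↔ ∀ y ∈ N, y * x = x * y := fun x => Subgroup.mem_centralizer_iff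
  have hZ₁sc : ∀ x ∈ Z₁, ∃ c : ZMod q, ∀ v, ρ x v = c • v := by
    intro x hx
    apply hcen (R ρ x)
    intro m hm
    rw [← map_mul, ← map_mul, (hZ₁mem x).mp hx m hm]
  have hcentral : ∀ x ∈ Z₁, ∀ g : G, x * g = g * x := by
    intro x hx g
    obtain ⟨c, hc⟩ := hZ₁sc x hx
    apply hρ
    apply LinearEquiv.ext
    intro v
    rw [rho_mul_apply, rho_mul_apply, hc, hc, map_smul]
  have hZ₁card : Nat.card Z₁ ∣ q - 1 := scalar_card_dvd ρ hρ Z₁ hZ₁sc
  have hZZ₁ : Z ≤ Z₁ := inf_le_right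
  have hZcentral : ∀ z ∈ Z, ∀ g : G, z * g = g * z := fun z hz g => hcentral z (hZZ₁ hz) g
  -- the order of `N / Z`
  have : Fact (Nat.Prime 2) := ⟨Nat.prime_two⟩
  obtain ⟨d, hd⟩ := exp_card 2 Z N (cen_le N) hsq
  have hZpos : 0 < Nat.card Z := Nat.card_pos
  have hnd : n * n = 2 ^ d := by
    rw [hd] at hcard
    exact (Nat.eq_of_mul_eq_mul_right hZpos hcard).symm
  -- the action on `N / Z`
  let π : G →* G ⧸ Z := QuotientGroup.mk' Z
  let W : Subgroup (G ⧸ Z) := N.map π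
  have hWn : W.Normal := Subgroup.Normal.map hNn π (QuotientGroup.mk'_surjective Z)
  let φ : G →* MulAut W := (MulAut.conjNormal (H := W)).comp π
  have hker : ∀ x, x ∈ φ.ker ↔ ∀ y ∈ N, x * y * x⁻¹ * y⁻¹ ∈ Z := by
    intro x
    rw [MonoidHom.mem_ker]
    constructor
    · intro h y hy
      have h1 : φ x ⟨π y, Subgroup.mem_map_of_mem π hy⟩ = ⟨π y, Subgroup.mem_map_of_mem π hy⟩ := by
        rw [h]; rfl
      have h2 : π x * π y * (π x)⁻¹ = π y := congrArg Subtype.val h1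
      have h3 : π (x * y * x⁻¹) = π y := by rw [map_mul, map_mul, map_inv]; exact h2
      have h4 := (QuotientGroup.eq_iff_div_mem (N := Z)).mp h3
      rw [div_eq_mul_inv] at h4
      exact h4
    · intro h
      apply MulEquiv.ext
      intro w
      apply Subtype.ext
      obtain ⟨y, hy, hyw⟩ := w.2
      show π x * (w : G ⧸ Z) * (π x)⁻¹ = (w : G ⧸ Z)
      rw [← hyw, ← map_inv, ← map_mul, ← map_mul]
      apply (QuotientGroup.eq_iff_div_mem (N := Z)).mpr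
      rw [div_eq_mul_inv]
      exact h y hy
  set C₁ := φ.ker with hC₁
  have hNC₁ : N ≤ C₁ := fun x hx => (hker x).mpr (fun y hy => hcomm x hx y hy)
  have hZ₁C₁ : Z₁ ≤ C₁ := by
    intro x hx
    rw [hker]
    intro y hy
    have : x * y * x⁻¹ * y⁻¹ = 1 := by
      rw [← (hZ₁mem x).mp hx y hy]; group
    rw [this]; exact Z.one_mem
  -- homomorphisms given by commutators
  have hC₁Z : ∀ u ∈ C₁, ∀ y ∈ N, y * u * y⁻¹ * u⁻¹ ∈ Z := by
    intro u hu y hy
    have h1 := (hker u).mp hu y hy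
    have h2 : y * u * y⁻¹ * u⁻¹ = (u * y * u⁻¹ * y⁻¹)⁻¹ := by group
    rw [h2]; exact Z.inv_mem h1
  have hcommC : ∀ x ∈ C₁, ∀ x' ∈ C₁, x * x' * x⁻¹ * x'⁻¹ ∈ Z₁ := by
    intro x hx x' hx'
    rw [hZ₁mem]
    intro y hy
    let Ψ : C₁ →* Z := commHom C₁ Z (fun z hz m _ => hZcentral z hz m) y
      (fun u hu => hC₁Z u hu y hy)
    have h1 : Ψ (⟨x, hx⟩ * ⟨x', hx'⟩ * ⟨x, hx⟩⁻¹ * ⟨x', hx'⟩⁻¹) = 1 := by
      rw [map_mul, map_mul, map_mul, map_inv, map_inv]
      have h2 : Ψ ⟨x, hx⟩ * Ψ ⟨x', hx'⟩ = Ψ ⟨x', hx'⟩ * Ψ ⟨x, hx⟩ :=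
        Subtype.ext (hZab _ (Ψ ⟨x, hx⟩).2 _ (Ψ ⟨x', hx'⟩).2)
      rw [h2]; group
    have h3 : y * (x * x' * x⁻¹ * x'⁻¹) * y⁻¹ * (x * x' * x⁻¹ * x'⁻¹)⁻¹ = 1 :=
      congrArg Subtype.val h1
    calc y * (x * x' * x⁻¹ * x'⁻¹)
        = (y * (x * x' * x⁻¹ * x'⁻¹) * y⁻¹ * (x * x' * x⁻¹ * x'⁻¹)⁻¹) *
            (x * x' * x⁻¹ * x'⁻¹) * y := by group
      _ = (x * x' * x⁻¹ * x'⁻¹) * y := by rw [h3, one_mul]
  have hsqC : ∀ x ∈ C₁, x ^ 2 ∈ Z₁ := by
    intro x hx
    rw [hZ₁mem]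
    intro y hy
    let Ψ : C₁ →* Z := commHom C₁ Z (fun z hz m _ => hZcentral z hz m) y
      (fun u hu => hC₁Z u hu y hy)
    let Θ : N →* Z := commHom N Z (fun z hz m _ => hZcentral z hz m) x
      (fun m hm => (hker x).mp hx m hm)
    -- `[x, y]² = [x, y²] = 1`
    have h1 : Θ (⟨y, hy⟩ ^ 2) = 1 := by
      apply Subtype.ext
      show x * ((⟨y, hy⟩ ^ 2 : N) : G) * x⁻¹ * ((⟨y, hy⟩ ^ 2 : N) : G)⁻¹ = 1
      rw [Subgroup.coe_pow]
      show x * y ^ 2 * x⁻¹ * (y ^ 2)⁻¹ = 1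
      rw [← hZcentral _ (hsq y hy) x]; group
    rw [map_pow] at h1
    have h2 : (x * y * x⁻¹ * y⁻¹) ^ 2 = 1 := by
      have h3 : ((Θ ⟨y, hy⟩ : Z) : G) ^ 2 = 1 := by
        rw [← Subgroup.coe_pow, h1]; rfl
      exact h3
    have h4 : Ψ (⟨x, hx⟩ ^ 2) = 1 := by
      rw [map_pow]
      apply Subtype.ext
      rw [Subgroup.coe_pow]
      show (y * x * y⁻¹ * x⁻¹) ^ 2 = 1
      have h5 : y * x * y⁻¹ * x⁻¹ = (x * y * x⁻¹ * y⁻¹)⁻¹ := by group
      rw [h5, inv_pow, h2, inv_one]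
    have h6 : y * x ^ 2 * y⁻¹ * (x ^ 2)⁻¹ = 1 := by
      have := congrArg (fun z : Z => (z : G)) h4
      simpa [Ψ, commHom_coe] using this
    calc y * x ^ 2 = (y * x ^ 2 * y⁻¹ * (x ^ 2)⁻¹) * x ^ 2 * y := by group
      _ = x ^ 2 * y := by rw [h6, one_mul]
  have hZ₁n : Z₁.Normal := by rw [hZ₁def]; infer_instance
  have hP₁ : CPair ρ C₁ Z₁ :=
    { le := hZ₁C₁
      central := fun z hz m _ => hcentral z hz m
      semireg := by
        intro z hz hz1 v hv
        obtain ⟨c, hc⟩ := hZ₁sc z hz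
        have hc1 : c ≠ 1 := by
          rintro rfl
          apply hz1
          apply hρ
          rw [map_one]
          apply LinearEquiv.ext
          intro w
          rw [hc, one_smul]; rfl
        rw [hc] at hv
        have h1 : (c - 1) • v = 0 := by rw [sub_smul, one_smul, hv, sub_self]
        rcases smul_eq_zero.mp h1 with h2 | h2
        · exact absurd (sub_eq_zero.mp h2) hc1
        · exact h2
      comm := hcommC
      cent := by
        intro t _ htZ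
        rw [hZ₁mem] at htZ
        push Not at htZ
        obtain ⟨y, hy, hyt⟩ := htZ
        exact ⟨y, hNC₁ hy, hyt⟩ }
  have hle₁ := card_le_sq ρ hP₁
  obtain ⟨j, hj⟩ := exp_card 2 Z₁ C₁ hZ₁C₁ hsqC
  have hZ₁pos : 0 < Nat.card Z₁ := Nat.card_pos
  have hjd : j ≤ d := by
    rw [hj, ← hn, hnd] at hle₁
    have h1 := Nat.le_of_mul_le_mul_right hle₁ hZ₁pos
    exact (Nat.pow_le_pow_iff_right (by norm_num)).mp h1
  -- the order of `Aut (N / Z)`
  have hWcomm : ∀ a b : W, a * b = b * a := by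
    rintro ⟨_, y, hy, rfl⟩ ⟨_, y', hy', rfl⟩
    apply Subtype.ext
    show π y * π y' = π y' * π y
    rw [← map_mul, ← map_mul]
    apply (QuotientGroup.eq_iff_div_mem (N := Z)).mpr
    have : y * y' / (y' * y) = y * y' * y⁻¹ * y'⁻¹ := by rw [div_eq_mul_inv]; group
    rw [this]
    exact hcomm y hy y' hy'
  have hWexp : ∀ a : W, a ^ 2 = 1 := by
    rintro ⟨_, y, hy, rfl⟩
    apply Subtype.ext
    show (π y) ^ 2 = 1
    rw [← map_pow]
    exact (QuotientGroup.eq_one_iff _).mpr (hsq y hy)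
  have hWcard : Nat.card W = 2 ^ d := by
    let πN : N →* G ⧸ Z := π.comp N.subtype
    have h1 : πN.range = W := by
      show (π.comp N.subtype).range = N.map π
      rw [MonoidHom.range_comp, Subgroup.range_subtype]
    have h2 : πN.ker = Z.subgroupOf N := by
      show (π.comp N.subtype).ker = Z.subgroupOf N
      rw [← MonoidHom.comap_ker, QuotientGroup.ker_mk']
      rfl
    have h3 : Nat.card N = Nat.card πN.ker * Nat.card πN.range := by
      rw [← Subgroup.index_ker, Subgroup.card_mul_index]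
    rw [h1, h2, Nat.card_congr (Subgroup.subgroupOfEquivOfLe (cen_le N)).toEquiv, hd,
      mul_comm] at h3
    exact (Nat.eq_of_mul_eq_mul_left hZpos h3).symm
  have hAut := card_mulAut_elem 2 d hWcomm hWexp hWcard
  have hrange : Nat.card φ.range ∣ ∏ i : Fin d, (2 ^ d - 2 ^ (i : ℕ)) := by
    rw [← hAut]
    exact Subgroup.card_subgroup_dvd_card φ.range
  have hG : Nat.card G = Nat.card C₁ * Nat.card φ.range := by
    rw [← Subgroup.index_ker, Subgroup.card_mul_index]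
  refine ⟨d, hnd, ?_, ?_⟩
  · refine (card_dvd_of_tr ρ htr).trans ?_
    rw [hG, hj]
    have h1 : 2 ^ j ∣ 2 ^ d := pow_dvd_pow 2 hjd
    have h2 : 2 ^ j * Nat.card Z₁ ∣ (q - 1) * 2 ^ d := by
      rw [mul_comm (q - 1)]
      exact Nat.mul_dvd_mul h1 hZ₁card
    exact Nat.mul_dvd_mul h2 hrange
  · intro hn2 hq2
    -- a non-central element of `N`
    have hNZ : ¬ N ≤ Z := by
      intro hle
      have h1 : Nat.card N = Nat.card Z := by
        rw [le_antisymm hle (cen_le N)]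
      rw [h1] at hcard
      have h2 : n * n = 1 := by
        have : 1 * Nat.card Z = (n * n) * Nat.card Z := by rw [one_mul]; exact hcard
        exact (Nat.eq_of_mul_eq_mul_right hZpos this).symm
      nlinarith
    obtain ⟨x, hxN, hxZ⟩ := SetLike.not_le_iff_exists.mp hNZ
    obtain ⟨y, hyN, hyx⟩ := hP.cent x hxN hxZ
    set c := x * y * x⁻¹ * y⁻¹ with hc
    have hcZ : c ∈ Z := hcomm x hxN y hyN
    have hc1 : c ≠ 1 := by
      intro h
      apply hyx
      calc y * x = (x * y * x⁻¹ * y⁻¹)⁻¹ * (x * y) := by group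
        _ = x * y := by rw [← hc, h, inv_one, one_mul]
    obtain ⟨l, hl⟩ := hZsc c hcZ
    subst hq2
    have hl0 : l ≠ 0 := by
      rintro rfl
      obtain ⟨v, hv⟩ := exists_ne (0 : V)
      apply hv
      have h1 := hl v
      rw [zero_smul] at h1
      have h2 := congrArg (ρ c⁻¹) h1
      rwa [rho_inv_apply, map_zero] at h2
    have hl1 : l = 1 := zmod2_eq_one l hl0
    apply hc1
    apply hρ
    rw [map_one]
    apply LinearEquiv.ext
    intro v
    rw [hl, hl1, one_smul]; rfl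

end Cfsg.Agent.Lib.Helper78.Hup
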