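import Mathlib
import Cfsg.Agent.Lib.Helper78.Hup8
import Cfsg.Agent.Lib.Helper24.Omega1
import Cfsg.Agent.Lib.Helper22.Fitting

/-!
# Huppert's theorem, part 10 (helper78): auxiliary lemmas for the main case.
-/

set_option autoImplicit false

namespace Cfsg.Agent.Lib.Helper78.Hup

open scoped commutatorElement

variable {q : ℕ} [Fact q.Prime] {V : Type*} [AddCommGroup V] [Module (ZMod q) V]
  {G : Type*} [Group G]

/-- sums over the powers of a fixed-point-free element of order dividing `s` vanish -/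
theorem sum_pow_eq_zero (ρ : G →* (V ≃ₗ[ZMod q] V)) (e : G) (s : ℕ) (he : e ^ s = 1)
    (hfix : ∀ v : V, ρ e v = v → v = 0) (v : V) :
    ∑ i ∈ Finset.range s, ρ (e ^ i) v = 0 :=
  hfix _ (sum_pow_fixed ρ e s he v)

/-- a semiregular abelian group has at most one subgroup of prime order `s ≠ q` -/
theorem omega_cyclic [Nontrivial V] (ρ : G →* (V ≃ₗ[ZMod q] V)) (Z : Subgroup G)
    (hZab : ∀ a ∈ Z, ∀ b ∈ Z, a * b = b * a)
    (hsemi : ∀ z ∈ Z, z ≠ 1 → ∀ v : V, ρ z v = v → v = 0)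
    (s : ℕ) [hs : Fact s.Prime] (hsq : s ≠ q) :
    ∀ c ∈ Z, ∀ c' ∈ Z, c ^ s = 1 → c' ^ s = 1 → c ≠ 1 → c' ∈ Subgroup.zpowers c := by
  intro c hc c' hc' hcs hc's hc1
  by_contra hnot
  have hord : orderOf c = s := orderOf_eq_prime hcs hc1
  have hcomm : Commute c' c := hZab c' hc' c hc
  -- the elements `c' * c ^ j` are non-trivial of order dividing `s`
  have h1 : ∀ (j : ℕ) (v : V), ∑ i ∈ Finset.range s, ρ ((c' * c ^ j) ^ i) v = 0 := by
    intro j v
    apply sum_pow_eq_zero ρ _ s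
    · rw [(hcomm.pow_right j).mul_pow, hc's, ← pow_mul, mul_comm j s, pow_mul, hcs, one_pow,
        one_mul]
    · apply hsemi _ (Z.mul_mem hc' (Z.pow_mem hc j))
      intro h
      apply hnot
      have : c' = (c ^ j)⁻¹ := eq_inv_of_mul_eq_one_left h
      rw [this]
      exact Subgroup.inv_mem _ (Subgroup.pow_mem _ (Subgroup.mem_zpowers c) j)
  have h2 : ∀ (i : ℕ), 0 < i → i < s → ∀ v : V,
      ∑ j ∈ Finset.range s, ρ ((c ^ i) ^ j) v = 0 := by
    intro i hi0 his v
    apply sum_pow_eq_zero ρ _ s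
    · rw [← pow_mul, mul_comm, pow_mul, hcs, one_pow]
    · apply hsemi _ (Z.pow_mem hc i)
      intro h
      have := orderOf_dvd_of_pow_eq_one h
      rw [hord] at this
      exact absurd (Nat.le_of_dvd hi0 this) (not_le.mpr his)
  obtain ⟨v, hv⟩ := exists_ne (0 : V)
  have h3 : ∑ j ∈ Finset.range s, ∑ i ∈ Finset.range s, ρ ((c' * c ^ j) ^ i) v = 0 :=
    Finset.sum_eq_zero (fun j _ => h1 j v)
  rw [Finset.sum_comm] at h3
  have h4 : ∀ i j : ℕ, ρ ((c' * c ^ j) ^ i) v = ρ (c' ^ i) (ρ ((c ^ i) ^ j) v) := by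
    intro i j
    rw [← rho_mul_apply, (hcomm.pow_right j).mul_pow, ← pow_mul, ← pow_mul, mul_comm j i]
  simp only [h4] at h3
  obtain ⟨s', hs'⟩ : ∃ s', s = s' + 1 := ⟨s - 1, by have := hs.out.pos; omega⟩
  have h5 : ∀ i ∈ Finset.range s', ∑ j ∈ Finset.range s, ρ (c' ^ (i + 1)) (ρ ((c ^ (i + 1)) ^ j) v)
      = 0 := by
    intro i hi
    rw [Finset.mem_range] at hi
    rw [← map_sum, h2 (i + 1) (Nat.succ_pos i) (by omega) v, map_zero]
  have h6 : ∑ i ∈ Finset.range s, ∑ j ∈ Finset.range s, ρ (c' ^ i) (ρ ((c ^ i) ^ j) v) =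
      s • v := by
    conv_lhs => rw [hs', Finset.sum_range_succ']
    rw [← hs', Finset.sum_eq_zero h5, zero_add]
    simp
  rw [h6, ← Nat.cast_smul_eq_nsmul (ZMod q)] at h3
  rcases smul_eq_zero.mp h3 with h7 | h7
  · have h8 : q ∣ s := (ZMod.natCast_eq_zero_iff _ _).mp h7
    exact hsq ((Nat.prime_dvd_prime_iff_eq (Fact.out : q.Prime) hs.out).mp h8).symm
  · exact hv h7

/-- if `g x g⁻¹ = x c` with `c` centralised by `g` and of order coprime to the order of `g`,
then `g` centralises `x` -/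
theorem commute_of_twist (g x c : G) (r m : ℕ) (hg : g ^ r = 1) (hcop : Nat.Coprime m r)
    (hc : g * x * g⁻¹ = x * c) (hgc : g * c = c * g) (hcm : c ^ m = 1) : g * x = x * g := by
  have hgc' : g * c * g⁻¹ = c := by rw [hgc]; group
  have key : ∀ i : ℕ, g ^ i * x * (g ^ i)⁻¹ = x * c ^ i := by
    intro i
    induction i with
    | zero => simp
    | succ i ih =>
      have e1 : g ^ (i + 1) * x * (g ^ (i + 1))⁻¹ = g * (g ^ i * x * (g ^ i)⁻¹) * g⁻¹ := by
        rw [pow_succ']; group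
      have e2 : g * (x * c ^ i) * g⁻¹ = (g * x * g⁻¹) * (g * c * g⁻¹) ^ i := by
        rw [conj_pow]; group
      rw [e1, ih, e2, hc, hgc', mul_assoc, ← pow_succ']
  have h1 := key r
  rw [hg] at h1
  have h2 : c ^ r = 1 := by
    have : x * 1 = x * c ^ r := by simpa using h1
    exact (mul_left_cancel this).symm
  have h3 : orderOf c ∣ Nat.gcd m r :=
    Nat.dvd_gcd (orderOf_dvd_of_pow_eq_one hcm) (orderOf_dvd_of_pow_eq_one h2)
  rw [hcop] at h3
  have h4 : c = 1 := orderOf_eq_one_iff.mp (Nat.dvd_one.mp h3)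
  rw [h4, mul_one] at hc
  calc g * x = g * x * g⁻¹ * g := by group
    _ = x * g := by rw [hc]

/-- the Frattini subgroup of a normal subgroup, as a subgroup of the ambient group -/
def frat (N : Subgroup G) : Subgroup G := (frattini N).map N.subtype

theorem frat_le (N : Subgroup G) : frat N ≤ N := by
  rintro _ ⟨x, _, rfl⟩
  exact x.2

instance frat_normal (N : Subgroup G) [hN : N.Normal] : (frat N).Normal := by
  constructor
  rintro _ ⟨x, hx, rfl⟩ h
  refine ⟨MulAut.conjNormal h x, ?_, ?_⟩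
  · have hchar : (frattini N).Characteristic := inferInstance
    have := Subgroup.characteristic_iff_map_eq.mp hchar (MulAut.conjNormal h)
    rw [SetLike.mem_coe, ← this]
    exact Subgroup.mem_map_of_mem _ hx
  · simp [MulAut.conjNormal_apply]

theorem frat_ne [Finite G] (N : Subgroup G) (hN : N ≠ ⊥) : frat N ≠ N := by
  intro h
  have : Nontrivial N := (Subgroup.nontrivial_iff_ne_bot N).mpr hN
  have h1 := Cfsg.Agent.Lib.Helper24.frattini_lt_top (P := N)
  apply h1.ne
  rw [eq_top_iff]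
  intro x _
  have hx : (x : G) ∈ frat N := by rw [h]; exact x.2
  obtain ⟨y, hy, hyx⟩ := hx
  have : y = x := Subtype.ext hyx
  rw [← this]; exact hy

theorem comm_mem_frat [Finite G] (N : Subgroup G) (s : ℕ) [Fact s.Prime] (hN : IsPGroup s N)
    {x y : G} (hx : x ∈ N) (hy : y ∈ N) : x * y * x⁻¹ * y⁻¹ ∈ frat N := by
  have h1 := Cfsg.Agent.Lib.Helper24.commutator_le_frattini_of_isPGroup hN
  have h2 : ⁅(⟨x, hx⟩ : N), ⟨y, hy⟩⁆ ∈ commutator N := by
    rw [commutator_def]
    exact Subgroup.commutator_mem_commutator (Subgroup.mem_top _) (Subgroup.mem_top _)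
  refine ⟨_, h1 h2, ?_⟩
  simp [commutatorElement_def]

theorem pow_mem_frat [Finite G] (N : Subgroup G) (s : ℕ) [Fact s.Prime] (hN : IsPGroup s N)
    {x : G} (hx : x ∈ N) : x ^ s ∈ frat N := by
  have h1 := Cfsg.Agent.Lib.Helper24.pow_mem_frattini_of_isPGroup hN (⟨x, hx⟩ : N)
  refine ⟨_, h1, ?_⟩
  simp

/-- `O_s(G) = 1` when abelian normal subgroups contain no elements of order `s` -/
theorem pcore_eq_bot [Finite G] (s : ℕ) [hs : Fact s.Prime]
    (h : ∀ A : Subgroup G, A.Normal → (∀ a ∈ A, ∀ b ∈ A, a * b = b * a) →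
      ∀ a ∈ A, a ^ s = 1 → a = 1) : Cfsg.pCore s G = ⊥ := by
  by_contra hne
  set P := Cfsg.pCore s G with hP
  have hPn : P.Normal := Cfsg.Agent.Lib.Helper22.pCore_normal' s G
  have hPp : IsPGroup s P := Cfsg.Agent.Lib.Helper22.pCore_isPGroup' s G
  have : Nontrivial P := (Subgroup.nontrivial_iff_ne_bot P).mpr hne
  have hcen := hPp.center_nontrivial
  obtain ⟨z, hz1⟩ := exists_ne (1 : Subgroup.center P)
  have hzc : ∀ y : P, y * (z : P) = (z : P) * y := fun y => Subgroup.mem_center_iff.mp z.2 y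
  have hzG : ((z : P) : G) ∈ cen P := by
    rw [mem_cen]
    refine ⟨(z : P).2, ?_⟩
    intro y hy
    exact congrArg Subtype.val (hzc ⟨y, hy⟩)
  have hzne : ((z : P) : G) ≠ 1 := by
    intro h1
    apply hz1
    apply Subtype.ext
    apply Subtype.ext
    exact h1
  obtain ⟨j, hj⟩ := hPp (z : P)
  have hj' : ((z : P) : G) ^ (s ^ j) = 1 := by
    have := congrArg (fun y : P => (y : G)) hj
    simpa using this
  obtain ⟨k, hk⟩ := (Nat.dvd_prime_pow hs.out).mp (orderOf_dvd_of_pow_eq_one hj')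
  obtain ⟨hkj, hk⟩ := hk
  have hk0 : k ≠ 0 := by
    rintro rfl
    rw [pow_zero, orderOf_eq_one_iff] at hk
    exact hzne hk
  obtain ⟨k', rfl⟩ : ∃ k', k = k' + 1 := ⟨k - 1, by omega⟩
  set a := ((z : P) : G) ^ (s ^ k') with ha
  have haA : a ∈ cen P := Subgroup.pow_mem _ hzG _
  have has : a ^ s = 1 := by
    rw [ha, ← pow_mul, ← pow_succ, ← hk, pow_orderOf_eq_one]
  have ha1 : a ≠ 1 := by
    intro h1
    have h2 := orderOf_dvd_of_pow_eq_one h1
    rw [hk] at h2
    have h3 := Nat.le_of_dvd (by have := hs.out.pos; positivity) h2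
    have h4 : s ^ k' < s ^ (k' + 1) := Nat.pow_lt_pow_right hs.out.one_lt (Nat.lt_succ_self k')
    omega
  exact ha1 (h (cen P) inferInstance (cen_comm P) a haA has)

end Cfsg.Agent.Lib.Helper78.Hup
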