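import Mathlib
import Cfsg.Agent.Lib.Helper78.Hup10

/-!
# Huppert's theorem, part 11 (helper78): the symplectic section on which a Zsigmondy element acts
fixed-point-freely.
-/

set_option autoImplicit false

namespace Cfsg.Agent.Lib.Helper78.Hup

variable {q : ℕ} [Fact q.Prime] {V : Type*} [AddCommGroup V] [Module (ZMod q) V]
  {G : Type*} [Group G]

theorem card_map_mk [Finite G] (Z : Subgroup G) [Z.Normal] (H : Subgroup G) (hZH : Z ≤ H) :
    Nat.card H = Nat.card (H.map (QuotientGroup.mk' Z)) * Nat.card Z := by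
  let π : G →* G ⧸ Z := QuotientGroup.mk' Z
  let πH : H →* G ⧸ Z := π.comp H.subtype
  have h1 : πH.range = H.map π := by
    show (π.comp H.subtype).range = H.map π
    rw [MonoidHom.range_comp, Subgroup.range_subtype]
  have h2 : πH.ker = Z.subgroupOf H := by
    show (π.comp H.subtype).ker = Z.subgroupOf H
    rw [← MonoidHom.comap_ker, QuotientGroup.ker_mk']
    rfl
  have h3 : Nat.card H = Nat.card πH.ker * Nat.card πH.range := by
    rw [← Subgroup.index_ker, Subgroup.card_mul_index]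
  rw [h1, h2, Nat.card_congr (Subgroup.subgroupOfEquivOfLe hZH).toEquiv, mul_comm] at h3
  exact h3

/-- **The symplectic section.** -/
theorem symp_section [Finite V] [Nontrivial V] [Finite G] (ρ : G →* (V ≃ₗ[ZMod q] V))
    (hρ : Function.Injective ρ) (htr : Tr ρ) (N : Subgroup G) [hNn : N.Normal]
    (hcomm : ∀ x ∈ N, ∀ y ∈ N, x * y * x⁻¹ * y⁻¹ ∈ cen N)
    (r : ℕ) [hr : Fact r.Prime] (g : G) (hg : g ^ r = 1)
    (hirr : ∀ W : Submodule (ZMod q) V, (∀ v ∈ W, ρ g v ∈ W) → W = ⊥ ∨ W = ⊤)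
    (hgZ : ∀ z ∈ cen N, g * z = z * g)
    (hgN : ∃ x ∈ N, g * x ≠ x * g)
    (hcr : (Nat.card N).Coprime r) (hcq : (Nat.card N).Coprime q) :
    ∃ (M : Subgroup G) (κ : ℕ), M ≤ N ∧ CPair ρ M (cen N) ∧
      Nat.card M = κ * Nat.card (cen N) ∧ κ ≡ 1 [MOD r] ∧ 1 < κ := by
  classical
  set Z := cen N with hZdef
  have hPN : CPair ρ N Z := cpair_cen ρ hρ htr N hcomm
  let π : G →* G ⧸ Z := QuotientGroup.mk' Z
  have hπ : Function.Surjective π := QuotientGroup.mk'_surjective Z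
  have hπ1 : ∀ x : G, π x = 1 ↔ x ∈ Z := fun x => QuotientGroup.eq_one_iff x
  let Nb : Subgroup (G ⧸ Z) := N.map π
  let gb : G ⧸ Z := π g
  have hNbab : ∀ a ∈ Nb, ∀ b ∈ Nb, a * b = b * a := by
    rintro _ ⟨x, hx, rfl⟩ _ ⟨y, hy, rfl⟩
    rw [← map_mul, ← map_mul]
    apply (QuotientGroup.eq_iff_div_mem (N := Z)).mpr
    have : x * y / (y * x) = x * y * x⁻¹ * y⁻¹ := by rw [div_eq_mul_inv]; group
    rw [this]
    exact hcomm x hx y hy
  have hnb : ∀ b ∈ Nb, gb * b * gb⁻¹ ∈ Nb := by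
    rintro _ ⟨x, hx, rfl⟩
    refine ⟨g * x * g⁻¹, hNn.conj_mem x hx g, ?_⟩
    rw [map_mul, map_mul, map_inv]
  have hnb' : ∀ b ∈ Nb, gb⁻¹ * b * gb ∈ Nb := by
    rintro _ ⟨x, hx, rfl⟩
    refine ⟨g⁻¹ * x * g, ?_, ?_⟩
    · have := hNn.conj_mem x hx g⁻¹
      simpa using this
    · rw [map_mul, map_mul, map_inv]
  have hgbr : gb ^ r = 1 := by
    show (π g) ^ r = 1
    rw [← map_pow, hg, map_one]
  have hcardNb : Nat.card N = Nat.card Nb * Nat.card Z := card_map_mk Z N (cen_le N)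
  have hNbr : (Nat.card Nb).Coprime r :=
    Nat.Coprime.coprime_dvd_left (Dvd.intro _ hcardNb.symm) hcr
  let K : Subgroup (G ⧸ Z) := commSub Nb gb hNbab hnb
  have hKNb : K ≤ Nb := commSub_le Nb gb hNbab hnb
  have hKmod : Nat.card K ≡ 1 [MOD r] := commSub_card_modEq Nb gb hNbab hnb r hgbr hNbr
  have hKfpf : ∀ x ∈ K, gb * x * gb⁻¹ = x → x = 1 :=
    fun x hx => commSub_fpf Nb gb hNbab hnb r hgbr hNbr x hx
  -- the order of elements of `N` is coprime to `r`
  have hpowN : ∀ c ∈ N, c ^ Nat.card N = 1 := by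
    intro c hc
    have : (⟨c, hc⟩ : N) ^ Nat.card N = 1 := pow_card_eq_one'
    exact congrArg Subtype.val this
  -- `K` is non-trivial
  have hKne : K ≠ ⊥ := by
    intro hK
    obtain ⟨x, hx, hgx⟩ := hgN
    apply hgx
    have h1 : gb * π x * gb⁻¹ * (π x)⁻¹ ∈ K := ⟨π x, Subgroup.mem_map_of_mem π hx, rfl⟩
    rw [hK, Subgroup.mem_bot] at h1
    have h2 : π (g * x * g⁻¹ * x⁻¹) = 1 := by
      rw [map_mul, map_mul, map_mul, map_inv, map_inv]; exact h1
    have h3 : g * x * g⁻¹ * x⁻¹ ∈ Z := (hπ1 _).mp h2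
    have hZn : Z.Normal := inferInstance
    have h4 : x⁻¹ * (g * x * g⁻¹ * x⁻¹) * x⁻¹⁻¹ ∈ Z := hZn.conj_mem _ h3 x⁻¹
    set c := x⁻¹ * (g * x * g⁻¹ * x⁻¹) * x⁻¹⁻¹ with hc
    have h5 : g * x * g⁻¹ = x * c := by rw [hc]; group
    exact commute_of_twist g x c r (Nat.card N) hg hcr h5 (hgZ c h4)
      (hpowN c (cen_le N h4))
  have hKcard : 1 < Nat.card K := by
    have h1 : Nat.card K ≠ 1 := fun h => hKne (Subgroup.card_eq_one.mp h)
    have h2 : 0 < Nat.card K := Nat.card_pos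
    omega
  -- the preimage
  let M : Subgroup G := K.comap π
  have hZM : Z ≤ M := by
    intro z hz
    show π z ∈ K
    rw [(hπ1 z).mpr hz]
    exact K.one_mem
  have hMN : M ≤ N := by
    intro x hx
    have h1 : π x ∈ Nb := hKNb hx
    obtain ⟨y, hy, hyx⟩ := h1
    have h2 : y⁻¹ * x ∈ Z := by
      rw [← hπ1, map_mul, map_inv, hyx, inv_mul_cancel]
    have : x = y * (y⁻¹ * x) := by group
    rw [this]
    exact N.mul_mem hy (cen_le N h2)
  have hMcard : Nat.card M = Nat.card K * Nat.card Z := by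
    have := card_map_mk Z M hZM
    rwa [show M.map (QuotientGroup.mk' Z) = K from
      Subgroup.map_comap_eq_self_of_surjective hπ K] at this
  have hgM : ∀ x ∈ M, g * x * g⁻¹ ∈ M := by
    intro x hx
    show π (g * x * g⁻¹) ∈ K
    rw [map_mul, map_mul, map_inv]
    exact commSub_conj Nb gb hNbab hnb _ hx
  have hgM' : ∀ x ∈ M, g⁻¹ * x * g ∈ M := by
    intro x hx
    show π (g⁻¹ * x * g) ∈ K
    rw [map_mul, map_mul, map_inv]
    exact commSub_conj' Nb gb hNbab hnb hnb' _ hx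
  refine ⟨M, Nat.card K, hMN, ?_, hMcard, hKmod, hKcard⟩
  refine
    { le := hZM
      central := fun z hz m hm => hPN.central z hz m (hMN hm)
      semireg := hPN.semireg
      comm := fun x hx y hy => hcomm x (hMN hx) y (hMN hy)
      cent := ?_ }
  intro t htM htZ
  by_contra hcon
  push Not at hcon
  -- `t` lies in the centre of `M`, which `g` centralises
  have htc : t ∈ cen M := mem_cen.mpr ⟨htM, hcon⟩
  have hcenM : ∀ b ∈ cen M, g * b * g⁻¹ ∈ cen M := by
    intro b hb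
    rw [mem_cen] at hb ⊢
    refine ⟨hgM b hb.1, ?_⟩
    intro y hy
    have h1 := hb.2 _ (hgM' y hy)
    calc y * (g * b * g⁻¹) = g * ((g⁻¹ * y * g) * b) * g⁻¹ := by group
      _ = g * (b * (g⁻¹ * y * g)) * g⁻¹ := by rw [h1]
      _ = g * b * g⁻¹ * y := by group
  have hcenM' : ∀ b ∈ cen M, g⁻¹ * b * g ∈ cen M := by
    intro b hb
    rw [mem_cen] at hb ⊢
    refine ⟨hgM' b hb.1, ?_⟩
    intro y hy
    have h1 := hb.2 _ (hgM y hy)
    calc y * (g⁻¹ * b * g) = g⁻¹ * ((g * y * g⁻¹) * b) * g := by group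
      _ = g⁻¹ * (b * (g * y * g⁻¹)) * g := by rw [h1]
      _ = g⁻¹ * b * g * y := by group
  have hcenMN : cen M ≤ N := (cen_le M).trans hMN
  have hdvd : Nat.card (cen M) ∣ Nat.card N := Subgroup.card_dvd_of_le hcenMN
  have h1 := centralizes_of_irred ρ hρ r g hg hirr (cen M) (cen_comm M) hcenM hcenM'
    (Nat.Coprime.coprime_dvd_left hdvd hcr) (Nat.Coprime.coprime_dvd_left hdvd hcq) t htc
  have h2 : gb * π t * gb⁻¹ = π t := by
    show π g * π t * (π g)⁻¹ = π t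
    rw [← map_inv, ← map_mul, ← map_mul, h1]
    congr 1
    group
  have h3 := hKfpf (π t) htM h2
  exact htZ ((hπ1 t).mp h3)

end Cfsg.Agent.Lib.Helper78.Hup
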