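import Mathlib
import Cfsg.Agent.Lib.Helper78.Hup11
import Cfsg.Agent.Lib.Helper21.BenderLemma
import Cfsg.Agent.S0044

/-!
# Huppert's theorem, part 12 (helper78): the main case (a Zsigmondy prime exists).
-/

set_option autoImplicit false
set_option linter.style.haveILetI false

namespace Cfsg.Agent.Lib.Helper78.Hup

variable {q : ℕ} [Fact q.Prime] {V : Type*} [AddCommGroup V] [Module (ZMod q) V]
  {G : Type*} [Group G]

/-- **Main case.**  If no abelian normal subgroup is irreducible and a Zsigmondy prime `r` exists,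
there is a normal subgroup of symplectic type with central quotient of order `(dim V)²`, and
`dim V + 1 = r` is prime. -/
theorem caseB [Finite V] [Nontrivial V] [Finite G] (hsol : Group.IsSolvable G)
    (ρ : G →* (V ≃ₗ[ZMod q] V)) (hρ : Function.Injective ρ) (htr : Tr ρ)
    (r : ℕ) [hr : Fact r.Prime] (hrq : r ≠ q)
    (hrk : ∀ k, 0 < k → k < Module.finrank (ZMod q) V → ¬ r ∣ q ^ k - 1)
    (hrn : r ∣ q ^ Module.finrank (ZMod q) V - 1) (hn2 : 2 ≤ Module.finrank (ZMod q) V)
    (hno : ∀ A : Subgroup G, A.Normal → (∀ a ∈ A, ∀ b ∈ A, a * b = b * a) →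
      ¬ (∀ W : Submodule (ZMod q) V, (∀ a ∈ A, ∀ v ∈ W, ρ a v ∈ W) → W = ⊥ ∨ W = ⊤)) :
    ∃ N : Subgroup G, N.Normal ∧ (∀ x ∈ N, ∀ y ∈ N, x * y * x⁻¹ * y⁻¹ ∈ cen N) ∧
      (∀ x ∈ N, x ^ 2 ∈ cen N) ∧
      Nat.card N =
        (Module.finrank (ZMod q) V * Module.finrank (ZMod q) V) * Nat.card (cen N) ∧
      (Module.finrank (ZMod q) V + 1).Prime := by
  classical
  set n := Module.finrank (ZMod q) V with hn
  have hqp : q.Prime := Fact.out
  obtain ⟨g, hgord⟩ := exists_prime_orderOf_dvd_card' r (hrn.trans (card_dvd_of_tr ρ htr))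
  have hg : g ^ r = 1 := by rw [← hgord]; exact pow_orderOf_eq_one g
  have hg1 : g ≠ 1 := by
    intro h
    rw [h, orderOf_one] at hgord
    exact hr.out.one_lt.ne hgord
  have hz := fun (g' : G) (h1 : g' ^ r = 1) (h2 : g' ≠ 1) => zsig_irred ρ hρ r hrq hrk g' h1 h2
  have hirr := (hz g hg hg1).2
  -- `r ≥ n + 1`
  have hrn1 : n + 1 ≤ r := by
    by_contra hcon
    push Not at hcon
    have hcop : Nat.Coprime q r := (Nat.coprime_primes hqp hr.out).mpr (Ne.symm hrq)
    have h1 := Nat.ModEq.pow_totient hcop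
    rw [Nat.totient_prime hr.out] at h1
    have h2 : r ∣ q ^ (r - 1) - 1 :=
      (Nat.modEq_iff_dvd' (Nat.one_le_pow _ _ hqp.pos)).mp h1.symm
    exact hrk (r - 1) (by have := hr.out.two_le; omega) (by omega) h2
  have hnoel : ∀ A : Subgroup G, A.Normal → (∀ a ∈ A, ∀ b ∈ A, a * b = b * a) →
      ∀ a ∈ A, a ^ r = 1 → a = 1 := by
    intro A hAn hAab a ha har
    by_contra ha1
    apply hno A hAn hAab
    intro W hW
    exact (hz a har ha1).2 W (fun v hv => hW a ha v hv)
  have hOr : Cfsg.pCore r G = ⊥ := pcore_eq_bot r hnoel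
  have hOq : Cfsg.pCore q G = ⊥ := pcore_eq_bot q (fun A hAn hAab a ha haq => by
    haveI := hAn
    exact qpow_trivial ρ hρ htr A hAab a ha 1 (by rwa [pow_one]))
  set F := Cfsg.fittingSubgroup G with hF
  have hgF : g ∉ F := by
    intro h
    have := Cfsg.Agent.Lib.Helper21.bl_mem_pCore_of_mem_fitting (s := r) h (k := 1)
      (by rwa [pow_one])
    rw [hOr, Subgroup.mem_bot] at this
    exact hg1 this
  haveI : Group.IsSolvable G := hsol
  have hgCF : g ∉ Subgroup.centralizer (F : Set G) := fun h => hgF (Cfsg.Agent.S0044.result h)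
  obtain ⟨s, hs⟩ : ∃ s : Nat.Primes, ∃ m ∈ Cfsg.pCore (s : ℕ) G, g * m ≠ m * g := by
    by_contra hcon
    push Not at hcon
    apply hgCF
    rw [Subgroup.mem_centralizer_iff]
    intro m hm
    have hle : F ≤ Subgroup.centralizer {g} := by
      rw [hF, Cfsg.Agent.Lib.Helper22.fittingSubgroup_eq_iSup_pCore]
      apply iSup_le
      intro p m hm
      exact mem_cent_single.mpr (hcon p m hm)
    exact (mem_cent_single.mp (hle hm)).symm
  haveI : Fact (s : ℕ).Prime := ⟨s.2⟩
  have hsr : (s : ℕ) ≠ r := by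
    intro h
    obtain ⟨m, hm, hgm⟩ := hs
    rw [h, hOr, Subgroup.mem_bot] at hm
    subst hm
    simp at hgm
  have hsq' : (s : ℕ) ≠ q := by
    intro h
    obtain ⟨m, hm, hgm⟩ := hs
    rw [h, hOq, Subgroup.mem_bot] at hm
    subst hm
    simp at hgm
  -- a minimal normal subgroup of `O_s(G)` not centralised by `g`
  let P : Subgroup G → Prop :=
    fun N => N.Normal ∧ N ≤ Cfsg.pCore (s : ℕ) G ∧ ∃ m ∈ N, g * m ≠ m * g
  have hex : ∃ k, ∃ N : Subgroup G, P N ∧ Nat.card N = k :=
    ⟨_, Cfsg.pCore (s : ℕ) G,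
      ⟨Cfsg.Agent.Lib.Helper22.pCore_normal' (s : ℕ) G, le_refl _, hs⟩, rfl⟩
  obtain ⟨N, ⟨hNn, hNs, hgN⟩, hNk⟩ := Nat.find_spec hex
  have hmin : ∀ M : Subgroup G, M.Normal → M ≤ N → M ≠ N → ∀ m ∈ M, g * m = m * g := by
    intro M hMn hMN hne
    by_contra hcon
    push Not at hcon
    have h1 : Nat.card M < Nat.card N := by
      have h2 := Subgroup.card_le_of_le hMN
      rcases h2.lt_or_eq with h3 | h3
      · exact h3
      · exact absurd (Subgroup.eq_of_le_of_card_ge hMN h3.ge) hne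
    rw [hNk] at h1
    exact Nat.find_min hex h1 ⟨M, ⟨hMn, hMN.trans hNs, hcon⟩, rfl⟩
  haveI := hNn
  have hNp : IsPGroup (s : ℕ) N := (Cfsg.Agent.Lib.Helper22.pCore_isPGroup' (s : ℕ) G).to_le hNs
  obtain ⟨j, hj⟩ := IsPGroup.iff_card.mp hNp
  have hcr : (Nat.card N).Coprime r := by
    rw [hj]
    exact Nat.Coprime.pow_left _ ((Nat.coprime_primes s.2 hr.out).mpr hsr)
  have hcq : (Nat.card N).Coprime q := by
    rw [hj]
    exact Nat.Coprime.pow_left _ ((Nat.coprime_primes s.2 hqp).mpr hsq')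
  have hpowN : ∀ c ∈ N, c ^ Nat.card N = 1 := by
    intro c hc
    have : (⟨c, hc⟩ : N) ^ Nat.card N = 1 := pow_card_eq_one'
    exact congrArg Subtype.val this
  -- proper normal subgroups of `N` are central in `N`
  have hcentral : ∀ M : Subgroup G, M.Normal → M ≤ N → M ≠ N → M ≤ cen N := by
    intro M hMn hMN hne
    haveI := hMn
    let C : Subgroup G := N ⊓ Subgroup.centralizer (M : Set G)
    have hCn : C.Normal := inferInstance
    by_cases hC : C = N
    · intro m hm
      rw [mem_cen]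
      refine ⟨hMN hm, fun y hy => ?_⟩
      have hyC : y ∈ C := by rw [hC]; exact hy
      have := (Subgroup.mem_inf.mp hyC).2
      rw [Subgroup.mem_centralizer_iff] at this
      exact (this m hm).symm
    · exfalso
      have hgC := hmin C hCn inf_le_left hC
      have hgM := hmin M hMn hMN hne
      obtain ⟨x, hx, hgx⟩ := hgN
      apply hgx
      set c := x⁻¹ * (g * x * g⁻¹) with hc
      have hcN : c ∈ N := N.mul_mem (N.inv_mem hx) (hNn.conj_mem x hx g)
      have hcC : c ∈ C := by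
        refine Subgroup.mem_inf.mpr ⟨hcN, ?_⟩
        rw [Subgroup.mem_centralizer_iff]
        intro m hm
        have h1 : g * m = m * g := hgM m hm
        have h2 : g * (x * m * x⁻¹) = (x * m * x⁻¹) * g := hgM _ (hMn.conj_mem m hm x)
        have e1 : g⁻¹ * m * g = m := by rw [mul_assoc, ← h1]; group
        have e2 : g * (x * m * x⁻¹) * g⁻¹ = x * m * x⁻¹ := by rw [h2]; group
        symm
        calc c * m = x⁻¹ * (g * (x * (g⁻¹ * m * g) * x⁻¹) * g⁻¹) * x * c := by rw [hc]; group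
          _ = x⁻¹ * (g * (x * m * x⁻¹) * g⁻¹) * x * c := by rw [e1]
          _ = x⁻¹ * (x * m * x⁻¹) * x * c := by rw [e2]
          _ = m * c := by group
      exact commute_of_twist g x c r (Nat.card N) hg hcr (by rw [hc]; group) (hgC c hcC)
        (hpowN c hcN)
  -- `N` is non-abelian
  have hNnab : ¬ (∀ a ∈ N, ∀ b ∈ N, a * b = b * a) := by
    intro hab
    obtain ⟨x, hx, hgx⟩ := hgN
    exact hgx (centralizes_of_irred ρ hρ r g hg hirr N hab (fun b hb => hNn.conj_mem b hb g)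
      (fun b hb => by simpa using hNn.conj_mem b hb g⁻¹) hcr hcq x hx)
  have hZne : cen N ≠ N := by
    intro h
    apply hNnab
    intro a ha b hb
    have haZ : a ∈ cen N := by rw [h]; exact ha
    exact ((mem_cen.mp haZ).2 b hb).symm
  have hNbot : N ≠ ⊥ := by
    rintro rfl
    obtain ⟨m, hm, hgm⟩ := hgN
    rw [Subgroup.mem_bot] at hm
    subst hm
    simp at hgm
  have hfrat : frat N ≤ cen N := hcentral (frat N) inferInstance (frat_le N) (frat_ne N hNbot)
  have hcomm : ∀ x ∈ N, ∀ y ∈ N, x * y * x⁻¹ * y⁻¹ ∈ cen N :=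
    fun x hx y hy => hfrat (comm_mem_frat N s hNp hx hy)
  have hpow : ∀ x ∈ N, x ^ (s : ℕ) ∈ cen N := fun x hx => hfrat (pow_mem_frat N s hNp hx)
  have hgZ : ∀ z ∈ cen N, g * z = z * g := hmin (cen N) inferInstance (cen_le N) hZne
  obtain ⟨M, κ, hMN, hPM, hMcard, hκmod, hκ1⟩ :=
    symp_section ρ hρ htr N hcomm r g hg hirr hgZ hgN hcr hcq
  have hle := card_le_sq ρ hPM
  have hZpos : 0 < Nat.card (cen N) := Nat.card_pos
  have hκle : κ ≤ n * n := by
    rw [hMcard] at hle
    exact Nat.le_of_mul_le_mul_right hle hZpos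
  have hΩ := omega_cyclic ρ (cen N) (cen_comm N) hPM.semireg s hsq'
  obtain ⟨k, hk⟩ := parity (s : ℕ) (cen N) hΩ (Nat.card M) M rfl hPM.le hPM.central hPM.comm
    (fun x hx => hpow x (hMN hx)) (by
      intro t ht htc
      by_contra htZ
      obtain ⟨y, hy, hyt⟩ := hPM.cent t ht htZ
      exact hyt (htc y hy))
  have hκk : κ = (s : ℕ) ^ (2 * k) := by
    rw [hMcard] at hk
    exact Nat.eq_of_mul_eq_mul_right hZpos hk
  -- arithmetic
  set a := (s : ℕ) ^ k with ha
  have hκa : κ = a * a := by rw [hκk, ha, ← pow_add]; congr 1; ring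
  have ha2 : 2 ≤ a := by
    by_contra hcon
    push Not at hcon
    have : a * a ≤ 1 := by nlinarith
    omega
  have han : a ≤ n := by
    rw [hκa] at hκle
    exact Nat.mul_self_le_mul_self_iff.mp hκle
  have hdvd : r ∣ (a - 1) * (a + 1) := by
    have h1 : r ∣ κ - 1 := (Nat.modEq_iff_dvd' hκ1.le).mp hκmod.symm
    have h2 : κ - 1 = (a - 1) * (a + 1) := by
      rw [hκa]
      obtain ⟨b, hb⟩ : ∃ b, a = b + 1 := ⟨a - 1, by omega⟩
      rw [hb, Nat.add_sub_cancel]
      have : (b + 1) * (b + 1) = b * (b + 1 + 1) + 1 := by ring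
      rw [this, Nat.add_sub_cancel]
    rwa [h2] at h1
  have hran : r = a + 1 ∧ a = n := by
    rcases (Nat.Prime.dvd_mul hr.out).mp hdvd with h | h
    · have := Nat.le_of_dvd (by omega) h
      omega
    · have := Nat.le_of_dvd (by omega) h
      omega
  obtain ⟨hra, han'⟩ := hran
  have hnprime : (n + 1).Prime := by rw [← han', ← hra]; exact hr.out
  have hs2 : (s : ℕ) = 2 := by
    have hrodd : r % 2 = 1 := by
      rcases hr.out.eq_two_or_odd with h | h
      · omega
      · exact h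
    have h2a : 2 ∣ a := by omega
    have h2s : 2 ∣ (s : ℕ) := Nat.Prime.dvd_of_dvd_pow Nat.prime_two (ha ▸ h2a)
    exact ((Nat.prime_dvd_prime_iff_eq Nat.prime_two s.2).mp h2s).symm
  have hMcard' : Nat.card M = (n * n) * Nat.card (cen N) := by
    rw [hMcard, hκa, han']
  have hPN : CPair ρ N (cen N) := cpair_cen ρ hρ htr N hcomm
  have hNle := card_le_sq ρ hPN
  have hMeqN : M = N := by
    apply Subgroup.eq_of_le_of_card_ge hMN
    rw [hMcard']
    exact hNle
  refine ⟨N, hNn, hcomm, ?_, ?_, hnprime⟩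
  · intro x hx
    have := hpow x hx
    rwa [hs2] at this
  · rw [← hMeqN]
    rw [hMeqN] at hMcard' ⊢
    exact hMcard'

end Cfsg.Agent.Lib.Helper78.Hup
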