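import Mathlib
import Cfsg.Agent.Lib.Helper78.Hup8

/-!
# Huppert's theorem, part 13 (helper78): the two-dimensional case.
-/

set_option autoImplicit false
set_option linter.style.haveILetI false

namespace Cfsg.Agent.Lib.Helper78.Hup

open scoped commutatorElement

variable {q : ℕ} [Fact q.Prime] {V : Type*} [AddCommGroup V] [Module (ZMod q) V]
  {G : Type*} [Group G]

/-- a linear map all of whose vectors are eigenvectors is a scalar -/
theorem scalar_of_all_eigen [Nontrivial V] (f : V ≃ₗ[ZMod q] V)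
    (h : ∀ v : V, ∃ c : ZMod q, f v = c • v) : ∃ c : ZMod q, ∀ v : V, f v = c • v := by
  obtain ⟨v₁, hv₁⟩ := exists_ne (0 : V)
  obtain ⟨c₁, hc₁⟩ := h v₁
  refine ⟨c₁, ?_⟩
  intro v
  by_cases hdep : ∃ d : ZMod q, v = d • v₁
  · obtain ⟨d, rfl⟩ := hdep
    rw [map_smul, hc₁, smul_comm]
  · obtain ⟨c, hc⟩ := h v
    obtain ⟨c', hc'⟩ := h (v₁ + v)
    rw [map_add, hc₁, hc, smul_add] at hc'
    have h1 : (c' - c₁) • v₁ + (c' - c) • v = 0 := by
      rw [sub_smul, sub_smul]
      have : c' • v₁ + c' • v = c₁ • v₁ + c • v := hc'.symm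
      calc c' • v₁ - c₁ • v₁ + (c' • v - c • v)
          = (c' • v₁ + c' • v) - (c₁ • v₁ + c • v) := by abel
        _ = 0 := by rw [this, sub_self]
    have h2 : c' = c := by
      by_contra hne
      apply hdep
      have hne' : c' - c ≠ 0 := sub_ne_zero.mpr hne
      refine ⟨-((c' - c)⁻¹ * (c' - c₁)), ?_⟩
      have h3 : (c' - c) • v = -((c' - c₁) • v₁) := eq_neg_of_add_eq_zero_right h1
      have h4 : v = (c' - c)⁻¹ • ((c' - c) • v) := by
        rw [smul_smul, inv_mul_cancel₀ hne', one_smul]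
      rw [h4, h3, smul_neg, smul_smul, neg_smul]
    rw [h2, sub_self, zero_smul, add_zero] at h1
    rcases smul_eq_zero.mp h1 with h5 | h5
    · rw [hc, ← sub_eq_zero.mp h5]
    · exact absurd h5 hv₁

/-- in a solvable group a non-trivial subgroup is not perfect -/
theorem comm_ne_of_solvable [hsol : Group.IsSolvable G] (N : Subgroup G) (hN : N ≠ ⊥) :
    ⁅N, N⁆ ≠ N := by
  intro h
  obtain ⟨k, hk⟩ := hsol.solvable
  have h1 : ∀ i, N ≤ derivedSeries G i := by
    intro i
    induction i with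
    | zero => exact le_top
    | succ i ih =>
      rw [derivedSeries_succ, ← h]
      exact Subgroup.commutator_mono ih ih
  apply hN
  rw [eq_bot_iff, ← hk]
  exact h1 k

/-- **The two-dimensional case.** -/
theorem case2 [Finite V] [Nontrivial V] [Finite G] (hsol : Group.IsSolvable G)
    (ρ : G →* (V ≃ₗ[ZMod q] V)) (hρ : Function.Injective ρ) (htr : Tr ρ)
    (hn : Module.finrank (ZMod q) V = 2)
    (hno : ∀ A : Subgroup G, A.Normal → (∀ a ∈ A, ∀ b ∈ A, a * b = b * a) →
      ¬ (∀ W : Submodule (ZMod q) V, (∀ a ∈ A, ∀ v ∈ W, ρ a v ∈ W) → W = ⊥ ∨ W = ⊤)) :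
    ∃ N : Subgroup G, N.Normal ∧ (∀ x ∈ N, ∀ y ∈ N, x * y * x⁻¹ * y⁻¹ ∈ cen N) ∧
      (∀ x ∈ N, x ^ 2 ∈ cen N) ∧ Nat.card N = (2 * 2) * Nat.card (cen N) := by
  classical
  haveI : Group.IsSolvable G := hsol
  -- (a) abelian normal subgroups are scalar
  have hscalar : ∀ A : Subgroup G, A.Normal → (∀ a ∈ A, ∀ b ∈ A, a * b = b * a) →
      ∀ a ∈ A, ∃ c : ZMod q, ∀ v, ρ a v = c • v := by
    intro A hAn hAab a ha
    have h1 := hno A hAn hAab
    push Not at h1
    obtain ⟨W, hW, hW0, hW1⟩ := h1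
    have hfr : Module.finrank (ZMod q) W = 1 := by
      have h2 : Module.finrank (ZMod q) W ≠ 0 := fun h => hW0 (Submodule.finrank_eq_zero.mp h)
      have h3 : Module.finrank (ZMod q) W ≠ 2 := by
        intro h
        apply hW1
        apply Submodule.eq_top_of_finrank_eq
        rw [h, hn]
      have h4 := Submodule.finrank_le W
      rw [hn] at h4
      omega
    obtain ⟨w, hw0, hw⟩ := finrank_eq_one_iff'.mp hfr
    have hw0' : (w : V) ≠ 0 := fun h => hw0 (Subtype.ext h)
    apply scalar_of_all_eigen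
    intro v
    by_cases hv : v = 0
    · exact ⟨0, by rw [hv, map_zero, smul_zero]⟩
    · obtain ⟨h, hh⟩ := htr (w : V) v hw0' hv
      have h5 : h⁻¹ * a * h ∈ A := by
        have := hAn.conj_mem a ha h⁻¹
        simpa using this
      have h6 : ρ (h⁻¹ * a * h) w ∈ W := hW _ h5 w w.2
      obtain ⟨c, hc⟩ := hw ⟨_, h6⟩
      have hc' : ρ (h⁻¹ * a * h) w = c • (w : V) := (congrArg Subtype.val hc).symm
      refine ⟨c, ?_⟩
      have h7 : ρ a v = ρ h (ρ (h⁻¹ * a * h) w) := by
        rw [← hh, ← rho_mul_apply, ← rho_mul_apply]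
        congr 2
        group
      rw [h7, hc', map_smul, hh]
  -- (b) hence central
  have hcentralA : ∀ A : Subgroup G, A.Normal → (∀ a ∈ A, ∀ b ∈ A, a * b = b * a) →
      ∀ a ∈ A, ∀ g : G, a * g = g * a := by
    intro A hAn hAab a ha g
    obtain ⟨c, hc⟩ := hscalar A hAn hAab a ha
    apply hρ
    apply LinearEquiv.ext
    intro v
    rw [rho_mul_apply, rho_mul_apply, hc, hc, map_smul]
  -- (c) `G` is not abelian
  have hGnab : ¬ (∀ a ∈ (⊤ : Subgroup G), ∀ b ∈ (⊤ : Subgroup G), a * b = b * a) := by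
    intro hab
    apply hno ⊤ inferInstance hab
    intro W hW
    exact irred_of_tr ρ htr W (fun g v hv => hW g (Subgroup.mem_top g) v hv)
  -- (d) a minimal non-abelian normal subgroup
  let P : Subgroup G → Prop := fun N => N.Normal ∧ ¬ (∀ a ∈ N, ∀ b ∈ N, a * b = b * a)
  have hex : ∃ k, ∃ N : Subgroup G, P N ∧ Nat.card N = k := ⟨_, ⊤, ⟨inferInstance, hGnab⟩, rfl⟩
  obtain ⟨N, ⟨hNn, hNnab⟩, hNk⟩ := Nat.find_spec hex
  have hmin : ∀ M : Subgroup G, M.Normal → M ≤ N → M ≠ N → ∀ a ∈ M, ∀ g : G, a * g = g * a := by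
    intro M hMn hMN hne
    have hab : ∀ a ∈ M, ∀ b ∈ M, a * b = b * a := by
      by_contra hcon
      have h1 : Nat.card M < Nat.card N := by
        have h2 := Subgroup.card_le_of_le hMN
        rcases h2.lt_or_eq with h3 | h3
        · exact h3
        · exact absurd (Subgroup.eq_of_le_of_card_ge hMN h3.ge) hne
      rw [hNk] at h1
      exact Nat.find_min hex h1 ⟨M, ⟨hMn, hcon⟩, rfl⟩
    exact hcentralA M hMn hab
  haveI := hNn
  have hNbot : N ≠ ⊥ := by
    rintro rfl
    apply hNnab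
    intro a ha b hb
    rw [Subgroup.mem_bot] at ha hb
    rw [ha, hb]
  have hcomm : ∀ x ∈ N, ∀ y ∈ N, x * y * x⁻¹ * y⁻¹ ∈ cen N := by
    intro x hx y hy
    have h1 : x * y * x⁻¹ * y⁻¹ ∈ ⁅N, N⁆ := by
      have := Subgroup.commutator_mem_commutator hx hy
      rwa [commutatorElement_def] at this
    have h2 : ⁅N, N⁆ ≤ N := Subgroup.commutator_le_left N N
    rw [mem_cen]
    refine ⟨h2 h1, fun z _ => ?_⟩
    exact (hmin ⁅N, N⁆ inferInstance h2 (comm_ne_of_solvable N hNbot) _ h1 z).symm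
  set Z := cen N with hZ
  have hPN : CPair ρ N Z := cpair_cen ρ hρ htr N hcomm
  have hle := card_le_sq ρ hPN
  rw [hn] at hle
  -- the quotient `N / Z`
  let Z' : Subgroup N := Z.subgroupOf N
  have hZ'n : Z'.Normal := (inferInstance : Z.Normal).subgroupOf N
  have hcardQ : Nat.card N = Nat.card (N ⧸ Z') * Nat.card Z := by
    rw [Subgroup.card_eq_card_quotient_mul_card_subgroup Z',
      Nat.card_congr (Subgroup.subgroupOfEquivOfLe (cen_le N)).toEquiv]
  have hZpos : 0 < Nat.card Z := Nat.card_pos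
  have hQle : Nat.card (N ⧸ Z') ≤ 4 := by
    rw [hcardQ] at hle
    exact Nat.le_of_mul_le_mul_right hle hZpos
  have hQncyc : ¬ IsCyclic (N ⧸ Z') := by
    intro hcyc
    apply hNnab
    intro a ha b hb
    have hker : (QuotientGroup.mk' Z').ker ≤ Subgroup.center N := by
      rw [QuotientGroup.ker_mk']
      intro z hz
      rw [Subgroup.mem_subgroupOf] at hz
      rw [Subgroup.mem_center_iff]
      intro y
      apply Subtype.ext
      exact (mem_cen.mp hz).2 y y.2
    have := commutative_of_cyclic_center_quotient (QuotientGroup.mk' Z') hker ⟨a, ha⟩ ⟨b, hb⟩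
    exact congrArg Subtype.val this
  have hQpos : 0 < Nat.card (N ⧸ Z') := Nat.card_pos
  have hQ4 : Nat.card (N ⧸ Z') = 4 := by
    have h1 : Nat.card (N ⧸ Z') ≠ 1 := by
      intro h
      apply hQncyc
      have : Subsingleton (N ⧸ Z') := (Nat.card_eq_one_iff_unique.mp h).1
      exact isCyclic_of_subsingleton
    have h2 : Nat.card (N ⧸ Z') ≠ 2 := by
      intro h
      haveI : Fact (Nat.Prime 2) := ⟨Nat.prime_two⟩
      exact hQncyc (isCyclic_of_prime_card h)
    have h3 : Nat.card (N ⧸ Z') ≠ 3 := by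
      intro h
      haveI : Fact (Nat.Prime 3) := ⟨Nat.prime_three⟩
      exact hQncyc (isCyclic_of_prime_card h)
    omega
  have hQexp : ∀ x : N ⧸ Z', x ^ 2 = 1 := by
    intro x
    have h1 : orderOf x ∣ 4 := by
      rw [← hQ4]
      exact orderOf_dvd_natCard x
    have h2 : orderOf x ≠ 4 := by
      intro h
      exact hQncyc (isCyclic_of_orderOf_eq_card x (h.trans hQ4.symm))
    have h3 : orderOf x ∣ 2 := by
      have h4 : orderOf x ≤ 4 := Nat.le_of_dvd (by norm_num) h1
      interval_cases (orderOf x) <;> simp_all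
    exact orderOf_dvd_iff_pow_eq_one.mp h3
  refine ⟨N, hNn, hcomm, ?_, ?_⟩
  · intro x hx
    have h1 := hQexp (QuotientGroup.mk (⟨x, hx⟩ : N))
    rw [← QuotientGroup.mk_pow, QuotientGroup.eq_one_iff, Subgroup.mem_subgroupOf,
      Subgroup.coe_pow] at h1
    exact h1
  · rw [hcardQ, hQ4]

end Cfsg.Agent.Lib.Helper78.Hup
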