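import Mathlib
import Cfsg.Agent.Lib.Helper78.Hup12

/-!
# Huppert's theorem, part 14 (helper78): the case `|V| = 2 ^ 6`, where no Zsigmondy prime exists.
-/

set_option autoImplicit false
set_option linter.style.haveILetI false

namespace Cfsg.Agent.Lib.Helper78.Hup

variable {q : ℕ} [Fact q.Prime] {V : Type*} [AddCommGroup V] [Module (ZMod q) V]
  {G : Type*} [Group G]

/-- a semiregular group has order dividing `|W| - 1` for every invariant subspace `W` -/
theorem card_dvd_of_semireg [Finite V] [Finite G] (ρ : G →* (V ≃ₗ[ZMod q] V)) (A : Subgroup G)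
    (hsemi : ∀ a ∈ A, ∀ v : V, v ≠ 0 → ρ a v = v → a = 1)
    (W : Submodule (ZMod q) V) (hW : ∀ a ∈ A, ∀ v ∈ W, ρ a v ∈ W) :
    Nat.card A ∣ Nat.card W - 1 := by
  classical
  let X := {w : W // w ≠ 0}
  let act : MulAction A X :=
    { smul := fun a x => ⟨⟨ρ (a : G) (x.1 : V), hW a a.2 _ x.1.2⟩, by
        intro h
        apply x.2
        apply Subtype.ext
        have h1 : ρ (a : G) (x.1 : V) = 0 := congrArg Subtype.val h
        have h2 := congrArg (ρ (a : G)⁻¹) h1
        rwa [rho_inv_apply, map_zero] at h2⟩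
      one_smul := by
        intro x
        apply Subtype.ext
        apply Subtype.ext
        show ρ ((1 : A) : G) (x.1 : V) = x.1
        rw [Subgroup.coe_one, rho_one_apply]
      mul_smul := by
        intro a b x
        apply Subtype.ext
        apply Subtype.ext
        show ρ ((a * b : A) : G) (x.1 : V) = ρ (a : G) (ρ (b : G) (x.1 : V))
        rw [Subgroup.coe_mul, rho_mul_apply] }
  have hstab : ∀ x : X, MulAction.stabilizer A x = ⊥ := by
    intro x
    rw [eq_bot_iff]
    intro a ha
    rw [MulAction.mem_stabilizer_iff] at ha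
    rw [Subgroup.mem_bot]
    apply Subtype.ext
    have h1 : ρ (a : G) (x.1 : V) = (x.1 : V) :=
      congrArg (fun y : X => ((y.1 : W) : V)) ha
    have h2 : (x.1 : V) ≠ 0 := fun h => x.2 (Subtype.ext h)
    exact hsemi a a.2 _ h2 h1
  have e := MulAction.selfEquivOrbitsQuotientProd hstab
  have h1 : Nat.card X = Nat.card (Quotient (MulAction.orbitRel A X)) * Nat.card A := by
    rw [Nat.card_congr e, Nat.card_prod]
  have h2 : Nat.card X = Nat.card W - 1 := by
    have h3 : Nat.card X = ({w : W | w ≠ 0} : Set W).ncard := Nat.card_coe_set_eq _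
    have h4 : ({w : W | w ≠ 0} : Set W) = Set.univ \ {0} := by
      ext w; simp
    rw [h3, h4, Set.ncard_sdiff_singleton_of_mem (Set.mem_univ _), Set.ncard_univ]
  rw [← h2, h1]
  exact Dvd.intro_left _ rfl

theorem cen_ne_bot_of_pgroup [Finite G] (s : ℕ) [hs : Fact s.Prime] (P : Subgroup G)
    (hP : IsPGroup s P) (hne : P ≠ ⊥) : cen P ≠ ⊥ := by
  have : Nontrivial P := (Subgroup.nontrivial_iff_ne_bot P).mpr hne
  have hcen := hP.center_nontrivial
  obtain ⟨z, hz1⟩ := exists_ne (1 : Subgroup.center P)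
  have hzc : ∀ y : P, y * (z : P) = (z : P) * y := fun y => Subgroup.mem_center_iff.mp z.2 y
  have hzG : ((z : P) : G) ∈ cen P := by
    rw [mem_cen]
    refine ⟨(z : P).2, ?_⟩
    intro y hy
    exact congrArg Subtype.val (hzc ⟨y, hy⟩)
  intro h
  rw [h, Subgroup.mem_bot] at hzG
  apply hz1
  apply Subtype.ext
  apply Subtype.ext
  exact hzG

theorem dvd_card_of_pgroup_ne_bot [Finite G] (s : ℕ) [hs : Fact s.Prime] (P : Subgroup G)
    (hP : IsPGroup s P) (hne : P ≠ ⊥) : s ∣ Nat.card P := by
  obtain ⟨j, hj⟩ := IsPGroup.iff_card.mp hP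
  rw [hj]
  have hj0 : j ≠ 0 := by
    rintro rfl
    rw [pow_zero] at hj
    exact hne (Subgroup.card_eq_one.mp hj)
  exact dvd_pow_self s hj0

theorem arith26a : ∀ k : Fin 6, ∀ m : Fin 64, 0 < k.val → m.val ∣ 63 → m.val ∣ 2 ^ k.val - 1 →
    (m.val = 1 ∨ m.val = 3 ∨ m.val = 7) := by decide

theorem arith26b : ∀ a : Fin 5, ∀ c : Fin 5, c.val ≤ a.val → 3 ^ a.val ≡ 3 ^ c.val [MOD 7] →
    a.val = c.val := by decide

/-- **The case `|V| = 2 ^ 6`.** -/
theorem case26 [Finite V] [Nontrivial V] [Finite G] (hsol : Group.IsSolvable G)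
    (ρ : G →* (V ≃ₗ[ZMod q] V)) (hρ : Function.Injective ρ) (htr : Tr ρ)
    (hq : q = 2) (hn : Module.finrank (ZMod q) V = 6)
    (hno : ∀ A : Subgroup G, A.Normal → (∀ a ∈ A, ∀ b ∈ A, a * b = b * a) →
      ¬ (∀ W : Submodule (ZMod q) V, (∀ a ∈ A, ∀ v ∈ W, ρ a v ∈ W) → W = ⊥ ∨ W = ⊤)) :
    False := by
  classical
  subst hq
  haveI : Group.IsSolvable G := hsol
  have h63 : 63 ∣ Nat.card G := by
    have := card_dvd_of_tr ρ htr
    rw [hn] at this
    norm_num at this
    exact this
  have hGL : Nat.card G ∣ 20158709760 := by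
    have h1 : Nat.card G ∣ Nat.card (V ≃ₗ[ZMod 2] V) := Subgroup.card_dvd_of_injective ρ hρ
    rw [card_linAut 2, hn] at h1
    have h2 : ∏ i : Fin 6, (2 ^ 6 - 2 ^ (i : ℕ)) = 20158709760 := by
      simp [Fin.prod_univ_succ]
    rwa [h2] at h1
  -- orders of abelian normal subgroups
  have hord : ∀ A : Subgroup G, A.Normal → (∀ a ∈ A, ∀ b ∈ A, a * b = b * a) →
      Nat.card A = 1 ∨ Nat.card A = 3 ∨ Nat.card A = 7 := by
    intro A hAn hAab
    haveI := hAn
    have hsemi := semireg ρ hρ htr A hAab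
    have h1 := hno A hAn hAab
    push Not at h1
    obtain ⟨W, hW, hW0, hW1⟩ := h1
    have hd1 := card_dvd_of_semireg ρ A hsemi W hW
    have hd2 := card_dvd_of_semireg ρ A hsemi ⊤ (fun _ _ _ _ => Submodule.mem_top)
    rw [card_sub] at hd1 hd2
    rw [finrank_top, hn] at hd2
    have hk1 : Module.finrank (ZMod 2) W ≠ 0 := fun h => hW0 (Submodule.finrank_eq_zero.mp h)
    have hk2 : Module.finrank (ZMod 2) W ≠ 6 := by
      intro h
      apply hW1
      apply Submodule.eq_top_of_finrank_eq
      rw [h, hn]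
    have hk3 := Submodule.finrank_le W
    rw [hn] at hk3
    have hk4 : Module.finrank (ZMod 2) W < 6 := by omega
    have hm : Nat.card A < 64 := by
      have := Nat.le_of_dvd (by norm_num) hd2
      omega
    exact arith26a ⟨Module.finrank (ZMod 2) W, hk4⟩ ⟨Nat.card A, hm⟩ (by
      show 0 < Module.finrank (ZMod 2) W
      omega) (by simpa using hd2) hd1
  -- trivial cores
  have hOs : ∀ s : ℕ, ∀ _ : Fact s.Prime, s ≠ 3 → s ≠ 7 → Cfsg.pCore s G = ⊥ := by
    intro s hs h3 h7
    apply pcore_eq_bot s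
    intro A hAn hAab a ha has
    have h1 : orderOf a ∣ s := orderOf_dvd_of_pow_eq_one has
    have h2 : orderOf a ∣ Nat.card A := by
      rw [← Subgroup.orderOf_mk a ha]
      exact orderOf_dvd_natCard _
    rcases (Nat.dvd_prime hs.out).mp h1 with h | h
    · exact orderOf_eq_one_iff.mp h
    · exfalso
      rw [h] at h2
      rcases hord A hAn hAab with h4 | h4 | h4
      · rw [h4] at h2
        exact hs.out.one_lt.ne' (Nat.dvd_one.mp h2)
      · rw [h4] at h2
        exact h3 ((Nat.prime_dvd_prime_iff_eq hs.out Nat.prime_three).mp h2)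
      · rw [h4] at h2
        exact h7 ((Nat.prime_dvd_prime_iff_eq hs.out (by norm_num)).mp h2)
  haveI : Fact (Nat.Prime 3) := ⟨Nat.prime_three⟩
  haveI : Fact (Nat.Prime 7) := ⟨by norm_num⟩
  set P3 := Cfsg.pCore 3 G with hP3
  set P7 := Cfsg.pCore 7 G with hP7
  have hP3n : P3.Normal := Cfsg.Agent.Lib.Helper22.pCore_normal' 3 G
  have hP7n : P7.Normal := Cfsg.Agent.Lib.Helper22.pCore_normal' 7 G
  have hP3p : IsPGroup 3 P3 := Cfsg.Agent.Lib.Helper22.pCore_isPGroup' 3 G
  have hP7p : IsPGroup 7 P7 := Cfsg.Agent.Lib.Helper22.pCore_isPGroup' 7 G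
  set F := Cfsg.fittingSubgroup G with hF
  have hFsup : F = ⨆ p : Nat.Primes, Cfsg.pCore (p : ℕ) G :=
    Cfsg.Agent.Lib.Helper22.fittingSubgroup_eq_iSup_pCore
  have hFn : F.Normal := Cfsg.Agent.Lib.Helper22.fittingSubgroup_normal G
  have hCF : Subgroup.centralizer (F : Set G) ≤ F := Cfsg.Agent.S0044.result
  have hP3F : P3 ≤ F := by
    rw [hFsup]
    exact le_iSup (fun p : Nat.Primes => Cfsg.pCore (p : ℕ) G) ⟨3, Nat.prime_three⟩
  have hP7F : P7 ≤ F := by
    rw [hFsup]
    exact le_iSup (fun p : Nat.Primes => Cfsg.pCore (p : ℕ) G) ⟨7, by norm_num⟩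
  have hFne : F ≠ ⊥ := by
    intro h
    have h1 : ∀ x : G, x = 1 := by
      intro x
      have : x ∈ Subgroup.centralizer (F : Set G) := by
        rw [Subgroup.mem_centralizer_iff]
        intro y hy
        rw [SetLike.mem_coe, h, Subgroup.mem_bot] at hy
        rw [hy, one_mul, mul_one]
      have h2 := hCF this
      rwa [h, Subgroup.mem_bot] at h2
    have h2 : Nat.card G = 1 := by
      rw [Nat.card_eq_one_iff_unique]
      exact ⟨⟨fun a b => (h1 a).trans (h1 b).symm⟩, ⟨1⟩⟩
    rw [h2] at h63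
    omega
  have hcomm37 : ∀ x ∈ P3, ∀ y ∈ P7, x * y = y * x := fun x hx y hy =>
    Subgroup.commute_of_normal_of_disjoint P3 P7 hP3n hP7n
      (IsPGroup.disjoint_of_ne 3 7 (by norm_num) P3 P7 hP3p hP7p) x y hx hy
  have hcore_le : ∀ (P : Subgroup G), (∀ p : Nat.Primes, Cfsg.pCore (p : ℕ) G ≤ P) → F ≤ P := by
    intro P hP
    rw [hFsup]
    exact iSup_le hP
  have hnotboth : P3 = ⊥ ∨ P7 = ⊥ := by
    by_contra hcon
    push Not at hcon
    obtain ⟨h3, h7⟩ := hcon
    have hle3 : cen P3 ≤ cen F := by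
      intro z hz
      rw [mem_cen] at hz ⊢
      refine ⟨hP3F hz.1, ?_⟩
      intro y hy
      have hle : F ≤ Subgroup.centralizer {z} := by
        apply hcore_le
        intro p
        by_cases hp3 : (p : ℕ) = 3
        · rw [hp3]
          intro w hw
          exact mem_cent_single.mpr (hz.2 w hw).symm
        · by_cases hp7 : (p : ℕ) = 7
          · rw [hp7]
            intro w hw
            exact mem_cent_single.mpr (hcomm37 z hz.1 w hw)
          · rw [hOs p ⟨p.2⟩ hp3 hp7]
            exact bot_le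
      exact (mem_cent_single.mp (hle hy)).symm
    have hle7 : cen P7 ≤ cen F := by
      intro z hz
      rw [mem_cen] at hz ⊢
      refine ⟨hP7F hz.1, ?_⟩
      intro y hy
      have hle : F ≤ Subgroup.centralizer {z} := by
        apply hcore_le
        intro p
        by_cases hp3 : (p : ℕ) = 3
        · rw [hp3]
          intro w hw
          exact mem_cent_single.mpr (hcomm37 w hw z hz.1).symm
        · by_cases hp7 : (p : ℕ) = 7
          · rw [hp7]
            intro w hw
            exact mem_cent_single.mpr (hz.2 w hw).symm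
          · rw [hOs p ⟨p.2⟩ hp3 hp7]
            exact bot_le
      exact (mem_cent_single.mp (hle hy)).symm
    have hc3 : 3 ∣ Nat.card (cen F) :=
      (dvd_card_of_pgroup_ne_bot 3 (cen P3) (hP3p.to_le (cen_le P3))
        (cen_ne_bot_of_pgroup 3 P3 hP3p h3)).trans (Subgroup.card_dvd_of_le hle3)
    have hc7 : 7 ∣ Nat.card (cen F) :=
      (dvd_card_of_pgroup_ne_bot 7 (cen P7) (hP7p.to_le (cen_le P7))
        (cen_ne_bot_of_pgroup 7 P7 hP7p h7)).trans (Subgroup.card_dvd_of_le hle7)
    haveI := hFn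
    rcases hord (cen F) inferInstance (cen_comm F) with h | h | h <;> rw [h] at hc3 hc7 <;> omega
  rcases hnotboth with h7 | h3
  · -- `P3 = ⊥`, so `F = P7` is a `7`-group
    have hFP7 : F = P7 := by
      apply le_antisymm _ hP7F
      apply hcore_le
      intro p
      by_cases hp3 : (p : ℕ) = 3
      · rw [hp3, ← hP3, h7]; exact bot_le
      · by_cases hp7 : (p : ℕ) = 7
        · rw [hp7]
        · rw [hOs p ⟨p.2⟩ hp3 hp7]; exact bot_le
    have hFp : IsPGroup 7 F := by rw [hFP7]; exact hP7p
    obtain ⟨a, ha⟩ := IsPGroup.iff_card.mp hFp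
    have hdvd : 7 ^ a ∣ 20158709760 := by
      rw [← ha]
      exact (Subgroup.card_subgroup_dvd_card F).trans hGL
    have ha2 : a ≤ 2 := by
      by_contra hcon
      push Not at hcon
      have : 7 ^ 3 ∣ 20158709760 := (pow_dvd_pow 7 hcon).trans hdvd
      norm_num at this
    have ha0 : a ≠ 0 := by
      rintro rfl
      rw [pow_zero] at ha
      exact hFne (Subgroup.card_eq_one.mp ha)
    have hFab : ∀ x ∈ F, ∀ y ∈ F, x * y = y * x := by
      intro x hx y hy
      have ha12 : a = 1 ∨ a = 2 := by omega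
      rcases ha12 with h | h
      · rw [h, pow_one] at ha
        haveI : IsCyclic F := isCyclic_of_prime_card ha
        have := (IsCyclic.isMulCommutative (α := F)).is_comm.comm ⟨x, hx⟩ ⟨y, hy⟩
        exact congrArg Subtype.val this
      · rw [h] at ha
        have := IsPGroup.commutative_of_card_eq_prime_sq ha ⟨x, hx⟩ ⟨y, hy⟩
        exact congrArg Subtype.val this
    have ha1 : a = 1 := by
      rcases hord F hFn hFab with h | h | h
      · rw [ha] at h
        have : a = 0 := by
          by_contra h0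
          have : 7 ∣ 7 ^ a := dvd_pow_self 7 h0
          rw [h] at this
          omega
        exact absurd this ha0
      · rw [ha] at h
        exfalso
        have : 7 ∣ 7 ^ a := dvd_pow_self 7 ha0
        rw [h] at this
        omega
      · rw [ha] at h
        have ha12 : a = 1 ∨ a = 2 := by omega
        rcases ha12 with h' | h'
        · exact h'
        · rw [h'] at h; norm_num at h
    rw [ha1, pow_one] at ha
    haveI := hFn
    let φ : G →* MulAut F := MulAut.conjNormal
    have hker : φ.ker ≤ F := by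
      intro x hx
      apply hCF
      rw [Subgroup.mem_centralizer_iff]
      intro y hy
      rw [MonoidHom.mem_ker] at hx
      have h1 : φ x ⟨y, hy⟩ = ⟨y, hy⟩ := by rw [hx]; rfl
      have h2 : x * y * x⁻¹ = y := congrArg Subtype.val h1
      calc y * x = (x * y * x⁻¹) * x := by rw [h2]
        _ = x * y := by group
    have h1 : Nat.card φ.ker ∣ 7 := by
      rw [← ha]
      exact Subgroup.card_dvd_of_le hker
    have h2 : Nat.card φ.range ∣ 6 := by
      haveI : IsCyclic F := isCyclic_of_prime_card ha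
      have h3 := Subgroup.card_subgroup_dvd_card φ.range
      rw [IsCyclic.card_mulAut, ha] at h3
      have h4 : Nat.totient 7 = 6 := by
        rw [Nat.totient_prime (by norm_num)]
      rwa [h4] at h3
    have h3 : Nat.card G = Nat.card φ.ker * Nat.card φ.range := by
      rw [← Subgroup.index_ker, Subgroup.card_mul_index]
    have h4 : Nat.card G ∣ 42 := by
      rw [h3]
      exact Nat.mul_dvd_mul h1 h2
    have h5 := h63.trans h4
    omega
  · -- `P7 = ⊥`, so `F = P3` is a `3`-group
    have hFP3 : F = P3 := by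
      apply le_antisymm _ hP3F
      apply hcore_le
      intro p
      by_cases hp3 : (p : ℕ) = 3
      · rw [hp3]
      · by_cases hp7 : (p : ℕ) = 7
        · rw [hp7, ← hP7, h3]; exact bot_le
        · rw [hOs p ⟨p.2⟩ hp3 hp7]; exact bot_le
    have hFp : IsPGroup 3 F := by rw [hFP3]; exact hP3p
    obtain ⟨a, ha⟩ := IsPGroup.iff_card.mp hFp
    have hdvd : 3 ^ a ∣ 20158709760 := by
      rw [← ha]
      exact (Subgroup.card_subgroup_dvd_card F).trans hGL
    have ha4 : a < 5 := by
      by_contra hcon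
      push Not at hcon
      have : 3 ^ 5 ∣ 20158709760 := (pow_dvd_pow 3 hcon).trans hdvd
      norm_num at this
    obtain ⟨g, hg⟩ := exists_prime_orderOf_dvd_card' 7 (dvd_trans (by norm_num : 7 ∣ 63) h63)
    have hg7 : g ^ 7 = 1 := by rw [← hg]; exact pow_orderOf_eq_one g
    let f : F → F := fun x => ⟨g * x * g⁻¹, hFn.conj_mem x x.2 g⟩
    have hf : ∀ (m : ℕ) (x : F), ((f^[m] x : F) : G) = g ^ m * x * (g ^ m)⁻¹ := by
      intro m
      induction m with
      | zero => intro x; simp
      | succ m ih =>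
        intro x
        rw [Function.iterate_succ_apply', pow_succ']
        show g * ((f^[m] x : F) : G) * g⁻¹ = _
        rw [ih]; group
    have hf7 : f^[7 ^ 1] = id := by
      funext x
      apply Subtype.ext
      rw [hf, pow_one, hg7]
      simp
    have hmod := card_modEq_fixed f 7 1 hf7
    let C : Subgroup G := F ⊓ Subgroup.centralizer {g}
    have hfix : Nat.card {x : F // f x = x} = Nat.card C := by
      apply Nat.card_congr
      refine ⟨fun x => ⟨x.1.1, Subgroup.mem_inf.mpr ⟨x.1.2, mem_cent_single.mpr ?_⟩⟩,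
        fun y => ⟨⟨y.1, (Subgroup.mem_inf.mp y.2).1⟩, ?_⟩, fun x => rfl, fun y => rfl⟩
      · have h1 : g * (x.1 : G) * g⁻¹ = x.1 := congrArg Subtype.val x.2
        calc g * (x.1 : G) = (g * (x.1 : G) * g⁻¹) * g := by group
          _ = x.1 * g := by rw [h1]
      · apply Subtype.ext
        show g * (y.1 : G) * g⁻¹ = y.1
        rw [mem_cent_single.mp (Subgroup.mem_inf.mp y.2).2]
        group
    have hCF' : C ≤ F := inf_le_left
    obtain ⟨c, hc⟩ := IsPGroup.iff_card.mp (hFp.to_le hCF')
    have hca : c ≤ a := by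
      have h1 := Subgroup.card_le_of_le hCF'
      rw [ha, hc] at h1
      exact (Nat.pow_le_pow_iff_right (by norm_num)).mp h1
    rw [hfix, ha, hc] at hmod
    have hac : a = c := arith26b ⟨a, ha4⟩ ⟨c, by omega⟩ hca hmod
    have hCeq : C = F := by
      apply Subgroup.eq_of_le_of_card_ge hCF'
      rw [ha, hc, hac]
    have hgcent : g ∈ Subgroup.centralizer (F : Set G) := by
      rw [Subgroup.mem_centralizer_iff]
      intro y hy
      have : y ∈ C := by rw [hCeq]; exact hy
      exact (mem_cent_single.mp (Subgroup.mem_inf.mp this).2).symm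
    have hgF : g ∈ F := hCF hgcent
    obtain ⟨j, hj⟩ := hFp ⟨g, hgF⟩
    have hj' : g ^ (3 ^ j) = 1 := by
      have := congrArg (fun y : F => (y : G)) hj
      simpa using this
    have h7 : 7 ∣ 3 ^ j := by rw [← hg]; exact orderOf_dvd_of_pow_eq_one hj'
    have h73 : 7 ∣ 3 := Nat.Prime.dvd_of_dvd_pow (by norm_num) h7
    omega

end Cfsg.Agent.Lib.Helper78.Hup
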