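import Mathlib

/-!
# Huppert's theorem, part 9 (helper78): the arithmetic of the endgame.
-/

set_option autoImplicit false

namespace Cfsg.Agent.Lib.Helper78.Hup

theorem prod2 : ∏ i : Fin 2, (2 ^ 2 - 2 ^ (i : ℕ)) = 6 := by decide

theorem prod4 : ∏ i : Fin 4, (2 ^ 4 - 2 ^ (i : ℕ)) = 20160 := by
  simp [Fin.prod_univ_succ]

theorem prod8 : ∏ i : Fin 8, (2 ^ 8 - 2 ^ (i : ℕ)) = 5348063769211699200 := by
  simp [Fin.prod_univ_succ]

theorem prod_le (d : ℕ) : ∏ i : Fin d, (2 ^ d - 2 ^ (i : ℕ)) ≤ (2 ^ d) ^ d := by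
  have h := Finset.prod_le_pow_card (Finset.univ : Finset (Fin d))
    (fun i : Fin d => 2 ^ d - 2 ^ (i : ℕ)) (2 ^ d) (fun i _ => Nat.sub_le _ _)
  simpa using h

theorem growth : ∀ t : ℕ, 7 ≤ t → 4 * (t + 1) ^ 2 + 2 * (t + 1) + 2 ≤ 3 * 2 ^ t := by
  intro t ht
  induction t, ht using Nat.le_induction with
  | base => norm_num
  | succ t ht ih =>
    have h2 : 2 ^ (t + 1) = 2 * 2 ^ t := by ring
    rw [h2]
    nlinarith

/-- the case `n = 2` -/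
theorem num2 (q : ℕ) (hq : 2 ≤ q) (hq2 : q ≠ 2) (h : q ^ 2 - 1 ∣ (q - 1) * 2 ^ 2 * 6) :
    q = 3 ∨ q = 5 ∨ q = 7 ∨ q = 11 ∨ q = 23 := by
  obtain ⟨m, rfl⟩ : ∃ m, q = m + 1 := ⟨q - 1, by omega⟩
  have e1 : (m + 1) ^ 2 - 1 = m * (m + 2) := by
    have : (m + 1) ^ 2 = m * (m + 2) + 1 := by ring
    rw [this, Nat.add_sub_cancel]
  have e2 : (m + 1 - 1) * 2 ^ 2 * 6 = m * 24 := by
    rw [Nat.add_sub_cancel]; ring
  rw [e1, e2] at h
  have hm : 0 < m := by omega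
  have h2 : m + 2 ∣ 24 := Nat.dvd_of_mul_dvd_mul_left hm h
  have h3 : m + 2 ≤ 24 := Nat.le_of_dvd (by norm_num) h2
  have hm2 : m ≠ 1 := by omega
  have h4 : m ≤ 22 := by omega
  interval_cases m <;> simp_all

/-- the case `n = 4` -/
theorem num4 (q : ℕ) (hq : 2 ≤ q) (hq2 : q ≠ 2)
    (h : q ^ 4 - 1 ∣ (q - 1) * 2 ^ 4 * 20160) : q = 3 := by
  obtain ⟨m, rfl⟩ : ∃ m, q = m + 1 := ⟨q - 1, by omega⟩
  have e1 : (m + 1) ^ 4 - 1 = m * (1 + (m + 1) + (m + 1) ^ 2 + (m + 1) ^ 3) := by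
    have : (m + 1) ^ 4 = m * (1 + (m + 1) + (m + 1) ^ 2 + (m + 1) ^ 3) + 1 := by ring
    rw [this, Nat.add_sub_cancel]
  have e2 : (m + 1 - 1) * 2 ^ 4 * 20160 = m * 322560 := by
    rw [Nat.add_sub_cancel]; ring
  rw [e1, e2] at h
  have hm : 0 < m := by omega
  have h2 : 1 + (m + 1) + (m + 1) ^ 2 + (m + 1) ^ 3 ∣ 322560 :=
    Nat.dvd_of_mul_dvd_mul_left hm h
  have h3 : 1 + (m + 1) + (m + 1) ^ 2 + (m + 1) ^ 3 ≤ 322560 := Nat.le_of_dvd (by norm_num) h2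
  have h4 : m < 68 := by
    by_contra hcon
    push Not at hcon
    have : 69 ^ 3 ≤ (m + 1) ^ 3 := Nat.pow_le_pow_left (by omega) 3
    norm_num at this
    omega
  have hm2 : m ≠ 1 := by omega
  have key : ∀ m : ℕ, m < 68 → 1 + (m + 1) + (m + 1) ^ 2 + (m + 1) ^ 3 ∣ 322560 →
      m = 0 ∨ m = 1 ∨ m = 2 := by decide
  rcases key m h4 h2 with h5 | h5 | h5 <;> omega

/-- the case `n = 16` -/
theorem num16 (q : ℕ) (hq : 2 ≤ q)
    (h : q ^ 16 - 1 ∣ (q - 1) * 2 ^ 8 * 5348063769211699200) : False := by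
  obtain ⟨m, rfl⟩ : ∃ m, q = m + 1 := ⟨q - 1, by omega⟩
  have e1 : (m + 1) ^ 16 - 1 = m * (∑ i ∈ Finset.range 16, (m + 1) ^ i) := by
    have : (m + 1) ^ 16 = m * (∑ i ∈ Finset.range 16, (m + 1) ^ i) + 1 := by
      simp only [Finset.sum_range_succ, Finset.sum_range_zero]
      ring
    rw [this, Nat.add_sub_cancel]
  have e2 : (m + 1 - 1) * 2 ^ 8 * 5348063769211699200 = m * 1369104324918194995200 := by
    rw [Nat.add_sub_cancel]; ring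
  rw [e1, e2] at h
  have hm : 0 < m := by omega
  have h2 : (∑ i ∈ Finset.range 16, (m + 1) ^ i) ∣ 1369104324918194995200 :=
    Nat.dvd_of_mul_dvd_mul_left hm h
  have h3 : (∑ i ∈ Finset.range 16, (m + 1) ^ i) ≤ 1369104324918194995200 :=
    Nat.le_of_dvd (by norm_num) h2
  have h4 : m < 25 := by
    by_contra hcon
    push Not at hcon
    have h5 : 26 ^ 15 ≤ (m + 1) ^ 15 := Nat.pow_le_pow_left (by omega) 15
    have h6 : (m + 1) ^ 15 ≤ ∑ i ∈ Finset.range 16, (m + 1) ^ i :=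
      Finset.single_le_sum (f := fun i => (m + 1) ^ i) (fun i _ => Nat.zero_le _)
        (Finset.mem_range.mpr (by norm_num : 15 < 16))
    norm_num at h5
    omega
  have key : ∀ m : ℕ, m < 25 → 0 < m →
      ¬ ((∑ i ∈ Finset.range 16, (m + 1) ^ i) ∣ 1369104324918194995200) := by decide
  exact key m h4 hm h2

theorem prod_pos' (d : ℕ) : 0 < ∏ i : Fin d, (2 ^ d - 2 ^ (i : ℕ)) := by
  apply Finset.prod_pos
  intro i _
  exact Nat.sub_pos_of_lt (Nat.pow_lt_pow_right (by norm_num) i.2)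

/-- the size argument for large `k` -/
theorem numbig (q t : ℕ) (hq : 3 ≤ q) (ht : 7 ≤ t)
    (h : q ^ (2 ^ (t + 1)) - 1 ∣ (q - 1) * 2 ^ (2 * (t + 1)) *
      ∏ i : Fin (2 * (t + 1)), (2 ^ (2 * (t + 1)) - 2 ^ (i : ℕ))) : False := by
  set d := 2 * (t + 1) with hd
  obtain ⟨m, rfl⟩ : ∃ m, q = m + 1 := ⟨q - 1, by omega⟩
  have hm : 0 < m := by omega
  have hpos : 0 < (m + 1 - 1) * 2 ^ d * ∏ i : Fin d, (2 ^ d - 2 ^ (i : ℕ)) := by
    rw [Nat.add_sub_cancel]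
    exact Nat.mul_pos (Nat.mul_pos hm (by positivity)) (prod_pos' d)
  have h1 := Nat.le_of_dvd hpos h
  rw [Nat.add_sub_cancel] at h1
  obtain ⟨n', hn'⟩ : ∃ n', 2 ^ (t + 1) = n' + 1 :=
    ⟨2 ^ (t + 1) - 1, by have : 0 < 2 ^ (t + 1) := by positivity
                         omega⟩
  have h2 : m * 3 ^ n' ≤ (m + 1) ^ (2 ^ (t + 1)) - 1 := by
    rw [hn']
    have e1 : (m + 1) ^ (n' + 1) = m * (m + 1) ^ n' + (m + 1) ^ n' := by ring
    have e2 : 0 < (m + 1) ^ n' := by positivity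
    have e3 : 3 ^ n' ≤ (m + 1) ^ n' := Nat.pow_le_pow_left (by omega) n'
    have e4 : m * 3 ^ n' ≤ m * (m + 1) ^ n' := Nat.mul_le_mul_left m e3
    omega
  have h3 : m * 3 ^ n' ≤ m * (2 ^ d * (2 ^ d) ^ d) := by
    calc m * 3 ^ n' ≤ (m + 1) ^ (2 ^ (t + 1)) - 1 := h2
      _ ≤ m * 2 ^ d * ∏ i : Fin d, (2 ^ d - 2 ^ (i : ℕ)) := h1
      _ ≤ m * 2 ^ d * (2 ^ d) ^ d := Nat.mul_le_mul_left _ (prod_le d)
      _ = m * (2 ^ d * (2 ^ d) ^ d) := by ring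
  have h4 : 3 ^ n' ≤ 2 ^ d * (2 ^ d) ^ d := Nat.le_of_mul_le_mul_left h3 hm
  have h5 : 2 ^ d * (2 ^ d) ^ d = 2 ^ (d + d * d) := by
    rw [← pow_mul, ← pow_add]
  rw [h5] at h4
  have h6 : (3 : ℕ) ^ (2 ^ (t + 1)) < 2 ^ (d + d * d + 2) := by
    rw [hn', pow_succ]
    calc 3 ^ n' * 3 ≤ 2 ^ (d + d * d) * 3 := Nat.mul_le_mul_right 3 h4
      _ < 2 ^ (d + d * d) * 4 := by
          have : 0 < 2 ^ (d + d * d) := by positivity
          omega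
      _ = 2 ^ (d + d * d + 2) := by rw [pow_add (2 : ℕ) (d + d * d) 2]; norm_num
  have h7 : (2 : ℕ) ^ (3 * 2 ^ t) ≤ 3 ^ (2 ^ (t + 1)) := by
    have e1 : (3 : ℕ) ^ (2 ^ (t + 1)) = 9 ^ (2 ^ t) := by
      rw [pow_succ, mul_comm, pow_mul]; norm_num
    have e2 : (2 : ℕ) ^ (3 * 2 ^ t) = 8 ^ (2 ^ t) := by
      rw [pow_mul]; norm_num
    rw [e1, e2]
    exact Nat.pow_le_pow_left (by norm_num) _
  have h8 : (2 : ℕ) ^ (3 * 2 ^ t) < 2 ^ (d + d * d + 2) := lt_of_le_of_lt h7 h6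
  have h9 : 3 * 2 ^ t < d + d * d + 2 := (Nat.pow_lt_pow_iff_right (by norm_num)).mp h8
  have h10 := growth t ht
  have h11 : d + d * d + 2 = 4 * (t + 1) ^ 2 + 2 * (t + 1) + 2 := by
    rw [hd]; ring
  omega

/-- **The arithmetic of the endgame.** -/
theorem numerics (q n d : ℕ) (hq : 2 ≤ q) (hq2 : q ≠ 2) (hn : 2 ≤ n) (hnd : n * n = 2 ^ d)
    (hprime : (n + 1).Prime)
    (hdvd : q ^ n - 1 ∣ (q - 1) * 2 ^ d * ∏ i : Fin d, (2 ^ d - 2 ^ (i : ℕ))) :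
    (n = 2 ∧ (q = 3 ∨ q = 5 ∨ q = 7 ∨ q = 11 ∨ q = 23)) ∨ (n = 4 ∧ q = 3) := by
  obtain ⟨k, hkd, rfl⟩ : ∃ k ≤ d, n = 2 ^ k :=
    (Nat.dvd_prime_pow Nat.prime_two).mp (Dvd.intro n hnd)
  have hd : d = 2 * k := by
    rw [← pow_add] at hnd
    have := Nat.pow_right_injective (le_refl 2) hnd
    omega
  by_cases hk : k < 8
  · interval_cases k
    · norm_num at hn
    · obtain rfl : d = 2 := by omega
      left
      rw [prod2] at hdvd
      exact ⟨by norm_num, num2 q hq hq2 (by simpa using hdvd)⟩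
    · obtain rfl : d = 4 := by omega
      right
      rw [prod4] at hdvd
      exact ⟨by norm_num, num4 q hq hq2 (by simpa using hdvd)⟩
    · exfalso; revert hprime; norm_num
    · obtain rfl : d = 8 := by omega
      exfalso
      rw [prod8] at hdvd
      exact num16 q hq (by simpa using hdvd)
    · exfalso; revert hprime; norm_num
    · exfalso; revert hprime; norm_num
    · exfalso; revert hprime; norm_num
  · exfalso
    push Not at hk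
    obtain ⟨t, rfl⟩ : ∃ t, k = t + 1 := ⟨k - 1, by omega⟩
    subst hd
    exact numbig q t (by omega) (by omega) hdvd

end Cfsg.Agent.Lib.Helper78.Hup
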