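import Mathlib
import Cfsg.Agent.Lib.Helper71.LbA1Defs

/-!
# Lb hive (S1301), leaf LB-A1, sub-leaf A1-CR: the case `D = R` (`R` centralizes `v`)
-/

set_option autoImplicit false

namespace Cfsg.Agent.Lib.Helper22.Lb

open Subgroup

section lba1

variable {H : Type*} [Group H] [Finite H]

/-- SUB-LEAF A1-CR: the case `D = R` (i.e. `R` centralizes `v`). -/
theorem lba1_caseR {K P R : Subgroup H} [K.Normal] {u : H} (hyp : lba1_Hyp K P R u)
    (v : H) (hvP : v ∈ P) (hvc : ∃ g : H, g * u * g⁻¹ = v) (hvu : v ≠ u)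
    (hcase : R ≤ centralizer ({v} : Set H)) :
    ∃ D : Subgroup H, D ≤ R ∧ ∃ k ∈ K, k ∈ normalizer (D : Set H) ∧
      k⁻¹ * u * k * u⁻¹ ∈ D ∧ k⁻¹ * u * k * u⁻¹ ∈ centralizer (D : Set H) ∧
      k⁻¹ * u * k * u⁻¹ ≠ 1 ∧
      ∀ x ∈ K, x ∈ centralizer (D : Set H) → (∃ n : ℕ, x ^ 2 ^ n = 1) → x ∈ D := by
  have hK : K.Normal := inferInstance
  have : Fact (Nat.Prime 2) := ⟨Nat.prime_two⟩
  obtain ⟨g, hg⟩ := hvc
  have hRP : R ≤ P := by rw [← hyp.hPK]; exact inf_le_left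
  have hRK : R ≤ K := by rw [← hyp.hPK]; exact inf_le_right
  have hR2 : IsPGroup 2 R := hyp.hP2.to_le hRP
  have hvu_comm : v * u = u * v := hyp.hcen v hvP
  have hRv : ∀ r ∈ R, v * r = r * v := fun r hr => by
    have h1 := hcase hr
    rw [mem_centralizer_iff] at h1
    exact h1 v (Set.mem_singleton v)
  -- `P ≤ C(v)`
  have hPM : P ≤ centralizer ({v} : Set H) := by
    intro x hx
    obtain ⟨k, hkK, j, hxj⟩ := hyp.hdec x
    have hkP : k ∈ P := by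
      have e : k = (u ^ j)⁻¹ * x := by rw [hxj]; group
      rw [e]
      exact P.mul_mem (P.inv_mem (P.pow_mem hyp.huP j)) hx
    have hkR : k ∈ R := by rw [← hyp.hPK]; exact ⟨hkP, hkK⟩
    rw [mem_centralizer_iff]
    intro y hy
    rw [Set.mem_singleton_iff] at hy
    rw [hy, hxj]
    have h1 : v * u ^ j = u ^ j * v := (Commute.pow_right (show Commute v u from hvu_comm) j).eq
    rw [← mul_assoc, h1, mul_assoc, hRv k hkR, mul_assoc]
  obtain ⟨S, hPS, hSM, hS2, hconj⟩ := lba1_sylow 2 (centralizer ({v} : Set H)) P hPM hyp.hP2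
  have hSP : S ≤ P := hyp.hPmax S hS2 hPS
  have hB2 : IsPGroup 2 (P.map (MulAut.conj g).toMonoidHom) := hyp.hP2.map _
  have hBM : P.map (MulAut.conj g).toMonoidHom ≤ centralizer ({v} : Set H) := by
    rintro _ ⟨p, hp, rfl⟩
    rw [mem_centralizer_iff]
    intro y hy
    rw [Set.mem_singleton_iff] at hy
    rw [hy, ← hg]
    simp only [MulEquiv.coe_toMonoidHom, MulAut.conj_apply]
    have h1 := hyp.hcen p hp
    calc g * u * g⁻¹ * (g * p * g⁻¹) = g * (u * p) * g⁻¹ := by group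
      _ = g * (p * u) * g⁻¹ := by rw [h1]
      _ = g * p * g⁻¹ * (g * u * g⁻¹) := by group
  obtain ⟨c, hcM, hc⟩ := hconj _ hBM hB2
  have hcv : v * c = c * v := by
    rw [mem_centralizer_iff] at hcM
    exact hcM v (Set.mem_singleton v)
  have hI : ∀ p ∈ P, (g⁻¹ * c)⁻¹ * p * (g⁻¹ * c) ∈ P := by
    intro p hp
    have h1 := hSP (hc (g * p * g⁻¹) ⟨p, hp, rfl⟩)
    have e : (g⁻¹ * c)⁻¹ * p * (g⁻¹ * c) = c⁻¹ * (g * p * g⁻¹) * c := by group
    rw [e]; exact h1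
  have hII : ∀ p ∈ P, (g⁻¹ * c) * p * (g⁻¹ * c)⁻¹ ∈ P := by
    have hQ2 : IsPGroup 2 (P.map (MulAut.conj (g⁻¹ * c)).toMonoidHom) := hyp.hP2.map _
    have hPQ : P ≤ P.map (MulAut.conj (g⁻¹ * c)).toMonoidHom := by
      intro p hp
      refine ⟨(g⁻¹ * c)⁻¹ * p * (g⁻¹ * c), hI p hp, ?_⟩
      simp only [MulEquiv.coe_toMonoidHom, MulAut.conj_apply]
      group
    have hQP := hyp.hPmax _ hQ2 hPQ
    intro p hp
    exact hQP ⟨p, hp, rfl⟩
  obtain ⟨k, hkK, j, hm⟩ := hyp.hdec (g⁻¹ * c)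
  have hk : k = (u ^ j)⁻¹ * (g⁻¹ * c) := by rw [hm]; group
  have huj : u ^ j ∈ P := P.pow_mem hyp.huP j
  have hkP1 : ∀ p ∈ P, k * p * k⁻¹ ∈ P := by
    intro p hp
    have h1 := hII p hp
    have e : k * p * k⁻¹ = (u ^ j)⁻¹ * ((g⁻¹ * c) * p * (g⁻¹ * c)⁻¹) * (u ^ j) := by
      rw [hk]; group
    rw [e]
    exact P.mul_mem (P.mul_mem (P.inv_mem huj) h1) huj
  have hkP2 : ∀ p ∈ P, k⁻¹ * p * k ∈ P := by
    intro p hp
    have h1 := hI (u ^ j * p * (u ^ j)⁻¹) (P.mul_mem (P.mul_mem huj hp) (P.inv_mem huj))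
    have e : k⁻¹ * p * k = (g⁻¹ * c)⁻¹ * (u ^ j * p * (u ^ j)⁻¹) * (g⁻¹ * c) := by
      rw [hk]; group
    rw [e]; exact h1
  have hkv : k⁻¹ * u * k = v := by
    have h1 : (u ^ j) * u * (u ^ j)⁻¹ = u := by
      rw [← pow_succ, pow_succ', mul_inv_cancel_right]
    have e : k⁻¹ * u * k = c⁻¹ * (g * ((u ^ j) * u * (u ^ j)⁻¹) * g⁻¹) * c := by
      rw [hk]; group
    rw [e, h1, hg, mul_assoc, hcv, inv_mul_cancel_left]
  have hkN : k ∈ normalizer (R : Set H) := by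
    rw [mem_normalizer_iff]
    intro x
    rw [← hyp.hPK]
    constructor
    · rintro ⟨hxP, hxK⟩
      exact ⟨hkP1 x hxP, hK.conj_mem x hxK k⟩
    · rintro ⟨hxP, hxK⟩
      have e : x = k⁻¹ * (k * x * k⁻¹) * k := by group
      rw [e]
      refine ⟨hkP2 _ hxP, ?_⟩
      have h1 := hK.conj_mem _ hxK k⁻¹
      simpa using h1
  have htK : k⁻¹ * u * k * u⁻¹ ∈ K := by
    have e : k⁻¹ * u * k * u⁻¹ = k⁻¹ * (u * k * u⁻¹) := by group
    rw [e]
    exact K.mul_mem (K.inv_mem hkK) (hK.conj_mem k hkK u)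
  have htP : k⁻¹ * u * k * u⁻¹ ∈ P := by
    rw [hkv]; exact P.mul_mem hvP (P.inv_mem hyp.huP)
  have htR : k⁻¹ * u * k * u⁻¹ ∈ R := by rw [← hyp.hPK]; exact ⟨htP, htK⟩
  refine ⟨R, le_rfl, k, hkK, hkN, htR, ?_, ?_, ?_⟩
  · rw [hkv, mem_centralizer_iff]
    intro r hr
    have h1 : v * r = r * v := hRv r hr
    have h2 : r * u = u * r := hyp.hcen r (hRP hr)
    have h3 : r * u⁻¹ = u⁻¹ * r := ((show Commute r u from h2).inv_right).eq
    calc r * (v * u⁻¹) = (r * v) * u⁻¹ := by rw [mul_assoc]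
      _ = v * (r * u⁻¹) := by rw [← h1, mul_assoc]
      _ = v * u⁻¹ * r := by rw [h3, mul_assoc]
  · rw [hkv]
    intro h
    exact hvu (mul_inv_eq_one.mp h)
  · rintro x hxK hxC ⟨n, hxn⟩
    have hZ2 : IsPGroup 2 (zpowers x) := by
      rintro ⟨y, hy⟩
      obtain ⟨i, rfl⟩ := mem_zpowers_iff.mp hy
      refine ⟨n, ?_⟩
      apply Subtype.ext
      rw [SubgroupClass.coe_pow, OneMemClass.coe_one]
      change (x ^ i) ^ 2 ^ n = 1
      rw [← zpow_natCast, ← zpow_mul, mul_comm, zpow_mul, zpow_natCast, hxn, one_zpow]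
    have hZN : zpowers x ≤ normalizer (R : Set H) := by
      rw [zpowers_le]
      exact centralizer_le_normalizer _ hxC
    have hQ2 : IsPGroup 2 (zpowers x ⊔ R : Subgroup H) :=
      IsPGroup.to_sup_of_normal_right' hZ2 hR2 hZN
    have hQK : zpowers x ⊔ R ≤ K := sup_le (by rw [zpowers_le]; exact hxK) hRK
    have h1 := hyp.hRmax _ hQ2 hQK le_sup_right
    exact h1 ((le_sup_left : zpowers x ≤ zpowers x ⊔ R) (mem_zpowers x))

end lba1

end Cfsg.Agent.Lib.Helper22.Lb
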