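import Cfsg.Agent.Lib.Helper78.LoORBcore
import Cfsg.Agent.Lib.Helper5.LoDUAL
import Cfsg.Agent.Lib.Helper75.LoCOUNT
import Cfsg.Agent.Lib.Helper70.LoSEP
import Cfsg.Agent.Lib.Helper33.LoAGRP
import Cfsg.Agent.Lib.Helper68.LoLEVI

/-! # Lo sub-hive (helper21; half (B) of helper14's We hive, S2347): leaf LO-ORB `exists_siegel_orb_data` (helper78):
exact-name wrapper of `orbk_core` on the real leaves. -/

set_option autoImplicit false

namespace Cfsg.Agent.Lib.Helper21.Lo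

open Module Cfsg.Agent.Lib.Helper6.Ls Cfsg.Agent.Lib.Helper13 Cfsg.Agent.Lib.Helper21.Lq

section concrete

variable {F : Type*} [Field F] [Fintype F] [DecidableEq F]

/-- LO-ORB -/
theorem exists_siegel_orb_data (hodd : Odd (Fintype.card F)) (n : ℕ) (μ : Spg F n → ℂ) (h1 : μ 1 = 1)
    (hmul : ∀ a ∈ Agrp F n, ∀ b ∈ Agrp F n, μ (a * b) = μ a * μ b)
    (hnt : ∃ a ∈ Agrp F n, μ a ≠ 1) :
    ∃ (ι : Type) (_ : Fintype ι) (y : ι → Spg F n),
      Fintype.card ι = (Fintype.card F ^ n - 1) / 2 ∧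
      (∀ i, ∀ a ∈ Agrp F n, (y i)⁻¹ * a * y i ∈ Agrp F n) ∧
      (∀ i j, i ≠ j → ∃ a ∈ Agrp F n, μ ((y i)⁻¹ * a * y i) ≠ μ ((y j)⁻¹ * a * y j)) :=
  orbk_core n (exists_dual hodd n) (fun M hM h0 => exists_congr_family hodd n M hM h0)
    (fun ψ hψ N hN h0 => exists_sep hodd n ψ hψ N hN h0) (mem_Agrp_iff n) (uMat_mem n)
    (exists_levi n) μ h1 hmul hnt

end concrete

end Cfsg.Agent.Lib.Helper21.Lo
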