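import Cfsg.Agent.Lib.Helper21.Lq.Defs
import Cfsg.Agent.Lib.Helper13.SpParabolic

/-! # Lq hive (helper21, S2333), sub-hive LQ-C-ORB (helper35): leaf CORB-TH `corb_theta_data` (helper78)

Pure finite-field leaf: the data `k0`, `th` attached to a non-trivial additive character `ψ` of a finite field of
characteristic 2 and a "quadratic character" `σ` with polarisation `ψ ∘ f`.  Self-contained (Mathlib + Lq.Defs +
helper13's `sympForm` algebra). -/

set_option autoImplicit false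

namespace Cfsg.Agent.Lib.Helper21.Lq

open Module Cfsg.Agent.Lib.Helper6.Ls Cfsg.Agent.Lib.Helper13

section concrete

variable {F : Type*} [Field F] [Fintype F]

/-- every additive character of a finite field is `ψ(a ·)` for a fixed non-trivial `ψ` (own copy of CORB-ADD). -/
theorem corbth_addchar (ψ : F → ℂ) (hψ0 : ψ 0 = 1) (hψ : ∀ s t, ψ (s + t) = ψ s * ψ t)
    (hnt : ∃ c, ψ c ≠ 1) (χ : F → ℂ) (hχ0 : χ 0 = 1) (hχ : ∀ s t, χ (s + t) = χ s * χ t) :
    ∃ a : F, ∀ s, χ s = ψ (a * s) := by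
  classical
  let ψA : AddChar F ℂ := ⟨ψ, hψ0, hψ⟩
  let χA : AddChar F ℂ := ⟨χ, hχ0, hχ⟩
  have hψA : ∀ x, ψA x = ψ x := fun _ => rfl
  have hχA : ∀ x, χA x = χ x := fun _ => rfl
  have hψ1 : ψA ≠ 1 := by
    intro h
    obtain ⟨c, hc⟩ := hnt
    apply hc
    have := DFunLike.congr_fun h c
    rw [hψA] at this
    simpa using this
  have hprim : ψA.IsPrimitive := AddChar.IsPrimitive.of_ne_one hψ1
  have hinj : Function.Injective (fun a : F => ψA.mulShift a) :=
    AddChar.to_mulShift_inj_of_isPrimitive hprim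
  have hcard : Fintype.card (AddChar F ℂ) = Fintype.card F := AddChar.card_eq
  have hsurj : Function.Surjective (fun a : F => ψA.mulShift a) :=
    ((Fintype.bijective_iff_injective_and_card _).mpr ⟨hinj, hcard.symm⟩).2
  obtain ⟨a, ha⟩ := hsurj χA
  refine ⟨a, fun s => ?_⟩
  have := DFunLike.congr_fun ha s
  simp only [AddChar.mulShift_apply] at this
  rw [hψA, hχA] at this
  exact this.symm

omit [Fintype F] in
/-- a multiplicative-on-sums function with `ψ 0 = 1` never vanishes -/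
theorem corbth_ne_zero (ψ : F → ℂ) (hψ0 : ψ 0 = 1) (hψ : ∀ s t, ψ (s + t) = ψ s * ψ t) (x : F) :
    ψ x ≠ 0 := by
  intro h
  have h1 : ψ (x + -x) = ψ x * ψ (-x) := hψ x (-x)
  rw [add_neg_cancel, hψ0, h, zero_mul] at h1
  exact one_ne_zero h1

omit [Fintype F] in
/-- uniqueness of the parameter `a` in `ψ(a ·)` -/
theorem corbth_uniq (ψ : F → ℂ) (hψ0 : ψ 0 = 1) (hψ : ∀ s t, ψ (s + t) = ψ s * ψ t)
    (hnt : ∃ c, ψ c ≠ 1) (a b : F) (h : ∀ s, ψ (a * s) = ψ (b * s)) : a = b := by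
  by_contra hne
  obtain ⟨c, hc⟩ := hnt
  apply hc
  have hab : a - b ≠ 0 := sub_ne_zero.mpr hne
  have h1 := h (c / (a - b))
  have h2 : a * (c / (a - b)) = b * (c / (a - b)) + c := by
    field_simp
    ring
  rw [h2, hψ] at h1
  have h3 := corbth_ne_zero ψ hψ0 hψ (b * (c / (a - b)))
  have h4 : ψ (b * (c / (a - b))) * ψ c = ψ (b * (c / (a - b))) * 1 := by rw [h1, mul_one]
  exact mul_left_cancel₀ h3 h4

omit [Fintype F] in
/-- squaring is injective in characteristic 2 (own copy of CORB-SQ (2)) -/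
theorem corbth_sq_inj [CharP F 2] {x y : F} (h : x ^ 2 = y ^ 2) : x = y := by
  have h1 : (x + y) ^ 2 = 0 := by
    rw [CharTwo.add_sq, h, CharTwo.add_self_eq_zero]
  have h2 : x + y = 0 := pow_eq_zero_iff (two_ne_zero) |>.mp h1
  have h3 : x = -y := eq_neg_of_add_eq_zero_left h2
  rw [h3, CharTwo.neg_eq]

/-- squaring is surjective on a finite field of characteristic 2 (own copy of CORB-SQ (1)) -/
theorem corbth_sqrt [CharP F 2] (x : F) : ∃ y : F, y ^ 2 = x := by
  have hinj : Function.Injective (fun y : F => y ^ 2) := fun a b hab => corbth_sq_inj hab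
  exact (Finite.injective_iff_surjective.mp hinj) x

/-- CORB-TH: the data `k0`, `th` attached to `ψ`, `σ`. -/
theorem corb_theta_data [CharP F 2] (k : ℕ) (ψ : F → ℂ) (hψ0 : ψ 0 = 1)
    (hψ : ∀ s t, ψ (s + t) = ψ s * ψ t) (hnt : ∃ c, ψ c ≠ 1)
    (σ : Vec F k → ℂ) (hσ0 : σ 0 = 1)
    (hσ : ∀ w w', σ (w + w') = σ w * σ w' * ψ (Cfsg.sympForm k F w w')) :
    ∃ (k0 : F) (th : Vec F k → F), k0 ≠ 0 ∧ (∀ s, ψ (s ^ 2) = ψ (k0 * s)) ∧
      (∀ c' s, σ (s • c') = ψ (th c' * s)) ∧ (∀ t c', th (t • c') = t * th c') ∧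
      (∀ c' c'', th (c' + c'') ^ 2 = th c' ^ 2 + th c'' ^ 2 + k0 ^ 2 * Cfsg.sympForm k F c' c'') := by
  classical
  -- the character `s ↦ ψ (s ^ 2)`
  obtain ⟨k0, hk0⟩ := corbth_addchar ψ hψ0 hψ hnt (fun s => ψ (s ^ 2))
    (by simp [hψ0])
    (by
      intro s t
      show ψ ((s + t) ^ 2) = ψ (s ^ 2) * ψ (t ^ 2)
      rw [CharTwo.add_sq, hψ])
  have hk0' : ∀ s, ψ (s ^ 2) = ψ (k0 * s) := hk0
  have hk0ne : k0 ≠ 0 := by
    rintro rfl
    obtain ⟨c, hc⟩ := hnt
    apply hc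
    obtain ⟨y, hy⟩ := corbth_sqrt c
    rw [← hy, hk0' y, zero_mul, hψ0]
  -- the characters `s ↦ σ (s • c')`
  have hth : ∀ c' : Vec F k, ∃ a : F, ∀ s, σ (s • c') = ψ (a * s) := by
    intro c'
    apply corbth_addchar ψ hψ0 hψ hnt (fun s => σ (s • c'))
    · show σ ((0 : F) • c') = 1
      rw [zero_smul, hσ0]
    · intro s t
      show σ ((s + t) • c') = σ (s • c') * σ (t • c')
      rw [add_smul, hσ, sympForm_smul_left, sympForm_smul_right, sympForm_self, mul_zero, mul_zero,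
        hψ0, mul_one]
  choose th hth' using hth
  have hmul : ∀ t c', th (t • c') = t * th c' := by
    intro t c'
    apply corbth_uniq ψ hψ0 hψ hnt
    intro s
    rw [← hth', smul_smul, hth']
    congr 1
    ring
  refine ⟨k0, th, hk0ne, hk0', hth', hmul, ?_⟩
  intro c' c''
  obtain ⟨r, hr⟩ := corbth_sqrt (Cfsg.sympForm k F c' c'')
  have hsum : th (c' + c'') = th c' + th c'' + k0 * r := by
    apply corbth_uniq ψ hψ0 hψ hnt
    intro s
    rw [← hth', smul_add, hσ, hth', hth', sympForm_smul_left, sympForm_smul_right, ← hr]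
    have h1 : s * (s * r ^ 2) = (s * r) ^ 2 := by ring
    rw [h1, hk0', ← hψ, ← hψ]
    congr 1
    ring
  rw [hsum, CharTwo.add_sq, CharTwo.add_sq, mul_pow, hr]

end concrete

end Cfsg.Agent.Lib.Helper21.Lq
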