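import Mathlib
import Cfsg.Prelude.Def_Balance

/-! # MC hive (S1305; architect helper18): leaf MC-DINJ `diag_inj`

Counting: `K ⊆ φ(J)` (`φ x = x x^a`) and `|J| ≤ |K|` force `φ(J) = K`, `φ` injective on `J`, `|J| = |K|`. -/

set_option autoImplicit false

open Cfsg

namespace Cfsg.Agent.Lib.Helper18.Mc

open Subgroup

/-- MC-DINJ.  Counting: `K ⊆ φ(J)` and `|J| ≤ |K|` force `φ(J) = K`, `φ` injective, `|J| = |K|`. -/
theorem diag_inj {G : Type*} [Group G] [Finite G] (a : G) (J K : Subgroup G)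
    (hJa : ∀ x ∈ J, ∀ y ∈ J, x * (a * y * a⁻¹) = (a * y * a⁻¹) * x)
    (hKd : ∀ k ∈ K, ∃ x ∈ J, k = x * (a * x * a⁻¹)) (hcard : Nat.card J ≤ Nat.card K) :
    (∀ x ∈ J, x * (a * x * a⁻¹) ∈ K) ∧ (∀ x ∈ J, x * (a * x * a⁻¹) = 1 → x = 1) ∧ Nat.card J = Nat.card K := by
  classical
  set f : ↥J → G := fun x => (x : G) * (a * (x : G) * a⁻¹) with hf
  have hKsub : (K : Set G) ⊆ Set.range f := by
    intro k hk
    obtain ⟨x, hx, rfl⟩ := hKd k hk
    exact ⟨⟨x, hx⟩, rfl⟩
  have h1 : Nat.card ↥K ≤ Nat.card (Set.range f) := Nat.card_mono (Set.toFinite _) hKsub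
  have h2 : Nat.card (Set.range f) ≤ Nat.card ↥J := Finite.card_range_le f
  have h3 : Nat.card ↥J = Nat.card ↥K := le_antisymm hcard (h1.trans h2)
  have h4 : Nat.card (Set.range f) = Nat.card ↥J := le_antisymm h2 (h3 ▸ h1)
  have hrange : Set.range f = (K : Set G) := by
    symm
    apply Set.eq_of_subset_of_ncard_le hKsub _ (Set.toFinite _)
    rw [← Nat.card_coe_set_eq, ← Nat.card_coe_set_eq]
    show Nat.card (Set.range f) ≤ Nat.card ↥K
    rw [h4, h3]
  have hinj : Function.Injective f := by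
    have hsurj : Function.Surjective (Set.rangeFactorization f) := Set.rangeFactorization_surjective
    have hb := hsurj.bijective_of_nat_card_le (by rw [h4])
    intro x y hxy
    exact hb.1 (Subtype.ext hxy)
  refine ⟨?_, ?_, h3⟩
  · intro x hx
    have hmem : f ⟨x, hx⟩ ∈ Set.range f := ⟨_, rfl⟩
    rw [hrange] at hmem
    exact hmem
  · intro x hx h1'
    have he : f ⟨x, hx⟩ = f 1 := by
      show x * (a * x * a⁻¹) = ((1 : ↥J) : G) * (a * ((1 : ↥J) : G) * a⁻¹)
      rw [h1']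
      simp
    have := hinj he
    exact congrArg Subtype.val this

end Cfsg.Agent.Lib.Helper18.Mc
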