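import Cfsg.Agent.Lib.Helper78.MiNTcore
import Cfsg.Agent.Lib.Helper54.MiTV2
import Cfsg.Agent.Lib.Helper13.MiTRANS

/-! # Mi hive (helper81, S2140): leaf MI-NT `exists_not_Qv_le` (helper78): exact-name wrapper of `nt_core`. -/

set_option autoImplicit false

namespace Cfsg.Agent.Lib.Helper81.Mi

open Matrix

section concrete

variable {F : Type*} [Field F] {n : ℕ}

/-- MI-NT: a proper subgroup has a conjugate not containing `Qv v`. -/
theorem exists_not_Qv_le (hn : 2 ≤ n) (H : Subgroup (SLn n F)) (hH : H ≠ ⊤) (v : Fin n → F) (hv : v ≠ 0) :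
    ∃ g : SLn n F, ¬ Qv v ≤ cj g H :=
  nt_core conj_tv (fun w hw => exists_smul_e0 hn w hw) H hH v hv

end concrete

end Cfsg.Agent.Lib.Helper81.Mi
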