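import Cfsg.Agent.Lib.Helper78.MiGEN

/-! # Mi hive (helper81, S2140): core of the leaf MI-NT `exists_not_Qv_le` (helper78)

A proper subgroup has a conjugate not containing `Qv v`: otherwise `H` contains every conjugate of every `tv v φ`,
hence (transitivity on non-zero vectors + conjugation formula) every `tv w ψ`, hence is `⊤` by MI-GEN.
Stated with the conjugation formula (MI-TV2) and the transitivity (MI-TRANS) as hypotheses. -/

set_option autoImplicit false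

namespace Cfsg.Agent.Lib.Helper81.Mi

open Matrix

section concrete

variable {F : Type*} [Field F] {n : ℕ}

theorem nt_tv_zero_left (φ : Fin n → F) : tv (0 : Fin n → F) φ = 1 := by
  have h0 : φ ⬝ᵥ (0 : Fin n → F) = 0 := dotProduct_zero φ
  apply Subtype.ext
  rw [coe_tv _ _ h0]
  unfold tmat
  simp

/-- MI-NT with MI-TV2 `conj_tv` and MI-TRANS `exists_smul_e0` as hypotheses -/
theorem nt_core
    (hconj : ∀ (γ : SLn n F) (v φ : Fin n → F), γ * tv v φ * γ⁻¹ =
      tv ((γ : Matrix (Fin n) (Fin n) F) *ᵥ v) (φ ᵥ* ((γ⁻¹ : SLn n F) : Matrix (Fin n) (Fin n) F)))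
    (htrans : ∀ v : Fin n → F, v ≠ 0 →
      ∃ γ : SLn n F, (γ : Matrix (Fin n) (Fin n) F) *ᵥ e0 F n = v)
    (H : Subgroup (SLn n F)) (hH : H ≠ ⊤) (v : Fin n → F) (hv : v ≠ 0) :
    ∃ g : SLn n F, ¬ Qv v ≤ cj g H := by
  by_contra hcon
  push Not at hcon
  apply hH
  rw [eq_top_iff, ← closure_tv_eq_top, Subgroup.closure_le]
  rintro g ⟨w, ψ, rfl⟩
  show tv w ψ ∈ H
  by_cases hψw : ψ ⬝ᵥ w = 0
  · by_cases hw : w = 0
    · subst hw
      rw [nt_tv_zero_left]
      exact H.one_mem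
    · obtain ⟨γ1, hγ1⟩ := htrans v hv
      obtain ⟨γ2, hγ2⟩ := htrans w hw
      obtain ⟨γ, hγ⟩ : ∃ γ : SLn n F, (γ : Matrix (Fin n) (Fin n) F) *ᵥ v = w := by
        refine ⟨γ2 * γ1⁻¹, ?_⟩
        rw [← hγ1, Matrix.SpecialLinearGroup.coe_mul, Matrix.mulVec_mulVec, Matrix.mul_assoc,
          ← Matrix.SpecialLinearGroup.coe_mul, inv_mul_cancel, Matrix.SpecialLinearGroup.coe_one,
          Matrix.mul_one, hγ2]
      have hφv : (ψ ᵥ* (γ : Matrix (Fin n) (Fin n) F)) ⬝ᵥ v = 0 := by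
        rw [← Matrix.dotProduct_mulVec, hγ, hψw]
      have hmem : tv v (ψ ᵥ* (γ : Matrix (Fin n) (Fin n) F)) ∈ Qv v :=
        Subgroup.subset_closure ⟨_, hφv, rfl⟩
      have h1 := hcon γ⁻¹ hmem
      rw [mem_cj, inv_inv, hconj, hγ, Matrix.vecMul_vecMul, ← Matrix.SpecialLinearGroup.coe_mul,
        mul_inv_cancel, Matrix.SpecialLinearGroup.coe_one, Matrix.vecMul_one] at h1
      exact h1
  · rw [tv_of_ne _ _ hψw]
    exact H.one_mem

end concrete

end Cfsg.Agent.Lib.Helper81.Mi
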