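import Mathlib
import Cfsg.Agent.Lib.Helper5.GLCard
import Cfsg.Agent.Lib.Helper38.SLCard

/-!
# Recognition of `PGL(2,K)` among the groups of Moebius transformations

The Moebius action of `GL(2,K)` on `OnePoint K` (Mathlib's `OnePoint.instGLAction`) as a
homomorphism to the permutation group, its kernel, and the recognition of `PGL(2,K)` as a group of
Moebius transformations of the right order.
-/

set_option autoImplicit false
set_option linter.style.haveILetI false

namespace Cfsg.Agent.Lib.Helper78.PGL2Perm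

open OnePoint Matrix

variable {K : Type*} [Field K] [DecidableEq K]

/-- the Moebius action of `GL(2,K)` as a homomorphism -/
def glPerm : GL (Fin 2) K →* Equiv.Perm (OnePoint K) :=
  MulAction.toPermHom (GL (Fin 2) K) (OnePoint K)

theorem glPerm_apply (A : GL (Fin 2) K) (p : OnePoint K) : glPerm A p = A • p := rfl

/-- a permutation of the projective line induced by an element of `GL(2,K)` -/
def IsGLMob (γ : Equiv.Perm (OnePoint K)) : Prop :=
  ∃ A : GL (Fin 2) K, ∀ p, γ p = A • p

theorem isGLMob_one : IsGLMob (1 : Equiv.Perm (OnePoint K)) :=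
  ⟨1, fun p => by rw [one_smul]; rfl⟩

theorem isGLMob_mul {γ δ : Equiv.Perm (OnePoint K)} (h1 : IsGLMob γ) (h2 : IsGLMob δ) :
    IsGLMob (γ * δ) := by
  obtain ⟨A, hA⟩ := h1
  obtain ⟨B, hB⟩ := h2
  refine ⟨A * B, fun p => ?_⟩
  rw [Equiv.Perm.mul_apply, hB, hA, mul_smul]

theorem isGLMob_inv {γ : Equiv.Perm (OnePoint K)} (h1 : IsGLMob γ) : IsGLMob γ⁻¹ := by
  obtain ⟨A, hA⟩ := h1
  refine ⟨A⁻¹, fun p => ?_⟩
  rw [Equiv.Perm.inv_def, Equiv.symm_apply_eq, hA, smul_inv_smul]

/-- the elements of `GL(2,K)` with given entries -/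
def mkGL (a b c d : K) (h : a * d - b * c ≠ 0) : GL (Fin 2) K :=
  Matrix.GeneralLinearGroup.mkOfDetNeZero !![a, b; c, d] (by rw [det_fin_two_of]; exact h)

theorem mkGL_smul_infty (a b c d : K) (h : a * d - b * c ≠ 0) :
    mkGL a b c d h • (∞ : OnePoint K) = if c = 0 then ∞ else ((a / c : K) : OnePoint K) := by
  rw [smul_infty_eq_ite]
  rfl

theorem mkGL_smul_coe (a b c d : K) (h : a * d - b * c ≠ 0) (k : K) :
    mkGL a b c d h • (k : OnePoint K) =
      if c * k + d = 0 then ∞ else (((a * k + b) / (c * k + d) : K) : OnePoint K) := by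
  rw [smul_some_eq_ite]
  rfl

/-- a permutation fixing `∞` and acting as `x ↦ m * x + b` on the affine line is Moebius -/
theorem isGLMob_affine {γ : Equiv.Perm (OnePoint K)} (hinf : γ ∞ = ∞) (m b : K) (hm : m ≠ 0)
    (h : ∀ x : K, γ (x : OnePoint K) = ((m * x + b : K) : OnePoint K)) : IsGLMob γ := by
  refine ⟨mkGL m b 0 1 (by rw [mul_one, mul_zero, sub_zero]; exact hm), fun p => ?_⟩
  induction p using OnePoint.rec with
  | infty => rw [mkGL_smul_infty, if_pos rfl, hinf]
  | coe k =>
    rw [mkGL_smul_coe, h]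
    have h1 : (0 : K) * k + 1 ≠ 0 := by simp
    rw [if_neg h1, zero_mul, zero_add, div_one]

/-- a permutation interchanging `0` and `∞` and acting as `x ↦ c / x` elsewhere is Moebius -/
theorem isGLMob_inversion {γ : Equiv.Perm (OnePoint K)} (hinf : γ ∞ = ((0 : K) : OnePoint K))
    (h0 : γ ((0 : K) : OnePoint K) = ∞) (c : K) (hc : c ≠ 0)
    (h : ∀ x : K, x ≠ 0 → γ (x : OnePoint K) = ((c / x : K) : OnePoint K)) : IsGLMob γ := by
  refine ⟨mkGL 0 c 1 0 (by rw [zero_mul, mul_one, zero_sub]; exact neg_ne_zero.mpr hc),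
    fun p => ?_⟩
  induction p using OnePoint.rec with
  | infty =>
    rw [mkGL_smul_infty, if_neg one_ne_zero, hinf, zero_div]
  | coe k =>
    rw [mkGL_smul_coe]
    by_cases hk : k = 0
    · have h1 : (1 : K) * k + 0 = 0 := by rw [hk, mul_zero, add_zero]
      rw [if_pos h1, hk, h0]
    · have h1 : (1 : K) * k + 0 ≠ 0 := by rw [one_mul, add_zero]; exact hk
      rw [if_neg h1, h k hk, zero_mul, zero_add, one_mul, add_zero]

theorem ker_glPerm :
    (glPerm : GL (Fin 2) K →* _).ker = Subgroup.center (GL (Fin 2) K) := by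
  ext A
  rw [MonoidHom.mem_ker, GeneralLinearGroup.center_eq_range_scalar]
  constructor
  · intro hA
    have hinf : A • (∞ : OnePoint K) = ∞ := by rw [← glPerm_apply, hA]; rfl
    have h0 : A • ((0 : K) : OnePoint K) = ((0 : K) : OnePoint K) := by
      rw [← glPerm_apply, hA]; rfl
    have h1 : A • ((1 : K) : OnePoint K) = ((1 : K) : OnePoint K) := by
      rw [← glPerm_apply, hA]; rfl
    have h10 : A 1 0 = 0 := smul_infty_eq_self_iff.mp hinf
    rw [smul_some_eq_ite, h10] at h0 h1
    simp only [zero_add, mul_zero, mul_one] at h0 h1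
    have h11 : A 1 1 ≠ 0 := by
      intro h
      rw [if_pos h] at h0
      exact infty_ne_coe _ h0
    rw [if_neg h11] at h0 h1
    rw [coe_eq_coe] at h0 h1
    have h01 : A 0 1 = 0 := by
      rcases div_eq_zero_iff.1 h0 with h | h
      · exact h
      · exact absurd h h11
    rw [h01, add_zero, div_eq_one_iff_eq h11] at h1
    refine ⟨Units.mk0 (A 1 1) h11, ?_⟩
    apply Units.ext
    ext i j
    fin_cases i <;> fin_cases j
    · simpa using h1.symm
    · simpa using h01.symm
    · simpa using h10.symm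
    · simp
  · rintro ⟨u, rfl⟩
    ext p
    rw [glPerm_apply, Equiv.Perm.one_apply]
    have e00 : (GeneralLinearGroup.scalar (Fin 2) u : GL (Fin 2) K) 0 0 = u := by simp
    have e01 : (GeneralLinearGroup.scalar (Fin 2) u : GL (Fin 2) K) 0 1 = 0 := by simp
    have e10 : (GeneralLinearGroup.scalar (Fin 2) u : GL (Fin 2) K) 1 0 = 0 := by simp
    have e11 : (GeneralLinearGroup.scalar (Fin 2) u : GL (Fin 2) K) 1 1 = u := by simp
    induction p using OnePoint.rec with
    | infty =>
      rw [smul_infty_eq_ite, if_pos e10]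
    | coe k =>
      rw [smul_some_eq_ite, e00, e01, e10, e11, zero_mul, zero_add, add_zero,
        if_neg u.ne_zero, mul_div_assoc, mul_comm, div_mul_cancel₀ _ u.ne_zero]

/-- `PGL(2,K)` as the group of Moebius transformations -/
noncomputable def pglEquivRange :
    Matrix.ProjGenLinGroup (Fin 2) K ≃* (glPerm : GL (Fin 2) K →* _).range :=
  (QuotientGroup.quotientMulEquivOfEq ker_glPerm.symm).trans
    (QuotientGroup.quotientKerEquivRange glPerm)

/-- Recognition of `PGL(2,K)`. -/
theorem pgl2_of_perm [Fintype K] {G : Type*} [Group G] [Finite G]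
    (Φ : G →* Equiv.Perm (OnePoint K)) (hΦ : Function.Injective Φ)
    (hrep : ∀ g : G, IsGLMob (Φ g))
    (hcard : Nat.card G = Fintype.card K * (Fintype.card K ^ 2 - 1)) :
    Nonempty (G ≃* Matrix.ProjGenLinGroup (Fin 2) K) := by
  have hle : Φ.range ≤ (glPerm : GL (Fin 2) K →* _).range := by
    rintro γ ⟨g, rfl⟩
    obtain ⟨A, hA⟩ := hrep g
    refine ⟨A, ?_⟩
    ext p
    rw [glPerm_apply, hA]
  let e1 : G ≃* Φ.range := MonoidHom.ofInjective hΦ
  let e2 : Matrix.ProjGenLinGroup (Fin 2) K ≃* (glPerm : GL (Fin 2) K →* _).range :=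
    pglEquivRange
  have hc1 : Nat.card Φ.range = Nat.card G := Nat.card_congr e1.symm.toEquiv
  have hc2 : Nat.card (glPerm : GL (Fin 2) K →* _).range =
      Nat.card (Matrix.ProjGenLinGroup (Fin 2) K) := Nat.card_congr e2.symm.toEquiv
  have hc3 : Nat.card (Matrix.ProjGenLinGroup (Fin 2) K) =
      Fintype.card K * (Fintype.card K ^ 2 - 1) := by
    rw [Cfsg.Agent.Lib.Helper5.card_PGL_eq_card_SL, Cfsg.Agent.Lib.Helper38.card_SL2]
  have heq : Φ.range = (glPerm : GL (Fin 2) K →* _).range := by
    apply Subgroup.eq_of_le_of_card_ge hle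
    rw [hc1, hc2, hc3, hcard]
  exact ⟨e1.trans ((MulEquiv.subgroupCongr heq).trans e2.symm)⟩

/-- transport of `PGL(2, ·)` along a ring isomorphism -/
theorem pgl2_congr {K L : Type*} [Field K] [Field L] (e : K ≃+* L) :
    Nonempty (Matrix.ProjGenLinGroup (Fin 2) K ≃* Matrix.ProjGenLinGroup (Fin 2) L) := by
  classical
  let f : GL (Fin 2) K ≃* GL (Fin 2) L :=
    { toFun := Matrix.GeneralLinearGroup.map e.toRingHom
      invFun := Matrix.GeneralLinearGroup.map e.symm.toRingHom
      left_inv := fun A => by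
        apply Units.ext
        ext i j
        simp
      right_inv := fun A => by
        apply Units.ext
        ext i j
        simp
      map_mul' := fun A B => map_mul _ A B }
  have hc : (Subgroup.center (GL (Fin 2) K)).map f.toMonoidHom = Subgroup.center (GL (Fin 2) L) := by
    ext A
    rw [Subgroup.mem_map_equiv, Subgroup.mem_center_iff, Subgroup.mem_center_iff]
    constructor
    · intro h B
      have := h (f.symm B)
      have h2 := congrArg f this
      rw [map_mul, map_mul, MulEquiv.apply_symm_apply, MulEquiv.apply_symm_apply] at h2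
      exact h2
    · intro h B
      have := h (f B)
      apply f.injective
      rw [map_mul, map_mul, MulEquiv.apply_symm_apply]
      exact this
  exact ⟨QuotientGroup.congr _ _ f hc⟩

end Cfsg.Agent.Lib.Helper78.PGL2Perm
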