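import Mathlib
import Cfsg.Agent.Lib.Helper78.Hup1
import Cfsg.Agent.Lib.Helper78.Hup2

/-!
# Passman's theorem on half-transitive `p`-groups, part 1 (helper78)

Basic set-up: `ρ : G →* (V ≃ₗ[ZMod q] V)`, all point stabilisers of non-zero vectors have the same
order `s`.  A direct decomposition into invariant subspaces forces semiregularity, hence central
elements of prime order act fixed-point-freely when `s ≠ 1`.
-/

set_option autoImplicit false
set_option linter.style.haveILetI false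

namespace Cfsg.Agent.Lib.Helper78.Pas

open Cfsg.Agent.Lib.Helper78.Hup

variable {q : ℕ} [Fact q.Prime] {V : Type*} [AddCommGroup V] [Module (ZMod q) V]
  {G : Type*} [Group G]

/-- the full stabiliser of a vector -/
def st (ρ : G →* (V ≃ₗ[ZMod q] V)) (v : V) : Subgroup G := stab ρ ⊤ v

theorem mem_st (ρ : G →* (V ≃ₗ[ZMod q] V)) (v : V) (a : G) : a ∈ st ρ v ↔ ρ a v = v := by
  unfold st
  rw [mem_stab]
  exact ⟨fun h => h.2, fun h => ⟨Subgroup.mem_top _, h⟩⟩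

/-- all stabilisers of non-zero vectors have order `s` -/
def HT (ρ : G →* (V ≃ₗ[ZMod q] V)) (s : ℕ) : Prop := ∀ v : V, v ≠ 0 → Nat.card (st ρ v) = s

theorem orbit_mul_st [Finite G] (ρ : G →* (V ≃ₗ[ZMod q] V)) (v : V) :
    Nat.card {u : V | ∃ g : G, ρ g v = u} * Nat.card (st ρ v) = Nat.card G := by
  classical
  let _ : MulAction G V := MulAction.compHom V ρ
  have hsmul : ∀ (g : G) (v : V), g • v = ρ g v := fun _ _ => rfl
  have horb : MulAction.orbit G v = {u : V | ∃ g : G, ρ g v = u} := by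
    ext u
    constructor
    · rintro ⟨g, rfl⟩
      exact ⟨g, rfl⟩
    · rintro ⟨g, rfl⟩
      exact ⟨g, rfl⟩
  have hst : MulAction.stabilizer G v = st ρ v := by
    ext g
    rw [MulAction.mem_stabilizer_iff, mem_st, hsmul]
  have h1 := MulAction.index_stabilizer (G := G) (x := v)
  rw [horb, hst] at h1
  rw [Nat.card_coe_set_eq, ← h1, mul_comm]
  exact Subgroup.card_mul_index _

theorem ht_of_half [Finite G] [Nontrivial V] (ρ : G →* (V ≃ₗ[ZMod q] V))
    (hhalf : ∀ v w : V, v ≠ 0 → w ≠ 0 →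
      Nat.card {u : V | ∃ g : G, ρ g v = u} = Nat.card {u : V | ∃ g : G, ρ g w = u}) :
    ∃ s : ℕ, HT ρ s := by
  obtain ⟨v₀, hv₀⟩ := exists_ne (0 : V)
  refine ⟨Nat.card (st ρ v₀), fun v hv => ?_⟩
  have h1 := orbit_mul_st ρ v
  have h2 := orbit_mul_st ρ v₀
  rw [hhalf v v₀ hv hv₀] at h1
  have hpos : 0 < Nat.card {u : V | ∃ g : G, ρ g v₀ = u} := by
    rcases Nat.eq_zero_or_pos (Nat.card {u : V | ∃ g : G, ρ g v₀ = u}) with h | h
    · rw [h, zero_mul] at h2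
      exact absurd h2.symm (Nat.card_pos (α := G)).ne'
    · exact h
  exact Nat.eq_of_mul_eq_mul_left hpos (h1.trans h2.symm)

theorem st_eq_of_le [Finite G] (ρ : G →* (V ≃ₗ[ZMod q] V)) {s : ℕ} (h : HT ρ s) {u x : V}
    (hu : u ≠ 0) (hx : x ≠ 0) (hle : st ρ u ≤ st ρ x) : st ρ u = st ρ x :=
  Subgroup.eq_of_le_of_card_ge hle ((h x hx).trans (h u hu).symm).le

/-- semiregularity from `s = 1` -/
theorem semireg_of_one (ρ : G →* (V ≃ₗ[ZMod q] V)) (h : HT ρ 1) :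
    ∀ v : V, v ≠ 0 → ∀ g : G, ρ g v = v → g = 1 := by
  intro v hv g hg
  have h1 := h v hv
  rw [Subgroup.card_eq_one] at h1
  have : g ∈ st ρ v := (mem_st ρ v g).mpr hg
  rw [h1, Subgroup.mem_bot] at this
  exact this

/-- a decomposition into two invariant subspaces forces semiregularity -/
theorem decomp_semireg [Finite G] (ρ : G →* (V ≃ₗ[ZMod q] V)) (hρ : Function.Injective ρ)
    {s : ℕ} (h : HT ρ s) (W₁ W₂ : Submodule (ZMod q) V)
    (hinv₁ : ∀ g : G, ∀ w ∈ W₁, ρ g w ∈ W₁) (hinv₂ : ∀ g : G, ∀ w ∈ W₂, ρ g w ∈ W₂)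
    (hdisj : ∀ w, w ∈ W₁ → w ∈ W₂ → w = 0) (hsum : ∀ v : V, ∃ w₁ ∈ W₁, ∃ w₂ ∈ W₂, v = w₁ + w₂)
    (hne₁ : ∃ w ∈ W₁, w ≠ 0) (hne₂ : ∃ w ∈ W₂, w ≠ 0) : s = 1 := by
  obtain ⟨a₀, ha₀, ha₀0⟩ := hne₁
  obtain ⟨b₀, hb₀, hb₀0⟩ := hne₂
  have key : ∀ a ∈ W₁, ∀ b ∈ W₂, a ≠ 0 → b ≠ 0 → st ρ a = st ρ b := by
    intro a ha b hb ha0 hb0
    have hab : a + b ≠ 0 := by
      intro hh
      have h1 : a = -b := eq_neg_of_add_eq_zero_left hh
      apply ha0
      apply hdisj a ha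
      rw [h1]
      exact W₂.neg_mem hb
    have hle : st ρ (a + b) ≤ st ρ a ⊓ st ρ b := by
      intro g hg
      rw [mem_st, map_add] at hg
      have h1 : ρ g a - a = b - ρ g b := by
        rw [sub_eq_sub_iff_add_eq_add, hg, add_comm]
      have h2 : ρ g a - a = 0 := by
        apply hdisj
        · exact W₁.sub_mem (hinv₁ g a ha) ha
        · rw [h1]
          exact W₂.sub_mem hb (hinv₂ g b hb)
      have h3 : b - ρ g b = 0 := h1.symm.trans h2
      refine Subgroup.mem_inf.mpr ⟨(mem_st ρ a g).mpr (sub_eq_zero.mp h2), (mem_st ρ b g).mpr ?_⟩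
      exact (sub_eq_zero.mp h3).symm
    have e1 : st ρ (a + b) = st ρ a := st_eq_of_le ρ h hab ha0 (hle.trans inf_le_left)
    have e2 : st ρ (a + b) = st ρ b := st_eq_of_le ρ h hab hb0 (hle.trans inf_le_right)
    rw [← e1, e2]
  have hbot : st ρ a₀ = ⊥ := by
    rw [Subgroup.eq_bot_iff_forall]
    intro g hg
    apply hρ
    rw [map_one]
    apply LinearEquiv.ext
    intro v
    obtain ⟨w₁, hw₁, w₂, hw₂, rfl⟩ := hsum v
    have f1 : ρ g w₁ = w₁ := by
      by_cases h0 : w₁ = 0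
      · rw [h0, map_zero]
      · have : st ρ w₁ = st ρ a₀ := (key w₁ hw₁ b₀ hb₀ h0 hb₀0).trans
          (key a₀ ha₀ b₀ hb₀ ha₀0 hb₀0).symm
        rw [← this] at hg
        exact (mem_st ρ w₁ g).mp hg
    have f2 : ρ g w₂ = w₂ := by
      by_cases h0 : w₂ = 0
      · rw [h0, map_zero]
      · have : st ρ a₀ = st ρ w₂ := key a₀ ha₀ w₂ hw₂ ha₀0 h0
        rw [this] at hg
        exact (mem_st ρ w₂ g).mp hg
    rw [map_add, f1, f2]
    rfl
  have := h a₀ ha₀0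
  rw [hbot, Subgroup.card_bot] at this
  exact this.symm

end Cfsg.Agent.Lib.Helper78.Pas
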