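import Mathlib
import Cfsg.Agent.Lib.Helper78.Pas1

/-!
# Passman's theorem on half-transitive `p`-groups, part 2 (helper78)

Central elements of prime order act fixed-point-freely; eigenspaces of an element `t` with respect
to a central fixed-point-free subgroup are independent.
-/

set_option autoImplicit false
set_option linter.style.haveILetI false

namespace Cfsg.Agent.Lib.Helper78.Pas

open Cfsg.Agent.Lib.Helper78.Hup

variable {q : ℕ} [Fact q.Prime] {V : Type*} [AddCommGroup V] [Module (ZMod q) V]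
  {G : Type*} [Group G]

/-- the norm operator `∑_{i<p} z^i` -/
def nrm (ρ : G →* (V ≃ₗ[ZMod q] V)) (z : G) (p : ℕ) (v : V) : V :=
  ∑ i ∈ Finset.range p, ρ (z ^ i) v

theorem nrm_fixed (ρ : G →* (V ≃ₗ[ZMod q] V)) (z : G) (p : ℕ) (hzp : z ^ p = 1) (v : V) :
    ρ z (nrm ρ z p v) = nrm ρ z p v := by
  unfold nrm
  rw [map_sum]
  have h1 : ∀ i ∈ Finset.range p, ρ z (ρ (z ^ i) v) = ρ (z ^ (i + 1)) v := by
    intro i _
    rw [← rho_mul_apply, ← pow_succ']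
  rw [Finset.sum_congr rfl h1]
  have h2 := Finset.sum_range_succ (fun i => ρ (z ^ i) v) p
  have h3 := Finset.sum_range_succ' (fun i => ρ (z ^ i) v) p
  rw [h2] at h3
  simp only [hzp, pow_zero] at h3
  exact (add_right_cancel h3).symm

theorem nrm_comm (ρ : G →* (V ≃ₗ[ZMod q] V)) (z : G) (p : ℕ) (g : G) (hg : g * z = z * g)
    (v : V) : ρ g (nrm ρ z p v) = nrm ρ z p (ρ g v) := by
  unfold nrm
  rw [map_sum]
  apply Finset.sum_congr rfl
  intro i _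
  have hc : g * z ^ i = z ^ i * g := by
    have : Commute g z := hg
    exact (this.pow_right i).eq
  rw [← rho_mul_apply, hc, rho_mul_apply]

theorem nrm_of_fixed (ρ : G →* (V ≃ₗ[ZMod q] V)) (z : G) (p : ℕ) (v : V) (hv : ρ z v = v) :
    nrm ρ z p v = (p : ZMod q) • v := by
  unfold nrm
  have h1 : ∀ i ∈ Finset.range p, ρ (z ^ i) v = v := by
    intro i _
    rw [rho_pow_apply]
    exact Function.iterate_fixed hv i
  rw [Finset.sum_congr rfl h1, Finset.sum_const, Finset.card_range, Nat.cast_smul_eq_nsmul]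

theorem nrm_sub (ρ : G →* (V ≃ₗ[ZMod q] V)) (z : G) (p : ℕ) (v w : V) :
    nrm ρ z p (v - w) = nrm ρ z p v - nrm ρ z p w := by
  unfold nrm
  rw [← Finset.sum_sub_distrib]
  apply Finset.sum_congr rfl
  intro i _
  rw [map_sub]

theorem nrm_smul (ρ : G →* (V ≃ₗ[ZMod q] V)) (z : G) (p : ℕ) (c : ZMod q) (v : V) :
    nrm ρ z p (c • v) = c • nrm ρ z p v := by
  unfold nrm
  rw [Finset.smul_sum]
  apply Finset.sum_congr rfl
  intro i _
  rw [map_smul]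

theorem nrm_add (ρ : G →* (V ≃ₗ[ZMod q] V)) (z : G) (p : ℕ) (v w : V) :
    nrm ρ z p (v + w) = nrm ρ z p v + nrm ρ z p w := by
  unfold nrm
  rw [← Finset.sum_add_distrib]
  apply Finset.sum_congr rfl
  intro i _
  rw [map_add]

/-- kernel of the norm operator as a submodule -/
def nker (ρ : G →* (V ≃ₗ[ZMod q] V)) (z : G) (p : ℕ) : Submodule (ZMod q) V where
  carrier := {v | nrm ρ z p v = 0}
  add_mem' := by
    intro a b ha hb
    show nrm ρ z p (a + b) = 0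
    rw [nrm_add, ha, hb, add_zero]
  zero_mem' := by
    show nrm ρ z p 0 = 0
    unfold nrm
    simp
  smul_mem' := by
    intro c a ha
    show nrm ρ z p (c • a) = 0
    rw [nrm_smul, ha, smul_zero]

theorem mem_nker (ρ : G →* (V ≃ₗ[ZMod q] V)) (z : G) (p : ℕ) (v : V) :
    v ∈ nker ρ z p ↔ nrm ρ z p v = 0 := Iff.rfl

/-- **central elements of prime order are fixed-point-free** (when the group is not semiregular) -/
theorem central_fpf [Finite G] (ρ : G →* (V ≃ₗ[ZMod q] V)) (hρ : Function.Injective ρ)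
    {s : ℕ} (h : HT ρ s) (hs : s ≠ 1) (p : ℕ) (hp : p.Prime) (hpq : p ≠ q)
    (z : G) (hzc : ∀ g : G, g * z = z * g) (hzp : z ^ p = 1) (hz1 : z ≠ 1) :
    ∀ v : V, ρ z v = v → v = 0 := by
  intro v₀ hv₀
  by_contra hv₀0
  apply hs
  have hq : q.Prime := Fact.out
  have hpne : (p : ZMod q) ≠ 0 := by
    intro h0
    rw [ZMod.natCast_eq_zero_iff] at h0
    exact hpq ((Nat.prime_dvd_prime_iff_eq hq hp).mp h0).symm
  set c : ZMod q := (p : ZMod q)⁻¹ with hc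
  have hcp : c * (p : ZMod q) = 1 := inv_mul_cancel₀ hpne
  have hdec : ∀ v : V, nrm ρ z p (v - c • nrm ρ z p v) = 0 := by
    intro v
    rw [nrm_sub, nrm_smul, nrm_of_fixed ρ z p (nrm ρ z p v) (nrm_fixed ρ z p hzp v), smul_smul,
      hcp, one_smul, sub_self]
  apply decomp_semireg ρ hρ h (fixSub ρ z) (nker ρ z p)
  · intro g w hw
    rw [mem_fixSub] at hw ⊢
    rw [← rho_mul_apply, ← hzc g, rho_mul_apply, hw]
  · intro g w hw
    rw [mem_nker] at hw ⊢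
    rw [← nrm_comm ρ z p g (hzc g), hw, map_zero]
  · intro w hw1 hw2
    rw [mem_fixSub] at hw1
    rw [mem_nker, nrm_of_fixed ρ z p w hw1] at hw2
    have := congrArg (fun x => c • x) hw2
    simp only [smul_smul, hcp, one_smul, smul_zero] at this
    exact this
  · intro v
    refine ⟨c • nrm ρ z p v, ?_, v - c • nrm ρ z p v, ?_, ?_⟩
    · rw [mem_fixSub, map_smul, nrm_fixed ρ z p hzp]
    · exact hdec v
    · abel
  · exact ⟨v₀, (mem_fixSub ρ z v₀).mpr hv₀, hv₀0⟩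
  · have hne : ρ z ≠ 1 := fun h1 => hz1 (hρ (h1.trans (map_one ρ).symm))
    obtain ⟨v, hv⟩ : ∃ v, ρ z v ≠ v := by
      by_contra hcon
      push Not at hcon
      exact hne (LinearEquiv.ext hcon)
    refine ⟨v - c • nrm ρ z p v, hdec v, ?_⟩
    intro h0
    apply hv
    have h1 : v = c • nrm ρ z p v := sub_eq_zero.mp h0
    rw [h1, map_smul, nrm_fixed ρ z p hzp]

/-- non-trivial elements of a fixed-point-free group of prime order are fixed-point-free -/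
theorem fpf_of_mem_zpowers (ρ : G →* (V ≃ₗ[ZMod q] V)) (p : ℕ) (hp : p.Prime) (z : G)
    (hzp : z ^ p = 1) (hz1 : z ≠ 1) (hfpf : ∀ v : V, ρ z v = v → v = 0)
    (ζ : G) (hζ : ζ ∈ Subgroup.zpowers z) (hζ1 : ζ ≠ 1) : ∀ v : V, ρ ζ v = v → v = 0 := by
  intro v hv
  apply hfpf
  haveI : Fact p.Prime := ⟨hp⟩
  have ho : orderOf z = p := orderOf_eq_prime hzp hz1
  have hcard : Nat.card (Subgroup.zpowers z) = p := by rw [Nat.card_zpowers, ho]
  have htop := zpowers_eq_top_of_prime_card (G := Subgroup.zpowers z) (g := ⟨ζ, hζ⟩) hcard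
    (fun h1 => hζ1 (congrArg Subtype.val h1))
  have hz' : (⟨z, Subgroup.mem_zpowers z⟩ : Subgroup.zpowers z) ∈
      Subgroup.zpowers (⟨ζ, hζ⟩ : Subgroup.zpowers z) := by
    rw [htop]; exact Subgroup.mem_top _
  obtain ⟨k, hk⟩ := Subgroup.mem_zpowers_iff.mp hz'
  have hk' : ζ ^ k = z := by
    have := congrArg Subtype.val hk
    simpa using this
  have hfix : ∀ k : ℤ, ρ (ζ ^ k) v = v := by
    intro k
    have hmem : ζ ^ k ∈ st ρ v := (st ρ v).zpow_mem ((mem_st ρ v ζ).mpr hv) k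
    exact (mem_st ρ v _).mp hmem
  rw [← hk']
  exact hfix k

/-! ### eigenspaces with respect to central elements -/

/-- the `ζ`-eigenspace of `t`: vectors on which `t` acts like `ζ` -/
def Ei (ρ : G →* (V ≃ₗ[ZMod q] V)) (t ζ : G) : Submodule (ZMod q) V where
  carrier := {x | ρ t x = ρ ζ x}
  add_mem' := by
    intro a b ha hb
    show ρ t (a + b) = ρ ζ (a + b)
    rw [map_add, map_add, ha, hb]
  zero_mem' := by
    show ρ t 0 = ρ ζ 0
    rw [map_zero, map_zero]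
  smul_mem' := by
    intro c a ha
    show ρ t (c • a) = ρ ζ (c • a)
    rw [map_smul, map_smul, ha]

theorem mem_Ei (ρ : G →* (V ≃ₗ[ZMod q] V)) (t ζ : G) (x : V) :
    x ∈ Ei ρ t ζ ↔ ρ t x = ρ ζ x := Iff.rfl

theorem mem_Ei_one (ρ : G →* (V ≃ₗ[ZMod q] V)) (t : G) (x : V) :
    x ∈ Ei ρ t 1 ↔ ρ t x = x := by
  rw [mem_Ei, rho_one_apply]

/-- an element commuting with `t` and `ζ` preserves the eigenspace -/
theorem Ei_map (ρ : G →* (V ≃ₗ[ZMod q] V)) (t ζ c : G) (hct : c * t = t * c) (hcζ : c * ζ = ζ * c)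
    (x : V) (hx : x ∈ Ei ρ t ζ) : ρ c x ∈ Ei ρ t ζ := by
  rw [mem_Ei] at hx ⊢
  rw [← rho_mul_apply, ← hct, rho_mul_apply, hx, ← rho_mul_apply, hcζ, rho_mul_apply]

/-- conjugation moves eigenspaces -/
theorem Ei_conj (ρ : G →* (V ≃ₗ[ZMod q] V)) (t ζ g : G) (hgζ : g * ζ = ζ * g)
    (x : V) (hx : x ∈ Ei ρ t ζ) : ρ g x ∈ Ei ρ (g * t * g⁻¹) ζ := by
  rw [mem_Ei] at hx ⊢
  rw [← rho_mul_apply, inv_mul_cancel_right, rho_mul_apply, hx, ← rho_mul_apply, hgζ,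
    rho_mul_apply]

/-- a hypothesis package: `Z` is central and acts fixed-point-freely -/
structure CF (ρ : G →* (V ≃ₗ[ZMod q] V)) (Z : Subgroup G) : Prop where
  central : ∀ ζ ∈ Z, ∀ g : G, g * ζ = ζ * g
  fpf : ∀ ζ ∈ Z, ζ ≠ 1 → ∀ v : V, ρ ζ v = v → v = 0

theorem CF.eq_zero_of_two {ρ : G →* (V ≃ₗ[ZMod q] V)} {Z : Subgroup G} (hZ : CF ρ Z) (t : G)
    {α β : G} (hα : α ∈ Z) (hβ : β ∈ Z) (hαβ : α ≠ β) (a : V) (ha : a ∈ Ei ρ t α)
    (hb : a ∈ Ei ρ t β) : a = 0 := by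
  rw [mem_Ei] at ha hb
  have h1 : ρ α a = ρ β a := ha.symm.trans hb
  apply hZ.fpf (β⁻¹ * α) (Z.mul_mem (Z.inv_mem hβ) hα)
  · intro h
    apply hαβ
    have := congrArg (fun x => β * x) h
    simpa using this
  · rw [rho_mul_apply, h1, rho_inv_apply]

theorem CF.ind2 {ρ : G →* (V ≃ₗ[ZMod q] V)} {Z : Subgroup G} (hZ : CF ρ Z) (t : G)
    {α β : G} (hα : α ∈ Z) (hβ : β ∈ Z) (hαβ : α ≠ β) (a b : V) (ha : a ∈ Ei ρ t α)
    (hb : b ∈ Ei ρ t β) (hab : a + b = 0) : a = 0 ∧ b = 0 := by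
  have h1 : a = -b := eq_neg_of_add_eq_zero_left hab
  have ha0 : a = 0 := by
    apply hZ.eq_zero_of_two t hα hβ hαβ a ha
    rw [h1]
    exact (Ei ρ t β).neg_mem hb
  refine ⟨ha0, ?_⟩
  rw [ha0, zero_add] at hab
  exact hab

/-- the shifted vector `α a - γ a` stays in the `α`-eigenspace -/
theorem CF.shift_mem {ρ : G →* (V ≃ₗ[ZMod q] V)} {Z : Subgroup G} (hZ : CF ρ Z) (t : G)
    {α γ : G} (hα : α ∈ Z) (hγ : γ ∈ Z) (a : V) (ha : a ∈ Ei ρ t α) :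
    ρ α a - ρ γ a ∈ Ei ρ t α := by
  apply (Ei ρ t α).sub_mem
  · exact Ei_map ρ t α α (hZ.central α hα t).symm rfl a ha
  · exact Ei_map ρ t α γ (hZ.central γ hγ t).symm (hZ.central α hα γ) a ha

theorem CF.shift_eq {ρ : G →* (V ≃ₗ[ZMod q] V)} (t : G) {α γ : G} (a : V) (ha : a ∈ Ei ρ t α) :
    ρ t a - ρ γ a = ρ α a - ρ γ a := by
  rw [mem_Ei] at ha
  rw [ha]

theorem CF.zero_of_shift {ρ : G →* (V ≃ₗ[ZMod q] V)} {Z : Subgroup G} (hZ : CF ρ Z)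
    {α γ : G} (hα : α ∈ Z) (hγ : γ ∈ Z) (hαγ : α ≠ γ) (a : V) (h0 : ρ α a - ρ γ a = 0) :
    a = 0 := by
  apply hZ.fpf (γ⁻¹ * α) (Z.mul_mem (Z.inv_mem hγ) hα)
  · intro h
    apply hαγ
    have := congrArg (fun x => γ * x) h
    simpa using this
  · rw [rho_mul_apply, sub_eq_zero.mp h0, rho_inv_apply]

theorem CF.ind3 {ρ : G →* (V ≃ₗ[ZMod q] V)} {Z : Subgroup G} (hZ : CF ρ Z) (t : G)
    {α β γ : G} (hα : α ∈ Z) (hβ : β ∈ Z) (hγ : γ ∈ Z) (hαβ : α ≠ β) (hαγ : α ≠ γ) (hβγ : β ≠ γ)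
    (a b c : V) (ha : a ∈ Ei ρ t α) (hb : b ∈ Ei ρ t β) (hc : c ∈ Ei ρ t γ)
    (habc : a + b + c = 0) : a = 0 ∧ b = 0 ∧ c = 0 := by
  have h1 : (ρ α a - ρ γ a) + (ρ β b - ρ γ b) = 0 := by
    rw [← CF.shift_eq t a ha, ← CF.shift_eq t b hb]
    have h2 : ρ t c - ρ γ c = 0 := by
      rw [mem_Ei] at hc
      rw [hc, sub_self]
    have h3 : ρ t (a + b + c) - ρ γ (a + b + c) = 0 := by
      rw [habc, map_zero, map_zero, sub_zero]
    rw [map_add, map_add, map_add, map_add] at h3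
    have h4 : (ρ t a - ρ γ a) + (ρ t b - ρ γ b) + (ρ t c - ρ γ c) = 0 := by
      rw [← h3]; abel
    rw [h2, add_zero] at h4
    exact h4
  obtain ⟨e1, e2⟩ := hZ.ind2 t hα hβ hαβ _ _ (hZ.shift_mem t hα hγ a ha)
    (hZ.shift_mem t hβ hγ b hb) h1
  have ha0 := hZ.zero_of_shift hα hγ hαγ a e1
  have hb0 := hZ.zero_of_shift hβ hγ hβγ b e2
  refine ⟨ha0, hb0, ?_⟩
  rw [ha0, hb0, zero_add, zero_add] at habc
  exact habc

theorem CF.ind4 {ρ : G →* (V ≃ₗ[ZMod q] V)} {Z : Subgroup G} (hZ : CF ρ Z) (t : G)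
    {α β γ δ : G} (hα : α ∈ Z) (hβ : β ∈ Z) (hγ : γ ∈ Z) (hδ : δ ∈ Z)
    (hαβ : α ≠ β) (hαγ : α ≠ γ) (hβγ : β ≠ γ) (hαδ : α ≠ δ) (hβδ : β ≠ δ) (hγδ : γ ≠ δ)
    (a b c d : V) (ha : a ∈ Ei ρ t α) (hb : b ∈ Ei ρ t β) (hc : c ∈ Ei ρ t γ)
    (hd : d ∈ Ei ρ t δ) (habcd : a + b + c + d = 0) : a = 0 ∧ b = 0 ∧ c = 0 ∧ d = 0 := by
  have h1 : (ρ α a - ρ δ a) + (ρ β b - ρ δ b) + (ρ γ c - ρ δ c) = 0 := by
    rw [← CF.shift_eq t a ha, ← CF.shift_eq t b hb, ← CF.shift_eq t c hc]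
    have h2 : ρ t d - ρ δ d = 0 := by
      rw [mem_Ei] at hd
      rw [hd, sub_self]
    have h3 : ρ t (a + b + c + d) - ρ δ (a + b + c + d) = 0 := by
      rw [habcd, map_zero, map_zero, sub_zero]
    rw [map_add, map_add, map_add, map_add, map_add, map_add] at h3
    have h4 : (ρ t a - ρ δ a) + (ρ t b - ρ δ b) + (ρ t c - ρ δ c) + (ρ t d - ρ δ d) = 0 := by
      rw [← h3]; abel
    rw [h2, add_zero] at h4
    exact h4
  obtain ⟨e1, e2, e3⟩ := hZ.ind3 t hα hβ hγ hαβ hαγ hβγ _ _ _ (hZ.shift_mem t hα hδ a ha)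
    (hZ.shift_mem t hβ hδ b hb) (hZ.shift_mem t hγ hδ c hc) h1
  have ha0 := hZ.zero_of_shift hα hδ hαδ a e1
  have hb0 := hZ.zero_of_shift hβ hδ hβδ b e2
  have hc0 := hZ.zero_of_shift hγ hδ hγδ c e3
  refine ⟨ha0, hb0, hc0, ?_⟩
  rw [ha0, hb0, hc0, zero_add, zero_add, zero_add] at habcd
  exact habcd

end Cfsg.Agent.Lib.Helper78.Pas
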