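import Mathlib
import Cfsg.Agent.Lib.Helper78.Pas2

/-!
# Passman's theorem on half-transitive `p`-groups, part 3 (helper78)

A normal subgroup `⟨z⟩ × ⟨t⟩` of type `(p, p)` with `z` central: for odd `p` this is incompatible
with half-transitivity (unless the action is semiregular).
-/

set_option autoImplicit false
set_option linter.style.haveILetI false

namespace Cfsg.Agent.Lib.Helper78.Pas

open Cfsg.Agent.Lib.Helper78.Hup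

variable {q : ℕ} [Fact q.Prime] {V : Type*} [AddCommGroup V] [Module (ZMod q) V]
  {G : Type*} [Group G]

/-- data of a normal subgroup of type `(p,p)`, `z` central and fixed-point-free, `t` with fixed
points -/
structure BData (ρ : G →* (V ≃ₗ[ZMod q] V)) (p : ℕ) (z t : G) : Prop where
  zc : ∀ g : G, g * z = z * g
  zp : z ^ p = 1
  z1 : z ≠ 1
  zfpf : ∀ v : V, ρ z v = v → v = 0
  tp : t ^ p = 1
  tz : t ∉ Subgroup.zpowers z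
  tfix : ∃ v : V, v ≠ 0 ∧ ρ t v = v
  norm : ∀ g : G, ∃ ζ ∈ Subgroup.zpowers z, g * t * g⁻¹ = t * ζ

theorem BData.cf {ρ : G →* (V ≃ₗ[ZMod q] V)} {p : ℕ} {z t : G} (d : BData ρ p z t)
    (hp : p.Prime) : CF ρ (Subgroup.zpowers z) where
  central := by
    intro ζ hζ g
    obtain ⟨k, rfl⟩ := Subgroup.mem_zpowers_iff.mp hζ
    have : Commute g z := d.zc g
    exact (this.zpow_right k).eq
  fpf := fun ζ hζ hζ1 => fpf_of_mem_zpowers ρ p hp z d.zp d.z1 d.zfpf ζ hζ hζ1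

theorem BData.t_ne_one {ρ : G →* (V ≃ₗ[ZMod q] V)} {p : ℕ} {z t : G} (d : BData ρ p z t) :
    t ≠ 1 := by
  intro h
  apply d.tz
  rw [h]
  exact Subgroup.one_mem _

/-- conjugating by `g` with `g t g⁻¹ = t ζ` shifts eigenspaces by `ζ⁻¹` -/
theorem Ei_conj_shift (ρ : G →* (V ≃ₗ[ZMod q] V)) {Z : Subgroup G} (hZ : CF ρ Z) (t g ζ α : G)
    (hζ : ζ ∈ Z) (hα : α ∈ Z) (hg : g * t * g⁻¹ = t * ζ) (x : V) (hx : x ∈ Ei ρ t α) :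
    ρ g x ∈ Ei ρ t (ζ⁻¹ * α) := by
  have h1 := Ei_conj ρ t α g (hZ.central α hα g) x hx
  rw [hg, mem_Ei] at h1
  have h2 : ζ⁻¹ * (t * ζ) = t := by
    rw [hZ.central ζ hζ t]
    group
  rw [mem_Ei, rho_mul_apply, ← h1, ← rho_mul_apply ρ ζ⁻¹ (t * ζ), h2]

/-- elements of a group of odd prime order have non-trivial squares -/
theorem sq_ne_one_of_odd (p : ℕ) (hp : p.Prime) (hp2 : p ≠ 2) (z κ : G) (hzp : z ^ p = 1)
    (hκ : κ ∈ Subgroup.zpowers z) (hκ1 : κ ≠ 1) : κ * κ ≠ 1 := by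
  intro h
  haveI : Fact p.Prime := ⟨hp⟩
  have hκp : κ ^ p = 1 := by
    obtain ⟨k, rfl⟩ := Subgroup.mem_zpowers_iff.mp hκ
    rw [← zpow_natCast, ← zpow_mul, mul_comm, zpow_mul, zpow_natCast, hzp, one_zpow]
  have ho : orderOf κ = p := orderOf_eq_prime hκp hκ1
  have h2 : orderOf κ ∣ 2 := orderOf_dvd_of_pow_eq_one (by rw [pow_two]; exact h)
  rw [ho] at h2
  exact hp2 ((Nat.prime_dvd_prime_iff_eq hp Nat.prime_two).mp h2)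

/-- **odd `p`**: a normal subgroup of type `(p,p)` is impossible in a non-semiregular
half-transitive group -/
theorem bdata_odd_false [Finite G] (ρ : G →* (V ≃ₗ[ZMod q] V)) (hρ : Function.Injective ρ)
    {s : ℕ} (h : HT ρ s) (hs : s ≠ 1) (p : ℕ) (hp : p.Prime) (hpq : p ≠ q) (hp2 : p ≠ 2)
    (z t : G) (d : BData ρ p z t) : False := by
  have hZ := d.cf hp
  set Z := Subgroup.zpowers z with hZdef
  have h1Z : (1 : G) ∈ Z := Z.one_mem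
  obtain ⟨v₀, hv₀0, hv₀⟩ := d.tfix
  -- t is not central
  obtain ⟨g₁, hg₁⟩ : ∃ g₁ : G, g₁ * t ≠ t * g₁ := by
    by_contra hcon
    push Not at hcon
    exact hv₀0 (central_fpf ρ hρ h hs p hp hpq t hcon d.tp d.t_ne_one v₀ hv₀)
  obtain ⟨ζ₁, hζ₁Z, hζ₁⟩ := d.norm g₁
  have hζ₁1 : ζ₁ ≠ 1 := by
    rintro rfl
    apply hg₁
    rw [mul_one] at hζ₁
    have := congrArg (fun x => x * g₁) hζ₁
    simpa using this
  set κ := ζ₁⁻¹ * 1 with hκdef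
  have hκZ : κ ∈ Z := Z.mul_mem (Z.inv_mem hζ₁Z) h1Z
  have hκ1 : κ ≠ 1 := by
    rw [hκdef, mul_one]
    exact inv_ne_one.mpr hζ₁1
  have hv₀E : v₀ ∈ Ei ρ t 1 := (mem_Ei_one ρ t v₀).mpr hv₀
  set v₁ := ρ g₁ v₀ with hv₁def
  have hv₁E : v₁ ∈ Ei ρ t κ := Ei_conj_shift ρ hZ t g₁ ζ₁ 1 hζ₁Z h1Z hζ₁ v₀ hv₀E
  have hv₁0 : v₁ ≠ 0 := by
    intro h0
    apply hv₀0
    have := congrArg (ρ g₁⁻¹) h0
    rwa [hv₁def, rho_inv_apply, map_zero] at this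
  have h1κ : (1 : G) ≠ κ := fun e => hκ1 e.symm
  have hw0 : v₀ + v₁ ≠ 0 := fun e => hv₀0 (hZ.ind2 t h1Z hκZ h1κ v₀ v₁ hv₀E hv₁E e).1
  -- stabilisers
  have hC0 : ∀ g ∈ st ρ v₀, g * t = t * g := by
    intro g hg
    rw [mem_st] at hg
    obtain ⟨ζ, hζZ, hζ⟩ := d.norm g
    have h2 := Ei_conj_shift ρ hZ t g ζ 1 hζZ h1Z hζ v₀ hv₀E
    rw [hg, mul_one] at h2
    have h3 : ζ⁻¹ = 1 := by
      by_contra hne
      have h1ne : (1 : G) ≠ ζ⁻¹ := fun e => hne e.symm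
      exact hv₀0 (hZ.eq_zero_of_two t h1Z (Z.inv_mem hζZ) h1ne v₀ hv₀E h2)
    rw [inv_eq_one] at h3
    rw [h3, mul_one] at hζ
    have := congrArg (fun x => x * g) hζ
    simpa using this
  have hCw : ∀ c ∈ st ρ (v₀ + v₁), c * t = t * c → c ∈ st ρ v₀ ∧ c ∈ st ρ v₁ := by
    intro c hc hct
    rw [mem_st, map_add] at hc
    have e0 : ρ c v₀ - v₀ ∈ Ei ρ t 1 :=
      (Ei ρ t 1).sub_mem (Ei_map ρ t 1 c hct (by rw [mul_one, one_mul]) v₀ hv₀E) hv₀E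
    have e1 : ρ c v₁ - v₁ ∈ Ei ρ t κ :=
      (Ei ρ t κ).sub_mem (Ei_map ρ t κ c hct (hZ.central κ hκZ c) v₁ hv₁E) hv₁E
    have e2 : (ρ c v₀ - v₀) + (ρ c v₁ - v₁) = 0 := by
      have : (ρ c v₀ - v₀) + (ρ c v₁ - v₁) = (ρ c v₀ + ρ c v₁) - (v₀ + v₁) := by abel
      rw [this, hc, sub_self]
    obtain ⟨f0, f1⟩ := hZ.ind2 t h1Z hκZ h1κ _ _ e0 e1 e2
    exact ⟨(mem_st ρ v₀ c).mpr (sub_eq_zero.mp f0), (mem_st ρ v₁ c).mpr (sub_eq_zero.mp f1)⟩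
  have ht0 : t ∈ st ρ v₀ := (mem_st ρ v₀ t).mpr hv₀
  have ht1 : t ∉ st ρ v₁ := by
    intro hh
    rw [mem_st] at hh
    rw [mem_Ei, hh] at hv₁E
    exact hv₁0 (hZ.fpf κ hκZ hκ1 v₁ hv₁E.symm)
  obtain ⟨g, hgw, hgC⟩ : ∃ g ∈ st ρ (v₀ + v₁), g * t ≠ t * g := by
    by_contra hcon
    push Not at hcon
    have hle : st ρ (v₀ + v₁) ≤ st ρ v₀ := fun c hc => (hCw c hc (hcon c hc)).1
    have heq := st_eq_of_le ρ h hw0 hv₀0 hle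
    rw [← heq] at ht0
    exact ht1 (hCw t ht0 rfl).2
  obtain ⟨ζ, hζZ, hζ⟩ := d.norm g
  have hζ1 : ζ ≠ 1 := by
    rintro rfl
    apply hgC
    rw [mul_one] at hζ
    have := congrArg (fun x => x * g) hζ
    simpa using this
  set l := ζ⁻¹ with hldef
  have hlZ : l ∈ Z := Z.inv_mem hζZ
  have hl1 : l ≠ 1 := inv_ne_one.mpr hζ1
  have hx₀ : ρ g v₀ ∈ Ei ρ t l := by
    have := Ei_conj_shift ρ hZ t g ζ 1 hζZ h1Z hζ v₀ hv₀E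
    rwa [mul_one] at this
  have hx₁ : ρ g v₁ ∈ Ei ρ t (l * κ) := Ei_conj_shift ρ hZ t g ζ κ hζZ hκZ hζ v₁ hv₁E
  have hsum : ρ g v₀ + ρ g v₁ = v₀ + v₁ := by
    rw [← map_add]
    exact (mem_st ρ _ g).mp hgw
  have hlκZ : l * κ ∈ Z := Z.mul_mem hlZ hκZ
  have hnv₀ : -v₀ ∈ Ei ρ t 1 := (Ei ρ t 1).neg_mem hv₀E
  have hnv₁ : -v₁ ∈ Ei ρ t κ := (Ei ρ t κ).neg_mem hv₁E
  have d1 : l ≠ l * κ := fun e => hκ1 (by simpa using e.symm)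
  have d2 : l * κ ≠ κ := fun e => hl1 (by simpa using e)
  by_cases c1 : l = κ
  · -- λ = κ
    have hsq : κ * κ ≠ 1 := sq_ne_one_of_odd p hp hp2 z κ d.zp hκZ hκ1
    rw [c1] at hx₀ hx₁
    have e : (ρ g v₀ + -v₁) + ρ g v₁ + -v₀ = 0 := by
      have : (ρ g v₀ + -v₁) + ρ g v₁ + -v₀ = (ρ g v₀ + ρ g v₁) - (v₀ + v₁) := by abel
      rw [this, hsum, sub_self]
    have := hZ.ind3 t hκZ (Z.mul_mem hκZ hκZ) h1Z (fun e' => hκ1 (by simpa using e'.symm))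
      hκ1 hsq _ _ _ ((Ei ρ t κ).add_mem hx₀ hnv₁) hx₁ hnv₀ e
    exact hv₀0 (neg_eq_zero.mp this.2.2)
  · by_cases c2 : l * κ = 1
    · have hsq : l * l ≠ 1 := sq_ne_one_of_odd p hp hp2 z l d.zp hlZ hl1
      rw [c2] at hx₁
      have e : (ρ g v₁ + -v₀) + ρ g v₀ + -v₁ = 0 := by
        have : (ρ g v₁ + -v₀) + ρ g v₀ + -v₁ = (ρ g v₀ + ρ g v₁) - (v₀ + v₁) := by abel
        rw [this, hsum, sub_self]
      have hlκ : l ≠ κ := c1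
      have := hZ.ind3 t h1Z hlZ hκZ (fun e' => hl1 e'.symm) h1κ hlκ _ _ _
        ((Ei ρ t 1).add_mem hx₁ hnv₀) hx₀ hnv₁ e
      exact hv₁0 (neg_eq_zero.mp this.2.2)
    · have e : ρ g v₀ + ρ g v₁ + -v₀ + -v₁ = 0 := by
        have : ρ g v₀ + ρ g v₁ + -v₀ + -v₁ = (ρ g v₀ + ρ g v₁) - (v₀ + v₁) := by abel
        rw [this, hsum, sub_self]
      have := hZ.ind4 t hlZ hlκZ h1Z hκZ d1 hl1 c2 c1 d2 h1κ _ _ _ _ hx₀ hx₁ hnv₀ hnv₁ e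
      exact hv₀0 (neg_eq_zero.mp this.2.2.1)

end Cfsg.Agent.Lib.Helper78.Pas
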