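import Mathlib
import Cfsg.Agent.Lib.Helper78.Pas3

/-!
# Passman's theorem on half-transitive `p`-groups, part 4 (helper78)

`p = 2`: a normal four-group `⟨z⟩ × ⟨t⟩` with `z = -1` central.  The point stabilisers have
order `2`.
-/

set_option autoImplicit false
set_option linter.style.haveILetI false

namespace Cfsg.Agent.Lib.Helper78.Pas

open Cfsg.Agent.Lib.Helper78.Hup

variable {q : ℕ} [Fact q.Prime] {V : Type*} [AddCommGroup V] [Module (ZMod q) V]
  {G : Type*} [Group G]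

theorem two_ne_zero_of_ne (hq2 : q ≠ 2) : (2 : ZMod q) ≠ 0 := by
  have hq : q.Prime := Fact.out
  intro h0
  have h1 : ((2 : ℕ) : ZMod q) = 0 := by exact_mod_cast h0
  rw [ZMod.natCast_eq_zero_iff] at h1
  exact hq2 ((Nat.prime_dvd_prime_iff_eq hq Nat.prime_two).mp h1)

theorem eq_zero_of_neg_eq (hq2 : q ≠ 2) (x : V) (h : -x = x) : x = 0 := by
  have h2 : (2 : ZMod q) ≠ 0 := two_ne_zero_of_ne hq2
  have h3 : (2 : ZMod q) • x = 0 := by
    rw [two_smul]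
    nth_rewrite 1 [← h]
    exact neg_add_cancel x
  rcases smul_eq_zero.mp h3 with h4 | h4
  · exact absurd h4 h2
  · exact h4

/-- the data for `p = 2`: `z = -1` central, `t` an involution with fixed points, every element
commutes with `t` or conjugates it to `t z` -/
structure TData (ρ : G →* (V ≃ₗ[ZMod q] V)) (z t : G) : Prop where
  zc : ∀ g : G, g * z = z * g
  zneg : ∀ v : V, ρ z v = -v
  tsq : t * t = 1
  tfix : ∃ v : V, v ≠ 0 ∧ ρ t v = v
  tanti : ∃ v : V, v ≠ 0 ∧ ρ t v = -v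
  norm : ∀ g : G, g * t = t * g ∨ t * g = z * (g * t)

theorem BData.z_neg {ρ : G →* (V ≃ₗ[ZMod q] V)} {z t : G} (d : BData ρ 2 z t) (v : V) :
    ρ z v = -v := by
  have hzz : z * z = 1 := by rw [← pow_two]; exact d.zp
  have h1 : ρ z (ρ z v + v) = ρ z v + v := by
    rw [map_add, ← rho_mul_apply, hzz, rho_one_apply, add_comm]
  have h2 := d.zfpf _ h1
  exact eq_neg_of_add_eq_zero_left h2

theorem BData.zpow_cases {ρ : G →* (V ≃ₗ[ZMod q] V)} {z t : G} (d : BData ρ 2 z t) (ζ : G)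
    (hζ : ζ ∈ Subgroup.zpowers z) : ζ = 1 ∨ ζ = z := by
  obtain ⟨k, rfl⟩ := Subgroup.mem_zpowers_iff.mp hζ
  have hzz : z ^ (2 : ℤ) = 1 := by
    have := d.zp
    rw [← zpow_natCast] at this
    exact_mod_cast this
  have hk : k = 2 * (k / 2) + k % 2 := (Int.mul_ediv_add_emod k 2).symm
  rw [hk, zpow_add, zpow_mul, hzz, one_zpow, one_mul]
  rcases Int.emod_two_eq_zero_or_one k with h | h
  · left; rw [h, zpow_zero]
  · right; rw [h, zpow_one]

theorem BData.norm2 {ρ : G →* (V ≃ₗ[ZMod q] V)} {z t : G} (d : BData ρ 2 z t) (g : G) :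
    g * t = t * g ∨ t * g = z * (g * t) := by
  obtain ⟨ζ, hζ, hg⟩ := d.norm g
  rcases d.zpow_cases ζ hζ with rfl | rfl
  · left
    rw [mul_one] at hg
    have := congrArg (fun x => x * g) hg
    simpa using this
  · right
    have hzz : ζ * ζ = 1 := by rw [← pow_two]; exact d.zp
    have h1 : g * t = t * ζ * g := by
      have := congrArg (fun x => x * g) hg
      simpa using this
    rw [h1, show ζ * (t * ζ * g) = (ζ * t) * ζ * g by group, ← d.zc t, mul_assoc t ζ ζ, hzz,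
      mul_one]

theorem BData.toTData [Finite G] {ρ : G →* (V ≃ₗ[ZMod q] V)} (hρ : Function.Injective ρ)
    {s : ℕ} (h : HT ρ s) (hs : s ≠ 1) (hq2 : 2 ≠ q) {z t : G} (d : BData ρ 2 z t) :
    TData ρ z t where
  zc := d.zc
  zneg := d.z_neg
  tsq := by rw [← pow_two]; exact d.tp
  tfix := d.tfix
  tanti := by
    obtain ⟨v₀, hv₀0, hv₀⟩ := d.tfix
    obtain ⟨g₁, hg₁⟩ : ∃ g₁ : G, g₁ * t ≠ t * g₁ := by
      by_contra hcon
      push Not at hcon
      exact hv₀0 (central_fpf ρ hρ h hs 2 Nat.prime_two hq2 t hcon d.tp d.t_ne_one v₀ hv₀)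
    rcases d.norm2 g₁ with h1 | h1
    · exact absurd h1 hg₁
    · refine ⟨ρ g₁ v₀, ?_, ?_⟩
      · intro h0
        apply hv₀0
        have := congrArg (ρ g₁⁻¹) h0
        rwa [rho_inv_apply, map_zero] at this
      · rw [← rho_mul_apply, h1, rho_mul_apply, d.z_neg, rho_mul_apply, hv₀]
  norm := d.norm2

namespace TData

variable {ρ : G →* (V ≃ₗ[ZMod q] V)} {z t : G}

theorem zsq (d : TData ρ z t) (hρ : Function.Injective ρ) : z * z = 1 := by
  apply hρ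
  rw [map_one]
  apply LinearEquiv.ext
  intro v
  rw [rho_mul_apply, d.zneg, d.zneg, neg_neg]
  rfl

/-- commuting elements commute with the action of `t` -/
theorem comm_apply (_d : TData ρ z t) {g : G} (hg : g * t = t * g) (x : V) :
    ρ t (ρ g x) = ρ g (ρ t x) := by
  rw [← rho_mul_apply, ← hg, rho_mul_apply]

/-- flipping elements anticommute with the action of `t` -/
theorem flip_apply (d : TData ρ z t) {g : G} (hg : t * g = z * (g * t)) (x : V) :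
    ρ t (ρ g x) = -ρ g (ρ t x) := by
  rw [← rho_mul_apply, hg, rho_mul_apply, d.zneg, rho_mul_apply]

theorem tz_apply (d : TData ρ z t) (x : V) : ρ (t * z) x = -ρ t x := by
  rw [rho_mul_apply, d.zneg, map_neg]

/-- the swapped data -/
theorem swap (d : TData ρ z t) (hρ : Function.Injective ρ) : TData ρ z (t * z) where
  zc := d.zc
  zneg := d.zneg
  tsq := by
    rw [mul_assoc, ← mul_assoc z t z, ← d.zc t, mul_assoc t z z, d.zsq hρ, mul_one, d.tsq]
  tfix := by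
    obtain ⟨v, hv0, hv⟩ := d.tanti
    exact ⟨v, hv0, by rw [d.tz_apply, hv, neg_neg]⟩
  tanti := by
    obtain ⟨v, hv0, hv⟩ := d.tfix
    exact ⟨v, hv0, by rw [d.tz_apply, hv]⟩
  norm := by
    intro g
    rcases d.norm g with h | h
    · left
      rw [← mul_assoc, h, mul_assoc, d.zc g, mul_assoc]
    · right
      rw [mul_assoc t z g, ← d.zc g, ← mul_assoc t g z, h, ← mul_assoc g t z, mul_assoc, mul_assoc]

/-- a stabiliser element of a fixed vector of `t` commutes with `t` -/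
theorem comm_of_st_pos (d : TData ρ z t) (hq2 : q ≠ 2) {v₁ : V} (hv0 : v₁ ≠ 0)
    (hv : ρ t v₁ = v₁) {g : G} (hg : ρ g v₁ = v₁) : g * t = t * g := by
  rcases d.norm g with h1 | h1
  · exact h1
  · exfalso
    have := d.flip_apply h1 v₁
    rw [hv, hg, hv] at this
    exact hv0 (eq_zero_of_neg_eq hq2 v₁ this.symm)

theorem comm_of_st_neg (d : TData ρ z t) (hq2 : q ≠ 2) {v₂ : V} (hv0 : v₂ ≠ 0)
    (hv : ρ t v₂ = -v₂) {g : G} (hg : ρ g v₂ = v₂) : g * t = t * g := by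
  rcases d.norm g with h1 | h1
  · exact h1
  · exfalso
    have := d.flip_apply h1 v₂
    rw [hv, map_neg, neg_neg, hg, hv] at this
    exact hv0 (eq_zero_of_neg_eq hq2 v₂ this)

theorem st_add_comm (d : TData ρ z t) (hq2 : q ≠ 2) {v₁ v₂ : V} (h1 : ρ t v₁ = v₁)
    (h2 : ρ t v₂ = -v₂) {c : G} (hc : ρ c (v₁ + v₂) = v₁ + v₂) (hct : c * t = t * c) :
    ρ c v₁ = v₁ ∧ ρ c v₂ = v₂ := by
  rw [map_add] at hc
  have e : ρ c v₁ - v₁ = v₂ - ρ c v₂ := by
    rw [sub_eq_sub_iff_add_eq_add, hc, add_comm]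
  have f1 : ρ t (ρ c v₁ - v₁) = ρ c v₁ - v₁ := by
    rw [map_sub, d.comm_apply hct, h1]
  have f2 : ρ t (ρ c v₁ - v₁) = -(ρ c v₁ - v₁) := by
    rw [e, map_sub, d.comm_apply hct, h2, map_neg]
    abel
  have f3 : ρ c v₁ - v₁ = 0 := eq_zero_of_neg_eq hq2 _ (f2.symm.trans f1)
  refine ⟨sub_eq_zero.mp f3, ?_⟩
  rw [f3] at e
  exact (sub_eq_zero.mp e.symm).symm

theorem st_add_flip (d : TData ρ z t) (hq2 : q ≠ 2) {v₁ v₂ : V} (h1 : ρ t v₁ = v₁)
    (h2 : ρ t v₂ = -v₂) {g : G} (hg : ρ g (v₁ + v₂) = v₁ + v₂) (hgt : t * g = z * (g * t)) :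
    ρ g v₁ = v₂ ∧ ρ g v₂ = v₁ := by
  rw [map_add] at hg
  have e : ρ g v₂ - v₁ = v₂ - ρ g v₁ := by
    rw [sub_eq_sub_iff_add_eq_add, add_comm, hg, add_comm]
  have f1 : ρ t (ρ g v₂ - v₁) = ρ g v₂ - v₁ := by
    rw [map_sub, d.flip_apply hgt, h2, map_neg, neg_neg, h1]
  have f2 : ρ t (ρ g v₂ - v₁) = -(ρ g v₂ - v₁) := by
    rw [e, map_sub, d.flip_apply hgt, h1, h2]
    abel
  have f3 : ρ g v₂ - v₁ = 0 := eq_zero_of_neg_eq hq2 _ (f2.symm.trans f1)
  refine ⟨?_, sub_eq_zero.mp f3⟩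
  rw [f3] at e
  exact (sub_eq_zero.mp e.symm).symm

theorem add_ne_zero (_d : TData ρ z t) (hq2 : q ≠ 2) {v₁ v₂ : V} (hv₁ : v₁ ≠ 0)
    (h1 : ρ t v₁ = v₁) (h2 : ρ t v₂ = -v₂) : v₁ + v₂ ≠ 0 := by
  intro h0
  have e : v₂ = -v₁ := eq_neg_of_add_eq_zero_right h0
  rw [e, map_neg, h1, neg_neg] at h2
  exact hv₁ (eq_zero_of_neg_eq hq2 v₁ h2)

theorem ne_of_pos_neg (_d : TData ρ z t) (hq2 : q ≠ 2) {v₁ v₂ : V} (hv₁ : v₁ ≠ 0)
    (h1 : ρ t v₁ = v₁) (h2 : ρ t v₂ = -v₂) : v₂ ≠ v₁ := by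
  intro e
  rw [e, h1] at h2
  exact hv₁ (eq_zero_of_neg_eq hq2 v₁ h2.symm)

/-- some element of the stabiliser of `v₁ + v₂` flips `t` -/
theorem exists_flip [Finite G] (d : TData ρ z t) (hq2 : q ≠ 2) {s : ℕ} (h : HT ρ s)
    {v₁ v₂ : V} (hv₁ : v₁ ≠ 0) (hv₂ : v₂ ≠ 0) (h1 : ρ t v₁ = v₁) (h2 : ρ t v₂ = -v₂) :
    ∃ g : G, ρ g (v₁ + v₂) = v₁ + v₂ ∧ t * g = z * (g * t) := by
  by_contra hcon
  push Not at hcon
  have hw0 := d.add_ne_zero hq2 hv₁ h1 h2
  have hcomm : ∀ c : G, ρ c (v₁ + v₂) = v₁ + v₂ → c * t = t * c := by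
    intro c hc
    rcases d.norm c with h3 | h3
    · exact h3
    · exact absurd h3 (hcon c hc)
  have hle : st ρ (v₁ + v₂) ≤ st ρ v₁ := by
    intro c hc
    rw [mem_st] at hc ⊢
    exact (d.st_add_comm hq2 h1 h2 hc (hcomm c hc)).1
  have heq := st_eq_of_le ρ h hw0 hv₁ hle
  have ht : t ∈ st ρ (v₁ + v₂) := by
    rw [heq, mem_st]
    exact h1
  rw [mem_st] at ht
  have := (d.st_add_comm hq2 h1 h2 ht rfl).2
  rw [h2] at this
  exact hv₂ (eq_zero_of_neg_eq hq2 v₂ this)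

theorem card_of_relIndex_two {H K : Subgroup G} (hle : H ≤ K) (h2 : H.relIndex K = 2) :
    Nat.card K = Nat.card H * 2 := by
  have := Subgroup.relIndex_mul_relIndex (⊥ : Subgroup G) H K bot_le hle
  rw [Subgroup.relIndex_bot_left, Subgroup.relIndex_bot_left, h2] at this
  exact this.symm

theorem relIndex_two_of_card [Finite G] {H K : Subgroup G} (hle : H ≤ K)
    (h2 : Nat.card K = Nat.card H * 2) : H.relIndex K = 2 := by
  have := Subgroup.relIndex_mul_relIndex (⊥ : Subgroup G) H K bot_le hle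
  rw [Subgroup.relIndex_bot_left, Subgroup.relIndex_bot_left, h2] at this
  exact Nat.eq_of_mul_eq_mul_left Nat.card_pos this

/-- the common stabiliser of `v₁`, `v₂` has index two in the stabilisers -/
theorem card_inf [Finite G] (d : TData ρ z t) (hq2 : q ≠ 2) {s : ℕ} (h : HT ρ s)
    {v₁ v₂ : V} (hv₁ : v₁ ≠ 0) (hv₂ : v₂ ≠ 0) (h1 : ρ t v₁ = v₁) (h2 : ρ t v₂ = -v₂) :
    s = Nat.card ↥(st ρ v₁ ⊓ st ρ v₂) * 2 := by
  have hw0 := d.add_ne_zero hq2 hv₁ h1 h2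
  obtain ⟨g, hg, hgt⟩ := d.exists_flip hq2 h hv₁ hv₂ h1 h2
  obtain ⟨hg1, hg2⟩ := d.st_add_flip hq2 h1 h2 hg hgt
  have hle : st ρ v₁ ⊓ st ρ v₂ ≤ st ρ (v₁ + v₂) := by
    intro c hc
    rw [Subgroup.mem_inf, mem_st, mem_st] at hc
    rw [mem_st, map_add, hc.1, hc.2]
  rw [← h _ hw0]
  apply card_of_relIndex_two hle
  rw [Subgroup.relIndex_eq_two_iff]
  refine ⟨g, (mem_st ρ _ g).mpr hg, ?_⟩
  intro b hb
  rw [mem_st] at hb
  by_cases hbK : b ∈ st ρ v₁ ⊓ st ρ v₂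
  · refine Or.inr ⟨hbK, ?_⟩
    intro hbg
    rw [Subgroup.mem_inf, mem_st, mem_st] at hbK hbg
    have := hbg.1
    rw [rho_mul_apply, hg1, hbK.2] at this
    exact d.ne_of_pos_neg hq2 hv₁ h1 h2 this
  · refine Or.inl ⟨?_, hbK⟩
    rcases d.norm b with h3 | h3
    · exfalso
      apply hbK
      have := d.st_add_comm hq2 h1 h2 hb h3
      rw [Subgroup.mem_inf, mem_st, mem_st]
      exact this
    · obtain ⟨hb1, hb2⟩ := d.st_add_flip hq2 h1 h2 hb h3
      rw [Subgroup.mem_inf, mem_st, mem_st, rho_mul_apply, rho_mul_apply, hg1, hg2]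
      exact ⟨hb2, hb1⟩

/-- a stabiliser element of `v₁` maps every `v₂` in the `-1`-eigenspace to `± v₂` -/
theorem pm_pointwise [Finite G] (d : TData ρ z t) (hq2 : q ≠ 2) {s : ℕ} (h : HT ρ s)
    {v₁ v₂ : V} (hv₁ : v₁ ≠ 0) (h1 : ρ t v₁ = v₁) (h2 : ρ t v₂ = -v₂)
    {l : G} (hl : ρ l v₁ = v₁) : ρ l v₂ = v₂ ∨ ρ l v₂ = -v₂ := by
  by_cases hv₂ : v₂ = 0
  · left; rw [hv₂, map_zero]
  have hc := d.card_inf hq2 h hv₁ hv₂ h1 h2
  have hri : (st ρ v₁ ⊓ st ρ v₂).relIndex (st ρ v₁) = 2 := by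
    apply relIndex_two_of_card inf_le_left
    rw [← hc]
    exact h v₁ hv₁
  by_cases hlK : ρ l v₂ = v₂
  · exact Or.inl hlK
  right
  have hidx : ((st ρ v₁ ⊓ st ρ v₂).subgroupOf (st ρ v₁)).index = 2 := hri
  have hl' : l ∈ st ρ v₁ := (mem_st ρ v₁ l).mpr hl
  have ht' : t ∈ st ρ v₁ := (mem_st ρ v₁ t).mpr h1
  have key := Subgroup.mul_mem_iff_of_index_two hidx (a := ⟨l, hl'⟩) (b := ⟨t, ht'⟩)
  rw [Subgroup.mem_subgroupOf, Subgroup.mem_subgroupOf, Subgroup.mem_subgroupOf] at key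
  have hl2 : ¬ l ∈ st ρ v₁ ⊓ st ρ v₂ := by
    intro hh
    rw [Subgroup.mem_inf, mem_st, mem_st] at hh
    exact hlK hh.2
  have ht2 : ¬ t ∈ st ρ v₁ ⊓ st ρ v₂ := by
    intro hh
    rw [Subgroup.mem_inf, mem_st, mem_st, h2] at hh
    exact hv₂ (eq_zero_of_neg_eq hq2 v₂ hh.2)
  have hlt : l * t ∈ st ρ v₁ ⊓ st ρ v₂ := by
    apply key.mpr
    exact ⟨fun hh => absurd hh hl2, fun hh => absurd hh ht2⟩
  rw [Subgroup.mem_inf, mem_st, mem_st, rho_mul_apply, rho_mul_apply, h2, map_neg] at hlt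
  exact neg_eq_iff_eq_neg.mp hlt.2

/-- a stabiliser element of `v₁` acts as a uniform sign on the `-1`-eigenspace -/
theorem pm_uniform [Finite G] (d : TData ρ z t) (hq2 : q ≠ 2) {s : ℕ} (h : HT ρ s)
    {v₁ : V} (hv₁ : v₁ ≠ 0) (h1 : ρ t v₁ = v₁) {l : G} (hl : ρ l v₁ = v₁) :
    (∀ x : V, ρ t x = -x → ρ l x = x) ∨ (∀ x : V, ρ t x = -x → ρ l x = -x) := by
  by_cases hall : ∀ x : V, ρ t x = -x → ρ l x = x
  · exact Or.inl hall
  right
  push Not at hall
  obtain ⟨y, hy, hly⟩ := hall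
  have hy' : ρ l y = -y := (d.pm_pointwise hq2 h hv₁ h1 hy hl).resolve_left hly
  have hy0 : y ≠ 0 := by
    rintro rfl
    apply hly
    rw [map_zero]
  intro x hx
  rcases d.pm_pointwise hq2 h hv₁ h1 hx hl with hx' | hx'
  · -- x fixed, y negated: consider x + y
    have hxy : ρ t (x + y) = -(x + y) := by rw [map_add, hx, hy]; abel
    rcases d.pm_pointwise hq2 h hv₁ h1 hxy hl with h3 | h3
    · rw [map_add, hx', hy'] at h3
      have : -y = y := by
        have := add_left_cancel h3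
        exact this
      exact absurd (eq_zero_of_neg_eq hq2 y this) hy0
    · rw [map_add, hx', hy'] at h3
      have h4 : x = -x := by
        have h5 : x + -y = -x + -y := by rw [h3]; abel
        exact add_right_cancel h5
      have hx0 : x = 0 := eq_zero_of_neg_eq hq2 x h4.symm
      rw [hx0, map_zero, neg_zero]
  · exact hx'

/-- decomposition of `2 x` into eigenvectors -/
theorem eigen_decomp (d : TData ρ z t) (x : V) :
    ρ t (x + ρ t x) = x + ρ t x ∧ ρ t (x - ρ t x) = -(x - ρ t x) := by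
  have htt : ρ t (ρ t x) = x := by
    rw [← rho_mul_apply, d.tsq, rho_one_apply]
  constructor
  · rw [map_add, htt, add_comm]
  · rw [map_sub, htt]
    abel

/-- an element acting trivially on both eigenspaces of `t` is trivial -/
theorem eq_one_of_fix (d : TData ρ z t) (hρ : Function.Injective ρ) (hq2 : q ≠ 2) {l : G}
    (hp : ∀ x : V, ρ t x = x → ρ l x = x) (hn : ∀ x : V, ρ t x = -x → ρ l x = x) : l = 1 := by
  apply hρ
  rw [map_one]
  apply LinearEquiv.ext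
  intro x
  obtain ⟨e1, e2⟩ := d.eigen_decomp x
  have f1 := hp _ e1
  have f2 := hn _ e2
  have f3 : ρ l ((2 : ZMod q) • x) = (2 : ZMod q) • x := by
    have : (2 : ZMod q) • x = (x + ρ t x) + (x - ρ t x) := by
      rw [two_smul]; abel
    rw [this, map_add, f1, f2]
  rw [map_smul] at f3
  have h2 : (2 : ZMod q) ≠ 0 := two_ne_zero_of_ne hq2
  have f4 : (2 : ZMod q)⁻¹ • ((2 : ZMod q) • ρ l x) = (2 : ZMod q)⁻¹ • ((2 : ZMod q) • x) := by
    rw [f3]
  rw [smul_smul, smul_smul, inv_mul_cancel₀ h2, one_smul, one_smul] at f4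
  exact f4

/-- **the stabiliser of a fixed vector of `t` is `{1, t}`** -/
theorem st_pos [Finite G] (d : TData ρ z t) (hρ : Function.Injective ρ) (hq2 : q ≠ 2) {s : ℕ}
    (h : HT ρ s) {v₁ : V} (hv₁ : v₁ ≠ 0) (h1 : ρ t v₁ = v₁) {l : G} (hl : ρ l v₁ = v₁) :
    l = 1 ∨ l = t := by
  have d' := d.swap hρ
  have stepA : ∀ l' : G, ρ l' v₁ = v₁ → (∀ x : V, ρ t x = -x → ρ l' x = x) → l' = 1 := by
    intro l' hl' hn
    obtain ⟨v₂, hv₂0, hv₂⟩ := d.tanti
    have hv₂' : ρ (t * z) v₂ = v₂ := by rw [d.tz_apply, hv₂, neg_neg]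
    have hl2 : ρ l' v₂ = v₂ := hn v₂ hv₂
    apply d.eq_one_of_fix hρ hq2 _ hn
    rcases d'.pm_uniform hq2 h hv₂0 hv₂' hl2 with h3 | h3
    · intro x hx
      apply h3
      rw [d.tz_apply, hx]
    · exfalso
      have := h3 v₁ (by rw [d.tz_apply, h1])
      rw [hl'] at this
      exact hv₁ (eq_zero_of_neg_eq hq2 v₁ this.symm)
  rcases d.pm_uniform hq2 h hv₁ h1 hl with h3 | h3
  · exact Or.inl (stepA l hl h3)
  · right
    have : l * t = 1 := by
      apply stepA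
      · rw [rho_mul_apply, h1, hl]
      · intro x hx
        rw [rho_mul_apply, hx, map_neg, h3 x hx, neg_neg]
    have h4 : l * t = t * t := by rw [this, d.tsq]
    exact mul_right_cancel h4

theorem t_ne_one (d : TData ρ z t) (hq2 : q ≠ 2) : t ≠ 1 := by
  intro h
  obtain ⟨v, hv0, hv⟩ := d.tanti
  rw [h, rho_one_apply] at hv
  exact hv0 (eq_zero_of_neg_eq hq2 v hv.symm)

theorem card_eq_two_of_forall {H : Subgroup G} {t : G} (ht : t ∈ H) (ht1 : t ≠ 1)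
    (hall : ∀ l ∈ H, l = 1 ∨ l = t) : Nat.card H = 2 := by
  rw [Nat.card_eq_two_iff]
  refine ⟨1, ⟨t, ht⟩, ?_, ?_⟩
  · intro h
    apply ht1
    exact (congrArg Subtype.val h).symm
  · ext ⟨l, hl⟩
    simp only [Set.mem_insert_iff, Set.mem_singleton_iff, Set.mem_univ, iff_true]
    rcases hall l hl with h | h
    · left; exact Subtype.ext h
    · right; exact Subtype.ext h

/-- the point stabilisers have order two -/
theorem s_eq_two [Finite G] (d : TData ρ z t) (hρ : Function.Injective ρ) (hq2 : q ≠ 2) {s : ℕ}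
    (h : HT ρ s) : s = 2 := by
  obtain ⟨v₁, hv₁, h1⟩ := d.tfix
  rw [← h v₁ hv₁]
  apply card_eq_two_of_forall (t := t) ((mem_st ρ v₁ t).mpr h1) (d.t_ne_one hq2)
  intro l hl
  rw [mem_st] at hl
  exact d.st_pos hρ hq2 h hv₁ h1 hl

end TData

end Cfsg.Agent.Lib.Helper78.Pas
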