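import Mathlib
import Cfsg.Agent.Lib.Helper78.Pas4

/-!
# Passman's theorem on half-transitive `p`-groups, part 5 (helper78)

`p = 2`, normal four-group: counting.  `|G| = 4 (Q - 1)` and `|V| = Q ^ 2`, where `Q` is the
order of the fixed space of `t`; hence `Q = q` is a Fermat prime or `Q = 9`.
-/

set_option autoImplicit false
set_option linter.style.haveILetI false

namespace Cfsg.Agent.Lib.Helper78.Pas

open Cfsg.Agent.Lib.Helper78.Hup

/-! ### number theory -/

theorem geom_parity (q : ℕ) (hq : q % 2 = 1) (d : ℕ) :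
    (∑ i ∈ Finset.range d, q ^ i) % 2 = d % 2 := by
  induction d with
  | zero => simp
  | succ n ih =>
    rw [Finset.sum_range_succ, Nat.add_mod, ih, Nat.pow_mod, hq, one_pow]
    omega

theorem pow_eq_two_pow_succ {q d j : ℕ} (hq : q.Prime) (hq2 : q ≠ 2) (hd : 1 ≤ d)
    (h : q ^ d = 2 ^ j + 1) : d = 1 ∨ (q = 3 ∧ d = 2) := by
  have hqodd : q % 2 = 1 := by
    rcases hq.eq_two_or_odd with h2 | h2
    · exact absurd h2 hq2
    · exact h2
  have hq3 : 3 ≤ q := by
    have := hq.two_le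
    omega
  rcases Nat.even_or_odd d with hde | hdo
  · right
    obtain ⟨e, he⟩ := hde
    have he1 : 1 ≤ e := by omega
    have hfac : (q ^ e - 1) * (q ^ e + 1) = 2 ^ j := by
      have h1 : 1 ≤ q ^ e := Nat.one_le_pow _ _ (by omega)
      have h2 : q ^ d = q ^ e * q ^ e := by rw [he, pow_add]
      have h3 : (q ^ e - 1) * (q ^ e + 1) + 1 = q ^ e * q ^ e := by
        obtain ⟨m, hm⟩ : ∃ m, q ^ e = m + 1 := ⟨q ^ e - 1, by omega⟩
        rw [hm]
        simp only [Nat.add_sub_cancel]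
        ring
      have h4 : (q ^ e - 1) * (q ^ e + 1) + 1 = 2 ^ j + 1 := by rw [h3, ← h2, h]
      exact Nat.add_right_cancel h4
    obtain ⟨a, _, ha⟩ := (Nat.dvd_prime_pow Nat.prime_two).mp (Dvd.intro _ hfac)
    obtain ⟨b, _, hb⟩ := (Nat.dvd_prime_pow Nat.prime_two).mp (Dvd.intro_left _ hfac)
    have hge : 3 ≤ q ^ e := by
      calc 3 ≤ q := hq3
        _ = q ^ 1 := (pow_one q).symm
        _ ≤ q ^ e := Nat.pow_le_pow_right (by omega) he1
    have hab : 2 ^ a + 2 = 2 ^ b := by omega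
    -- a = 1
    have ha1 : a = 1 := by
      rcases Nat.lt_or_ge a 2 with h5 | h5
      · have : a = 0 ∨ a = 1 := by omega
        rcases this with rfl | rfl
        · exfalso
          simp at ha
          omega
        · rfl
      · exfalso
        have hb2 : 2 ≤ b := by
          by_contra hb2
          have : b = 0 ∨ b = 1 := by omega
          have h6 : 4 ≤ 2 ^ a := by
            calc 4 = 2 ^ 2 := by norm_num
              _ ≤ 2 ^ a := Nat.pow_le_pow_right (by norm_num) h5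
          rcases this with rfl | rfl <;> simp at hab <;> omega
        have h7 : 4 ∣ 2 ^ a := by
          calc (4 : ℕ) = 2 ^ 2 := by norm_num
            _ ∣ 2 ^ a := pow_dvd_pow 2 h5
        have h8 : 4 ∣ 2 ^ b := by
          calc (4 : ℕ) = 2 ^ 2 := by norm_num
            _ ∣ 2 ^ b := pow_dvd_pow 2 hb2
        omega
    rw [ha1] at ha
    have hqe : q ^ e = 3 := by omega
    have hq3' : q = 3 := by
      have : q ∣ 3 := by
        rw [← hqe]
        exact dvd_pow_self q (by omega)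
      exact (Nat.prime_dvd_prime_iff_eq hq Nat.prime_three).mp this
    refine ⟨hq3', ?_⟩
    rw [hq3'] at hqe
    have : e = 1 := by
      have h9 : (3 : ℕ) ^ e = 3 ^ 1 := by rw [hqe]; norm_num
      exact Nat.pow_right_injective (a := 3) (by norm_num) h9
    omega
  · left
    have hgs := geom_sum_mul_add (q - 1) d
    have hq1 : q - 1 + 1 = q := by omega
    rw [hq1] at hgs
    have hS := geom_parity q hqodd d
    have hdo' : d % 2 = 1 := Nat.odd_iff.mp hdo
    rw [hdo'] at hS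
    have hdvd : (∑ i ∈ Finset.range d, q ^ i) ∣ 2 ^ j := by
      refine Dvd.intro (q - 1) ?_
      omega
    obtain ⟨a, _, ha⟩ := (Nat.dvd_prime_pow Nat.prime_two).mp hdvd
    have ha0 : a = 0 := by
      by_contra ha0
      have : 2 ∣ 2 ^ a := dvd_pow_self 2 ha0
      rw [← ha] at this
      omega
    rw [ha0, pow_zero] at ha
    by_contra hd1
    have hd2 : 2 ≤ d := by omega
    obtain ⟨m, rfl⟩ : ∃ m, d = m + 2 := ⟨d - 2, by omega⟩
    rw [Finset.sum_range_succ', Finset.sum_range_succ'] at ha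
    simp at ha
    omega

variable {q : ℕ} [Fact q.Prime] {V : Type*} [AddCommGroup V] [Module (ZMod q) V]
  {G : Type*} [Group G]

namespace TData

variable {ρ : G →* (V ≃ₗ[ZMod q] V)} {z t : G}

theorem mem_fix_tz (d : TData ρ z t) (x : V) : x ∈ fixSub ρ (t * z) ↔ ρ t x = -x := by
  rw [mem_fixSub, d.tz_apply, neg_eq_iff_eq_neg]

theorem exists_flip_elt [Finite G] (d : TData ρ z t) (hq2 : q ≠ 2) {s : ℕ} (h : HT ρ s) :
    ∃ g : G, t * g = z * (g * t) := by
  obtain ⟨v₁, hv₁, h1⟩ := d.tfix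
  obtain ⟨v₂, hv₂, h2⟩ := d.tanti
  obtain ⟨g, _, hg⟩ := d.exists_flip hq2 h hv₁ hv₂ h1 h2
  exact ⟨g, hg⟩

/-- `V` is the direct sum of the two eigenspaces -/
theorem card_V_eq (d : TData ρ z t) (hq2 : q ≠ 2) :
    Nat.card V = Nat.card (fixSub ρ t) * Nat.card (fixSub ρ (t * z)) := by
  rw [← Nat.card_prod]
  symm
  apply Nat.card_eq_of_bijective (fun p : (fixSub ρ t) × (fixSub ρ (t * z)) => (p.1 : V) + p.2)
  constructor
  · rintro ⟨⟨a, ha⟩, ⟨b, hb⟩⟩ ⟨⟨a', ha'⟩, ⟨b', hb'⟩⟩ hab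
    simp only at hab
    rw [mem_fixSub] at ha ha'
    rw [d.mem_fix_tz] at hb hb'
    have e : a - a' = b' - b := by
      rw [sub_eq_sub_iff_add_eq_add, hab, add_comm]
    have f1 : ρ t (a - a') = a - a' := by rw [map_sub, ha, ha']
    have f2 : ρ t (a - a') = -(a - a') := by
      rw [e, map_sub, hb, hb']
      abel
    have f3 : a - a' = 0 := eq_zero_of_neg_eq hq2 _ (f2.symm.trans f1)
    have f4 : b' - b = 0 := e.symm.trans f3
    have e1 : a = a' := sub_eq_zero.mp f3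
    have e2 : b' = b := sub_eq_zero.mp f4
    subst e1
    subst e2
    rfl
  · intro x
    obtain ⟨e1, e2⟩ := d.eigen_decomp x
    have h2 : (2 : ZMod q) ≠ 0 := two_ne_zero_of_ne hq2
    refine ⟨(⟨(2 : ZMod q)⁻¹ • (x + ρ t x), ?_⟩, ⟨(2 : ZMod q)⁻¹ • (x - ρ t x), ?_⟩), ?_⟩
    · rw [mem_fixSub, map_smul, e1]
    · rw [d.mem_fix_tz, map_smul, e2, smul_neg]
    · simp only
      rw [← smul_add]
      have : (x + ρ t x) + (x - ρ t x) = (2 : ZMod q) • x := by
        rw [two_smul]; abel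
      rw [this, smul_smul, inv_mul_cancel₀ h2, one_smul]

/-- the two eigenspaces have the same order -/
theorem card_eigen_eq [Finite G] [Finite V] (d : TData ρ z t) (hq2 : q ≠ 2) {s : ℕ}
    (h : HT ρ s) : Nat.card (fixSub ρ (t * z)) = Nat.card (fixSub ρ t) := by
  obtain ⟨g, hg⟩ := d.exists_flip_elt hq2 h
  apply le_antisymm
  · apply Nat.card_le_card_of_injective
      (fun x : fixSub ρ (t * z) => (⟨ρ g x, by
        have := x.2
        rw [d.mem_fix_tz] at this
        rw [mem_fixSub, d.flip_apply hg, this, map_neg, neg_neg]⟩ : fixSub ρ t))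
    intro x y hxy
    have := congrArg Subtype.val hxy
    simp only at this
    exact Subtype.ext ((ρ g).injective this)
  · apply Nat.card_le_card_of_injective
      (fun x : fixSub ρ t => (⟨ρ g x, by
        have := x.2
        rw [mem_fixSub] at this
        rw [d.mem_fix_tz, d.flip_apply hg, this]⟩ : fixSub ρ (t * z)))
    intro x y hxy
    have := congrArg Subtype.val hxy
    simp only at this
    exact Subtype.ext ((ρ g).injective this)

/-- the orbit of a fixed vector of `t` consists of all non-zero eigenvectors of `t` -/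
theorem orbit_eq [Finite G] (d : TData ρ z t) (hq2 : q ≠ 2) {s : ℕ}
    (h : HT ρ s) {v₁ : V} (hv₁ : v₁ ≠ 0) (h1 : ρ t v₁ = v₁) :
    {u : V | ∃ g : G, ρ g v₁ = u} =
      ((fixSub ρ t : Set V) \ {0}) ∪ ((fixSub ρ (t * z) : Set V) \ {0}) := by
  ext u
  simp only [Set.mem_ofPred_eq, Set.mem_union, Set.mem_sdiff, SetLike.mem_coe, Set.mem_singleton_iff]
  constructor
  · rintro ⟨g, rfl⟩
    have hne : ρ g v₁ ≠ 0 := by
      intro h0
      apply hv₁
      have := congrArg (ρ g⁻¹) h0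
      rwa [rho_inv_apply, map_zero] at this
    rcases d.norm g with hg | hg
    · left
      refine ⟨?_, hne⟩
      rw [mem_fixSub, d.comm_apply hg, h1]
    · right
      refine ⟨?_, hne⟩
      rw [d.mem_fix_tz, d.flip_apply hg, h1]
  · rintro (⟨hu, hu0⟩ | ⟨hu, hu0⟩)
    · rw [mem_fixSub] at hu
      obtain ⟨v₂, hv₂, h2⟩ := d.tanti
      obtain ⟨g, hg, hgt⟩ := d.exists_flip hq2 h hv₁ hv₂ h1 h2
      obtain ⟨g', hg', hgt'⟩ := d.exists_flip hq2 h hu0 hv₂ hu h2
      obtain ⟨e1, _⟩ := d.st_add_flip hq2 h1 h2 hg hgt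
      obtain ⟨e1', _⟩ := d.st_add_flip hq2 hu h2 hg' hgt'
      refine ⟨g'⁻¹ * g, ?_⟩
      rw [rho_mul_apply, e1, ← e1', rho_inv_apply]
    · rw [d.mem_fix_tz] at hu
      obtain ⟨g, hg, hgt⟩ := d.exists_flip hq2 h hv₁ hu0 h1 hu
      obtain ⟨e1, _⟩ := d.st_add_flip hq2 h1 hu hg hgt
      exact ⟨g, e1⟩

/-- `|G| = 4 (Q - 1)` -/
theorem card_G [Finite G] [Finite V] (d : TData ρ z t) (hρ : Function.Injective ρ)
    (hq2 : q ≠ 2) {s : ℕ} (h : HT ρ s) :
    Nat.card G = 4 * (Nat.card (fixSub ρ t) - 1) := by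
  obtain ⟨v₁, hv₁, h1⟩ := d.tfix
  have hs2 := d.s_eq_two hρ hq2 h
  have horb := orbit_mul_st ρ v₁
  rw [h v₁ hv₁, hs2, d.orbit_eq hq2 h hv₁ h1, Nat.card_coe_set_eq] at horb
  have hdisj : Disjoint ((fixSub ρ t : Set V) \ {0}) ((fixSub ρ (t * z) : Set V) \ {0}) := by
    rw [Set.disjoint_left]
    rintro x ⟨hx1, hx0⟩ ⟨hx2, _⟩
    apply hx0
    rw [SetLike.mem_coe, mem_fixSub] at hx1
    rw [SetLike.mem_coe, d.mem_fix_tz, hx1] at hx2
    exact eq_zero_of_neg_eq hq2 x hx2.symm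
  rw [Set.ncard_union_eq hdisj, Set.ncard_sdiff_singleton_of_mem (Submodule.zero_mem _),
    Set.ncard_sdiff_singleton_of_mem (Submodule.zero_mem _)] at horb
  have e1 : (fixSub ρ t : Set V).ncard = Nat.card (fixSub ρ t) :=
    (Nat.card_coe_set_eq _).symm
  have e2 : (fixSub ρ (t * z) : Set V).ncard = Nat.card (fixSub ρ (t * z)) :=
    (Nat.card_coe_set_eq _).symm
  rw [e1, e2, d.card_eigen_eq hq2 h] at horb
  omega

/-- the dichotomy: both eigenspaces are lines and `q` is a Fermat prime, or `|V| = 81` -/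
theorem dichotomy [Finite G] [Finite V] (d : TData ρ z t) (hρ : Function.Injective ρ)
    (hq2 : q ≠ 2) {s : ℕ} (h : HT ρ s) (hG : IsPGroup 2 G) :
    (Nat.card (fixSub ρ t) = q ∧ Nat.card (fixSub ρ (t * z)) = q ∧ Nat.card V = q ^ 2 ∧
      ∃ m : ℕ, q = 2 ^ m + 1) ∨ (q = 3 ∧ Nat.card V = 81) := by
  have hq : q.Prime := Fact.out
  obtain ⟨n, hn⟩ := IsPGroup.iff_card.mp hG
  have hcG := d.card_G hρ hq2 h
  have hcV := d.card_V_eq hq2
  have hce := d.card_eigen_eq hq2 h
  have hQ := card_sub (fixSub ρ t)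
  set Q := Nat.card (fixSub ρ t) with hQdef
  set dd := Module.finrank (ZMod q) (fixSub ρ t) with hdd
  rw [hn] at hcG
  have hdvd : (Q - 1) ∣ 2 ^ n := Dvd.intro_left 4 hcG.symm
  obtain ⟨j, _, hj⟩ := (Nat.dvd_prime_pow Nat.prime_two).mp hdvd
  have hjpos : 0 < 2 ^ j := Nat.pos_of_ne_zero (by positivity)
  have hQ' : q ^ dd = 2 ^ j + 1 := by
    rw [← hQ]
    omega
  have hd1 : 1 ≤ dd := by
    by_contra hd0
    have : dd = 0 := by omega
    rw [this, pow_zero] at hQ'
    omega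
  rcases pow_eq_two_pow_succ hq hq2 hd1 hQ' with h1 | ⟨h3, h2⟩
  · left
    rw [h1, pow_one] at hQ hQ'
    refine ⟨hQ, hce.trans hQ, ?_, j, hQ'⟩
    rw [hcV, hce, hQ, pow_two]
  · right
    refine ⟨h3, ?_⟩
    rw [hcV, hce, hQ, h2, h3]
    norm_num

end TData

end Cfsg.Agent.Lib.Helper78.Pas
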