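import Mathlib
import Cfsg.Agent.Lib.Helper78.Pas5

/-!
# Passman's theorem on half-transitive `p`-groups, part 6 (helper78)

`p = 2`, normal four-group, both eigenspaces of `t` lines: the group is the full monomial group
`{diag(a, ± a⁻¹)} ∪ {antidiag}`.
-/

set_option autoImplicit false
set_option linter.style.haveILetI false

namespace Cfsg.Agent.Lib.Helper78.Pas

open Cfsg.Agent.Lib.Helper78.Hup

variable {q : ℕ} [Fact q.Prime] {V : Type*} [AddCommGroup V] [Module (ZMod q) V]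
  {G : Type*} [Group G]

theorem line_of_card [Finite V] (W : Submodule (ZMod q) V) (hW : Nat.card W = q) {e : V}
    (he : e ∈ W) (he0 : e ≠ 0) (x : V) (hx : x ∈ W) : ∃ c : ZMod q, x = c • e := by
  let f : ZMod q → W := fun c => ⟨c • e, W.smul_mem c he⟩
  have hinj : Function.Injective f := by
    intro a b hab
    have := congrArg Subtype.val hab
    simp only [f] at this
    exact smul_left_injective (ZMod q) he0 this
  have hbij := hinj.bijective_of_nat_card_le (by rw [hW, Nat.card_zmod])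
  obtain ⟨c, hc⟩ := hbij.2 ⟨x, hx⟩
  exact ⟨c, (congrArg Subtype.val hc).symm⟩

/-- the coordinate map -/
def phi (e₁ e₂ : V) : (Fin 2 → ZMod q) →ₗ[ZMod q] V where
  toFun v := v 0 • e₁ + v 1 • e₂
  map_add' := by
    intro v w
    simp only [Pi.add_apply, add_smul]
    abel
  map_smul' := by
    intro c v
    simp only [Pi.smul_apply, smul_eq_mul, RingHom.id_apply, mul_smul, smul_add]

theorem phi_apply (e₁ e₂ : V) (v : Fin 2 → ZMod q) : phi e₁ e₂ v = v 0 • e₁ + v 1 • e₂ := rfl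

namespace TData

variable {ρ : G →* (V ≃ₗ[ZMod q] V)} {z t : G}

/-- product of two flips commutes with `t` -/
theorem flip_mul_flip (d : TData ρ z t) (hρ : Function.Injective ρ) {g g' : G}
    (hg : t * g = z * (g * t)) (hg' : t * g' = z * (g' * t)) : (g * g') * t = t * (g * g') := by
  have hzz := d.zsq hρ
  symm
  calc t * (g * g') = (t * g) * g' := by group
    _ = z * (g * t) * g' := by rw [hg]
    _ = z * g * (t * g') := by group
    _ = z * g * (z * (g' * t)) := by rw [hg']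
    _ = z * (g * z) * (g' * t) := by group
    _ = z * (z * g) * (g' * t) := by rw [d.zc g]
    _ = (z * z) * (g * g' * t) := by group
    _ = g * g' * t := by rw [hzz, one_mul]

theorem flip_mul_comm (_d : TData ρ z t) {g c : G}
    (hg : t * g = z * (g * t)) (hc : c * t = t * c) : t * (g * c) = z * (g * c * t) := by
  calc t * (g * c) = (t * g) * c := by group
    _ = z * (g * t) * c := by rw [hg]
    _ = z * (g * (t * c)) := by group
    _ = z * (g * (c * t)) := by rw [hc]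
    _ = z * (g * c * t) := by group

/-- a basis adapted to `t` together with a swapping element -/
structure Frame (ρ : G →* (V ≃ₗ[ZMod q] V)) (z t : G) (e₁ e₂ : V) (g₀ : G) : Prop where
  he₁ : e₁ ≠ 0
  he₂ : e₂ ≠ 0
  h1 : ρ t e₁ = e₁
  h2 : ρ t e₂ = -e₂
  hg₀t : t * g₀ = z * (g₀ * t)
  hg₀1 : ρ g₀ e₁ = e₂
  hg₀2 : ρ g₀ e₂ = e₁

theorem exists_frame [Finite G] (d : TData ρ z t) (hq2 : q ≠ 2) {s : ℕ} (h : HT ρ s) :
    ∃ (e₁ e₂ : V) (g₀ : G), Frame ρ z t e₁ e₂ g₀ := by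
  obtain ⟨e₁, he₁, h1⟩ := d.tfix
  obtain ⟨e₂, he₂, h2⟩ := d.tanti
  obtain ⟨g₀, hg₀, hg₀t⟩ := d.exists_flip hq2 h he₁ he₂ h1 h2
  obtain ⟨f1, f2⟩ := d.st_add_flip hq2 h1 h2 hg₀ hg₀t
  exact ⟨e₁, e₂, g₀, ⟨he₁, he₂, h1, h2, hg₀t, f1, f2⟩⟩

theorem exists_diag [Finite G] (d : TData ρ z t) (hρ : Function.Injective ρ) (hq2 : q ≠ 2)
    {s : ℕ} (h : HT ρ s) {e₁ e₂ : V} {g₀ : G} (F : Frame ρ z t e₁ e₂ g₀) (a : ZMod q)
    (ha : a ≠ 0) : ∃ c : G, c * t = t * c ∧ ρ c e₁ = a • e₁ ∧ ρ c e₂ = a⁻¹ • e₂ := by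
  have hae₂ : a • e₂ ≠ 0 := smul_ne_zero ha F.he₂
  have h2' : ρ t (a • e₂) = -(a • e₂) := by rw [map_smul, F.h2, smul_neg]
  obtain ⟨g, hg, hgt⟩ := d.exists_flip hq2 h F.he₁ hae₂ F.h1 h2'
  obtain ⟨f1, f2⟩ := d.st_add_flip hq2 F.h1 h2' hg hgt
  have f3 : ρ g e₂ = a⁻¹ • e₁ := by
    rw [map_smul] at f2
    rw [← f2, smul_smul, inv_mul_cancel₀ ha, one_smul]
  refine ⟨g₀ * g, d.flip_mul_flip hρ F.hg₀t hgt, ?_, ?_⟩
  · rw [rho_mul_apply, f1, map_smul, F.hg₀2]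
  · rw [rho_mul_apply, f3, map_smul, F.hg₀1]

theorem diag_of_comm [Finite G] [Finite V] (d : TData ρ z t) (hρ : Function.Injective ρ)
    (hq2 : q ≠ 2) {s : ℕ} (h : HT ρ s) (hE1 : Nat.card (fixSub ρ t) = q) {e₁ e₂ : V} {g₀ : G}
    (F : Frame ρ z t e₁ e₂ g₀) {g : G} (hg : g * t = t * g) :
    ∃ a s : ZMod q, a ≠ 0 ∧ (s = 1 ∨ s = -1) ∧ ρ g e₁ = a • e₁ ∧ ρ g e₂ = (s * a⁻¹) • e₂ := by
  have hmem : ρ g e₁ ∈ fixSub ρ t := by
    rw [mem_fixSub, d.comm_apply hg, F.h1]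
  obtain ⟨a, ha⟩ := line_of_card (fixSub ρ t) hE1 ((mem_fixSub ρ t e₁).mpr F.h1) F.he₁ _ hmem
  have ha0 : a ≠ 0 := by
    rintro rfl
    rw [zero_smul] at ha
    apply F.he₁
    have := congrArg (ρ g⁻¹) ha
    rwa [rho_inv_apply, map_zero] at this
  obtain ⟨c, hct, hc1, hc2⟩ := d.exists_diag hρ hq2 h F a ha0
  have hl : ρ (c⁻¹ * g) e₁ = e₁ := by
    rw [rho_mul_apply, ha, ← hc1, rho_inv_apply]
  rcases d.st_pos hρ hq2 h F.he₁ F.h1 hl with h3 | h3
  · have hgc : g = c := by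
      have := congrArg (fun x => c * x) h3
      simpa using this
    refine ⟨a, 1, ha0, Or.inl rfl, ha, ?_⟩
    rw [hgc, one_mul, hc2]
  · have hgc : g = c * t := by
      have := congrArg (fun x => c * x) h3
      simpa using this
    refine ⟨a, -1, ha0, Or.inr rfl, ha, ?_⟩
    rw [hgc, rho_mul_apply, F.h2, map_neg, hc2, neg_one_mul, neg_smul]

theorem anti_of_flip [Finite G] [Finite V] (d : TData ρ z t) (hρ : Function.Injective ρ)
    (hq2 : q ≠ 2) {s : ℕ} (h : HT ρ s) (hE1 : Nat.card (fixSub ρ t) = q) {e₁ e₂ : V} {g₀ : G}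
    (F : Frame ρ z t e₁ e₂ g₀) {g : G} (hg : t * g = z * (g * t)) :
    ∃ a s : ZMod q, a ≠ 0 ∧ (s = 1 ∨ s = -1) ∧ ρ g e₁ = a • e₂ ∧ ρ g e₂ = (s * a⁻¹) • e₁ := by
  have hc := d.flip_mul_flip hρ F.hg₀t hg
  obtain ⟨a, s', ha0, hs', f1, f2⟩ := d.diag_of_comm hρ hq2 h hE1 F hc
  refine ⟨a, s', ha0, hs', ?_, ?_⟩
  · apply (ρ g₀).injective
    rw [← rho_mul_apply, f1, map_smul, F.hg₀2]
  · apply (ρ g₀).injective
    rw [← rho_mul_apply, f2, map_smul, F.hg₀1]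

theorem exists_of_diag [Finite G] (d : TData ρ z t) (hρ : Function.Injective ρ) (hq2 : q ≠ 2)
    {s : ℕ} (h : HT ρ s) {e₁ e₂ : V} {g₀ : G} (F : Frame ρ z t e₁ e₂ g₀) (a s' : ZMod q)
    (ha : a ≠ 0) (hs' : s' = 1 ∨ s' = -1) :
    ∃ g : G, ρ g e₁ = a • e₁ ∧ ρ g e₂ = (s' * a⁻¹) • e₂ := by
  obtain ⟨c, _, hc1, hc2⟩ := d.exists_diag hρ hq2 h F a ha
  rcases hs' with rfl | rfl
  · exact ⟨c, hc1, by rw [one_mul, hc2]⟩
  · refine ⟨c * t, ?_, ?_⟩
    · rw [rho_mul_apply, F.h1, hc1]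
    · rw [rho_mul_apply, F.h2, map_neg, hc2, neg_one_mul, neg_smul]

theorem exists_of_anti [Finite G] (d : TData ρ z t) (hρ : Function.Injective ρ) (hq2 : q ≠ 2)
    {s : ℕ} (h : HT ρ s) {e₁ e₂ : V} {g₀ : G} (F : Frame ρ z t e₁ e₂ g₀) (a s' : ZMod q)
    (ha : a ≠ 0) (hs' : s' = 1 ∨ s' = -1) :
    ∃ g : G, ρ g e₁ = a • e₂ ∧ ρ g e₂ = (s' * a⁻¹) • e₁ := by
  obtain ⟨c, hc1, hc2⟩ := d.exists_of_diag hρ hq2 h F a s' ha hs'
  refine ⟨g₀ * c, ?_, ?_⟩
  · rw [rho_mul_apply, hc1, map_smul, F.hg₀1]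
  · rw [rho_mul_apply, hc2, map_smul, F.hg₀2]

theorem phi_bijective [Finite V] (d : TData ρ z t) (hq2 : q ≠ 2)
    (hE1 : Nat.card (fixSub ρ t) = q) (hEz : Nat.card (fixSub ρ (t * z)) = q) {e₁ e₂ : V}
    {g₀ : G} (F : Frame ρ z t e₁ e₂ g₀) : Function.Bijective (phi (q := q) e₁ e₂) := by
  constructor
  · rw [injective_iff_map_eq_zero]
    intro v hv
    rw [phi_apply] at hv
    have h1 : ρ t (v 0 • e₁) = v 0 • e₁ := by rw [map_smul, F.h1]
    have h2 : ρ t (v 1 • e₂) = -(v 1 • e₂) := by rw [map_smul, F.h2, smul_neg]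
    have ha : v 0 • e₁ = 0 := by
      by_contra hne
      exact d.add_ne_zero hq2 hne h1 h2 hv
    rw [ha, zero_add] at hv
    have ha' : v 0 = 0 := (smul_eq_zero.mp ha).resolve_right F.he₁
    have hb' : v 1 = 0 := (smul_eq_zero.mp hv).resolve_right F.he₂
    funext i
    fin_cases i
    · exact ha'
    · exact hb'
  · intro x
    obtain ⟨f1, f2⟩ := d.eigen_decomp x
    obtain ⟨c₁, hc₁⟩ := line_of_card (fixSub ρ t) hE1 ((mem_fixSub ρ t e₁).mpr F.h1) F.he₁ _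
      ((mem_fixSub ρ t _).mpr f1)
    obtain ⟨c₂, hc₂⟩ := line_of_card (fixSub ρ (t * z)) hEz ((d.mem_fix_tz e₂).mpr F.h2) F.he₂ _
      ((d.mem_fix_tz _).mpr f2)
    have h2 : (2 : ZMod q) ≠ 0 := two_ne_zero_of_ne hq2
    refine ⟨![(2 : ZMod q)⁻¹ * c₁, (2 : ZMod q)⁻¹ * c₂], ?_⟩
    rw [phi_apply]
    simp only [Matrix.cons_val_zero, Matrix.cons_val_one]
    rw [mul_smul, mul_smul, ← hc₁, ← hc₂, ← smul_add]
    have : (x + ρ t x) + (x - ρ t x) = (2 : ZMod q) • x := by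
      rw [two_smul]; abel
    rw [this, smul_smul, inv_mul_cancel₀ h2, one_smul]

/-- **the monomial description** -/
theorem alt3 [Finite G] [Finite V] (d : TData ρ z t) (hρ : Function.Injective ρ) (hq2 : q ≠ 2)
    {s : ℕ} (h : HT ρ s) (hE1 : Nat.card (fixSub ρ t) = q)
    (hEz : Nat.card (fixSub ρ (t * z)) = q) :
    ∃ e : V ≃ₗ[ZMod q] (Fin 2 → ZMod q),
      ∀ f : (Fin 2 → ZMod q) ≃ₗ[ZMod q] (Fin 2 → ZMod q),
        (∃ g : G, f = e.symm.trans ((ρ g).trans e)) ↔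
        ∃ a s : ZMod q, a ≠ 0 ∧ (s = 1 ∨ s = -1) ∧
          ((∀ v, f v = ![a * v 0, s * a⁻¹ * v 1]) ∨ (∀ v, f v = ![s * a⁻¹ * v 1, a * v 0])) := by
  obtain ⟨e₁, e₂, g₀, F⟩ := d.exists_frame hq2 h
  have hbij := d.phi_bijective hq2 hE1 hEz F
  obtain ⟨E, hEdef⟩ : ∃ E : (Fin 2 → ZMod q) ≃ₗ[ZMod q] V, E = LinearEquiv.ofBijective _ hbij :=
    ⟨_, rfl⟩
  have hE : ∀ v, E v = v 0 • e₁ + v 1 • e₂ := by
    intro v
    rw [hEdef]
    rfl
  refine ⟨E.symm, fun f => ?_⟩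
  have key : ∀ g : G, f = E.symm.symm.trans ((ρ g).trans E.symm) ↔ ∀ v, E (f v) = ρ g (E v) := by
    intro g
    constructor
    · intro hf v
      rw [hf]
      simp only [LinearEquiv.trans_apply, LinearEquiv.symm_symm, LinearEquiv.apply_symm_apply]
    · intro hf
      apply LinearEquiv.ext
      intro v
      simp only [LinearEquiv.trans_apply, LinearEquiv.symm_symm]
      rw [← hf v, LinearEquiv.symm_apply_apply]
  constructor
  · rintro ⟨g, hf⟩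
    rw [key] at hf
    rcases d.norm g with hg | hg
    · obtain ⟨a, s', ha0, hs', f1, f2⟩ := d.diag_of_comm hρ hq2 h hE1 F hg
      refine ⟨a, s', ha0, hs', Or.inl ?_⟩
      intro v
      apply E.injective
      rw [hf v, hE, hE, map_add, map_smul, map_smul, f1, f2]
      simp only [Matrix.cons_val_zero, Matrix.cons_val_one, smul_smul]
      rw [mul_comm (v 0) a, mul_comm (v 1)]
    · obtain ⟨a, s', ha0, hs', f1, f2⟩ := d.anti_of_flip hρ hq2 h hE1 F hg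
      refine ⟨a, s', ha0, hs', Or.inr ?_⟩
      intro v
      apply E.injective
      rw [hf v, hE, hE, map_add, map_smul, map_smul, f1, f2]
      simp only [Matrix.cons_val_zero, Matrix.cons_val_one, smul_smul]
      rw [mul_comm (v 0) a, mul_comm (v 1), add_comm]
  · rintro ⟨a, s', ha0, hs', hf | hf⟩
    · obtain ⟨g, f1, f2⟩ := d.exists_of_diag hρ hq2 h F a s' ha0 hs'
      refine ⟨g, (key g).mpr ?_⟩
      intro v
      rw [hf v, hE, hE, map_add, map_smul, map_smul, f1, f2]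
      simp only [Matrix.cons_val_zero, Matrix.cons_val_one, smul_smul]
      rw [mul_comm (v 0) a, mul_comm (v 1)]
    · obtain ⟨g, f1, f2⟩ := d.exists_of_anti hρ hq2 h F a s' ha0 hs'
      refine ⟨g, (key g).mpr ?_⟩
      intro v
      rw [hf v, hE, hE, map_add, map_smul, map_smul, f1, f2]
      simp only [Matrix.cons_val_zero, Matrix.cons_val_one, smul_smul]
      rw [mul_comm (v 0) a, mul_comm (v 1), add_comm]

end TData

end Cfsg.Agent.Lib.Helper78.Pas
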