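import Mathlib
import Cfsg.Agent.Lib.Helper78.Pas6
import Cfsg.Agent.Lib.Helper12.ZFpf
import Cfsg.Agent.Lib.Helper53.CenterMeet

/-!
# Passman's theorem on half-transitive `p`-groups, part 7 (helper78)

Group-theoretic glue: fixed-point-free groups, the case `p = q`, and the construction of a
normal subgroup of type `(p, p)` from a non-cyclic normal abelian subgroup.
-/

set_option autoImplicit false
set_option linter.style.haveILetI false

namespace Cfsg.Agent.Lib.Helper78.Pas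

open Cfsg.Agent.Lib.Helper78.Hup

universe u v

variable {q : ℕ} [Fact q.Prime] {V : Type v} [AddCommGroup V] [Module (ZMod q) V]
  {G : Type u} [Group G]

/-- the action on the multiplicative group of `V` -/
def toAutV : (V ≃ₗ[ZMod q] V) →* MulAut (Multiplicative V) where
  toFun f := AddEquiv.toMultiplicative f.toAddEquiv
  map_one' := by ext x; rfl
  map_mul' f g := by ext x; rfl

theorem isFpf_of [Finite V] [Nontrivial V] {H : Type u} [Group H] (σ : H →* (V ≃ₗ[ZMod q] V))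
    (hfpf : ∀ g : H, g ≠ 1 → ∀ v : V, σ g v = v → v = 0) :
    Cfsg.Agent.Lib.Helper12.ZF.IsFpf.{u, v} H := by
  refine ⟨Multiplicative V, inferInstance, inferInstance, toAutV.comp σ,
    inferInstanceAs (Nontrivial V), ?_⟩
  intro g hg n hn
  have hgv : σ g (Multiplicative.toAdd n) = Multiplicative.toAdd n :=
    congrArg Multiplicative.toAdd hn
  have := hfpf g hg _ hgv
  rw [← ofAdd_toAdd n, this]
  rfl

theorem isCyclic_of_fpf_comm [Finite G] [Finite V] [Nontrivial V] (ρ : G →* (V ≃ₗ[ZMod q] V))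
    (H : Subgroup G) (hcomm : ∀ a ∈ H, ∀ b ∈ H, a * b = b * a)
    (hfpf : ∀ g ∈ H, g ≠ 1 → ∀ v : V, ρ g v = v → v = 0) : IsCyclic H := by
  have hF : Cfsg.Agent.Lib.Helper12.ZF.IsFpf.{u, v} H := isFpf_of (ρ.comp H.subtype) (by
    intro g hg v hv
    exact hfpf g g.2 (fun h => hg (Subtype.ext h)) v hv)
  have := hF.cyclic_of_comm ⊤ (fun a _ b _ => Subtype.ext (hcomm a a.2 b b.2))
  exact (Subgroup.topEquiv (G := H)).isCyclic.mp this

/-- semiregular `p`-groups are cyclic or quaternion -/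
theorem alt1_of_semireg [Finite G] [Finite V] [Nontrivial V] (p : ℕ) [Fact p.Prime]
    (hG : IsPGroup p G) (ρ : G →* (V ≃ₗ[ZMod q] V))
    (hsr : ∀ v : V, v ≠ 0 → ∀ g : G, ρ g v = v → g = 1) :
    IsCyclic G ∨ ∃ n : ℕ, Nonempty (G ≃* QuaternionGroup n) := by
  have hF : Cfsg.Agent.Lib.Helper12.ZF.IsFpf.{u, v} G := isFpf_of ρ (by
    intro g hg v hv
    by_contra hv0
    exact hg (hsr v hv0 g hv))
  obtain ⟨P⟩ := (Sylow.nonempty : Nonempty (Sylow p G))
  have hP : (⊤ : Subgroup G) = P := P.is_maximal' (hG.to_subgroup ⊤) le_top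
  have e : (P : Subgroup G) ≃* G := (MulEquiv.subgroupCongr hP.symm).trans Subgroup.topEquiv
  rcases hF.sylow p P with h | ⟨n, ⟨f⟩⟩
  · left
    exact e.isCyclic.mp h
  · right
    exact ⟨2 ^ n, ⟨e.symm.trans f⟩⟩

/-- non-trivial elements of `p`-groups have powers of order `p` -/
theorem exists_pow_order_p {p : ℕ} [Fact p.Prime] (hG : IsPGroup p G) (x : G) (hx : x ≠ 1) :
    ∃ j : ℕ, x ^ j ≠ 1 ∧ (x ^ j) ^ p = 1 := by
  have hp : p.Prime := Fact.out
  obtain ⟨k, hk⟩ := IsPGroup.iff_orderOf.mp hG x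
  have hk0 : k ≠ 0 := by
    rintro rfl
    rw [pow_zero, orderOf_eq_one_iff] at hk
    exact hx hk
  obtain ⟨k', rfl⟩ : ∃ k', k = k' + 1 := ⟨k - 1, by omega⟩
  refine ⟨p ^ k', ?_, ?_⟩
  · apply pow_ne_one_of_lt_orderOf (pow_ne_zero _ hp.ne_zero)
    rw [hk]
    exact Nat.pow_lt_pow_right hp.one_lt (Nat.lt_succ_self _)
  · rw [← pow_mul, ← pow_succ, ← hk, pow_orderOf_eq_one]

theorem fix_pow (ρ : G →* (V ≃ₗ[ZMod q] V)) {x : G} {v : V} (hx : ρ x v = v) (j : ℕ) :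
    ρ (x ^ j) v = v := by
  have : x ^ j ∈ st ρ v := (st ρ v).pow_mem ((mem_st ρ v x).mpr hx) j
  exact (mem_st ρ v _).mp this

/-- if `p = q` the action is semiregular (in fact `G` is trivial) -/
theorem s_eq_one_of_eq [Finite G] [Finite V] [Nontrivial V] (hG : IsPGroup q G)
    (ρ : G →* (V ≃ₗ[ZMod q] V)) (hρ : Function.Injective ρ) {s : ℕ} (h : HT ρ s) : s = 1 := by
  classical
  have hq : q.Prime := Fact.out
  let _ : MulAction G V := MulAction.compHom V ρ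
  have hsmul : ∀ (g : G) (v : V), g • v = ρ g v := fun _ _ => rfl
  have hdvd : q ∣ Nat.card V := by
    rw [card_V (q := q) (V := V)]
    apply dvd_pow_self
    intro h0
    have h1 : Nat.card V = 1 := by rw [card_V (q := q) (V := V), h0, pow_zero]
    have := Finite.one_lt_card (α := V)
    omega
  have h0 : (0 : V) ∈ MulAction.fixedPoints G V := by
    intro g
    rw [hsmul, map_zero]
  obtain ⟨v₀, hv₀, hne⟩ := hG.exists_fixed_point_of_prime_dvd_card_of_fixed_point V hdvd h0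
  have hv₀0 : v₀ ≠ 0 := fun e => hne e.symm
  have htop : st ρ v₀ = ⊤ := by
    rw [eq_top_iff]
    intro g _
    rw [mem_st, ← hsmul]
    exact hv₀ g
  have hs : s = Nat.card G := by
    rw [← h v₀ hv₀0, htop, Subgroup.card_top]
  have hall : ∀ v : V, v ≠ 0 → st ρ v = ⊤ := by
    intro v hv
    apply Subgroup.eq_top_of_card_eq
    rw [h v hv, hs]
  have htriv : ∀ g : G, g = 1 := by
    intro g
    apply hρ
    rw [map_one]
    apply LinearEquiv.ext
    intro v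
    by_cases hv : v = 0
    · rw [hv, map_zero, map_zero]
    · have : g ∈ st ρ v := by rw [hall v hv]; exact Subgroup.mem_top g
      exact (mem_st ρ v g).mp this
  rw [hs, Nat.card_eq_one_iff_unique]
  exact ⟨⟨fun a b => (htriv a).trans (htriv b).symm⟩, ⟨1⟩⟩

/-- `Ω₁` of an abelian subgroup -/
def omegaOf (A : Subgroup G) (hAc : ∀ a ∈ A, ∀ b ∈ A, a * b = b * a) (p : ℕ) : Subgroup G where
  carrier := {x | x ∈ A ∧ x ^ p = 1}
  mul_mem' := by
    rintro x y ⟨hx, hxp⟩ ⟨hy, hyp⟩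
    refine ⟨A.mul_mem hx hy, ?_⟩
    have hc : Commute x y := hAc x hx y hy
    rw [hc.mul_pow, hxp, hyp, one_mul]
  one_mem' := ⟨A.one_mem, one_pow p⟩
  inv_mem' := by
    rintro x ⟨hx, hxp⟩
    exact ⟨A.inv_mem hx, by rw [inv_pow, hxp, inv_one]⟩

theorem mem_omegaOf (A : Subgroup G) (hAc : ∀ a ∈ A, ∀ b ∈ A, a * b = b * a) (p : ℕ) (x : G) :
    x ∈ omegaOf A hAc p ↔ x ∈ A ∧ x ^ p = 1 := Iff.rfl

theorem omegaOf_normal (A : Subgroup G) [hA : A.Normal] (hAc : ∀ a ∈ A, ∀ b ∈ A, a * b = b * a)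
    (p : ℕ) : (omegaOf A hAc p).Normal := by
  constructor
  rintro x ⟨hx, hxp⟩ g
  refine ⟨hA.conj_mem x hx g, ?_⟩
  rw [conj_pow, hxp, mul_one, mul_inv_cancel]

theorem zpowers_normal_of_central (z : G) (hzc : ∀ g : G, g * z = z * g) :
    (Subgroup.zpowers z).Normal := by
  constructor
  intro n hn g
  obtain ⟨k, rfl⟩ := Subgroup.mem_zpowers_iff.mp hn
  have hc : Commute g (z ^ k) := (show Commute g z from hzc g).zpow_right k
  rw [hc.eq, mul_inv_cancel_right]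
  exact Subgroup.zpow_mem_zpowers z k

/-- **a non-cyclic normal abelian subgroup yields a normal subgroup of type `(p, p)`** -/
theorem exists_bdata [Finite G] [Finite V] [Nontrivial V] (p : ℕ) [Fact p.Prime]
    (hG : IsPGroup p G) (ρ : G →* (V ≃ₗ[ZMod q] V)) (hρ : Function.Injective ρ) {s : ℕ}
    (h : HT ρ s) (hs : s ≠ 1) (hpq : p ≠ q) (A : Subgroup G) [hAN : A.Normal]
    (hAc : ∀ a ∈ A, ∀ b ∈ A, a * b = b * a) (hAn : ¬ IsCyclic A) :
    ∃ z t : G, BData ρ p z t := by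
  have hp : p.Prime := Fact.out
  -- an element of order `p` in `A` with a fixed vector
  obtain ⟨t₁, ht₁A, ht₁1, ht₁p, v₁, hv₁0, hv₁⟩ : ∃ t₁ ∈ A, t₁ ≠ 1 ∧ t₁ ^ p = 1 ∧
      ∃ v : V, v ≠ 0 ∧ ρ t₁ v = v := by
    by_contra hcon
    apply hAn
    apply isCyclic_of_fpf_comm ρ A hAc
    intro g hgA hg1 v hv
    by_contra hv0
    obtain ⟨j, hj1, hjp⟩ := exists_pow_order_p hG g hg1
    exact hcon ⟨g ^ j, A.pow_mem hgA j, hj1, hjp, v, hv0, fix_pow ρ hv j⟩
  set Ω := omegaOf A hAc p with hΩ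
  haveI hΩN : Ω.Normal := omegaOf_normal A hAc p
  have ht₁Ω : t₁ ∈ Ω := ⟨ht₁A, ht₁p⟩
  have hΩne : Ω ≠ ⊥ := by
    intro hbot
    rw [hbot, Subgroup.mem_bot] at ht₁Ω
    exact ht₁1 ht₁Ω
  obtain ⟨z, hzΩ, hz1, hzcen⟩ := Cfsg.Agent.Lib.Helper53.normal_meets_center hG Ω hΩne
  have hzc : ∀ g : G, g * z = z * g := Subgroup.mem_center_iff.mp hzcen
  have hzp : z ^ p = 1 := hzΩ.2
  have hzfpf := central_fpf ρ hρ h hs p hp hpq z hzc hzp hz1
  have hnotZ : ∀ t : G, t ≠ 1 → (∃ v : V, v ≠ 0 ∧ ρ t v = v) → t ∉ Subgroup.zpowers z := by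
    rintro t ht1 ⟨v, hv0, hv⟩ htZ
    exact hv0 (fpf_of_mem_zpowers ρ p hp z hzp hz1 hzfpf t htZ ht1 v hv)
  have ht₁Z : t₁ ∉ Subgroup.zpowers z := hnotZ t₁ ht₁1 ⟨v₁, hv₁0, hv₁⟩
  haveI hZN : (Subgroup.zpowers z).Normal := zpowers_normal_of_central z hzc
  -- the quotient
  set π := QuotientGroup.mk' (Subgroup.zpowers z) with hπ
  have hπsurj : Function.Surjective π := QuotientGroup.mk'_surjective _
  have hπ1 : ∀ x : G, π x = 1 ↔ x ∈ Subgroup.zpowers z := fun x => QuotientGroup.eq_one_iff x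
  haveI hΩbarN : (Ω.map π).Normal := hΩN.map π hπsurj
  have hΩbarne : Ω.map π ≠ ⊥ := by
    intro hbot
    have : π t₁ ∈ Ω.map π := Subgroup.mem_map_of_mem π ht₁Ω
    rw [hbot, Subgroup.mem_bot, hπ1] at this
    exact ht₁Z this
  have hQ : IsPGroup p (G ⧸ Subgroup.zpowers z) := hG.to_quotient _
  obtain ⟨b, hbΩ, hb1, hbcen⟩ := Cfsg.Agent.Lib.Helper53.normal_meets_center hQ (Ω.map π) hΩbarne
  obtain ⟨t₀, ht₀Ω, rfl⟩ := Subgroup.mem_map.mp hbΩ
  have ht₀Z : t₀ ∉ Subgroup.zpowers z := fun hh => hb1 ((hπ1 t₀).mpr hh)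
  -- the subgroup `U`
  set U : Subgroup G := Ω ⊓ (Subgroup.center (G ⧸ Subgroup.zpowers z)).comap π with hU
  have hzU : z ∈ U := by
    refine Subgroup.mem_inf.mpr ⟨hzΩ, ?_⟩
    rw [Subgroup.mem_comap, (hπ1 z).mpr (Subgroup.mem_zpowers z)]
    exact Subgroup.one_mem _
  have ht₀U : t₀ ∈ U := Subgroup.mem_inf.mpr ⟨ht₀Ω, hbcen⟩
  have hUc : ∀ a ∈ U, ∀ b ∈ U, a * b = b * a := fun a ha b hb =>
    hAc a (Subgroup.mem_inf.mp ha).1.1 b (Subgroup.mem_inf.mp hb).1.1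
  have hUn : ¬ IsCyclic U := by
    intro hcyc
    obtain ⟨g₀, hg₀⟩ := hcyc.exists_generator
    have hg₀p : g₀ ^ p = 1 := by
      apply Subtype.ext
      rw [Subgroup.coe_pow]
      exact (Subgroup.mem_inf.mp g₀.2).1.2
    have hcard : Nat.card U = orderOf g₀ := by
      rw [← Nat.card_zpowers]
      have : Subgroup.zpowers g₀ = ⊤ := by
        rw [eq_top_iff]
        intro x _
        exact hg₀ x
      rw [this, Subgroup.card_top]
    have hle : Nat.card U ≤ p := by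
      rw [hcard]
      exact Nat.le_of_dvd hp.pos (orderOf_dvd_of_pow_eq_one hg₀p)
    have hZcard : Nat.card (Subgroup.zpowers z) = p := by
      rw [Nat.card_zpowers]
      exact orderOf_eq_prime hzp hz1
    have hZU : Subgroup.zpowers z ≤ U := Subgroup.zpowers_le.mpr hzU
    have := Subgroup.eq_of_le_of_card_ge hZU (by rw [hZcard]; exact hle)
    rw [← this] at ht₀U
    exact ht₀Z ht₀U
  obtain ⟨t, htU, ht1, v, hv0, hv⟩ : ∃ t ∈ U, t ≠ 1 ∧ ∃ v : V, v ≠ 0 ∧ ρ t v = v := by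
    by_contra hcon
    apply hUn
    apply isCyclic_of_fpf_comm ρ U hUc
    intro g hgU hg1 v hv
    by_contra hv0
    exact hcon ⟨g, hgU, hg1, v, hv0, hv⟩
  refine ⟨z, t, ⟨hzc, hzp, hz1, hzfpf, (Subgroup.mem_inf.mp htU).1.2,
    hnotZ t ht1 ⟨v, hv0, hv⟩, ⟨v, hv0, hv⟩, ?_⟩⟩
  intro g
  have hcen : π t ∈ Subgroup.center (G ⧸ Subgroup.zpowers z) := (Subgroup.mem_inf.mp htU).2
  have hcomm : π g * π t = π t * π g := Subgroup.mem_center_iff.mp hcen (π g)
  have hmem : t⁻¹ * (g * t * g⁻¹) ∈ Subgroup.zpowers z := by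
    rw [← hπ1, map_mul, map_mul, map_mul, map_inv, map_inv, hcomm]
    group
  exact ⟨t⁻¹ * (g * t * g⁻¹), hmem, by group⟩

end Cfsg.Agent.Lib.Helper78.Pas
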