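import Mathlib
import Cfsg.Agent.Lib.Helper78.Pas7

/-!
# Passman's theorem on half-transitive `p`-groups, part 8 (helper78)

`2`-groups with a subgroup `H` of index two with a unique involution `z` (cyclic or quaternion `H`):
the stabilisers have order two, generated by involutions outside `H`; counting these involutions.
-/

set_option autoImplicit false
set_option linter.style.haveILetI false

namespace Cfsg.Agent.Lib.Helper78.Pas

open Cfsg.Agent.Lib.Helper78.Hup

universe u v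

variable {q : ℕ} [Fact q.Prime] {V : Type v} [AddCommGroup V] [Module (ZMod q) V]
  {G : Type u} [Group G]

/-! ### involutions `t` with `z = -1` -/

/-- light data: `z = -1` and `t` an involution -/
structure IData (ρ : G →* (V ≃ₗ[ZMod q] V)) (z t : G) : Prop where
  zneg : ∀ v : V, ρ z v = -v
  tsq : t * t = 1

namespace IData

variable {ρ : G →* (V ≃ₗ[ZMod q] V)} {z t : G}

theorem tz_apply (d : IData ρ z t) (x : V) : ρ (t * z) x = -ρ t x := by
  rw [rho_mul_apply, d.zneg, map_neg]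

theorem mem_fix_tz (d : IData ρ z t) (x : V) : x ∈ fixSub ρ (t * z) ↔ ρ t x = -x := by
  rw [mem_fixSub, d.tz_apply, neg_eq_iff_eq_neg]

theorem flip_apply (d : IData ρ z t) {g : G} (hg : t * g = z * (g * t)) (x : V) :
    ρ t (ρ g x) = -ρ g (ρ t x) := by
  rw [← rho_mul_apply, hg, rho_mul_apply, d.zneg, rho_mul_apply]

theorem eigen_decomp (d : IData ρ z t) (x : V) :
    ρ t (x + ρ t x) = x + ρ t x ∧ ρ t (x - ρ t x) = -(x - ρ t x) := by
  have htt : ρ t (ρ t x) = x := by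
    rw [← rho_mul_apply, d.tsq, rho_one_apply]
  constructor
  · rw [map_add, htt, add_comm]
  · rw [map_sub, htt]
    abel

/-- `V` is the direct sum of the two eigenspaces -/
theorem card_V_eq (d : IData ρ z t) (hq2 : q ≠ 2) :
    Nat.card V = Nat.card (fixSub ρ t) * Nat.card (fixSub ρ (t * z)) := by
  rw [← Nat.card_prod]
  symm
  apply Nat.card_eq_of_bijective (fun p : (fixSub ρ t) × (fixSub ρ (t * z)) => (p.1 : V) + p.2)
  constructor
  · rintro ⟨⟨a, ha⟩, ⟨b, hb⟩⟩ ⟨⟨a', ha'⟩, ⟨b', hb'⟩⟩ hab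
    simp only at hab
    rw [mem_fixSub] at ha ha'
    rw [d.mem_fix_tz] at hb hb'
    have e : a - a' = b' - b := by
      rw [sub_eq_sub_iff_add_eq_add, hab, add_comm]
    have f1 : ρ t (a - a') = a - a' := by rw [map_sub, ha, ha']
    have f2 : ρ t (a - a') = -(a - a') := by
      rw [e, map_sub, hb, hb']
      abel
    have f3 : a - a' = 0 := eq_zero_of_neg_eq hq2 _ (f2.symm.trans f1)
    have f4 : b' - b = 0 := e.symm.trans f3
    have e1 : a = a' := sub_eq_zero.mp f3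
    have e2 : b' = b := sub_eq_zero.mp f4
    subst e1
    subst e2
    rfl
  · intro x
    obtain ⟨e1, e2⟩ := d.eigen_decomp x
    have h2 : (2 : ZMod q) ≠ 0 := two_ne_zero_of_ne hq2
    refine ⟨(⟨(2 : ZMod q)⁻¹ • (x + ρ t x), ?_⟩, ⟨(2 : ZMod q)⁻¹ • (x - ρ t x), ?_⟩), ?_⟩
    · rw [mem_fixSub, map_smul, e1]
    · rw [d.mem_fix_tz, map_smul, e2, smul_neg]
    · simp only
      rw [← smul_add]
      have : (x + ρ t x) + (x - ρ t x) = (2 : ZMod q) • x := by
        rw [two_smul]; abel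
      rw [this, smul_smul, inv_mul_cancel₀ h2, one_smul]

/-- the two eigenspaces have the same order if some element flips `t` -/
theorem card_eigen_eq [Finite V] (d : IData ρ z t) {g : G} (hg : t * g = z * (g * t)) :
    Nat.card (fixSub ρ (t * z)) = Nat.card (fixSub ρ t) := by
  apply le_antisymm
  · apply Nat.card_le_card_of_injective
      (fun x : fixSub ρ (t * z) => (⟨ρ g x, by
        have := x.2
        rw [d.mem_fix_tz] at this
        rw [mem_fixSub, d.flip_apply hg, this, map_neg, neg_neg]⟩ : fixSub ρ t))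
    intro x y hxy
    have := congrArg Subtype.val hxy
    simp only at this
    exact Subtype.ext ((ρ g).injective this)
  · apply Nat.card_le_card_of_injective
      (fun x : fixSub ρ t => (⟨ρ g x, by
        have := x.2
        rw [mem_fixSub] at this
        rw [d.mem_fix_tz, d.flip_apply hg, this]⟩ : fixSub ρ (t * z)))
    intro x y hxy
    have := congrArg Subtype.val hxy
    simp only at this
    exact Subtype.ext ((ρ g).injective this)

theorem card_V_sq [Finite V] (d : IData ρ z t) (hq2 : q ≠ 2) {g : G}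
    (hg : t * g = z * (g * t)) :
    Nat.card V = Nat.card (fixSub ρ t) * Nat.card (fixSub ρ t) := by
  rw [d.card_V_eq hq2, d.card_eigen_eq hg]

end IData

/-! ### a subgroup of index two with a unique involution -/

/-- `H` has index two and `z` is its unique involution -/
structure HData (H : Subgroup G) (z : G) : Prop where
  hidx : H.index = 2
  hzH : z ∈ H
  hz1 : z ≠ 1
  hzz : z * z = 1
  huniq : ∀ x ∈ H, x * x = 1 → x ≠ 1 → x = z

namespace HData

variable {H : Subgroup G} {z : G}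

theorem zc (d : HData H z) (g : G) : g * z = z * g := by
  haveI : H.Normal := Subgroup.normal_of_index_eq_two d.hidx
  have h1 : g * z * g⁻¹ ∈ H := Subgroup.Normal.conj_mem inferInstance z d.hzH g
  have h2 : (g * z * g⁻¹) * (g * z * g⁻¹) = 1 := by
    calc (g * z * g⁻¹) * (g * z * g⁻¹) = g * (z * z) * g⁻¹ := by group
      _ = 1 := by rw [d.hzz]; group
  have h3 : g * z * g⁻¹ ≠ 1 := by
    intro h
    apply d.hz1
    have := congrArg (fun x => g⁻¹ * x * g) h
    simpa [mul_assoc] using this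
  have h4 := d.huniq _ h1 h2 h3
  have := congrArg (fun x => x * g) h4
  simpa using this

variable [Finite G] (ρ : G →* (V ≃ₗ[ZMod q] V))

theorem zfpf (d : HData H z) (hρ : Function.Injective ρ) {s : ℕ} (h : HT ρ s) (hs : s ≠ 1)
    (hq2 : q ≠ 2) : ∀ v : V, ρ z v = v → v = 0 :=
  central_fpf ρ hρ h hs 2 Nat.prime_two (fun e => hq2 e.symm) z d.zc
    (by rw [pow_two]; exact d.hzz) d.hz1

theorem zneg (d : HData H z) (hρ : Function.Injective ρ) {s : ℕ} (h : HT ρ s) (hs : s ≠ 1)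
    (hq2 : q ≠ 2) (v : V) : ρ z v = -v := by
  have h1 : ρ z (ρ z v + v) = ρ z v + v := by
    rw [map_add, ← rho_mul_apply, d.hzz, rho_one_apply, add_comm]
  have h2 := d.zfpf ρ hρ h hs hq2 _ h1
  exact eq_neg_of_add_eq_zero_left h2

/-- `H` acts semiregularly -/
theorem semireg (d : HData H z) (hG : IsPGroup 2 G) (hρ : Function.Injective ρ) {s : ℕ}
    (h : HT ρ s) (hs : s ≠ 1) (hq2 : q ≠ 2) {x : G} (hxH : x ∈ H) (hx1 : x ≠ 1) {v : V}
    (hv : ρ x v = v) : v = 0 := by
  haveI : Fact (Nat.Prime 2) := ⟨Nat.prime_two⟩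
  obtain ⟨j, hj1, hj2⟩ := exists_pow_order_p hG x hx1
  have hjz : x ^ j = z := d.huniq _ (H.pow_mem hxH j) (by rw [← pow_two]; exact hj2) hj1
  have := fix_pow ρ hv j
  rw [hjz] at this
  exact d.zfpf ρ hρ h hs hq2 v this

/-- every non-zero vector is fixed by a unique non-trivial element, an involution outside `H` -/
theorem exists_inv (d : HData H z) (hG : IsPGroup 2 G) (hρ : Function.Injective ρ) {s : ℕ}
    (h : HT ρ s) (hs : s ≠ 1) (hq2 : q ≠ 2) {v : V} (hv0 : v ≠ 0) :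
    ∃ τ : G, τ ∉ H ∧ τ * τ = 1 ∧ ρ τ v = v ∧ ∀ l : G, ρ l v = v → l = 1 ∨ l = τ := by
  obtain ⟨τ, hτv, hτ1⟩ : ∃ τ : G, ρ τ v = v ∧ τ ≠ 1 := by
    by_contra hcon
    push Not at hcon
    apply hs
    rw [← h v hv0, Subgroup.card_eq_one, Subgroup.eq_bot_iff_forall]
    intro x hx
    exact hcon x ((mem_st ρ v x).mp hx)
  have hτH : τ ∉ H := fun hh => hv0 (d.semireg ρ hG hρ h hs hq2 hh hτ1 hτv)
  have hττ : τ * τ = 1 := by
    by_contra hne
    have h1 : τ * τ ∈ H := Subgroup.mul_self_mem_of_index_two d.hidx τ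
    have h2 : ρ (τ * τ) v = v := by rw [rho_mul_apply, hτv, hτv]
    exact hv0 (d.semireg ρ hG hρ h hs hq2 h1 hne h2)
  refine ⟨τ, hτH, hττ, hτv, ?_⟩
  intro l hl
  by_cases hlH : l ∈ H
  · left
    by_contra hl1
    exact hv0 (d.semireg ρ hG hρ h hs hq2 hlH hl1 hl)
  · right
    have h1 : l * τ ∈ H := by
      rw [Subgroup.mul_mem_iff_of_index_two d.hidx]
      exact ⟨fun hh => absurd hh hlH, fun hh => absurd hh hτH⟩
    have h2 : ρ (l * τ) v = v := by rw [rho_mul_apply, hτv, hl]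
    have h3 : l * τ = 1 := by
      by_contra hne
      exact hv0 (d.semireg ρ hG hρ h hs hq2 h1 hne h2)
    have h4 : l * τ = τ * τ := by rw [h3, hττ]
    exact mul_right_cancel h4

end HData

/-! ### the count -/

theorem partition_card [Finite V] {T : Type*} (P : T → V → Prop)
    (hP : ∀ v : V, v ≠ 0 → ∃! τ : T, P τ v) :
    Nat.card {v : V // v ≠ 0} = Nat.card (Σ τ : T, {v : V // v ≠ 0 ∧ P τ v}) := by
  symm
  apply Nat.card_eq_of_bijective
    (fun x : Σ τ : T, {v : V // v ≠ 0 ∧ P τ v} => (⟨x.2.1, x.2.2.1⟩ : {v : V // v ≠ 0}))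
  constructor
  · rintro ⟨τ, v, hv0, hv⟩ ⟨τ', v', hv0', hv'⟩ hxy
    have e : v = v' := congrArg Subtype.val hxy
    subst e
    have e2 : τ = τ' := (hP v hv0).unique hv hv'
    subst e2
    rfl
  · rintro ⟨v, hv0⟩
    obtain ⟨τ, hτ, _⟩ := hP v hv0
    exact ⟨⟨τ, v, hv0, hτ⟩, rfl⟩

theorem card_nonzero [Finite V] : Nat.card {v : V // v ≠ 0} = Nat.card V - 1 := by
  have h1 : Nat.card {v : V // v ≠ 0} = ((Set.univ : Set V) \ {0}).ncard := by
    rw [← Nat.card_coe_set_eq]
    apply Nat.card_congr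
    apply Equiv.subtypeEquivRight
    intro v
    simp
  rw [h1, Set.ncard_sdiff_singleton_of_mem (Set.mem_univ _), Set.ncard_univ]

theorem card_nonzero_sub [Finite V] (W : Submodule (ZMod q) V) :
    Nat.card {v : V // v ≠ 0 ∧ v ∈ W} = Nat.card W - 1 := by
  have h1 : Nat.card {v : V // v ≠ 0 ∧ v ∈ W} = ((W : Set V) \ {0}).ncard := by
    rw [← Nat.card_coe_set_eq]
    apply Nat.card_congr
    apply Equiv.subtypeEquivRight
    intro v
    simp [and_comm]
  have h2 : (W : Set V).ncard = Nat.card W := (Nat.card_coe_set_eq _).symm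
  rw [h1, Set.ncard_sdiff_singleton_of_mem (Submodule.zero_mem _), h2]

namespace HData

variable {H : Subgroup G} {z : G}

/-- **the number of involutions outside `H` is `R + 1` where `|V| = R²`** -/
theorem count [Finite G] [Finite V] [Nontrivial V] (ρ : G →* (V ≃ₗ[ZMod q] V)) (d : HData H z)
    (hG : IsPGroup 2 G) (hρ : Function.Injective ρ) {s : ℕ} (h : HT ρ s) (hs : s ≠ 1)
    (hq2 : q ≠ 2) (c : G) (hc : ∀ τ : G, τ ∉ H → τ * τ = 1 → τ * c = z * (c * τ)) :
    ∃ R : ℕ, Nat.card V = R * R ∧ R + 1 = Nat.card {τ : G // τ ∉ H ∧ τ * τ = 1} ∧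
      ∃ W : Submodule (ZMod q) V, Nat.card W = R := by
  classical
  have hsq : ∀ τ : G, τ ∉ H → τ * τ = 1 →
      Nat.card V = Nat.card (fixSub ρ τ) * Nat.card (fixSub ρ τ) := by
    intro τ hτH hττ
    have dI : IData ρ z τ := ⟨d.zneg ρ hρ h hs hq2, hττ⟩
    exact dI.card_V_sq hq2 (hc τ hτH hττ)
  set R := Nat.sqrt (Nat.card V) with hR
  have hRτ : ∀ τ : G, τ ∉ H → τ * τ = 1 → Nat.card (fixSub ρ τ) = R := by
    intro τ hτH hττ
    rw [hR, hsq τ hτH hττ, Nat.sqrt_eq]
  obtain ⟨v₀, hv₀⟩ := exists_ne (0 : V)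
  obtain ⟨τ₀, hτ₀H, hτ₀τ₀, _, _⟩ := d.exists_inv ρ hG hρ h hs hq2 hv₀
  have hVR : Nat.card V = R * R := by
    have := hsq τ₀ hτ₀H hτ₀τ₀
    rw [hRτ τ₀ hτ₀H hτ₀τ₀] at this
    exact this
  refine ⟨R, hVR, ?_, fixSub ρ τ₀, hRτ τ₀ hτ₀H hτ₀τ₀⟩
  -- the partition
  have hP : ∀ v : V, v ≠ 0 → ∃! τ : {τ : G // τ ∉ H ∧ τ * τ = 1}, ρ τ.1 v = v := by
    intro v hv0
    obtain ⟨τ, hτH, hττ, hτv, hall⟩ := d.exists_inv ρ hG hρ h hs hq2 hv0
    refine ⟨⟨τ, hτH, hττ⟩, hτv, ?_⟩
    rintro ⟨τ', hτ'H, _⟩ hτ'v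
    apply Subtype.ext
    rcases hall τ' hτ'v with h1 | h1
    · exfalso
      apply hτ'H
      rw [h1]
      exact H.one_mem
    · exact h1
  have hpart := partition_card (fun (τ : {τ : G // τ ∉ H ∧ τ * τ = 1}) (v : V) => ρ τ.1 v = v) hP
  haveI : Fintype {τ : G // τ ∉ H ∧ τ * τ = 1} := Fintype.ofFinite _
  rw [card_nonzero, Nat.card_sigma] at hpart
  have hterm : ∀ τ : {τ : G // τ ∉ H ∧ τ * τ = 1},
      Nat.card {v : V // v ≠ 0 ∧ ρ τ.1 v = v} = R - 1 := by
    rintro ⟨τ, hτH, hττ⟩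
    have := card_nonzero_sub (fixSub ρ τ)
    rw [hRτ τ hτH hττ] at this
    exact this
  rw [Finset.sum_congr rfl (fun τ _ => hterm τ), Finset.sum_const, Finset.card_univ,
    smul_eq_mul, ← Nat.card_eq_fintype_card, hVR] at hpart
  have hR2 : 2 ≤ R := by
    have h1 : 1 < Nat.card V := Finite.one_lt_card
    rw [hVR] at h1
    by_contra hlt
    have : R = 0 ∨ R = 1 := by omega
    rcases this with h0 | h0 <;> rw [h0] at h1 <;> omega
  obtain ⟨r, hr⟩ : ∃ r, R = r + 1 := ⟨R - 1, by omega⟩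
  have hr1 : 1 ≤ r := by omega
  rw [hr] at hpart ⊢
  have h1 : (r + 1) * (r + 1) - 1 = (r + 2) * r := by
    have : (r + 1) * (r + 1) = (r + 2) * r + 1 := by ring
    omega
  rw [h1, Nat.add_sub_cancel] at hpart
  have := Nat.eq_of_mul_eq_mul_right (by omega : 0 < r) hpart
  omega

end HData

end Cfsg.Agent.Lib.Helper78.Pas
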