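import Mathlib
import Cfsg.Agent.Lib.Helper78.Pas8
import Cfsg.Agent.Lib.Helper73.CyclicMax
import Cfsg.Agent.Lib.Helper2.Singer4

/-!
# Passman's theorem on half-transitive `p`-groups, part 9 (helper78)

Dihedral, quaternion and semidihedral groups acting half-transitively.
-/

set_option autoImplicit false
set_option linter.style.haveILetI false

namespace Cfsg.Agent.Lib.Helper78.Pas

open Cfsg.Agent.Lib.Helper78.Hup

universe u v

variable {q : ℕ} [Fact q.Prime] {V : Type v} [AddCommGroup V] [Module (ZMod q) V]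
  {G : Type u} [Group G]

/-- a cyclic subgroup `⟨a⟩` of index two, of order `2 m`, and `b ∉ ⟨a⟩` -/
structure CM (a b : G) (m : ℕ) : Prop where
  ho : orderOf a = 2 * m
  hcG : Nat.card G = 4 * m
  hm : 2 ≤ m
  hidx : (Subgroup.zpowers a).index = 2
  hb : b ∉ Subgroup.zpowers a

namespace CM

variable {a b : G} {m : ℕ}

theorem zz (d : CM a b m) : a ^ m * a ^ m = 1 := by
  rw [← pow_add, ← two_mul, ← d.ho, pow_orderOf_eq_one]

theorem hdata (d : CM a b m) : HData (Subgroup.zpowers a) (a ^ m) where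
  hidx := d.hidx
  hzH := Subgroup.npow_mem_zpowers a m
  hz1 := by
    apply pow_ne_one_of_lt_orderOf
    · have := d.hm; omega
    · rw [d.ho]; have := d.hm; omega
  hzz := d.zz
  huniq := fun x hx hxx hx1 => Cfsg.Agent.Lib.Helper73.eq_pow_half_of_sq_eq_one d.ho hx hxx hx1

theorem comm_H (_d : CM a b m) {x y : G} (hx : x ∈ Subgroup.zpowers a)
    (hy : y ∈ Subgroup.zpowers a) : x * y = y * x := by
  obtain ⟨i, rfl⟩ := Subgroup.mem_zpowers_iff.mp hx
  obtain ⟨j, rfl⟩ := Subgroup.mem_zpowers_iff.mp hy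
  rw [← zpow_add, ← zpow_add, add_comm]

/-- every element outside `⟨a⟩` is `x b` with `x ∈ ⟨a⟩` -/
theorem exists_eq_mul (d : CM a b m) {τ : G} (hτ : τ ∉ Subgroup.zpowers a) :
    ∃ x ∈ Subgroup.zpowers a, τ = x * b := by
  refine ⟨τ * b⁻¹, ?_, by group⟩
  rw [Subgroup.mul_mem_iff_of_index_two d.hidx]
  constructor
  · intro hh; exact absurd hh hτ
  · intro hh
    rw [Subgroup.inv_mem_iff] at hh
    exact absurd hh d.hb

theorem mul_not_mem (d : CM a b m) {x : G} (hx : x ∈ Subgroup.zpowers a) :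
    x * b ∉ Subgroup.zpowers a := by
  intro hh
  exact d.hb ((Subgroup.mul_mem_cancel_left _ hx).mp hh)

/-- an element of `⟨a⟩` inverted by `b` with square `z` flips all involutions outside `⟨a⟩` -/
theorem flip_c (d : CM a b m) {c : G} (hcH : c ∈ Subgroup.zpowers a) (hcc : c * c = a ^ m)
    (hbc : b * c = c⁻¹ * b) {τ : G} (hτ : τ ∉ Subgroup.zpowers a) :
    τ * c = a ^ m * (c * τ) := by
  obtain ⟨x, hx, rfl⟩ := d.exists_eq_mul hτ
  have hci : c⁻¹ = a ^ m * c := by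
    have h1 : a ^ m * c * c = 1 := by rw [mul_assoc, hcc, d.zz]
    have := congrArg (fun y => y * c⁻¹) h1
    simp only [mul_inv_cancel_right, one_mul] at this
    exact this.symm
  have hxc : x * c⁻¹ = c⁻¹ * x := d.comm_H hx (Subgroup.inv_mem _ hcH)
  calc x * b * c = x * (b * c) := by group
    _ = x * (c⁻¹ * b) := by rw [hbc]
    _ = (x * c⁻¹) * b := by group
    _ = (c⁻¹ * x) * b := by rw [hxc]
    _ = (a ^ m * c) * x * b := by rw [hci]
    _ = a ^ m * (c * (x * b)) := by group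

/-- dihedral / quaternion type conjugation: `b` inverts `⟨a⟩` -/
theorem conj_inv (_d : CM a b m) (hba : b * a * b⁻¹ = a⁻¹) {x : G}
    (hx : x ∈ Subgroup.zpowers a) : b * x * b⁻¹ = x⁻¹ := by
  obtain ⟨i, rfl⟩ := Subgroup.mem_zpowers_iff.mp hx
  rw [← conj_zpow, hba, inv_zpow]

theorem sq_of_inv (d : CM a b m) (hba : b * a * b⁻¹ = a⁻¹) {τ : G}
    (hτ : τ ∉ Subgroup.zpowers a) : τ * τ = b * b := by
  obtain ⟨x, hx, rfl⟩ := d.exists_eq_mul hτ
  have h1 := d.conj_inv hba hx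
  calc x * b * (x * b) = x * (b * x * b⁻¹) * (b * b) := by group
    _ = b * b := by rw [h1, mul_inv_cancel, one_mul]

end CM

namespace CM

variable {a b : G} {m : ℕ}

/-- `m` is a power of two -/
theorem m_pow [Finite G] (d : CM a b m) (hG : IsPGroup 2 G) : ∃ k : ℕ, 1 ≤ k ∧ m = 2 ^ k := by
  haveI : Fact (Nat.Prime 2) := ⟨Nat.prime_two⟩
  obtain ⟨n, hn⟩ := IsPGroup.iff_card.mp hG
  have hdvd : m ∣ 2 ^ n := by
    rw [← hn, d.hcG]
    exact Dvd.intro_left 4 rfl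
  obtain ⟨k, _, hk⟩ := (Nat.dvd_prime_pow Nat.prime_two).mp hdvd
  refine ⟨k, ?_, hk⟩
  by_contra hk0
  have : k = 0 := by omega
  rw [this, pow_zero] at hk
  have := d.hm
  omega

/-- quaternion groups cannot act half-transitively but not semiregularly -/
theorem quat_false [Finite G] [Finite V] [Nontrivial V] (d : CM a b m)
    (ρ : G →* (V ≃ₗ[ZMod q] V)) (hG : IsPGroup 2 G) (hρ : Function.Injective ρ) {s : ℕ}
    (h : HT ρ s) (hs : s ≠ 1) (hq2 : q ≠ 2) (hba : b * a * b⁻¹ = a⁻¹) (hbb : b * b = a ^ m) :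
    False := by
  obtain ⟨v₀, hv₀⟩ := exists_ne (0 : V)
  obtain ⟨τ, hτH, hττ, _, _⟩ := d.hdata.exists_inv ρ hG hρ h hs hq2 hv₀
  rw [d.sq_of_inv hba hτH, hbb] at hττ
  exact d.hdata.hz1 hττ

/-- from `R + 1 = 2 ^ j` and `R = |W|` conclude `R = q` -/
theorem R_eq_q [Finite V] (W : Submodule (ZMod q) V) {R j : ℕ} (hW : Nat.card W = R)
    (hR2 : 2 ≤ R) (hRj : R + 1 = 2 ^ j) : R = q := by
  have hq : q.Prime := Fact.out
  have hc := card_sub W
  rw [hW] at hc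
  set dd := Module.finrank (ZMod q) W with hdd
  have hdd0 : dd ≠ 0 := by
    intro h0
    rw [h0, pow_zero] at hc
    omega
  have hpp : IsPrimePow R := ⟨q, dd, hq.prime, Nat.pos_of_ne_zero hdd0, hc.symm⟩
  have hRp := Cfsg.Agent.Lib.Helper2.Singer.prime_of_primePow_succ_eq_two_pow hpp hRj
  have hdvd : q ∣ R := by rw [hc]; exact dvd_pow_self q hdd0
  rcases (Nat.dvd_prime hRp).mp hdvd with h1 | h1
  · exact absurd h1 hq.one_lt.ne'
  · exact h1.symm

/-- **the dihedral case** -/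
theorem dihedral [Finite G] [Finite V] [Nontrivial V] (d : CM a b m)
    (ρ : G →* (V ≃ₗ[ZMod q] V)) (hG : IsPGroup 2 G) (hρ : Function.Injective ρ) {s : ℕ}
    (h : HT ρ s) (hs : s ≠ 1) (hq2 : q ≠ 2) (hba : b * a * b⁻¹ = a⁻¹) (hbb : b * b = 1) :
    Nat.card V = q ^ 2 ∧ ∃ μ : ℕ, q = 2 ^ μ - 1 ∧ Nonempty (G ≃* DihedralGroup (2 ^ μ)) := by
  obtain ⟨k, hk1, hk⟩ := d.m_pow hG
  obtain ⟨k', rfl⟩ : ∃ k', k = k' + 1 := ⟨k - 1, by omega⟩
  set H := Subgroup.zpowers a with hH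
  -- the flipping element
  have hcH : a ^ (2 ^ k') ∈ H := Subgroup.npow_mem_zpowers a _
  have hcc : a ^ (2 ^ k') * a ^ (2 ^ k') = a ^ m := by
    rw [← pow_add, hk, pow_succ, mul_two]
  have hbc : b * a ^ (2 ^ k') = (a ^ (2 ^ k'))⁻¹ * b := by
    have := d.conj_inv hba hcH
    rw [← this]
    group
  obtain ⟨R, hVR, hRT, W, hW⟩ := d.hdata.count ρ hG hρ h hs hq2 (a ^ (2 ^ k'))
    (fun τ hτ _ => d.flip_c hcH hcc hbc hτ)
  -- counting the involutions
  have hT : Nat.card {τ : G // τ ∉ H ∧ τ * τ = 1} = 2 * m := by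
    have e1 : Nat.card {τ : G // τ ∉ H ∧ τ * τ = 1} = Nat.card {τ : G // τ ∉ H} := by
      apply Nat.card_congr
      apply Equiv.subtypeEquivRight
      intro τ
      constructor
      · exact fun hh => hh.1
      · intro hh
        exact ⟨hh, by rw [d.sq_of_inv hba hh, hbb]⟩
    have e2 : Nat.card H + Nat.card {τ : G // τ ∉ H} = Nat.card G := by
      rw [← Nat.card_sum]
      exact Nat.card_congr (Equiv.sumCompl (fun τ : G => τ ∈ H))
    have e3 : Nat.card H = 2 * m := by rw [hH, Nat.card_zpowers, d.ho]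
    rw [e1]
    have := d.hcG
    omega
  rw [hT] at hRT
  have hRj : R + 1 = 2 ^ (k' + 2) := by rw [hRT, hk]; ring
  have hR2 : 2 ≤ R := by
    have := d.hm
    omega
  have hRq : R = q := R_eq_q W hW hR2 hRj
  rw [hRq] at hVR hRj
  refine ⟨by rw [hVR, pow_two], k' + 2, by omega, ?_⟩
  have hbinv : b⁻¹ = b := by
    have := congrArg (fun x => b⁻¹ * x) hbb
    simpa using this.symm
  have hsx : b * a * b = a⁻¹ := by
    nth_rewrite 2 [← hbinv]
    exact hba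
  have e := Cfsg.Agent.Lib.Helper61.dihedralEquiv b a hbb hsx d.hb
    (Cfsg.Agent.Lib.Helper73.closure_pair_eq_top d.hidx d.hb)
  have ho : orderOf a = 2 ^ (k' + 2) := by rw [d.ho, hk]; ring
  rw [ho] at e
  exact ⟨e.symm⟩

end CM

namespace CM

variable {a b : G} {m : ℕ}

theorem zpow_z_even (d : CM a b m) (j : ℤ) : (a ^ m) ^ (2 * j) = 1 := by
  rw [zpow_mul, zpow_two, d.zz, one_zpow]

theorem even_of_zpow_z (d : CM a b m) {i : ℤ} (hi : (a ^ m) ^ i = 1) : ∃ j : ℤ, i = 2 * j := by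
  have h1 : a ^ ((m : ℤ) * i) = 1 := by
    rw [zpow_mul, zpow_natCast]
    exact hi
  have h2 := orderOf_dvd_iff_zpow_eq_one.mpr h1
  rw [d.ho] at h2
  push_cast at h2
  have hm0 : (m : ℤ) ≠ 0 := by
    have := d.hm
    exact_mod_cast (by omega : m ≠ 0)
  have h3 : (2 : ℤ) ∣ i := by
    have h4 : (m : ℤ) * 2 ∣ (m : ℤ) * i := by rwa [mul_comm (m : ℤ) 2]
    exact (mul_dvd_mul_iff_left hm0).mp h4
  exact h3

/-- semidihedral conjugation on `⟨a⟩` -/
theorem conj_sd (_d : CM a b m) (hba : b * a * b⁻¹ = a⁻¹ * a ^ m) (i : ℤ) :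
    b * a ^ i * b⁻¹ = (a ^ i)⁻¹ * (a ^ m) ^ i := by
  have hc : Commute a⁻¹ (a ^ m) := by
    have h1 : Commute a (a ^ m) := (Commute.refl a).pow_right m
    exact h1.inv_left
  rw [← conj_zpow, hba, hc.mul_zpow, inv_zpow]

theorem sq_sd (d : CM a b m) (hba : b * a * b⁻¹ = a⁻¹ * a ^ m) (hbb : b * b = 1) (i : ℤ) :
    (a ^ i * b) * (a ^ i * b) = (a ^ m) ^ i := by
  have h1 := d.conj_sd hba i
  calc a ^ i * b * (a ^ i * b) = a ^ i * (b * a ^ i * b⁻¹) * (b * b) := by group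
    _ = (a ^ m) ^ i := by rw [h1, hbb, mul_one, mul_inv_cancel_left]

/-- **the semidihedral case** -/
theorem semidihedral [Finite G] [Finite V] [Nontrivial V] (d : CM a b m)
    (ρ : G →* (V ≃ₗ[ZMod q] V)) (hG : IsPGroup 2 G) (hρ : Function.Injective ρ) {s : ℕ}
    (h : HT ρ s) (hs : s ≠ 1) (hq2 : q ≠ 2) (hba : b * a * b⁻¹ = a⁻¹ * a ^ m)
    (hbb : b * b = 1) (hm4 : 4 ≤ m) :
    Nat.card V = q ^ 2 ∧ ∃ μ : ℕ, q = 2 ^ μ - 1 ∧ Cfsg.IsQuasiDihedral G ∧
      Nat.card G = 2 ^ (μ + 2) := by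
  obtain ⟨k, hk1, hk⟩ := d.m_pow hG
  have hk2 : 2 ≤ k := by
    by_contra hlt
    have : k = 1 := by omega
    rw [this] at hk
    omega
  obtain ⟨k', rfl⟩ : ∃ k', k = k' + 2 := ⟨k - 2, by omega⟩
  set H := Subgroup.zpowers a with hH
  -- the flipping element `c = a ^ (m / 2)`
  have hcH : a ^ (2 ^ (k' + 1)) ∈ H := Subgroup.npow_mem_zpowers a _
  have hcc : a ^ (2 ^ (k' + 1)) * a ^ (2 ^ (k' + 1)) = a ^ m := by
    rw [← pow_add, hk, pow_succ 2 (k' + 1), mul_two]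
  have hbc : b * a ^ (2 ^ (k' + 1)) = (a ^ (2 ^ (k' + 1)))⁻¹ * b := by
    have h1 := d.conj_sd hba ((2 ^ (k' + 1) : ℕ) : ℤ)
    have h2 : (a ^ m) ^ (((2 ^ (k' + 1) : ℕ) : ℤ)) = 1 := by
      have : ((2 ^ (k' + 1) : ℕ) : ℤ) = 2 * ((2 ^ k' : ℕ) : ℤ) := by
        push_cast
        ring
      rw [this]
      exact d.zpow_z_even _
    rw [h2, mul_one, zpow_natCast] at h1
    rw [← h1]
    group
  obtain ⟨R, hVR, hRT, W, hW⟩ := d.hdata.count ρ hG hρ h hs hq2 (a ^ (2 ^ (k' + 1)))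
    (fun τ hτ _ => d.flip_c hcH hcc hbc hτ)
  -- counting the involutions
  have hT : Nat.card {τ : G // τ ∉ H ∧ τ * τ = 1} = m := by
    have e1 : Nat.card (Subgroup.zpowers (a ^ 2)) = m := by
      rw [Nat.card_zpowers, orderOf_pow' a (by norm_num : (2 : ℕ) ≠ 0), d.ho]
      simp
    rw [← e1]
    symm
    apply Nat.card_eq_of_bijective
      (fun y : Subgroup.zpowers (a ^ 2) => (⟨(y : G) * b, by
        obtain ⟨y, hy⟩ := y
        obtain ⟨j, rfl⟩ := Subgroup.mem_zpowers_iff.mp hy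
        have hyH : (a ^ 2) ^ j ∈ H := by
          rw [← zpow_natCast, ← zpow_mul]
          exact Subgroup.zpow_mem_zpowers a _
        refine ⟨d.mul_not_mem hyH, ?_⟩
        have : (a ^ 2) ^ j = a ^ (2 * j) := by
          rw [zpow_mul, zpow_two, pow_two]
        simp only
        rw [this, d.sq_sd hba hbb, d.zpow_z_even]⟩ : {τ : G // τ ∉ H ∧ τ * τ = 1}))
    constructor
    · intro y y' hyy
      have := congrArg Subtype.val hyy
      simp only at this
      exact Subtype.ext (mul_right_cancel this)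
    · rintro ⟨τ, hτH, hττ⟩
      obtain ⟨x, hx, rfl⟩ := d.exists_eq_mul hτH
      obtain ⟨i, rfl⟩ := Subgroup.mem_zpowers_iff.mp hx
      rw [d.sq_sd hba hbb] at hττ
      obtain ⟨j, rfl⟩ := d.even_of_zpow_z hττ
      refine ⟨⟨a ^ (2 * j), ?_⟩, rfl⟩
      rw [Subgroup.mem_zpowers_iff]
      refine ⟨j, ?_⟩
      rw [zpow_mul, zpow_two, pow_two]
  rw [hT] at hRT
  have hRj : R + 1 = 2 ^ (k' + 2) := by rw [hRT, hk]
  have hR2 : 2 ≤ R := by omega
  have hRq : R = q := R_eq_q W hW hR2 hRj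
  rw [hRq] at hVR hRj
  have hcard : Nat.card G = 2 ^ (k' + 2 + 2) := by
    rw [d.hcG, hk]
    ring
  refine ⟨by rw [hVR, pow_two], k' + 2, by omega, ?_, hcard⟩
  refine ⟨k' + 3, by omega, hcard, a, b, ?_, ?_, ?_⟩
  · rw [d.ho, hk]
    ring
  · haveI : Fact (Nat.Prime 2) := ⟨Nat.prime_two⟩
    apply orderOf_eq_prime
    · rw [pow_two]; exact hbb
    · intro hb1
      apply d.hb
      rw [hb1]
      exact Subgroup.one_mem _
  · rw [hba]
    have h1 : k' + 3 - 1 = k' + 2 := by omega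
    rw [h1, ← hk]
    obtain ⟨m', rfl⟩ : ∃ m', m = m' + 1 := ⟨m - 1, by omega⟩
    rw [Nat.add_sub_cancel, pow_succ']
    group

end CM

end Cfsg.Agent.Lib.Helper78.Pas
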