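import Mathlib
import Cfsg.Agent.Lib.Helper22.CgDefs
import Cfsg.Agent.Lib.Helper12.PsDefs
import Cfsg.Agent.Lib.Helper78.PsPS11
import Cfsg.Agent.Lib.Helper43.PsPS10
import Cfsg.Agent.Lib.Helper49.CgCG3a
import Cfsg.Agent.Lib.Helper69.CgCG3c

/-! # Ps hive route B (S4321; owner helper12): leaf `psA`
(absorption `Helper41.Ps.ps_abs1` = ps2, Frattini `Helper41.Ps.ps_abs2` = psF, `cg3a`, `cg3c`). -/

set_option autoImplicit false

namespace Cfsg.Agent.Lib.Helper12.Ps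

open Subgroup Cfsg.Agent.Lib.Helper22.Cg

universe u

/-- PSA. (ps2, psF, cg3a, cg3c) `p ∣ cs a` and `b` is central modulo `rstab a`. -/
theorem psA {G : Type u} [Group G] [Finite G] (p : ℕ) [Fact p.Prime] (a b : G)
    (hab : a * b = b * a) (ha : ∃ n : ℕ, orderOf a = p ^ n) (hb : ∃ n : ℕ, orderOf b = p ^ n)
    (hc : (cs a).Coprime (cs b)) (ha1 : 1 < cs a) (hb1 : 1 < cs b) (hpb : ¬ p ∣ cs b)
    (hmix : cs (a * b) ∣ cs a ∨ cs (a * b) ∣ cs b) :
    p ∣ cs a ∧ ∀ g h : G, (g * b * g⁻¹) * (h * b * h⁻¹)⁻¹ ∈ rstab a := by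
  rcases hmix with hm | hm
  · -- `cs (a*b) ∣ cs a`
    have habs := Cfsg.Agent.Lib.Helper41.Ps.ps_abs1 a b hc hm
    refine ⟨?_, habs⟩
    by_contra hpa
    have hnorm : (rstab a).Normal := cg3a a
    have hcard : Nat.card (rstab a) ∣ cs a := cg3c a
    have hpN : ¬ p ∣ Nat.card (rstab a) := fun h => hpa (dvd_trans h hcard)
    have hcen : ∀ g : G, (g * b * g⁻¹) * b⁻¹ ∈ rstab a := by
      intro g
      have := habs g 1
      simpa using this
    have h1 : cs b ∣ Nat.card (rstab a) :=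
      Cfsg.Agent.Lib.Helper41.Ps.ps_abs2 p (rstab a) hpN b hb hcen
    have h2 : cs b ∣ cs a := dvd_trans h1 hcard
    have h3 : cs b = 1 := Nat.Coprime.eq_one_of_dvd hc.symm h2
    omega
  · -- `cs (a*b) ∣ cs b`: impossible
    exfalso
    have hm' : cs (b * a) ∣ cs b := by rw [← hab]; exact hm
    have habs := Cfsg.Agent.Lib.Helper41.Ps.ps_abs1 b a hc.symm hm'
    have hnorm : (rstab b).Normal := cg3a b
    have hcard : Nat.card (rstab b) ∣ cs b := cg3c b
    have hpN : ¬ p ∣ Nat.card (rstab b) := fun h => hpb (dvd_trans h hcard)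
    have hcen : ∀ g : G, (g * a * g⁻¹) * a⁻¹ ∈ rstab b := by
      intro g
      have := habs g 1
      simpa using this
    have h1 : cs a ∣ Nat.card (rstab b) :=
      Cfsg.Agent.Lib.Helper41.Ps.ps_abs2 p (rstab b) hpN a ha hcen
    have h2 : cs a ∣ cs b := dvd_trans h1 hcard
    have h3 : cs a = 1 := Nat.Coprime.eq_one_of_dvd hc h2
    omega

end Cfsg.Agent.Lib.Helper12.Ps
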