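import Mathlib
import Cfsg.Agent.Lib.Helper22.CgDefs
import Cfsg.Agent.Lib.Helper12.PsDefs
import Cfsg.Agent.Lib.Helper75.PsB
import Cfsg.Agent.Lib.Helper87.PsN
import Cfsg.Agent.Lib.Helper87.PsU
import Cfsg.Agent.Lib.Helper49.CgCG3a
import Cfsg.Agent.Lib.Helper49.CgCG8c
import Cfsg.Agent.Lib.Helper9.CoprimeIndex

/-! # Ps hive route B (S4321; owner helper12): leaf `psE`
`P` centralizes every conjugate of `b` (psB, psN, psU, cg3a, cg8c, coprime-index factorisation). -/

set_option autoImplicit false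

namespace Cfsg.Agent.Lib.Helper12.Ps

open Subgroup Cfsg.Agent.Lib.Helper22.Cg

universe u

/-- PSE. (psB, psN, psU, cg3a, cg8c, Helper9.exists_mul_of_coprime_index) `P` centralizes every conjugate of `b`. -/
theorem psE {G : Type u} [Group G] [Finite G] (p : ℕ) [Fact p.Prime] (a b : G) (P : Sylow p G)
    (hbp : ∃ n : ℕ, orderOf b = p ^ n) (hPb : ∀ y ∈ P, b * y = y * b)
    (hNL : ∀ z : G, p ∣ orderOf z → p ∣ cs z → (cs z).Coprime (cs b))
    (habs : ∀ g h : G, (g * b * g⁻¹) * (h * b * h⁻¹)⁻¹ ∈ rstab a)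
    (hrP : rstab a ≤ (P : Subgroup G)) :
    ∀ y ∈ P, ∀ h : G, y * (h * b * h⁻¹) = (h * b * h⁻¹) * y := by
  classical
  have hp : p.Prime := Fact.out
  intro y hy h
  by_cases hy1 : y = 1
  · rw [hy1, one_mul, mul_one]
  have hby : b * y = y * b := hPb y hy
  -- `y` is a nontrivial `p`-element
  obtain ⟨k, hk⟩ := (IsPGroup.iff_orderOf.mp P.2) ⟨y, hy⟩
  have hyord : orderOf y = p ^ k := by
    rw [← hk]
    exact (Subgroup.orderOf_mk y hy).symm
  have hk0 : k ≠ 0 := by
    intro h0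
    rw [h0, pow_zero, orderOf_eq_one_iff] at hyord
    exact hy1 hyord
  have hpy : p ∣ orderOf y := by rw [hyord]; exact dvd_pow_self p hk0
  by_cases hcop : (cs y).Coprime (cs b)
  · -- coprime class sizes: `h = c * d`, `c ∈ C(y)`, `d ∈ C(b)`
    obtain ⟨c, hc, d, hd, hcd⟩ := Cfsg.Agent.Lib.Helper9.exists_mul_of_coprime_index
      (centralizer ({y} : Set G)) (centralizer ({b} : Set G)) hcop h
    have hcy : y * c = c * y := mem_centralizer_iff.mp hc y (Set.mem_singleton y)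
    have hdb : b * d = d * b := mem_centralizer_iff.mp hd b (Set.mem_singleton b)
    have e1 : h * b * h⁻¹ = c * b * c⁻¹ := by
      rw [hcd]
      calc c * d * b * (c * d)⁻¹ = c * (d * b) * d⁻¹ * c⁻¹ := by group
        _ = c * (b * d) * d⁻¹ * c⁻¹ := by rw [hdb]
        _ = c * b * c⁻¹ := by group
    rw [e1]
    calc y * (c * b * c⁻¹) = (y * c) * b * c⁻¹ := by group
      _ = (c * y) * b * c⁻¹ := by rw [hcy]
      _ = c * (y * b) * c⁻¹ := by group
      _ = c * (b * y) * c⁻¹ := by rw [hby]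
      _ = c * b * (y * c⁻¹) := by group
      _ = c * b * (c⁻¹ * y) := by
        have : y * c⁻¹ = c⁻¹ * y := by
          calc y * c⁻¹ = c⁻¹ * (c * y) * c⁻¹ := by group
            _ = c⁻¹ * (y * c) * c⁻¹ := by rw [hcy]
            _ = c⁻¹ * y := by group
        rw [this]
      _ = (c * b * c⁻¹) * y := by group
  · -- not coprime: `p ∤ cs y`
    have hpcs : ¬ p ∣ cs y := fun hd => hcop (hNL y hpy hd)
    obtain ⟨Py, hPy⟩ := cg8c p y hpcs
    have hdec := psB p b hNL y ⟨k, hyord⟩ hy1 hcop Py hPy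
    -- `b` normalizes `Py`
    have hbn : ∀ u ∈ Py, b * u * b⁻¹ ∈ Py := by
      intro u hu
      obtain ⟨y', hy', c, -, hcP, hbc⟩ := hdec b hby.symm
      have hcu : ∀ v ∈ Py, c * v * c⁻¹ = v := by
        intro v hv
        have := hcP v hv
        calc c * v * c⁻¹ = (c * v) * c⁻¹ := by group
          _ = (v * c) * c⁻¹ := by rw [this]
          _ = v := by group
      have e : b * u * b⁻¹ = c * (y' * u * y'⁻¹) * c⁻¹ := by rw [hbc]; group
      rw [e, hcu _ (Py.mul_mem (Py.mul_mem hy' hu) (Py.inv_mem hy'))]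
      exact Py.mul_mem (Py.mul_mem hy' hu) (Py.inv_mem hy')
    have hbPy : b ∈ Py := psU p Py b hbp hbn
    have hnorm : (rstab a).Normal := cg3a a
    have hrPy : rstab a ≤ (Py : Subgroup G) := psN p (rstab a) P Py hrP
    have h1 : (h * b * h⁻¹) * b⁻¹ ∈ (Py : Subgroup G) := by
      have := habs h 1
      have e : (h * b * h⁻¹) * (1 * b * 1⁻¹)⁻¹ = (h * b * h⁻¹) * b⁻¹ := by group
      rw [e] at this
      exact hrPy this
    have h2 : h * b * h⁻¹ ∈ (Py : Subgroup G) := by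
      have e : h * b * h⁻¹ = ((h * b * h⁻¹) * b⁻¹) * b := by group
      rw [e]
      exact (Py : Subgroup G).mul_mem h1 hbPy
    exact hPy _ h2

end Cfsg.Agent.Lib.Helper12.Ps
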