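import Mathlib
import Cfsg.Agent.Lib.Helper22.CgDefs
import Cfsg.Agent.Lib.Helper12.PsDefs
import Cfsg.Agent.Lib.Helper78.PsPS11

/-! # Ps hive route B (S4321; owner helper12): leaf `psF`, a wrapper around `Helper41.Ps.ps_abs2`
(the same Frattini statement, proved in `Lib/Helper78/PsPS11.lean`). -/

set_option autoImplicit false

namespace Cfsg.Agent.Lib.Helper12.Ps

open Subgroup Cfsg.Agent.Lib.Helper22.Cg

universe u

/-- PSF. Frattini: a `p`-element central modulo a normal `p'`-subgroup `N` has class size dividing `|N|`. -/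
theorem psF {G : Type u} [Group G] [Finite G] (p : ℕ) [Fact p.Prime] (N : Subgroup G) [N.Normal]
    (hpN : ¬ p ∣ Nat.card N) (b : G) (hb : ∃ n : ℕ, orderOf b = p ^ n)
    (hcen : ∀ g : G, b⁻¹ * g⁻¹ * b * g ∈ N) : cs b ∣ Nat.card N := by
  apply Cfsg.Agent.Lib.Helper41.Ps.ps_abs2 p N hpN b hb
  intro g
  have h1 := hcen g⁻¹
  rw [inv_inv] at h1
  have h2 := (inferInstance : N.Normal).conj_mem _ h1 b
  have e : b * (b⁻¹ * g * b * g⁻¹) * b⁻¹ = (g * b * g⁻¹) * b⁻¹ := by group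
  rw [e] at h2
  exact h2

end Cfsg.Agent.Lib.Helper12.Ps
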