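import Cfsg.Agent.Lib.Helper4.RuDefs

/-! # RU-CT (helper4's Ru hive, S1628): the 20 table vectors lie in `Lspan`
(certificates `certT`, checked by `decide +kernel`). -/

set_option autoImplicit false

namespace Cfsg.Agent.Lib.Helper4.Ru

open Cfsg.Spor

theorem ct_sm_eq (c : ℤ) (v : RuVec) : sm c v = c • v := by
  funext p
  show (⟨c * (v p).re, c * (v p).im⟩ : GaussianInt) = c • v p
  rw [zsmul_eq_mul]
  apply Zsqrtd.ext
  · simp
  · simp

theorem ct_sumTo_succ (n : ℕ) (f : ℕ → RuVec) : sumTo (n + 1) f = sumTo n f + f n := rfl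

theorem ct_sumTo_mem (S : AddSubgroup RuVec) (n : ℕ) (f : ℕ → RuVec) (h : ∀ k < n, f k ∈ S) :
    sumTo n f ∈ S := by
  induction n with
  | zero => exact S.zero_mem
  | succ n ih =>
    rw [ct_sumTo_succ]
    exact S.add_mem (ih (fun k hk => h k (by omega))) (h n (by omega))

theorem ct_comb_mem (C : ℕ) : comb C ∈ Lspan := by
  apply ct_sumTo_mem
  intro k hk
  rw [ct_sm_eq]
  have hmem : Bv k ∈ Lspan := AddSubgroup.subset_closure ⟨k, hk, rfl⟩
  exact AddSubgroup.zsmul_mem _ hmem _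

theorem ct_length : ruTable.length = 20 := rfl

set_option maxRecDepth 100000 in
theorem ct_cert : ∀ i ∈ List.range 20, ruTable.getD i 0 = comb (certT.getD i 0) := by
  decide +kernel

/-- RU-CT -/
theorem table_mem : ∀ v ∈ ruTable, v ∈ Lspan := by
  intro v hv
  obtain ⟨i, hi, rfl⟩ := List.mem_iff_getElem.mp hv
  have hi' : i < 20 := by rw [← ct_length]; exact hi
  rw [← List.getD_eq_getElem ruTable 0 hi, ct_cert i (List.mem_range.mpr hi')]
  exact ct_comb_mem _

end Cfsg.Agent.Lib.Helper4.Ru
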