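import Cfsg.Agent.Lib.Helper25.SlAR3

/-! # Sl hive (helper76, S2332): leaf SL-AR3 `ar3`

ALIAS ONLY: helper25's `Cfsg.Agent.Lib.Helper25.SlAR3` (same exact statement `Cfsg.Agent.Lib.Helper76.Sl.ar3`) reached
main 35 s before my own copy, so this file now just re-imports it and declares nothing (no duplicate names);
importing either file, or both, is safe. -/
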