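import Cfsg.Agent.Lib.Helper9.SlK3Defs

/-! # Sl hive (helper76, S2332), sub-hive SL-K3 (helper9): cores of the leaves K3-ROW / K3-COL (helper78)

Pure finite Fourier analysis: orthogonality of `β ↦ e(β·b)` and the row / column sums of `μ(α,β)`, stated for an
arbitrary parametrisation `h` of `H` with the PAR properties as hypotheses (the exact-name wrappers `k3_row_sum`,
`k3_col_sum` are in `SlK3ROW.lean` / `SlK3COL.lean`). -/

set_option autoImplicit false

namespace Cfsg.Agent.Lib.Helper76.Sl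

open Matrix
open scoped ComplexConjugate

variable (F : Type*) [Field F] [Fintype F] [DecidableEq F]

/-- orthogonality: `∑_β conj e(β·b) = q^(m+1) [b = 0]` -/
theorem k3row_orth (m : ℕ) (e : AddChar F ℂ) (he : e ≠ 1) (b : Fin (m + 1) → F) :
    ∑ β : Fin (m + 1) → F, conj (e (∑ j, β j * b j)) =
      if b = 0 then (Fintype.card F : ℂ) ^ (m + 1) else 0 := by
  by_cases hb : b = 0
  · subst hb
    rw [if_pos rfl]
    simp [Finset.card_univ]
  · rw [if_neg hb]
    let L : (Fin (m + 1) → F) →+ F :=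
      { toFun := fun β => ∑ j, β j * b j
        map_zero' := by simp
        map_add' := by
          intro x y
          simp [add_mul, Finset.sum_add_distrib] }
    have hψ : e.compAddMonoidHom L ≠ 1 := by
      obtain ⟨c, hc⟩ := AddChar.ne_one_iff.mp he
      obtain ⟨j, hj⟩ : ∃ j, b j ≠ 0 := by
        by_contra h
        push Not at h
        exact hb (funext h)
      rw [AddChar.ne_one_iff]
      refine ⟨Pi.single j (c / b j), ?_⟩
      show e (∑ i, (Pi.single j (c / b j) : Fin (m + 1) → F) i * b i) ≠ 1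
      rw [Finset.sum_eq_single j]
      · rw [Pi.single_eq_same, div_mul_cancel₀ _ hj]
        exact hc
      · intro i _ hij
        rw [Pi.single_eq_of_ne hij, zero_mul]
      · intro h
        exact absurd (Finset.mem_univ j) h
    have hsum : ∑ β, (e.compAddMonoidHom L) β = 0 := AddChar.sum_eq_zero_of_ne_one hψ
    rw [← map_sum]
    have h2 : ∑ β : Fin (m + 1) → F, e (∑ j, β j * b j) = 0 := hsum
    rw [h2, map_zero]

/-- the row sum, pure form -/
theorem k3row_fourier (m : ℕ) (e : AddChar F ℂ) (he : e ≠ 1)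
    (f : (Fin (m + 1) → F) → (Fin (m + 1) → F) → F → ℂ) (C : ℂ) (α : Fin (m + 1) → F) :
    ∑ β : Fin (m + 1) → F, C * ∑ a : Fin (m + 1) → F, ∑ b : Fin (m + 1) → F, ∑ z : F,
        f a b z * conj (e (∑ j, (α j * a j + β j * b j))) =
      C * (Fintype.card F : ℂ) ^ (m + 1) * ∑ a : Fin (m + 1) → F, ∑ z : F,
        f a 0 z * conj (e (∑ j, α j * a j)) := by
  have key : ∀ a b z, ∑ β : Fin (m + 1) → F, f a b z * conj (e (∑ j, (α j * a j + β j * b j))) =
      f a b z * conj (e (∑ j, α j * a j)) *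
        (if b = 0 then (Fintype.card F : ℂ) ^ (m + 1) else 0) := by
    intro a b z
    rw [← k3row_orth F m e he b, Finset.mul_sum]
    apply Finset.sum_congr rfl
    intro β _
    rw [Finset.sum_add_distrib, AddChar.map_add_eq_mul, map_mul]
    ring
  rw [← Finset.mul_sum, Finset.sum_comm]
  rw [mul_assoc]
  congr 1
  rw [Finset.mul_sum]
  apply Finset.sum_congr rfl
  intro a _
  rw [Finset.sum_comm]
  have h1 : ∀ b : Fin (m + 1) → F, ∑ β : Fin (m + 1) → F, ∑ z : F,
      f a b z * conj (e (∑ j, (α j * a j + β j * b j))) =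
      ∑ z : F, f a b z * conj (e (∑ j, α j * a j)) *
        (if b = 0 then (Fintype.card F : ℂ) ^ (m + 1) else 0) := by
    intro b
    rw [Finset.sum_comm]
    apply Finset.sum_congr rfl
    intro z _
    exact key a b z
  rw [Finset.sum_congr rfl (fun b _ => h1 b)]
  rw [Finset.sum_eq_single (0 : Fin (m + 1) → F)]
  · rw [Finset.mul_sum]
    apply Finset.sum_congr rfl
    intro z _
    rw [if_pos rfl]
    ring
  · intro b _ hb
    apply Finset.sum_eq_zero
    intro z _
    rw [if_neg hb, mul_zero]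
  · intro h
    exact absurd (Finset.mem_univ _) h

/-- the column sum, pure form -/
theorem k3col_fourier (m : ℕ) (e : AddChar F ℂ) (he : e ≠ 1)
    (f : (Fin (m + 1) → F) → (Fin (m + 1) → F) → F → ℂ) (C : ℂ) (β : Fin (m + 1) → F) :
    ∑ α : Fin (m + 1) → F, C * ∑ a : Fin (m + 1) → F, ∑ b : Fin (m + 1) → F, ∑ z : F,
        f a b z * conj (e (∑ j, (α j * a j + β j * b j))) =
      C * (Fintype.card F : ℂ) ^ (m + 1) * ∑ b : Fin (m + 1) → F, ∑ z : F,
        f 0 b z * conj (e (∑ j, β j * b j)) := by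
  have h := k3row_fourier F m e he (fun a b z => f b a z) C β
  rw [← h]
  apply Finset.sum_congr rfl
  intro α _
  congr 1
  rw [Finset.sum_comm]
  apply Finset.sum_congr rfl
  intro a _
  apply Finset.sum_congr rfl
  intro b _
  apply Finset.sum_congr rfl
  intro z _
  congr 3
  apply Finset.sum_congr rfl
  intro j _
  ring

omit [DecidableEq F] in
theorem k3row_qpow (m : ℕ) :
    ((Fintype.card F : ℂ) ^ (2 * m + 3))⁻¹ * (Fintype.card F : ℂ) ^ (m + 1) =
      ((Fintype.card F : ℂ) ^ (m + 2))⁻¹ := by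
  have hq : (Fintype.card F : ℂ) ≠ 0 := Nat.cast_ne_zero.mpr Fintype.card_ne_zero
  have e : 2 * m + 3 = (m + 2) + (m + 1) := by ring
  rw [e, pow_add, mul_inv, mul_assoc, inv_mul_cancel₀ (pow_ne_zero _ hq), mul_one]

open Classical in
/-- K3-ROW for an arbitrary parametrisation `h` of `H` with the PAR properties -/
theorem k3row_core (m : ℕ) (h : (Fin (m + 1) → F) → (Fin (m + 1) → F) → F → Gm F (m + 1))
    (hH : ∀ φ : Gm F (m + 1) → ℂ,
      ∑ g ∈ Finset.univ.filter (fun g : Gm F (m + 1) => g ∈ K3H F m), φ g =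
        ∑ a : Fin (m + 1) → F, ∑ b : Fin (m + 1) → F, ∑ z : F, φ (h a b z))
    (hQ : ∀ φ : Gm F (m + 1) → ℂ,
      ∑ g ∈ Finset.univ.filter (fun g : Gm F (m + 1) => g ∈ Qset F (m + 1)), φ g =
        ∑ a : Fin (m + 1) → F, ∑ z : F, φ (h a 0 z))
    (ha : ∀ a b z j, (h a b z).1 0 (k3mid m j) = a j)
    (hb : ∀ a b z j, (h a b z).1 (k3mid m j) (Fin.last (m + 2)) = b j)
    (e : AddChar F ℂ) (he : e ≠ 1) (χ : Gm F (m + 1) → ℂ) (α : Fin (m + 1) → F) :
    ∑ β, k3mu F m e χ α β = ((Fintype.card F : ℂ) ^ (m + 2))⁻¹ *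
      ∑ g ∈ Finset.univ.filter (fun g : Gm F (m + 1) => g ∈ Qset F (m + 1)),
        χ g * conj (e (∑ j, α j * g.1 0 (k3mid m j))) := by
  have hmu : ∀ β, k3mu F m e χ α β = ((Fintype.card F : ℂ) ^ (2 * m + 3))⁻¹ *
      ∑ a : Fin (m + 1) → F, ∑ b : Fin (m + 1) → F, ∑ z : F,
        χ (h a b z) * conj (e (∑ j, (α j * a j + β j * b j))) := by
    intro β
    unfold k3mu
    rw [hH]
    simp only [ha, hb]
  rw [Finset.sum_congr rfl (fun β _ => hmu β),
    k3row_fourier F m e he (fun a b z => χ (h a b z)), hQ, k3row_qpow]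
  simp only [ha]

open Classical in
/-- K3-COL for an arbitrary parametrisation `h` of `H` with the PAR properties -/
theorem k3col_core (m : ℕ) (h : (Fin (m + 1) → F) → (Fin (m + 1) → F) → F → Gm F (m + 1))
    (hH : ∀ φ : Gm F (m + 1) → ℂ,
      ∑ g ∈ Finset.univ.filter (fun g : Gm F (m + 1) => g ∈ K3H F m), φ g =
        ∑ a : Fin (m + 1) → F, ∑ b : Fin (m + 1) → F, ∑ z : F, φ (h a b z))
    (hQp : ∀ φ : Gm F (m + 1) → ℂ,
      ∑ g ∈ Finset.univ.filter (fun g : Gm F (m + 1) => g ∈ K3Qp F m), φ g =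
        ∑ b : Fin (m + 1) → F, ∑ z : F, φ (h 0 b z))
    (ha : ∀ a b z j, (h a b z).1 0 (k3mid m j) = a j)
    (hb : ∀ a b z j, (h a b z).1 (k3mid m j) (Fin.last (m + 2)) = b j)
    (e : AddChar F ℂ) (he : e ≠ 1) (χ : Gm F (m + 1) → ℂ) (β : Fin (m + 1) → F) :
    ∑ α, k3mu F m e χ α β = ((Fintype.card F : ℂ) ^ (m + 2))⁻¹ *
      ∑ g ∈ Finset.univ.filter (fun g : Gm F (m + 1) => g ∈ K3Qp F m),
        χ g * conj (e (∑ j, β j * g.1 (k3mid m j) (Fin.last (m + 2)))) := by
  have hmu : ∀ α, k3mu F m e χ α β = ((Fintype.card F : ℂ) ^ (2 * m + 3))⁻¹ *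
      ∑ a : Fin (m + 1) → F, ∑ b : Fin (m + 1) → F, ∑ z : F,
        χ (h a b z) * conj (e (∑ j, (α j * a j + β j * b j))) := by
    intro α
    unfold k3mu
    rw [hH]
    simp only [ha, hb]
  rw [Finset.sum_congr rfl (fun α _ => hmu α),
    k3col_fourier F m e he (fun a b z => χ (h a b z)), hQp, k3row_qpow]
  simp only [hb]

end Cfsg.Agent.Lib.Helper76.Sl
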