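import Cfsg.Agent.Lib.Helper92.Sz8.Defs
import Cfsg.Agent.Lib.Helper92.M22.StemE
import Cfsg.Agent.Lib.Helper6.SzSimple
import Cfsg.Agent.Lib.Helper6.SzCount
import Cfsg.Agent.Lib.Helper60.SzLieBridge

/-! # Sz8-ISO (helper92's Sz8 hive, S2112): transport of `HasSchurMultiplier` along an isomorphism
of the base group, and the passage from helper6's ovoid stabilizer to `Cfsg.Lie.Sz F 4`. -/

set_option autoImplicit false

namespace Cfsg.Agent.Lib.Helper92.Sz8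

open Cfsg Cfsg.Agent.Lib.Helper6.Sz

universe u v

theorem iso_ker_comp {Γ Q Q' : Type*} [Group Γ] [Group Q] [Group Q'] (φ : Q ≃* Q') (σ : Γ →* Q) :
    (φ.toMonoidHom.comp σ).ker = σ.ker := by
  ext x
  rw [MonoidHom.mem_ker, MonoidHom.mem_ker, MonoidHom.comp_apply]
  exact φ.map_eq_one_iff

theorem iso_stem_comp {Γ Q Q' : Type*} [Group Γ] [Group Q] [Group Q'] (φ : Q ≃* Q') (σ : Γ →* Q)
    (hσ : Cfsg.IsStemExtension σ) : Cfsg.IsStemExtension (φ.toMonoidHom.comp σ) := by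
  obtain ⟨hsurj, hcen, hcomm⟩ := hσ
  refine ⟨?_, ?_, ?_⟩
  · exact φ.surjective.comp hsurj
  · rw [iso_ker_comp]; exact hcen
  · rw [iso_ker_comp]; exact hcomm

/-- Sz8-ISO (1) -/
theorem hasSchurMultiplier_of_mulEquiv_base {Q Q' : Type u} [Group Q] [Group Q'] {A : Type v}
    [CommGroup A] (φ : Q ≃* Q') (h : Cfsg.HasSchurMultiplier Q A) :
    Cfsg.HasSchurMultiplier Q' A := by
  obtain ⟨⟨Γ, hG, hfin, σ, hσ, ⟨e⟩⟩, h2⟩ := h
  refine ⟨⟨Γ, hG, hfin, φ.toMonoidHom.comp σ, iso_stem_comp φ σ hσ, ?_⟩, ?_⟩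
  · exact ⟨(MulEquiv.subgroupCongr (iso_ker_comp φ σ)).trans e⟩
  · intro Γ' _ _ σ' hσ'
    obtain ⟨π, hπ⟩ := h2 Γ' (φ.symm.toMonoidHom.comp σ') (iso_stem_comp φ.symm σ' hσ')
    refine ⟨(MulEquiv.subgroupCongr (iso_ker_comp φ.symm σ')).toMonoidHom.comp π, ?_⟩
    exact (MulEquiv.subgroupCongr (iso_ker_comp φ.symm σ')).surjective.comp hπ

/-- Sz8-ISO (2) -/
theorem hasSchurMultiplier_Sz_of_G {F : Type u} [Field F] [Fintype F] (hF : Fintype.card F = 8)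
    {A : Type v} [CommGroup A]
    (h : ∀ [CharP F 2], Cfsg.HasSchurMultiplier ↥(G (sig F 1)) A) :
    Cfsg.HasSchurMultiplier ↥(Cfsg.Lie.Sz F 4) A := by
  have hF' : Fintype.card F = 2 ^ (2 * 1 + 1) := by rw [hF]; norm_num
  have := charP_two hF'
  have φ : ↥(Cfsg.Lie.Sz F (2 ^ (1 + 1))) ≃* ↥(G (sig F 1)) :=
    Cfsg.Agent.Lib.Helper60.SzLie.szEquiv (m := 1) le_rfl hF'
  have h' : Cfsg.HasSchurMultiplier ↥(Cfsg.Lie.Sz F (2 ^ (1 + 1))) A :=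
    hasSchurMultiplier_of_mulEquiv_base φ.symm h
  exact h'

end Cfsg.Agent.Lib.Helper92.Sz8
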