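import Mathlib
import Cfsg.Agent.Lib.Helper78.TwoFrob4
import Cfsg.Agent.Lib.Helper78.CNSolv6
import Cfsg.Agent.Lib.Helper10.FittingCent
import Cfsg.Agent.Lib.Helper22.Fitting
import Cfsg.Agent.Lib.Helper55.Cores
import Cfsg.Agent.Lib.Helper79.Frobenius

set_option autoImplicit false
set_option linter.style.haveILetI false
set_option linter.unusedSectionVars false
set_option maxHeartbeats 1000000

/-! The Gruenberg–Kegel theorem for solvable groups: core lemma. -/

namespace Cfsg.Agent.Lib.Helper78.TwoFrob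

open Cfsg
open scoped Pointwise

theorem fitting_ne_bot {X : Type*} [Group X] [Finite X] [Group.IsSolvable X]
    (h1 : Nat.card X ≠ 1) : Cfsg.fittingSubgroup X ≠ ⊥ := by
  intro h
  have h2 := Cfsg.Agent.Lib.Helper10.centralizer_fitting_le (G := X)
  rw [h] at h2
  have h3 : Subgroup.centralizer ((⊥ : Subgroup X) : Set X) = ⊤ := by
    rw [Subgroup.centralizer_eq_top_iff_subset]
    intro x hx
    have : x = 1 := Subgroup.mem_bot.mp hx
    rw [this]
    exact Subgroup.one_mem _
  rw [h3, top_le_iff] at h2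
  apply h1
  rw [← Subgroup.card_top (G := X), ← h2, Subgroup.card_bot]

theorem gk_core {G : Type*} [Group G] [Finite G] (hsol : Group.IsSolvable G) (σ : Set ℕ)
    (hno : ∀ a b : ℕ, a.Prime → b.Prime → a ∈ σ → b ∉ σ → ¬ ∃ g : G, orderOf g = a * b)
    (hFσ : ∀ p : ℕ, p.Prime → p ∣ Nat.card (Cfsg.fittingSubgroup G) → p ∈ σ)
    (hτ : ∃ b : ℕ, b ∉ σ ∧ b.Prime ∧ b ∣ Nat.card G) :
    (∃ C : Subgroup G, Cfsg.IsFrobeniusComplement C) ∨
    (∃ (H K : Subgroup G) (_ : H.Normal), K.Normal ∧ H < K ∧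
      (∃ C : Subgroup ↥K, Cfsg.IsFrobeniusComplement C ∧
        Cfsg.frobeniusKernel C = (H.subgroupOf K : Set ↥K)) ∧
      (∃ C : Subgroup (G ⧸ H), Cfsg.IsFrobeniusComplement C ∧
        Cfsg.frobeniusKernel C = (K.map (QuotientGroup.mk' H) : Set (G ⧸ H)))) := by
  classical
  obtain ⟨b, hbσ, hb, hbG⟩ := hτ
  haveI : Fact b.Prime := ⟨hb⟩
  obtain ⟨y, hy⟩ := exists_prime_orderOf_dvd_card' (G := G) b hbG
  haveI hFn : (Cfsg.fittingSubgroup G).Normal := Cfsg.Agent.Lib.Helper22.fittingSubgroup_normal G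
  have hFnil : Group.IsNilpotent (Cfsg.fittingSubgroup G) :=
    Cfsg.Agent.Lib.Helper22.fittingSubgroup_isNilpotent
  have hG1 : Nat.card G ≠ 1 := by
    intro h; rw [h] at hbG; exact hb.one_lt.ne' (Nat.dvd_one.mp hbG)
  have hFne : Cfsg.fittingSubgroup G ≠ ⊥ := fitting_ne_bot hG1
  -- every normal σ-subgroup lies in F
  have hσF : ∀ S : Subgroup G, S.Normal → (∀ p : ℕ, p.Prime → p ∣ Nat.card S → p ∈ σ) →
      S ≤ Cfsg.fittingSubgroup G := fun S hSn hS =>
    Cfsg.Agent.Lib.Helper22.le_fittingSubgroup hSn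
      (nilpotent_of_normal_sigma hno S hS hb hbσ hy)
  have hbF : ¬ b ∣ Nat.card (Cfsg.fittingSubgroup G) := fun h => hbσ (hFσ b hb h)
  have hidG : Function.Surjective (MonoidHom.id G) := fun x => ⟨x, rfl⟩
  have hmkF := QuotientGroup.mk'_surjective (Cfsg.fittingSubgroup G)
  by_cases hcase : ∀ p : ℕ, p.Prime → p ∣ Nat.card (G ⧸ Cfsg.fittingSubgroup G) → p ∉ σ
  · -- Frobenius
    left
    have hcop : (Nat.card (Cfsg.fittingSubgroup G)).Coprime (Cfsg.fittingSubgroup G).index := by
      apply Nat.coprime_of_dvd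
      intro k hk h1 h2
      rw [Subgroup.index_eq_card] at h2
      exact hcase k hk h2 (hFσ k hk h1)
    obtain ⟨T, hT⟩ := Subgroup.exists_right_complement'_of_coprime hcop
    have hTcard : Nat.card T = (Cfsg.fittingSubgroup G).index := hT.symm.index_eq_card.symm
    have hTne : T ≠ ⊥ := by
      intro h
      rw [h, Subgroup.card_bot] at hTcard
      have h1 := Subgroup.card_mul_index (Cfsg.fittingSubgroup G)
      rw [← hTcard, mul_one] at h1
      rw [← h1] at hbG
      exact hbF hbG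
    have hfpf : ∀ h ∈ T, h ≠ 1 → ∀ x ∈ Cfsg.fittingSubgroup G, x ≠ 1 → h * x ≠ x * h := by
      intro h hh hh1 x hx hx1 hcomm
      refine no_edge (MonoidHom.id G) hidG hno hcomm.symm hx1 hh1 ?_ ?_
      · intro p hp hpd
        apply hFσ p hp
        have : orderOf x ∣ Nat.card (Cfsg.fittingSubgroup G) := by
          have := orderOf_dvd_natCard (⟨x, hx⟩ : Cfsg.fittingSubgroup G)
          rwa [Subgroup.orderOf_mk] at this
        exact hpd.trans this
      · intro p hp hpd
        apply hcase p hp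
        have : orderOf h ∣ Nat.card T := by
          have := orderOf_dvd_natCard (⟨h, hh⟩ : T)
          rwa [Subgroup.orderOf_mk] at this
        rw [hTcard, Subgroup.index_eq_card] at this
        exact hpd.trans this
    exact ⟨T, (Cfsg.Agent.Lib.Helper79.frobenius_of_fpf (Cfsg.fittingSubgroup G) T hFne hTne
      hT.symm hfpf).1⟩
  · -- 2-Frobenius
    push Not at hcase
    obtain ⟨a, ha, haGF, haσ⟩ := hcase
    haveI : Fact a.Prime := ⟨ha⟩
    right
    haveI hsolQ : Group.IsSolvable (G ⧸ Cfsg.fittingSubgroup G) := inferInstance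
    haveI hKbn : (Cfsg.fittingSubgroup (G ⧸ Cfsg.fittingSubgroup G)).Normal :=
      Cfsg.Agent.Lib.Helper22.fittingSubgroup_normal _
    have hKbnil : Group.IsNilpotent (Cfsg.fittingSubgroup (G ⧸ Cfsg.fittingSubgroup G)) :=
      Cfsg.Agent.Lib.Helper22.fittingSubgroup_isNilpotent
    have hGF1 : Nat.card (G ⧸ Cfsg.fittingSubgroup G) ≠ 1 := by
      intro h; rw [h] at haGF; exact ha.one_lt.ne' (Nat.dvd_one.mp haGF)
    have hKbne : Cfsg.fittingSubgroup (G ⧸ Cfsg.fittingSubgroup G) ≠ ⊥ := fitting_ne_bot hGF1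
    -- the Fitting subgroup of the quotient is a τ-group
    have hKbτ : ∀ p : ℕ, p.Prime →
        p ∣ Nat.card (Cfsg.fittingSubgroup (G ⧸ Cfsg.fittingSubgroup G)) → p ∉ σ := by
      intro r hr hrK hrσ
      haveI : Fact r.Prime := ⟨hr⟩
      have hcore : Cfsg.pCore r (G ⧸ Cfsg.fittingSubgroup G) = ⊥ := by
        haveI hUn : (Cfsg.pCore r (G ⧸ Cfsg.fittingSubgroup G)).Normal :=
          Cfsg.Agent.Lib.Helper22.pCore_normal' r _
        have hUp : IsPGroup r (Cfsg.pCore r (G ⧸ Cfsg.fittingSubgroup G)) :=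
          Cfsg.Agent.Lib.Helper22.pCore_isPGroup' r _
        have hScard := Cfsg.Agent.Lib.Helper55.card_comap_mk' (Cfsg.fittingSubgroup G)
          (Cfsg.pCore r (G ⧸ Cfsg.fittingSubgroup G))
        have hSσ : ∀ p : ℕ, p.Prime → p ∣ Nat.card ((Cfsg.pCore r (G ⧸ Cfsg.fittingSubgroup G)).comap
            (QuotientGroup.mk' (Cfsg.fittingSubgroup G))) → p ∈ σ := by
          intro p hp hpS
          rw [hScard] at hpS
          rcases (Nat.Prime.dvd_mul hp).mp hpS with h | h
          · exact hFσ p hp h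
          · obtain ⟨k, hk⟩ := IsPGroup.iff_card.mp hUp
            rw [hk] at h
            have := hp.dvd_of_dvd_pow h
            rw [(Nat.prime_dvd_prime_iff_eq hp hr).mp this]
            exact hrσ
        have hSF := hσF _ inferInstance hSσ
        rw [eq_bot_iff]
        intro u hu
        obtain ⟨g, rfl⟩ := hmkF u
        have hg : g ∈ (Cfsg.pCore r (G ⧸ Cfsg.fittingSubgroup G)).comap
            (QuotientGroup.mk' (Cfsg.fittingSubgroup G)) := Subgroup.mem_comap.mpr hu
        rw [Subgroup.mem_bot]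
        exact (QuotientGroup.eq_one_iff g).mpr (hSF hg)
      have := Cfsg.Agent.Lib.Helper78.coprime_card_of_normal_nilpotent (p := r) hcore _ hKbn hKbnil
      exact (Nat.Prime.coprime_iff_not_dvd hr).mp this.symm hrK
    have hcopFK : (Nat.card (Cfsg.fittingSubgroup G)).Coprime
        (Nat.card (Cfsg.fittingSubgroup (G ⧸ Cfsg.fittingSubgroup G))) := by
      apply Nat.coprime_of_dvd
      intro k hk h1 h2
      exact hKbτ k hk h2 (hFσ k hk h1)
    obtain ⟨L, J', hL, hFL, hcompl, hdisj, hsup, hmap, hcardJ', hcardJ'map⟩ :=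
      Cfsg.Agent.Lib.Helper78.exists_lift_of_coprime'' (Cfsg.fittingSubgroup G)
        (Cfsg.fittingSubgroup (G ⧸ Cfsg.fittingSubgroup G)) hcopFK
    haveI hLn : L.Normal := by rw [hL]; infer_instance
    have hKbcard1 : Nat.card (Cfsg.fittingSubgroup (G ⧸ Cfsg.fittingSubgroup G)) ≠ 1 := by
      intro h; exact hKbne (Subgroup.card_eq_one.mp h)
    have hFK : Cfsg.fittingSubgroup G < L := by
      refine lt_of_le_of_ne hFL ?_
      intro h
      have h1 := Cfsg.Agent.Lib.Helper55.card_comap_mk' (Cfsg.fittingSubgroup G)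
        (Cfsg.fittingSubgroup (G ⧸ Cfsg.fittingSubgroup G))
      rw [← hL, ← h] at h1
      have hpos : 0 < Nat.card (Cfsg.fittingSubgroup G) := Nat.card_pos
      have : Nat.card (Cfsg.fittingSubgroup (G ⧸ Cfsg.fittingSubgroup G)) = 1 := by
        nlinarith
      exact hKbcard1 this
    -- K is Frobenius with kernel F
    have hN₁ne : (Cfsg.fittingSubgroup G).subgroupOf L ≠ ⊥ := by
      intro h
      rw [Subgroup.subgroupOf_eq_bot] at h
      exact hFne (disjoint_self.mp (h.mono_right hFL))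
    have hJ'ne : J' ≠ ⊥ := by
      intro h
      rw [h, Subgroup.card_bot] at hcardJ'
      exact hKbcard1 hcardJ'.symm
    have hfpf₁ : ∀ h ∈ J', h ≠ 1 → ∀ x ∈ (Cfsg.fittingSubgroup G).subgroupOf L,
        x ≠ 1 → h * x ≠ x * h := by
      intro h hh hh1 x hx hx1 hcomm
      have hcomm' : (x : G) * (h : G) = (h : G) * (x : G) := by
        have := congrArg Subtype.val hcomm
        simpa using this.symm
      refine no_edge (MonoidHom.id G) hidG hno hcomm' (fun e => hx1 (Subtype.ext e))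
        (fun e => hh1 (Subtype.ext e)) ?_ ?_
      · intro p hp hpd
        apply hFσ p hp
        have hxF : (x : G) ∈ Cfsg.fittingSubgroup G := Subgroup.mem_subgroupOf.mp hx
        have : orderOf (x : G) ∣ Nat.card (Cfsg.fittingSubgroup G) := by
          have := orderOf_dvd_natCard (⟨(x : G), hxF⟩ : Cfsg.fittingSubgroup G)
          rwa [Subgroup.orderOf_mk] at this
        exact hpd.trans this
      · intro p hp hpd
        apply hKbτ p hp
        have : orderOf (h : G) ∣ Nat.card J' := by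
          have := orderOf_dvd_natCard (⟨h, hh⟩ : J')
          rwa [Subgroup.orderOf_mk, ← Subgroup.orderOf_coe] at this
        rw [hcardJ'] at this
        exact hpd.trans this
    obtain ⟨hFC₁, hker₁⟩ := Cfsg.Agent.Lib.Helper79.frobenius_of_fpf _ J' hN₁ne hJ'ne
      hcompl.symm hfpf₁
    -- the embedding of J' onto the Fitting subgroup of the quotient
    let φ : J' →* G ⧸ Cfsg.fittingSubgroup G :=
      (QuotientGroup.mk' (Cfsg.fittingSubgroup G)).comp
        (L.subtype.comp J'.subtype)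
    have hφ_apply : ∀ c : J', φ c = QuotientGroup.mk' (Cfsg.fittingSubgroup G) ((c : L) : G) :=
      fun c => rfl
    have hφinj : Function.Injective φ := by
      rw [injective_iff_map_eq_one]
      intro c hc
      rw [hφ_apply, QuotientGroup.mk'_apply, QuotientGroup.eq_one_iff] at hc
      have h1 : (c : L) ∈ (Cfsg.fittingSubgroup G).subgroupOf L := Subgroup.mem_subgroupOf.mpr hc
      have h2 := Subgroup.mem_inf.mpr ⟨h1, c.2⟩
      rw [hcompl.disjoint.eq_bot, Subgroup.mem_bot] at h2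
      exact Subtype.ext h2
    have hφmem : ∀ c : J', φ c ∈ Cfsg.fittingSubgroup (G ⧸ Cfsg.fittingSubgroup G) := by
      intro c
      have h1 : ((c : L) : G) ∈ L := (c : L).2
      exact Subgroup.mem_comap.mp (hL.le h1)
    have hφrange : φ.range = Cfsg.fittingSubgroup (G ⧸ Cfsg.fittingSubgroup G) := by
      apply le_antisymm
      · rintro _ ⟨c, rfl⟩
        exact hφmem c
      · intro u hu
        rw [← hmap] at hu
        obtain ⟨g, hg, rfl⟩ := Subgroup.mem_map.mp hu
        obtain ⟨c, hc, rfl⟩ := Subgroup.mem_map.mp hg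
        exact ⟨⟨c, hc⟩, rfl⟩
    -- an element of order a acting fixed point freely
    obtain ⟨sb, hsb⟩ := exists_prime_orderOf_dvd_card' (G := G ⧸ Cfsg.fittingSubgroup G) a haGF
    have hsb1 : sb ≠ 1 := by
      intro h; rw [h, orderOf_one] at hsb; exact ha.one_lt.ne hsb
    have hτelt : ∀ n ∈ Cfsg.fittingSubgroup (G ⧸ Cfsg.fittingSubgroup G),
        ∀ p : ℕ, p.Prime → p ∣ orderOf n → p ∉ σ := by
      intro n hn p hp hpd
      apply hKbτ p hp
      have := orderOf_dvd_natCard (⟨n, hn⟩ : Cfsg.fittingSubgroup (G ⧸ Cfsg.fittingSubgroup G))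
      rw [Subgroup.orderOf_mk] at this
      exact hpd.trans this
    have hsfpf : ∀ n ∈ Cfsg.fittingSubgroup (G ⧸ Cfsg.fittingSubgroup G),
        sb * n = n * sb → n = 1 := by
      intro n hn hcomm
      by_contra hn1
      refine no_edge _ hmkF hno hcomm hsb1 hn1 ?_ (hτelt n hn)
      intro p hp hpd
      rw [hsb] at hpd
      rw [(Nat.prime_dvd_prime_iff_eq hp ha).mp hpd]
      exact haσ
    have hcycJ' : IsCyclic J' :=
      middle_cyclic' hFC₁ hker₁.symm _ hKbnil sb hsfpf φ hφinj hφrange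
    haveI hcycKb : IsCyclic (Cfsg.fittingSubgroup (G ⧸ Cfsg.fittingSubgroup G)) := by
      haveI := hcycJ'
      apply isCyclic_of_surjective (φ.codRestrict _ hφmem)
      rintro ⟨x, hx⟩
      rw [← hφrange] at hx
      obtain ⟨c, rfl⟩ := hx
      exact ⟨c, rfl⟩
    -- the quotient by the second Fitting subgroup is abelian
    have hcent := Cfsg.Agent.Lib.Helper10.centralizer_fitting_le (G := G ⧸ Cfsg.fittingSubgroup G)
    have hab : ∀ u v : (G ⧸ Cfsg.fittingSubgroup G) ⧸
        Cfsg.fittingSubgroup (G ⧸ Cfsg.fittingSubgroup G), u * v = v * u := by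
      intro u v
      obtain ⟨x, rfl⟩ := QuotientGroup.mk'_surjective _ u
      obtain ⟨z, rfl⟩ := QuotientGroup.mk'_surjective _ v
      have hmem : z⁻¹ * x⁻¹ * z⁻¹⁻¹ * x⁻¹⁻¹ ∈ Cfsg.fittingSubgroup (G ⧸ Cfsg.fittingSubgroup G) := by
        apply hcent
        rw [Subgroup.mem_centralizer_iff]
        intro n hn
        exact (commutator_centralizes_cyclic _ z⁻¹ x⁻¹ hn).symm
      rw [← map_mul, ← map_mul, QuotientGroup.mk'_apply, QuotientGroup.mk'_apply, QuotientGroup.eq]
      have e : (x * z)⁻¹ * (z * x) = z⁻¹ * x⁻¹ * z⁻¹⁻¹ * x⁻¹⁻¹ := by group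
      rw [e]
      exact hmem
    -- the index of the second Fitting subgroup is a σ-number
    have haidx : a ∣ (Cfsg.fittingSubgroup (G ⧸ Cfsg.fittingSubgroup G)).index := by
      have := Subgroup.card_mul_index (Cfsg.fittingSubgroup (G ⧸ Cfsg.fittingSubgroup G))
      rw [← this] at haGF
      rcases (Nat.Prime.dvd_mul ha).mp haGF with h | h
      · exact absurd haσ (hKbτ a ha h)
      · exact h
    have hidxσ : ∀ p : ℕ, p.Prime →
        p ∣ (Cfsg.fittingSubgroup (G ⧸ Cfsg.fittingSubgroup G)).index → p ∈ σ := by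
      intro p hp hpd
      by_contra hpσ
      haveI : Fact p.Prime := ⟨hp⟩
      have haidx' := haidx
      rw [Subgroup.index_eq_card] at hpd haidx'
      obtain ⟨u, hu⟩ := exists_prime_orderOf_dvd_card' a haidx'
      obtain ⟨v, hv⟩ := exists_prime_orderOf_dvd_card' p hpd
      have hu1 : u ≠ 1 := by
        intro h; rw [h, orderOf_one] at hu; exact ha.one_lt.ne hu
      have hv1 : v ≠ 1 := by
        intro h; rw [h, orderOf_one] at hv; exact hp.one_lt.ne hv
      refine no_edge ((QuotientGroup.mk' (Cfsg.fittingSubgroup (G ⧸ Cfsg.fittingSubgroup G))).comp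
        (QuotientGroup.mk' (Cfsg.fittingSubgroup G)))
        ((QuotientGroup.mk'_surjective _).comp hmkF) hno (hab u v) hu1 hv1 ?_ ?_
      · intro r hr hrd
        rw [hu] at hrd
        rw [(Nat.prime_dvd_prime_iff_eq hr ha).mp hrd]
        exact haσ
      · intro r hr hrd
        rw [hv] at hrd
        rw [(Nat.prime_dvd_prime_iff_eq hr hp).mp hrd]
        exact hpσ
    have hcopK : (Nat.card (Cfsg.fittingSubgroup (G ⧸ Cfsg.fittingSubgroup G))).Coprime
        (Cfsg.fittingSubgroup (G ⧸ Cfsg.fittingSubgroup G)).index := by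
      apply Nat.coprime_of_dvd
      intro k hk h1 h2
      exact hKbτ k hk h1 (hidxσ k hk h2)
    obtain ⟨Sb, hSb⟩ := Subgroup.exists_right_complement'_of_coprime hcopK
    have hSbcard : Nat.card Sb = (Cfsg.fittingSubgroup (G ⧸ Cfsg.fittingSubgroup G)).index :=
      hSb.symm.index_eq_card.symm
    have hSbne : Sb ≠ ⊥ := by
      intro h
      rw [h, Subgroup.card_bot] at hSbcard
      rw [← hSbcard] at haidx
      exact ha.one_lt.ne' (Nat.dvd_one.mp haidx)
    have hfpf₂ : ∀ h ∈ Sb, h ≠ 1 →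
        ∀ x ∈ Cfsg.fittingSubgroup (G ⧸ Cfsg.fittingSubgroup G), x ≠ 1 → h * x ≠ x * h := by
      intro h hh hh1 x hx hx1 hcomm
      refine no_edge _ hmkF hno hcomm hh1 hx1 ?_ (hτelt x hx)
      intro p hp hpd
      apply hidxσ p hp
      have := orderOf_dvd_natCard (⟨h, hh⟩ : Sb)
      rw [Subgroup.orderOf_mk, hSbcard] at this
      exact hpd.trans this
    obtain ⟨hFC₂, hker₂⟩ := Cfsg.Agent.Lib.Helper79.frobenius_of_fpf _ Sb hKbne hSbne
      hSb.symm hfpf₂
    refine ⟨Cfsg.fittingSubgroup G, L, hFn, hLn, hFK, ⟨J', hFC₁, hker₁⟩,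
      ⟨Sb, hFC₂, ?_⟩⟩
    rw [hker₂, hL, Subgroup.map_comap_eq_self_of_surjective hmkF]

end Cfsg.Agent.Lib.Helper78.TwoFrob
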